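import Groth.Agent.AlgSp.FppfLocal
import Groth.Agent.FpqcDesc.Props

/-!
# fppf locality on the target of further properties of morphisms of schemes
-/

universe u

set_option backward.isDefEq.respectTransparency.types false

open CategoryTheory CategoryTheory.Limits AlgebraicGeometry MorphismProperty

namespace Groth.Agent.AlgSp

local notation "FPPF" => (@Surjective ⊓ @Flat ⊓ @LocallyOfFinitePresentation)

theorem isLocalAtTarget_fppf_of_fpqc (P : MorphismProperty Scheme.{u}) [P.IsStableUnderBaseChange]
    [IsZariskiLocalAtTarget P] (h : P.DescendsAlong (@Surjective ⊓ @Flat ⊓ @QuasiCompact)) :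
    P.IsLocalAtTarget Scheme.fppfPrecoverage :=
  haveI := h
  isLocalAtTarget_fppf P

instance : MorphismProperty.IsLocalAtTarget @QuasiCompact Scheme.fppfPrecoverage.{u} :=
  isLocalAtTarget_fppf_of_fpqc _ FpqcDesc.descendsAlong_quasiCompact

instance : MorphismProperty.IsLocalAtTarget @QuasiSeparated Scheme.fppfPrecoverage.{u} :=
  isLocalAtTarget_fppf_of_fpqc _ FpqcDesc.descendsAlong_quasiSeparated

instance : MorphismProperty.IsLocalAtTarget @IsSeparated Scheme.fppfPrecoverage.{u} :=
  isLocalAtTarget_fppf_of_fpqc _ FpqcDesc.descendsAlong_isSeparated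

instance : MorphismProperty.IsLocalAtTarget @IsAffineHom Scheme.fppfPrecoverage.{u} :=
  isLocalAtTarget_fppf_of_fpqc _ FpqcDesc.descendsAlong_isAffineHom

instance : MorphismProperty.IsLocalAtTarget @IsClosedImmersion Scheme.fppfPrecoverage.{u} :=
  isLocalAtTarget_fppf_of_fpqc _ FpqcDesc.descendsAlong_isClosedImmersion

instance : MorphismProperty.IsLocalAtTarget @IsFinite Scheme.fppfPrecoverage.{u} :=
  isLocalAtTarget_fppf_of_fpqc _ FpqcDesc.descendsAlong_isFinite

instance : MorphismProperty.IsLocalAtTarget @IsProper Scheme.fppfPrecoverage.{u} :=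
  isLocalAtTarget_fppf_of_fpqc _ FpqcDesc.descendsAlong_isProper

instance : MorphismProperty.IsLocalAtTarget @IsIntegralHom Scheme.fppfPrecoverage.{u} :=
  isLocalAtTarget_fppf_of_fpqc _ FpqcDesc.descendsAlong_isIntegralHom

instance : MorphismProperty.IsLocalAtTarget @LocallyQuasiFinite Scheme.fppfPrecoverage.{u} :=
  isLocalAtTarget_fppf_of_fpqc _ FpqcDesc.descendsAlong_locallyQuasiFinite

end Groth.Agent.AlgSp
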