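import Mathlib.CategoryTheory.MorphismProperty.Representable
import Mathlib.CategoryTheory.Limits.Preserves.Shapes.Equalizers

/-!
# Diagonals of relatively representable morphisms
-/

universe v₁ v₂ u₁ u₂

open CategoryTheory CategoryTheory.Limits

namespace Groth.Agent.AlgSp

variable {C : Type u₁} [Category.{v₁} C] {D : Type u₂} [Category.{v₂} D] (Φ : C ⥤ D)
  [Φ.Full] [Φ.Faithful] [HasEqualizers C] [PreservesLimitsOfShape WalkingParallelPair Φ]

/-- The diagonal of a relatively representable morphism is relatively representable. -/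
theorem relativelyRepresentable_diagonal {X Y : D} (a : X ⟶ Y) [HasPullback a a]
    (ha : Φ.relativelyRepresentable a) : Φ.relativelyRepresentable (pullback.diagonal a) := by
  intro U ξ
  let g := (ξ ≫ pullback.fst a a) ≫ a
  let σ := ha.lift (g := g) (ξ ≫ pullback.fst a a) (𝟙 U) (by simp [g])
  let τ := ha.lift (g := g) (ξ ≫ pullback.snd a a) (𝟙 U)
    (by simp [g, Category.assoc, pullback.condition])
  let hE := isLimitForkMapOfIsLimit Φ (equalizer.condition σ τ) (equalizerIsEqualizer σ τ)
  have hxy : Φ.map (equalizer.ι σ τ) ≫ ξ ≫ pullback.fst a a =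
      Φ.map (equalizer.ι σ τ) ≫ ξ ≫ pullback.snd a a := by
    have h := congrArg (fun z => Φ.map z ≫ ha.fst g) (equalizer.condition σ τ)
    simpa [σ, τ] using h
  refine ⟨equalizer σ τ, equalizer.ι σ τ, Φ.map (equalizer.ι σ τ) ≫ ξ ≫ pullback.fst a a, ?_⟩
  refine IsPullback.of_isLimit' ⟨?_⟩ (PullbackCone.IsLimit.mk _
    (fun s => Fork.IsLimit.lift hE s.snd ?_) (fun s => ?_) (fun s => Fork.IsLimit.lift_ι' hE s.snd _)
    (fun s m _ hm => Fork.IsLimit.hom_ext hE (hm.trans (Fork.IsLimit.lift_ι' hE s.snd _).symm)))
  · apply pullback.hom_ext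
    · simp
    · simpa using hxy
  · have h1 := congrArg (· ≫ pullback.fst a a) s.condition
    have h2 := congrArg (· ≫ pullback.snd a a) s.condition
    simp only [Category.assoc, pullback.diagonal_fst, pullback.diagonal_snd, Category.comp_id] at h1 h2
    apply (ha.isPullback g).hom_ext
    · simp only [Category.assoc, σ, τ, Functor.relativelyRepresentable.lift_fst]
      rw [← h1, ← h2]
    · simp only [Category.assoc, σ, τ, ← Functor.map_comp, Functor.relativelyRepresentable.lift_snd]
  · have h1 := congrArg (· ≫ pullback.fst a a) s.condition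
    simp only [Category.assoc, pullback.diagonal_fst, Category.comp_id] at h1
    refine Eq.trans ?_ h1.symm
    rw [← Category.assoc]
    exact congrArg (· ≫ ξ ≫ pullback.fst a a) (Fork.IsLimit.lift_ι' hE s.snd _)

end Groth.Agent.AlgSp
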