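import Groth.Agent.AlgSp.Space
import Groth.Agent.AlgSp.RepGeneral
import Groth.Prelude.Def_AlgSp3

/-!
# Relative diagonals, sections and cancellation for morphisms of sheaves
-/

universe u

open CategoryTheory CategoryTheory.Limits AlgebraicGeometry Opposite

set_option backward.isDefEq.respectTransparency.types false
set_option linter.unusedSimpArgs false

namespace Groth.Agent.AlgSp

section

variable {C : Type*} [Category C] (Q : MorphismProperty C) [Q.IsStableUnderBaseChange] [HasPullbacks C]

/-- The relative diagonal is a base change of the absolute one. -/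
theorem diagonal_mem_of_diag [HasBinaryProducts C] {X Y : C} (f : X ⟶ Y) (h : Q (Limits.diag X)) :
    Q (pullback.diagonal f) := by
  have : Mono (prod.lift (pullback.fst f f) (pullback.snd f f)) :=
    mono_lift_of_isPullback (IsPullback.of_hasPullback f f)
  refine Q.of_isPullback (IsPullback.of_isLimit' (fst := 𝟙 X) (snd := pullback.diagonal f) (f := Limits.diag X)
    (g := prod.lift (pullback.fst f f) (pullback.snd f f)) ⟨?_⟩
    (PullbackCone.IsLimit.mk _ (fun s => s.fst) (fun s => Category.comp_id _) (fun s => ?_) (fun s m h1 _ => ?_))) h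
  · apply prod.hom_ext <;> simp [prod.lift_fst, prod.lift_snd]
  · rw [← cancel_mono (prod.lift (pullback.fst f f) (pullback.snd f f)), ← s.condition, Category.assoc]
    apply prod.hom_ext <;> simp [prod.lift_fst, prod.lift_snd]
  · simpa using h1

/-- A section is a base change of the diagonal. -/
theorem section_mem_of_diagonal {X T : C} (f : X ⟶ T) (s : T ⟶ X) (hs : s ≫ f = 𝟙 T)
    (h : Q (pullback.diagonal f)) : Q s := by
  have w : 𝟙 X ≫ f = (f ≫ s) ≫ f := by simp [hs]
  have key : ∀ z : PullbackCone (pullback.diagonal f) (pullback.lift (𝟙 X) (f ≫ s) w),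
      z.fst = z.snd ∧ z.fst = z.snd ≫ f ≫ s := by
    intro z
    have h1 := congrArg (· ≫ pullback.fst f f) z.condition
    have h2 := congrArg (· ≫ pullback.snd f f) z.condition
    simp only [Category.assoc, pullback.diagonal_fst, pullback.diagonal_snd, pullback.lift_fst,
      pullback.lift_snd, Category.comp_id] at h1 h2
    exact ⟨h1, h2⟩
  refine Q.of_isPullback (IsPullback.of_isLimit' (fst := s) (snd := s) (f := pullback.diagonal f)
    (g := pullback.lift (𝟙 X) (f ≫ s) w) ⟨by apply pullback.hom_ext <;> simp [reassoc_of% hs, pullback.lift_fst, pullback.lift_snd]⟩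
    (PullbackCone.IsLimit.mk _ (fun z => z.snd ≫ f) (fun z => ?_) (fun z => ?_) (fun z m _ hm => ?_))) h
  · rw [Category.assoc]; exact (key z).2.symm
  · rw [Category.assoc]; exact (key z).2.symm.trans (key z).1
  · rw [← hm, Category.assoc, hs, Category.comp_id]

/-- Cancellation: if `a ≫ b` and the diagonal of `b` satisfy `Q` then so does `a`. -/
theorem mem_of_comp_of_diagonal [Q.IsStableUnderComposition] {X Y Z : C} (a : X ⟶ Y) (b : Y ⟶ Z)
    (h : Q (a ≫ b)) (hb : Q (pullback.diagonal b)) : Q a := by
  have e : a = pullback.lift (𝟙 X) a (by simp) ≫ pullback.snd (a ≫ b) b := by rw [pullback.lift_snd]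
  rw [e]
  exact Q.comp_mem _ _ (Q.of_isPullback (pullback_lift_diagonal_isPullback a b) hb) (Q.pullback_snd _ _ h)

theorem mapDesc_mem_of_diagonal {X Y Z T : C} (f : X ⟶ Z) (g : Y ⟶ Z) (h : Z ⟶ T)
    (hd : Q (pullback.diagonal h)) : Q (pullback.mapDesc f g h) :=
  Q.of_isPullback (pullback_map_diagonal_isPullback f g h) hd

end

variable {S : Scheme.{u}}

theorem repWith_diagonal {X Y : AlgSp.Sp S} (hX : AlgSp.IsAlgSpace X) (f : X ⟶ Y)
    (P : MorphismProperty Scheme.{u})
    (hP : ∀ {X Y : Scheme.{u}} (f : X ⟶ Y), LocallyOfFiniteType f → Mono f → P f) :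
    AlgSp.RepWith P (pullback.diagonal f) :=
  diagonal_mem_of_diag (AlgSp.RepWith P) f (repWith_diag X hX P hP)

theorem locallyQuasiFinite_of_mono {X Y : Scheme.{u}} (f : X ⟶ Y) (h : LocallyOfFiniteType f) (hm : Mono f) :
    LocallyQuasiFinite f := inferInstance

/-- The standard list of properties of a relative diagonal. -/
theorem diagonal_props {X Y : AlgSp.Sp S} (hX : AlgSp.IsAlgSpace X) (f : X ⟶ Y) :
    AlgSp.Representable (pullback.diagonal f) ∧
    AlgSp.RepWith @LocallyOfFiniteType (pullback.diagonal f) ∧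
    AlgSp.RepWith (MorphismProperty.monomorphisms Scheme.{u}) (pullback.diagonal f) ∧
    AlgSp.RepWith @IsSeparated (pullback.diagonal f) ∧
    AlgSp.RepWith (@LocallyQuasiFinite ⊓ @LocallyOfFiniteType) (pullback.diagonal f) :=
  have h := repWith_diagonal hX f @LocallyOfFiniteType (fun _ h _ => h)
  ⟨h.1, h, repWith_diagonal hX f _ (fun _ _ hm => hm),
    repWith_diagonal hX f _ (fun f _ hm => have := hm; inferInstance),
    repWith_diagonal hX f _ (fun f h hm => ⟨locallyQuasiFinite_of_mono f h hm, h⟩)⟩

end Groth.Agent.AlgSp
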