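import Groth.Agent.AlgSp.Diag
import Groth.Agent.S9892
import Groth.Prelude.Def_AlgSpRep

/-!
# Presheaves representable over an algebraic space
-/

universe u

open CategoryTheory CategoryTheory.Limits AlgebraicGeometry Opposite

set_option backward.isDefEq.respectTransparency.types false
set_option linter.unusedSimpArgs false

namespace Groth.Agent.AlgSp

variable {S : Scheme.{u}}

/-- A fibre product is the base change of the diagonal along the product of the two maps. -/
theorem isPullback_lift_diag {C : Type*} [Category C] [HasBinaryProducts C] {P A B H : C} {t : P ⟶ A}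
    {s : P ⟶ B} {f : A ⟶ H} {g : B ⟶ H} (sq : IsPullback t s f g) :
    IsPullback (t ≫ f) (prod.lift t s) (Limits.diag H) (prod.map f g) := by
  have key : ∀ z : PullbackCone (Limits.diag H) (prod.map f g),
      (z.snd ≫ prod.fst) ≫ f = z.fst ∧ (z.snd ≫ prod.snd) ≫ g = z.fst := by
    intro z
    have h1 := congrArg (· ≫ prod.fst) z.condition
    have h2 := congrArg (· ≫ prod.snd) z.condition
    simp only [Category.assoc, prod.lift_fst, prod.lift_snd, prod.map_fst, prod.map_snd,
      Category.comp_id] at h1 h2 ⊢
    exact ⟨h1.symm, h2.symm⟩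
  refine IsPullback.of_isLimit' ⟨by apply prod.hom_ext <;> simp [sq.w, prod.lift_fst, prod.lift_snd, prod.lift_fst_assoc, prod.lift_snd_assoc]⟩
    (PullbackCone.IsLimit.mk _
      (fun z => sq.lift (z.snd ≫ prod.fst) (z.snd ≫ prod.snd) ((key z).1.trans (key z).2.symm))
      (fun z => ?_) (fun z => ?_) (fun z m _ hm => ?_))
  · rw [sq.lift_fst_assoc]; exact (key z).1
  · apply prod.hom_ext <;> simp [prod.lift_fst, prod.lift_snd]
  · apply sq.hom_ext
    · rw [sq.lift_fst, ← hm, Category.assoc, prod.lift_fst]
    · rw [sq.lift_snd, ← hm, Category.assoc, prod.lift_snd]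

/-- The diagonal of the source of a representable map to a sheaf with representable diagonal is
representable. -/
theorem representable_diag_of_representable {F X : AlgSp.Sp S} (a : F ⟶ X) (ha : AlgSp.Representable a)
    (hX : AlgSp.Representable (Limits.diag X)) : AlgSp.Representable (Limits.diag F) := by
  have h1 : AlgSp.Representable (pullback.diagonal a) := relativelyRepresentable_diagonal _ a ha
  have h2 : AlgSp.Representable (prod.lift (pullback.fst a a) (pullback.snd a a)) :=
    MorphismProperty.of_isPullback (isPullback_lift_diag (IsPullback.of_hasPullback a a)) hX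
  have e : Limits.diag F = pullback.diagonal a ≫ prod.lift (pullback.fst a a) (pullback.snd a a) := by
    apply prod.hom_ext <;> simp [prod.lift_fst, prod.lift_snd]
  rw [e]
  exact MorphismProperty.comp_mem _ _ _ h1 h2

/-- A sheaf with a representable map to an algebraic space is an algebraic space. -/
theorem isAlgSpace_of_representable {F X : AlgSp.Sp S} (a : F ⟶ X) (ha : AlgSp.Representable a)
    (hX : AlgSp.IsAlgSpace X) : AlgSp.IsAlgSpace F := by
  refine ⟨representable_diag_of_representable a ha hX.diag, ?_⟩
  obtain ⟨U, p, hpe, hps⟩ := hX.atlas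
  exact ⟨ha.pullback p, ha.fst p, MorphismProperty.of_isPullback (ha.isPullback p).flip hpe,
    MorphismProperty.of_isPullback (ha.isPullback p).flip hps⟩

/-- A presheaf with a representable map to an algebraic space is an algebraic space. -/
theorem isAlgSpaceP_of_relativelyRepresentable {X : AlgSp.Sp S} (hX : AlgSp.IsAlgSpace X)
    {G : AlgSp.PSp S} (a : G ⟶ X.obj) (ha : (AlgSp.pyon S).relativelyRepresentable a) :
    AlgSp.IsAlgSpaceP G := by
  have hG : Presheaf.IsSheaf (AlgSp.J S) G := Groth.Agent.S9892.result S G X.obj a ha X.property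
  refine ⟨hG, isAlgSpace_of_representable (ObjectProperty.homMk a : (⟨G, hG⟩ : AlgSp.Sp S) ⟶ X) ?_ hX⟩
  intro U g
  obtain ⟨V, snd, fst, sq⟩ := ha g.hom
  exact ⟨V, snd, ObjectProperty.homMk fst,
    IsPullback.of_map_of_faithful (sheafToPresheaf (AlgSp.J S) (Type (u + 1))) sq⟩

end Groth.Agent.AlgSp
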