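import Groth.Agent.AlgSp.PointsMor
import Groth.Agent.AlgSp.Presheaf
import Groth.Agent.AlgSpB.Charts

/-!
# Quasi-compact morphisms of algebraic spaces
-/

universe u

open CategoryTheory CategoryTheory.Limits AlgebraicGeometry Opposite Topology

set_option backward.isDefEq.respectTransparency.types false

namespace Groth.Agent.AlgSp

open Groth.Agent.AlgSpB (exists_of_isPullback ofPt_map_comp surjective_ofPt)

variable {S : Scheme.{u}}

theorem compactSpace_points {F : AlgSp.Sp S} (h : AlgSp.IsQuasiCompactSp F) :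
    CompactSpace (AlgSp.Points F) :=
  Groth.Agent.AlgSpB.compactSpace_points_of_isQuasiCompactSp h

theorem isQuasiCompactSp_of_compactSpace {F : AlgSp.Sp S} (hF : AlgSp.IsAlgSpace F)
    (h : CompactSpace (AlgSp.Points F)) : AlgSp.IsQuasiCompactSp F := by
  obtain ⟨U, p, hpe, hps⟩ := hF.atlas
  obtain ⟨V, g, hV, he, hs⟩ := Groth.Agent.AlgSpB.exists_affine_chart_of_compactSpace hpe hps
  exact ⟨V, _, he, hs, inferInstance⟩

theorem isQuasiCompactSp_iff {F : AlgSp.Sp S} (hF : AlgSp.IsAlgSpace F) :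
    AlgSp.IsQuasiCompactSp F ↔ CompactSpace (AlgSp.Points F) :=
  ⟨compactSpace_points, isQuasiCompactSp_of_compactSpace hF⟩

theorem compactSpace_yon (T : Over S) [CompactSpace T.left] :
    CompactSpace (AlgSp.Points ((AlgSp.yon S).obj T)) :=
  (AlgSp.Points.schemeHomeo T).compactSpace

theorem compactSpace_of_yon (T : Over S) [CompactSpace (AlgSp.Points ((AlgSp.yon S).obj T))] :
    CompactSpace T.left :=
  (AlgSp.Points.schemeHomeo T).symm.compactSpace

theorem isQuasiCompactSp_yon (T : Over S) [CompactSpace T.left] :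
    AlgSp.IsQuasiCompactSp ((AlgSp.yon S).obj T) :=
  isQuasiCompactSp_of_compactSpace (AlgSp.IsAlgSpace.yon_obj T) (compactSpace_yon T)

theorem compactSpace_of_surjective {A B : AlgSp.Sp S} (r : A ⟶ B)
    (hr : Function.Surjective (AlgSp.Points.map r)) [CompactSpace (AlgSp.Points A)] :
    CompactSpace (AlgSp.Points B) :=
  ⟨hr.range_eq ▸ isCompact_range (AlgSp.Points.continuous_map r)⟩

/-- Quasi-compactness of a morphism is tested on affine schemes. -/
theorem isQuasiCompactMor_of_affine {X Y : AlgSp.Sp S} (hX : AlgSp.IsAlgSpace X) (hY : AlgSp.IsAlgSpace Y)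
    (f : X ⟶ Y)
    (h : ∀ (Z : Over S), IsAffine Z.left → ∀ (g : (AlgSp.yon S).obj Z ⟶ Y) (P : AlgSp.Sp S)
      (fst : P ⟶ X) (snd : P ⟶ (AlgSp.yon S).obj Z), IsPullback fst snd f g →
      CompactSpace (AlgSp.Points P)) : AlgSp.IsQuasiCompactMor f := by
  intro Z Z' hZ hZc g fst snd sq
  have := compactSpace_points hZc
  obtain ⟨U, p, hpe, hps⟩ := hZ.atlas
  obtain ⟨V, j, hV, he, hs⟩ := Groth.Agent.AlgSpB.exists_affine_chart_of_compactSpace hpe hps
  have s1 := IsPullback.of_hasPullback snd ((AlgSp.yon S).map j ≫ p)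
  have := h V hV _ _ _ _ (s1.paste_horiz sq)
  refine isQuasiCompactSp_of_compactSpace (isAlgSpace_of_isPullback' hY hX hZ sq) ?_
  exact compactSpace_of_surjective _ (surjective_map_of_isPullback s1.flip
    ((repWith_surjective_iff _ hs.1).1 hs))

theorem isQuasiCompactMor_iff_affine {X Y : AlgSp.Sp S} (hX : AlgSp.IsAlgSpace X) (hY : AlgSp.IsAlgSpace Y)
    (f : X ⟶ Y) : AlgSp.IsQuasiCompactMor f ↔
      ∀ (Z : Over S), IsAffine Z.left → ∀ (g : (AlgSp.yon S).obj Z ⟶ Y) (P : AlgSp.Sp S)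
        (fst : P ⟶ X) (snd : P ⟶ (AlgSp.yon S).obj Z), IsPullback fst snd f g →
        AlgSp.IsQuasiCompactSp P :=
  ⟨fun h Z _ g _ fst snd sq => h (AlgSp.IsAlgSpace.yon_obj Z) (isQuasiCompactSp_yon Z) g fst snd sq,
    fun h => isQuasiCompactMor_of_affine hX hY f fun Z hZ g P fst snd sq =>
      compactSpace_points (h Z hZ g P fst snd sq)⟩

theorem isQuasiCompactMor_of_repWith {X Y : AlgSp.Sp S} (hY : AlgSp.IsAlgSpace Y) {f : X ⟶ Y}
    (h : AlgSp.RepWith @QuasiCompact f) : AlgSp.IsQuasiCompactMor f := by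
  refine isQuasiCompactMor_of_affine (isAlgSpace_of_representable f h.1 hY) hY f
    fun Z _ g P fst snd sq => ?_
  have : QuasiCompact (h.1.snd g).left := h.2 _ _ _ (h.1.isPullback g)
  have : CompactSpace (h.1.pullback g).left := QuasiCompact.compactSpace_of_compactSpace (h.1.snd g).left
  have := compactSpace_yon (h.1.pullback g)
  have e := (h.1.isPullback g).isoIsPullback _ _ sq
  exact compactSpace_of_surjective e.hom (fun x => ⟨AlgSp.Points.map e.inv x, by
    rw [← AlgSp.Points.map_comp, e.inv_hom_id, AlgSp.Points.map_id]⟩)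

theorem repWith_quasiCompact_iff {X Y : AlgSp.Sp S} (hY : AlgSp.IsAlgSpace Y) (f : X ⟶ Y)
    (hf : AlgSp.Representable f) : AlgSp.RepWith @QuasiCompact f ↔ AlgSp.IsQuasiCompactMor f := by
  refine ⟨isQuasiCompactMor_of_repWith hY, fun h => ⟨hf, fun U V g fst snd sq => ?_⟩⟩
  change QuasiCompact snd.left
  rw [quasiCompact_iff_forall_isAffineOpen]
  intro W hW
  let A : Over S := Over.mk (W.ι ≫ U.hom)
  let B : Over S := Over.mk ((snd.left ⁻¹ᵁ W).ι ≫ V.hom)
  let b : B ⟶ A := Over.homMk (snd.left ∣_ W) (by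
    change (snd.left ∣_ W) ≫ W.ι ≫ U.hom = (snd.left ⁻¹ᵁ W).ι ≫ V.hom
    rw [morphismRestrict_ι_assoc, Over.w snd])
  let i : B ⟶ V := Over.homMk (snd.left ⁻¹ᵁ W).ι rfl
  let j : A ⟶ U := Over.homMk W.ι rfl
  have : IsAffine A.left := hW
  have hsq : IsPullback i b snd j :=
    IsPullback.of_map (Over.forget S) (by ext; exact (morphismRestrict_ι _ _).symm)
      (isPullback_morphismRestrict snd.left W).flip
  have := compactSpace_points (h (AlgSp.IsAlgSpace.yon_obj A) (isQuasiCompactSp_yon A) _ _ _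
    ((hsq.map (AlgSp.yon S)).paste_horiz sq))
  have := compactSpace_of_yon B
  exact isCompact_iff_compactSpace.2 (inferInstanceAs (CompactSpace B.left))

/-- A quasi-compact morphism pulls compact opens back to compact sets. -/
theorem isCompact_preimage {X Y : AlgSp.Sp S} (hY : AlgSp.IsAlgSpace Y)
    (f : X ⟶ Y) (hf : AlgSp.IsQuasiCompactMor f) (V : Set (AlgSp.Points Y)) (hV : IsOpen V)
    (hVc : IsCompact V) : IsCompact (AlgSp.Points.map f ⁻¹' V) := by
  obtain ⟨U, p, hpe, hps⟩ := hY.atlas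
  let I := {W : U.left.affineOpens // (W.1 : Set U.left) ⊆ AlgSp.Points.ofPt p ⁻¹' V}
  let O : I → Set (AlgSp.Points Y) := fun W => AlgSp.Points.ofPt p '' (W.1.1 : Set U.left)
  have hO : ∀ W, IsOpen (O W) := fun W => Groth.Agent.AlgSpB.isOpenMap_ofPt hpe _ W.1.1.isOpen
  have hcov : V ⊆ ⋃ W, O W := by
    intro y hy
    obtain ⟨u, rfl⟩ := surjective_ofPt hps y
    obtain ⟨W, hW, hu, hWV⟩ := exists_isAffineOpen_mem_and_subset (x := u)
      (U := ⟨_, hV.preimage (AlgSp.Points.continuous_ofPt p)⟩) hy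
    exact Set.mem_iUnion.2 ⟨⟨⟨W, hW⟩, hWV⟩, u, hu, rfl⟩
  obtain ⟨s, hs⟩ := hVc.elim_finite_subcover O hO hcov
  have hVeq : V = ⋃ W ∈ s, O W := by
    refine Set.Subset.antisymm hs (Set.iUnion₂_subset fun W _ => ?_)
    rintro _ ⟨u, hu, rfl⟩
    exact W.2 hu
  rw [hVeq, Set.preimage_iUnion₂]
  refine s.isCompact_biUnion fun W _ => ?_
  let A : Over S := Over.mk (W.1.1.ι ≫ U.hom)
  let j : A ⟶ U := Over.homMk W.1.1.ι rfl
  have : IsAffine A.left := W.1.2
  have sq := IsPullback.of_hasPullback f ((AlgSp.yon S).map j ≫ p)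
  have := compactSpace_points (hf (AlgSp.IsAlgSpace.yon_obj A) (isQuasiCompactSp_yon A) _ _ _ sq)
  have e : O W = AlgSp.Points.map ((AlgSp.yon S).map j ≫ p) '' Set.univ := by
    rw [Set.image_univ]
    ext y
    constructor
    · rintro ⟨u, hu, rfl⟩
      exact ⟨AlgSp.Points.ofScheme A ⟨u, hu⟩, by
        rw [← AlgSp.Points.ofPt_eq_map_ofScheme, ofPt_map_comp]; rfl⟩
    · rintro ⟨z, rfl⟩
      rw [← AlgSp.Points.ofScheme_toScheme A z, ← AlgSp.Points.ofPt_eq_map_ofScheme, ofPt_map_comp]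
      exact ⟨_, (AlgSp.Points.toScheme A z).2, rfl⟩
  rw [e, preimage_image_map sq.flip, Set.preimage_univ]
  exact isCompact_univ.image (AlgSp.Points.continuous_map _)

theorem isQuasiCompactMor_of_surjective_triangle {X Y Z : AlgSp.Sp S} (hY : AlgSp.IsAlgSpace Y)
    (hZ : AlgSp.IsAlgSpace Z) (f : X ⟶ Y) (q : Y ⟶ Z) (hf : Function.Surjective (AlgSp.Points.map f))
    (hp : AlgSp.IsQuasiCompactMor (f ≫ q)) : AlgSp.IsQuasiCompactMor q := by
  refine isQuasiCompactMor_of_affine hY hZ q fun W _ g P fst snd sq => ?_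
  have s1 := IsPullback.of_hasPullback f fst
  have := compactSpace_points (hp (AlgSp.IsAlgSpace.yon_obj W) (isQuasiCompactSp_yon W) _ _ _
    (s1.paste_vert sq))
  exact compactSpace_of_surjective _ (surjective_map_of_isPullback s1 hf)

/-- Universal openness can be checked after an atlas-like surjection of the source. -/
theorem isUnivOpenMor_of_source {U X Y : AlgSp.Sp S} (a : U ⟶ X) (f : X ⟶ Y)
    (ha : Function.Surjective (AlgSp.Points.map a)) (h : AlgSp.RepWith @UniversallyOpen (a ≫ f)) :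
    AlgSp.IsUnivOpenMor f := by
  intro Z Z' _ g fst snd sq W hW
  have s1 := IsPullback.of_hasPullback a fst
  have h1 : AlgSp.RepWith @UniversallyOpen (pullback.snd a fst ≫ snd) :=
    MorphismProperty.of_isPullback (s1.paste_vert sq) h
  have e : AlgSp.Points.map snd '' W =
      AlgSp.Points.map (pullback.snd a fst ≫ snd) '' (AlgSp.Points.map (pullback.snd a fst) ⁻¹' W) := by
    ext z
    constructor
    · rintro ⟨w, hw, rfl⟩
      obtain ⟨w', rfl⟩ := surjective_map_of_isPullback s1 ha w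
      exact ⟨w', hw, AlgSp.Points.map_comp _ _ _⟩
    · rintro ⟨w', hw, rfl⟩
      exact ⟨_, hw, (AlgSp.Points.map_comp _ _ _).symm⟩
  rw [e]
  exact isOpenMap_map_of_repWith h1 _ (hW.preimage (AlgSp.Points.continuous_map _))

theorem isUnivOpenMor_of_isEtaleMor {X Y : AlgSp.Sp S} (hX : AlgSp.IsAlgSpace X) {f : X ⟶ Y}
    (hf : AlgSp.IsEtaleMor f) : AlgSp.IsUnivOpenMor f := by
  obtain ⟨U, a, hae, has⟩ := hX.atlas
  exact isUnivOpenMor_of_source a f ((repWith_surjective_iff a has.1).1 has)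
    (repWith_mono (Q := @UniversallyOpen) (fun g hg => have : Etale g := hg; inferInstance) (hf a hae))

/-- Quasi-compactness descends along surjective universally open maps. -/
theorem isQuasiCompactMor_of_univOpen_baseChange {X Y Y' X' : AlgSp.Sp S} (hX : AlgSp.IsAlgSpace X)
    (hY : AlgSp.IsAlgSpace Y) (hY' : AlgSp.IsAlgSpace Y') (f : X ⟶ Y) (g : Y' ⟶ Y) {fst : X' ⟶ X}
    {f' : X' ⟶ Y'} (sq : IsPullback fst f' f g) (hg : AlgSp.IsUnivOpenMor g)
    (hgs : Function.Surjective (AlgSp.Points.map g)) (hf' : AlgSp.IsQuasiCompactMor f') :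
    AlgSp.IsQuasiCompactMor f := by
  refine isQuasiCompactMor_of_affine hX hY f fun Z _ z P fst' snd' sqZ => ⟨?_⟩
  have sB := IsPullback.of_hasPullback g z
  obtain ⟨U, b, hbe, hbs⟩ := (isAlgSpace_pullback hY hY' (AlgSp.IsAlgSpace.yon_obj Z) g z).atlas
  let q := pullback.snd g z
  have hqo : IsOpenMap (AlgSp.Points.map q) := hg (AlgSp.IsAlgSpace.yon_obj Z) z _ _ sB
  have hqs := surjective_map_of_isPullback sB hgs
  let O : U.left.affineOpens → Set (AlgSp.Points ((AlgSp.yon S).obj Z)) :=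
    fun W => AlgSp.Points.map q '' (AlgSp.Points.ofPt b '' (W.1 : Set U.left))
  have hcov : Set.univ ⊆ ⋃ W, O W := by
    intro y _
    obtain ⟨x, rfl⟩ := hqs y
    obtain ⟨u, rfl⟩ := surjective_ofPt hbs x
    obtain ⟨W, hW, hu, -⟩ := exists_isAffineOpen_mem_and_subset (x := u) (U := ⊤) trivial
    exact Set.mem_iUnion.2 ⟨⟨W, hW⟩, _, ⟨u, hu, rfl⟩, rfl⟩
  have := compactSpace_yon Z
  obtain ⟨s, hs⟩ := isCompact_univ.elim_finite_subcover O
    (fun W => hqo _ (Groth.Agent.AlgSpB.isOpenMap_ofPt hbe _ W.1.isOpen)) hcov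
  have e : (Set.univ : Set (AlgSp.Points P)) = ⋃ W ∈ s, AlgSp.Points.map snd' ⁻¹' O W := by
    rw [← Set.preimage_iUnion₂]
    exact Set.Subset.antisymm (fun x _ => hs (Set.mem_univ _)) (Set.subset_univ _)
  rw [e]
  refine s.isCompact_biUnion fun W _ => ?_
  let A : Over S := Over.mk (W.1.ι ≫ U.hom)
  let j : A ⟶ U := Over.homMk W.1.ι rfl
  have : IsAffine A.left := W.2
  let k : (AlgSp.yon S).obj A ⟶ (AlgSp.yon S).obj Z := ((AlgSp.yon S).map j ≫ b) ≫ q
  have eO : O W = AlgSp.Points.map k '' Set.univ := by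
    rw [Set.image_univ]
    ext y
    constructor
    · rintro ⟨_, ⟨u, hu, rfl⟩, rfl⟩
      exact ⟨AlgSp.Points.ofScheme A ⟨u, hu⟩, by
        rw [AlgSp.Points.map_comp, ← AlgSp.Points.ofPt_eq_map_ofScheme, ofPt_map_comp]; rfl⟩
    · rintro ⟨x, rfl⟩
      rw [← AlgSp.Points.ofScheme_toScheme A x, AlgSp.Points.map_comp,
        ← AlgSp.Points.ofPt_eq_map_ofScheme, ofPt_map_comp]
      exact ⟨_, ⟨_, (AlgSp.Points.toScheme A x).2, rfl⟩, rfl⟩
  have s2 := IsPullback.of_hasPullback snd' k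
  rw [eO, preimage_image_map s2.flip, Set.preimage_univ]
  let c := ((AlgSp.yon S).map j ≫ b) ≫ pullback.fst g z
  have w : (pullback.fst snd' k ≫ fst') ≫ f = (pullback.snd snd' k ≫ c) ≫ g := by
    rw [(s2.paste_horiz sqZ).w]
    simp only [k, c, Category.assoc, sB.w, q]
  have s3 : IsPullback (sq.lift _ _ w) (pullback.snd snd' k) f' c := by
    refine IsPullback.of_right ?_ (sq.lift_snd _ _ w) sq
    rw [sq.lift_fst]
    have e : k ≫ z = c ≫ g := by simp only [k, c, Category.assoc, sB.w, q]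
    exact e ▸ s2.paste_horiz sqZ
  have := compactSpace_points (hf' (AlgSp.IsAlgSpace.yon_obj A) (isQuasiCompactSp_yon A) c _ _ s3)
  exact isCompact_univ.image (AlgSp.Points.continuous_map _)

theorem isQuasiCompactMor_baseChange {X Y X' Y' : AlgSp.Sp S} {f : X ⟶ Y} {g : Y' ⟶ Y} {fst : X' ⟶ X}
    {f' : X' ⟶ Y'} (sq : IsPullback fst f' f g) (hf : AlgSp.IsQuasiCompactMor f) :
    AlgSp.IsQuasiCompactMor f' :=
  fun _ _ hZ hZc z _ _ sq' => hf hZ hZc (z ≫ g) _ _ (sq'.paste_horiz sq)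

theorem isQuasiCompactMor_comp {X Y Z : AlgSp.Sp S} (hX : AlgSp.IsAlgSpace X) (hY : AlgSp.IsAlgSpace Y)
    (hZ : AlgSp.IsAlgSpace Z) {f : X ⟶ Y} {g : Y ⟶ Z} (hf : AlgSp.IsQuasiCompactMor f)
    (hg : AlgSp.IsQuasiCompactMor g) : AlgSp.IsQuasiCompactMor (f ≫ g) := by
  refine isQuasiCompactMor_of_affine hX hZ _ fun W _ w P fst snd sq => ?_
  have s1 := IsPullback.of_hasPullback g w
  have hB := hg (AlgSp.IsAlgSpace.yon_obj W) (isQuasiCompactSp_yon W) w _ _ s1
  have h1 : (fst ≫ f) ≫ g = snd ≫ w := by rw [Category.assoc, sq.w]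
  refine compactSpace_points (hf (isAlgSpace_pullback hZ hY (AlgSp.IsAlgSpace.yon_obj W) g w) hB
    (pullback.fst g w) fst (s1.lift _ _ h1) ?_)
  refine IsPullback.of_bot ?_ (s1.lift_fst _ _ h1).symm s1
  rw [s1.lift_snd]
  exact sq

/-- The graph argument: quasi-compactness cancels against a quasi-separated morphism. -/
theorem isQuasiCompactMor_of_comp {X Y Z : AlgSp.Sp S} (hX : AlgSp.IsAlgSpace X) (hY : AlgSp.IsAlgSpace Y)
    (hZ : AlgSp.IsAlgSpace Z) (f : X ⟶ Y) (g : Y ⟶ Z) (hgf : AlgSp.IsQuasiCompactMor (f ≫ g))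
    (hg : AlgSp.IsQuasiSeparatedMor g) : AlgSp.IsQuasiCompactMor f := by
  have e : f = pullback.lift (𝟙 X) f (by simp) ≫ pullback.snd (f ≫ g) g := by rw [pullback.lift_snd]
  have hP := isAlgSpace_pullback hZ hX hY (f ≫ g) g
  have h1 : AlgSp.RepWith @QuasiCompact (pullback.lift (𝟙 X) f (by simp) : X ⟶ pullback (f ≫ g) g) :=
    MorphismProperty.of_isPullback (pullback_lift_diagonal_isPullback f g) hg
  rw [e]
  exact isQuasiCompactMor_comp hX hP hY (isQuasiCompactMor_of_repWith hP h1)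
    (isQuasiCompactMor_baseChange (IsPullback.of_hasPullback (f ≫ g) g) hgf)

theorem compactSpace_prod_left [QuasiSeparatedSpace S] (U V : Over S) [CompactSpace U.left]
    [CompactSpace V.left] : CompactSpace (U ⨯ V : Over S).left := by
  have : QuasiCompact V.hom := inferInstance
  have : CompactSpace ↥(pullback U.hom V.hom) := inferInstance
  exact (Over.prodLeftIsoPullback U V).schemeIsoToHomeo.symm.compactSpace

/-- A morphism from a quasi-compact space to a quasi-separated one is quasi-compact. -/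
theorem isQuasiCompactMor_of_quasiCompactSp [QuasiSeparatedSpace S] {X Y : AlgSp.Sp S}
    (hX : AlgSp.IsAlgSpace X) (hY : AlgSp.IsAlgSpace Y) (f : X ⟶ Y) (hXc : AlgSp.IsQuasiCompactSp X)
    (hYs : AlgSp.IsQuasiSeparatedSp Y) : AlgSp.IsQuasiCompactMor f := by
  refine isQuasiCompactMor_of_affine hX hY f fun Z _ g P fst snd sq => ?_
  have hm : AlgSp.RepWith @QuasiCompact (prod.lift fst snd) :=
    MorphismProperty.of_isPullback (isPullback_lift_diag sq) hYs
  have := compactSpace_points hXc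
  obtain ⟨U₀, p₀, hp₀e, hp₀s⟩ := hX.atlas
  obtain ⟨U, j, hU, he, hs⟩ := Groth.Agent.AlgSpB.exists_affine_chart_of_compactSpace hp₀e hp₀s
  let c : (AlgSp.yon S).obj (U ⨯ Z) ⟶ X ⨯ (AlgSp.yon S).obj Z :=
    prodComparison (AlgSp.yon S) U Z ≫ prod.map ((AlgSp.yon S).map j ≫ p₀) (𝟙 _)
  have hc : AlgSp.RepWith @Surjective c :=
    (MorphismProperty.cancel_left_of_respectsIso _ _ _).2 (prodMap_id_mem _ hs _)
  have : CompactSpace (U ⨯ Z : Over S).left := compactSpace_prod_left U Z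
  have hQ : QuasiCompact (hm.1.snd c).left := hm.2 _ _ _ (hm.1.isPullback c)
  have : CompactSpace (hm.1.pullback c).left := QuasiCompact.compactSpace_of_compactSpace (hm.1.snd c).left
  have := compactSpace_yon (hm.1.pullback c)
  exact compactSpace_of_surjective (hm.1.fst c)
    (surjective_map_of_isPullback (hm.1.isPullback c).flip ((repWith_surjective_iff c hc.1).1 hc))

end Groth.Agent.AlgSp
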