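import Groth.Agent.AlgSpCov.Listed
import Groth.Agent.AlgSp.QCMor
import Groth.Agent.AlgSp.Diag
import Groth.Agent.LimLib.Props
import Mathlib.AlgebraicGeometry.Noetherian

/-!
# Finiteness conditions checked on etale charts
-/

universe u

open CategoryTheory CategoryTheory.Limits AlgebraicGeometry Opposite

set_option backward.isDefEq.respectTransparency.types false

namespace Groth.Agent.AlgSp

variable {S : Scheme.{u}}

/-- `LocP P` descends along a surjective etale base change of the target by a scheme. -/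
theorem locP_of_target_cover {P : MorphismProperty Scheme.{u}} (hP : AlgSpCov.Standard P) {X Y : AlgSp.Sp S}
    (hX : AlgSp.IsAlgSpace X) (hY : AlgSp.IsAlgSpace Y) (f : X ⟶ Y) {V : Over S}
    (p : (AlgSp.yon S).obj V ⟶ Y) (hp : AlgSp.RepWith @Etale p) (hps : AlgSp.RepWith @Surjective p)
    {Q : AlgSp.Sp S} {fst : Q ⟶ X} {snd : Q ⟶ (AlgSp.yon S).obj V} (sq : IsPullback fst snd f p)
    (h : AlgSp.LocP P snd) : AlgSp.LocP P f := by
  have := hP.bc
  have := hP.comp
  obtain ⟨U, r, hre, hrs⟩ := (isAlgSpace_of_isPullback' hY hX (AlgSp.IsAlgSpace.yon_obj V) sq).atlas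
  obtain ⟨α, hα⟩ := (AlgSp.yon S).map_surjective (r ≫ snd)
  refine AlgSpCov.locP_of_one_chart hP.etaleLocal hP.of_etale hY (a := r ≫ fst) (b := p) (h := α)
    ((AlgSp.RepWith _).comp_mem _ _ hre (MorphismProperty.of_isPullback sq.flip hp))
    ((AlgSp.RepWith _).comp_mem _ _ hrs (MorphismProperty.of_isPullback sq.flip hps)) hp
    (by rw [hα, Category.assoc, Category.assoc, sq.w]) ?_
  exact h r (𝟙 _) α hre (AlgSp.repWith_id _ V) (by rw [hα, Category.comp_id])

/-- `LocP P` descends along a surjective etale chart of the source. -/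
theorem locP_of_source_cover {P : MorphismProperty Scheme.{u}} (hP : AlgSpCov.Standard P) {X Y : AlgSp.Sp S}
    (hY : AlgSp.IsAlgSpace Y) (f : X ⟶ Y) {U : Over S} (φ : (AlgSp.yon S).obj U ⟶ X)
    (hφ : AlgSp.RepWith @Etale φ) (hφs : AlgSp.RepWith @Surjective φ) (h : AlgSp.LocP P (φ ≫ f)) :
    AlgSp.LocP P f := by
  have := hP.bc
  have := hP.comp
  obtain ⟨V, b, hb, hbs⟩ := hY.atlas
  obtain ⟨R, s, t, hR⟩ := AlgSpCov.exists_pullback (hY.representable_from_yon (φ ≫ f)) b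
  have hs : AlgSp.RepWith @Etale ((AlgSp.yon S).map s) := MorphismProperty.of_isPullback hR.flip hb
  have hss : AlgSp.RepWith @Surjective ((AlgSp.yon S).map s) := MorphismProperty.of_isPullback hR.flip hbs
  exact AlgSpCov.locP_of_one_chart hP.etaleLocal hP.of_etale hY (a := (AlgSp.yon S).map s ≫ φ) (b := b)
    (h := t) ((AlgSp.RepWith _).comp_mem _ _ hs hφ) ((AlgSp.RepWith _).comp_mem _ _ hss hφs) hb
    (by rw [Category.assoc, hR.w]) (h _ b t hs hb hR.w)

/-- The cancellation pattern for properties checked on charts. -/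
theorem locP_of_comp {P Q R : MorphismProperty Scheme.{u}} (hP : AlgSpCov.EtaleLocal P)
    (hcancel : ∀ ⦃A B C : Scheme.{u}⦄ (e : A ⟶ B) (h : B ⟶ C), R (e ≫ h) → Q h → P e)
    {X Y Z : AlgSp.Sp S} (hZ : AlgSp.IsAlgSpace Z) (f : X ⟶ Y) (g : Y ⟶ Z)
    (hR : AlgSp.LocP R (f ≫ g)) (hQ : AlgSp.LocP Q g) : AlgSp.LocP P f := by
  intro U V a b h ha hb w
  obtain ⟨W, c, hc, hcs⟩ := hZ.atlas
  obtain ⟨V', p₁, p₂, hV'⟩ := AlgSpCov.exists_pullback (hZ.representable_from_yon (b ≫ g)) c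
  have hp₁ : AlgSp.RepWith @Etale ((AlgSp.yon S).map p₁) := MorphismProperty.of_isPullback hV'.flip hc
  have hp₁s : AlgSp.RepWith @Surjective ((AlgSp.yon S).map p₁) := MorphismProperty.of_isPullback hV'.flip hcs
  have hp₁' := (AlgSp.repWith_yon_map_iff _ _).1 hp₁
  have hp₁s' := (AlgSp.repWith_yon_map_iff _ _).1 hp₁s
  have sq := IsPullback.of_hasPullback h p₁
  have hu : AlgSp.RepWith @Etale ((AlgSp.yon S).map (pullback.fst h p₁)) :=
    MorphismProperty.of_isPullback (sq.map (AlgSp.yon S)).flip hp₁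
  have hQ' : Q p₂.left := hQ _ c p₂ ((AlgSp.RepWith _).comp_mem _ _ hp₁ hb) hc (by rw [Category.assoc, hV'.w])
  have e1 : (AlgSp.yon S).map (pullback.snd h p₁) ≫ (AlgSp.yon S).map p₁ =
      (AlgSp.yon S).map (pullback.fst h p₁) ≫ (AlgSp.yon S).map h := by
    rw [← Functor.map_comp, ← Functor.map_comp, sq.w]
  have hR' : R (pullback.snd h p₁ ≫ p₂).left := hR ((AlgSp.yon S).map (pullback.fst h p₁) ≫ a) c _
    ((AlgSp.RepWith _).comp_mem _ _ hu ha) hc (by
      rw [Functor.map_comp, Category.assoc, Category.assoc, ← hV'.w, reassoc_of% w, reassoc_of% e1])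
  exact hP.descend _ _ _ _ (sq.map (Over.forget S)).flip hp₁' hp₁s' (hcancel _ _ hR' hQ')

theorem locP_lft_of_comp {X Y Z : AlgSp.Sp S} (hZ : AlgSp.IsAlgSpace Z) (f : X ⟶ Y) (g : Y ⟶ Z)
    (h : AlgSp.LocP @LocallyOfFiniteType (f ≫ g)) : AlgSp.LocP @LocallyOfFiniteType f :=
  locP_of_comp (Q := ⊤) AlgSpCov.etaleLocal_locallyOfFiniteType
    (fun _ _ _ e h he _ => have : LocallyOfFiniteType (e ≫ h) := he; locallyOfFiniteType_of_comp e h)
    hZ f g h (fun _ _ _ _ _ _ _ _ => trivial)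

theorem locP_lqf_of_comp {X Y Z : AlgSp.Sp S} (hZ : AlgSp.IsAlgSpace Z) (f : X ⟶ Y) (g : Y ⟶ Z)
    (h : AlgSp.LocP ((@LocallyQuasiFinite : MorphismProperty Scheme.{u}) ⊓ @LocallyOfFiniteType) (f ≫ g)) :
    AlgSp.LocP ((@LocallyQuasiFinite : MorphismProperty Scheme.{u}) ⊓ @LocallyOfFiniteType) f :=
  locP_of_comp (Q := ⊤) (AlgSpCov.standard_locallyQuasiFinite).etaleLocal
    (fun _ _ _ e h he _ => have : LocallyQuasiFinite (e ≫ h) := he.1
      have : LocallyOfFiniteType (e ≫ h) := he.2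
      ⟨LocallyQuasiFinite.of_comp e h, locallyOfFiniteType_of_comp e h⟩)
    hZ f g h (fun _ _ _ _ _ _ _ _ => trivial)

theorem locP_lfp_of_comp {X Y Z : AlgSp.Sp S} (hZ : AlgSp.IsAlgSpace Z) (f : X ⟶ Y) (g : Y ⟶ Z)
    (h : AlgSp.LocP @LocallyOfFinitePresentation (f ≫ g)) (hg : AlgSp.LocP @LocallyOfFiniteType g) :
    AlgSp.LocP @LocallyOfFinitePresentation f :=
  locP_of_comp AlgSpCov.etaleLocal_locallyOfFinitePresentation
    (fun _ _ _ e h he hh => have : LocallyOfFinitePresentation (e ≫ h) := he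
      have : LocallyOfFiniteType h := hh
      MorphismProperty.of_postcomp (W' := @LocallyOfFiniteType) @LocallyOfFinitePresentation e h hh he)
    hZ f g h hg

theorem isLocNoethSp_of_lft {X Y : AlgSp.Sp S} (hX : AlgSp.IsAlgSpace X) (hY : AlgSp.IsAlgSpace Y)
    (f : X ⟶ Y) (hf : AlgSp.LocP @LocallyOfFiniteType f) (h : AlgSp.IsLocNoethSp Y) :
    AlgSp.IsLocNoethSp X := by
  obtain ⟨V, q, hq, hqs, hV⟩ := h
  obtain ⟨U, p, α, hp, hps, w⟩ := exists_chart_lift hX hY f q hq hqs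
  have : LocallyOfFiniteType α.left := hf p q α hp hq w
  exact ⟨U, p, hp, hps, LocallyOfFiniteType.isLocallyNoetherian α.left⟩

theorem locP_lfp_of_lft {X Y : AlgSp.Sp S} (hX : AlgSp.IsAlgSpace X) (hY : AlgSp.IsAlgSpace Y)
    (f : X ⟶ Y) (hf : AlgSp.LocP @LocallyOfFiniteType f) (h : AlgSp.IsLocNoethSp Y) :
    AlgSp.LocP @LocallyOfFinitePresentation f := by
  obtain ⟨V, q, hq, hqs, hV⟩ := h
  obtain ⟨U, p, α, hp, hps, w⟩ := exists_chart_lift hX hY f q hq hqs
  have : LocallyOfFiniteType α.left := hf p q α hp hq w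
  exact AlgSpCov.locP_of_one_chart AlgSpCov.etaleLocal_locallyOfFinitePresentation.{u}
    (fun _ _ e _ => inferInstance) hY hp hps hq w
    (LocallyOfFinitePresentation.iff_locallyOfFiniteType.2 this)

theorem isUnivOpenMor_of_flat_lfp {X Y : AlgSp.Sp S} (hX : AlgSp.IsAlgSpace X) (hY : AlgSp.IsAlgSpace Y)
    (f : X ⟶ Y) (hfl : AlgSp.LocP @Flat f) (hfp : AlgSp.LocP @LocallyOfFinitePresentation f) :
    AlgSp.IsUnivOpenMor f := by
  obtain ⟨U, a, hae, has⟩ := hX.atlas
  have h1 := AlgSpCov.repWith_chart_comp AlgSpCov.etaleLocal_flat hX hY hfl hae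
  have h2 := AlgSpCov.repWith_chart_comp AlgSpCov.etaleLocal_locallyOfFinitePresentation hX hY hfp hae
  refine isUnivOpenMor_of_source a f ((repWith_surjective_iff a has.1).1 has) ⟨h1.1, fun _ _ g fst snd sq => ?_⟩
  have : Flat snd.left := h1.2 g fst snd sq
  have : LocallyOfFinitePresentation snd.left := h2.2 g fst snd sq
  exact (inferInstance : UniversallyOpen snd.left)

end Groth.Agent.AlgSp

namespace Groth.Agent.AlgSp

variable {S : Scheme.{u}}

theorem diagonal_lfp {X Y : AlgSp.Sp S} (hX : AlgSp.IsAlgSpace X) (hY : AlgSp.IsAlgSpace Y) (f : X ⟶ Y)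
    (hf : AlgSp.LocP @LocallyOfFiniteType f) :
    AlgSp.LocP @LocallyOfFinitePresentation (pullback.diagonal f) := by
  refine locP_lfp_of_comp hX _ (pullback.fst f f) ?_
    (AlgSpCov.locP_baseChange AlgSpCov.etaleLocal_locallyOfFiniteType hX hY
      (IsPullback.of_hasPullback f f).flip hf)
  rw [pullback.diagonal_fst]
  have : MorphismProperty.IsMultiplicative @LocallyOfFinitePresentation.{u} :=
    { id_mem := fun _ => inferInstance }
  exact AlgSpCov.locP_of_repWith AlgSpCov.etaleLocal_locallyOfFinitePresentation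
    ((AlgSp.RepWith _).id_mem _)

theorem isQuasiSeparatedMor_diagonal {X Y : AlgSp.Sp S} (f : X ⟶ Y) :
    AlgSp.IsQuasiSeparatedMor (pullback.diagonal f) := by
  have : IsSplitMono (pullback.diagonal f) := IsSplitMono.mk' ⟨pullback.fst f f, pullback.diagonal_fst f⟩
  have : IsIso (pullback.diagonal (pullback.diagonal f)) := pullback.isIso_diagonal_iff _ |>.2 inferInstance
  exact MorphismProperty.of_isPullback (P := AlgSp.RepWith @QuasiCompact)
    (IsPullback.of_vert_isIso ⟨by simp⟩ : IsPullback (pullback.diagonal (pullback.diagonal f))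
      (pullback.diagonal (pullback.diagonal f)) (𝟙 _) (𝟙 _)) ((AlgSp.RepWith _).id_mem _)

theorem diagonal_fp {X Y : AlgSp.Sp S} (hX : AlgSp.IsAlgSpace X) (hY : AlgSp.IsAlgSpace Y) (f : X ⟶ Y)
    (hf : AlgSp.LocP @LocallyOfFiniteType f) (hq : AlgSp.IsQuasiSeparatedMor f) :
    AlgSp.IsFinitePresentationMor (pullback.diagonal f) :=
  ⟨diagonal_lfp hX hY f hf, isQuasiCompactMor_of_repWith (isAlgSpace_pullback hY hX hX f f) hq,
    isQuasiSeparatedMor_diagonal f⟩

theorem noetherian_of_fp {X Y : AlgSp.Sp S} (hX : AlgSp.IsAlgSpace X) (hY : AlgSp.IsAlgSpace Y) (f : X ⟶ Y)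
    (hf : AlgSp.IsFinitePresentationMor f)
    (h : AlgSp.IsQuasiCompactSp Y ∧ AlgSp.IsQuasiSeparatedSp Y ∧ AlgSp.IsLocNoethSp Y) :
    AlgSp.IsQuasiCompactSp X ∧ AlgSp.IsQuasiSeparatedSp X ∧ AlgSp.IsLocNoethSp X := by
  obtain ⟨hc, hs, hn⟩ := h
  refine ⟨hf.2.1 hY hc (𝟙 Y) (𝟙 X) f (IsPullback.of_horiz_isIso ⟨by simp⟩), ?_,
    isLocNoethSp_of_lft hX hY f (fun U V a b h ha hb w =>
      have : LocallyOfFinitePresentation h.left := hf.1 a b h ha hb w
      inferInstance) hn⟩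
  have h2 : AlgSp.RepWith @QuasiCompact (prod.lift (pullback.fst f f) (pullback.snd f f)) :=
    MorphismProperty.of_isPullback (isPullback_lift_diag (IsPullback.of_hasPullback f f)) hs
  have e : Limits.diag X = pullback.diagonal f ≫ prod.lift (pullback.fst f f) (pullback.snd f f) := by
    apply prod.hom_ext <;> simp [prod.lift_fst, prod.lift_snd]
  change AlgSp.RepWith @QuasiCompact (Limits.diag X)
  rw [e]
  exact (AlgSp.RepWith _).comp_mem _ _ hf.2.2 h2

end Groth.Agent.AlgSp
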