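import Groth.Agent.AlgSp.QCMor
import Groth.Agent.AlgSp.Diag
import Mathlib.AlgebraicGeometry.Morphisms.UniversallyClosed
import Mathlib.AlgebraicGeometry.ZariskisMainTheorem

/-!
# Universally closed morphisms of algebraic spaces are quasi-compact
-/

universe u

open CategoryTheory CategoryTheory.Limits AlgebraicGeometry Opposite Topology

set_option backward.isDefEq.respectTransparency.types false

namespace Groth.Agent.AlgSp

open Groth.Agent.AlgSpB (exists_of_isPullback isOpenMap_ofPt surjective_ofPt)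

variable {S : Scheme.{u}}

open _root_.PrimeSpectrum MvPolynomial in
/-- An algebraic space universally closed over a field is quasi-compact. -/
theorem compactSpace_of_isUnivClosedMor {K : Type u} [Field K] (str : Spec (CommRingCat.of K) ⟶ S)
    {P : AlgSp.Sp S} (hP : AlgSp.IsAlgSpace P) (π : P ⟶ (AlgSp.yon S).obj (Over.mk str))
    (hπ : AlgSp.IsUnivClosedMor π) : CompactSpace (AlgSp.Points P) := by
  classical
  obtain ⟨A, a, hae, has⟩ := hP.atlas
  let 𝒰 : A.left.OpenCover := A.left.affineCover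
  let ι := 𝒰.I₀
  let V (i : ι) : Set (AlgSp.Points P) := AlgSp.Points.ofPt a '' Set.range (𝒰.f i)
  have hVo (i : ι) : IsOpen (V i) := isOpenMap_ofPt hae _ (𝒰.f i).isOpenEmbedding.isOpen_range
  have hVc (x : AlgSp.Points P) : ∃ i, x ∈ V i := by
    obtain ⟨y, rfl⟩ := surjective_ofPt has x
    exact ⟨𝒰.idx y, y, 𝒰.covers y, rfl⟩
  have hVk (i : ι) : IsCompact (V i) :=
    (isCompact_range (𝒰.f i).continuous).image (AlgSp.Points.continuous_ofPt a)
  let T : Over S := Over.mk
    (Spec.map (CommRingCat.ofHom (MvPolynomial.C : K →+* MvPolynomial ι K)) ≫ str)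
  let q : T ⟶ Over.mk str := Over.homMk (Spec.map (CommRingCat.ofHom MvPolynomial.C)) rfl
  have sq := IsPullback.of_hasPullback π ((AlgSp.yon S).map q)
  set p := pullback.fst π ((AlgSp.yon S).map q)
  set fT := pullback.snd π ((AlgSp.yon S).map q)
  have hfT : IsClosedMap (AlgSp.Points.map fT) := hπ (AlgSp.IsAlgSpace.yon_obj T) _ p fT sq
  let h := (AlgSp.Points.schemeHomeo T).symm
  let Ti (i : ι) : Set (PrimeSpectrum (MvPolynomial ι K)) := (basicOpen (MvPolynomial.X i : MvPolynomial ι K) : Set _)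
  have hTi (i : ι) : IsOpen (Ti i) := (basicOpen (MvPolynomial.X i : MvPolynomial ι K)).isOpen
  let g (x : AlgSp.Points (pullback π ((AlgSp.yon S).map q))) : PrimeSpectrum (MvPolynomial ι K) :=
    h (AlgSp.Points.map fT x)
  have hg : IsClosedMap g := h.isClosedMap.comp hfT
  have hgc : Continuous g := h.continuous.comp (AlgSp.Points.continuous_map fT)
  let Z := (⋃ i, g ⁻¹' Ti i ∩ AlgSp.Points.map p ⁻¹' V i)ᶜ
  have hZ : IsClosed Z := (isOpen_iUnion fun i =>
    ((hTi i).preimage hgc).inter ((hVo i).preimage (AlgSp.Points.continuous_map p))).isClosed_compl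
  let ψ : MvPolynomial ι K →ₐ[K] K := MvPolynomial.aeval (fun _ ↦ 1)
  let t : PrimeSpectrum (MvPolynomial ι K) := PrimeSpectrum.comap ψ.toRingHom default
  have ht (i : ι) : t ∈ Ti i := by
    change t ∈ basicOpen (MvPolynomial.X i)
    rw [PrimeSpectrum.mem_basicOpen]
    show ψ (.X i) ∉ (default : PrimeSpectrum K).asIdeal
    simp [ψ, ← Ideal.eq_top_iff_one, (default : PrimeSpectrum K).isPrime.ne_top]
  have htZc : t ∈ (g '' Z)ᶜ := by
    rintro ⟨z, hz, hzt⟩
    obtain ⟨i, hi⟩ := hVc (AlgSp.Points.map p z)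
    exact hz (Set.mem_iUnion.2 ⟨i, show g z ∈ Ti i by rw [hzt]; exact ht i, hi⟩)
  obtain ⟨_, ⟨r, rfl⟩, htr, hrle⟩ := (isTopologicalBasis_basic_opens (R := MvPolynomial ι K)).exists_subset_of_mem_open
    htZc (hg _ hZ).isOpen_compl
  let σ : Finset ι := MvPolynomial.vars r
  let φ : MvPolynomial ι K →+* MvPolynomial ι K :=
    (MvPolynomial.aeval fun i : ι ↦ if i ∈ σ then MvPolynomial.X i else 0).toRingHom
  let t' : PrimeSpectrum (MvPolynomial ι K) := PrimeSpectrum.comap φ t
  have ht'r : t' ∈ PrimeSpectrum.basicOpen r :=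
    show φ r ∉ t.asIdeal from (show φ r = r from aeval_ite_mem_eq_self r subset_rfl).symm ▸ htr
  have hne : t' ∉ g '' Z := hrle ht'r
  suffices hu : ⋃ i ∈ σ, V i = Set.univ from
    ⟨hu ▸ Finset.isCompact_biUnion _ fun i _ ↦ hVk i⟩
  rw [Set.iUnion₂_eq_univ_iff]
  contrapose! hne
  obtain ⟨x, hx⟩ := hne
  have : Subsingleton (AlgSp.Points ((AlgSp.yon S).obj (Over.mk str))) :=
    haveI : Subsingleton (Over.mk str).left := inferInstanceAs (Subsingleton (PrimeSpectrum K))
    (AlgSp.Points.schemeHomeo (Over.mk str)).symm.toEquiv.subsingleton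
  obtain ⟨z, hzp, hzT⟩ := exists_of_isPullback sq x (h.symm t') (Subsingleton.elim _ _)
  refine ⟨z, ?_, show h (AlgSp.Points.map fT z) = _ by rw [hzT, h.apply_symm_apply]⟩
  simp only [Z, Set.mem_compl_iff, Set.mem_iUnion, not_exists]
  rintro i ⟨h1, h2⟩
  have h1' : t' ∈ basicOpen (MvPolynomial.X i : MvPolynomial ι K) := by
    have : g z = t' := by
      show h (AlgSp.Points.map fT z) = _
      rw [hzT, h.apply_symm_apply]
    exact this ▸ h1
  rw [Set.mem_preimage, hzp] at h2
  have hi : i ∉ σ := fun hi => hx i hi h2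
  apply h1'
  show φ (.X i) ∈ t.asIdeal
  simp [φ, hi]

/-- A universally closed morphism of algebraic spaces is quasi-compact. -/
theorem isQuasiCompactMor_of_isUnivClosedMor {X Y : AlgSp.Sp S} (hX : AlgSp.IsAlgSpace X)
    (hY : AlgSp.IsAlgSpace Y) (f : X ⟶ Y) (hf : AlgSp.IsUnivClosedMor f) :
    AlgSp.IsQuasiCompactMor f := by
  refine isQuasiCompactMor_of_affine hX hY f fun Z hZ g P fst snd sq => ?_
  have hP : AlgSp.IsAlgSpace P := isAlgSpace_of_isPullback' hY hX (AlgSp.IsAlgSpace.yon_obj Z) sq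
  have hcl : IsClosedMap (AlgSp.Points.map snd) := hf (AlgSp.IsAlgSpace.yon_obj Z) g fst snd sq
  have := compactSpace_yon Z
  have hp : IsProperMap (AlgSp.Points.map snd) := by
    rw [isProperMap_iff_isClosedMap_and_compact_fibers]
    refine ⟨AlgSp.Points.continuous_map _, hcl, fun z => ?_⟩
    obtain ⟨pz, rfl⟩ := AlgSp.Points.mk_surjective z
    let j := pz.toHom
    have sq' := IsPullback.of_hasPullback snd j
    have hQ : AlgSp.IsAlgSpace (pullback snd j) :=
      isAlgSpace_of_isPullback' (AlgSp.IsAlgSpace.yon_obj Z) hP (AlgSp.IsAlgSpace.yon_obj pz.pt) sq'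
    have hu : AlgSp.IsUnivClosedMor (pullback.snd snd j) := fun _ _ hB g' fst' snd' s =>
      hf hB (g' ≫ j ≫ g) (fst' ≫ pullback.fst snd j ≫ fst) snd'
        (s.paste_horiz (sq'.paste_horiz sq))
    have := compactSpace_of_isUnivClosedMor pz.str hQ _ hu
    have hsub : Subsingleton (AlgSp.Points ((AlgSp.yon S).obj pz.pt)) :=
      haveI : Subsingleton pz.pt.left := inferInstanceAs (Subsingleton (PrimeSpectrum pz.K))
      (AlgSp.Points.schemeHomeo pz.pt).symm.toEquiv.subsingleton
    let s0 : AlgSp.Points ((AlgSp.yon S).obj pz.pt) :=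
      AlgSp.Points.ofScheme pz.pt (IsLocalRing.closedPoint pz.K)
    have hs0 : AlgSp.Points.map j s0 = AlgSp.Points.mk pz := by
      rw [← AlgSp.Points.ofPt_eq_map_ofScheme]
      exact AlgSp.Points.ofPt_toHom _ _
    have e : AlgSp.Points.map snd ⁻¹' {AlgSp.Points.mk pz} =
        Set.range (AlgSp.Points.map (pullback.fst snd j)) := by
      ext x
      refine ⟨fun hx => ?_, ?_⟩
      · obtain ⟨w, hw, -⟩ := exists_of_isPullback sq' x s0 ((Set.mem_singleton_iff.1 hx).trans hs0.symm)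
        exact ⟨w, hw⟩
      · rintro ⟨w, rfl⟩
        rw [Set.mem_preimage, Set.mem_singleton_iff, ← hs0, ← AlgSp.Points.map_comp, sq'.w,
          AlgSp.Points.map_comp, Subsingleton.elim (AlgSp.Points.map (pullback.snd snd j) w) s0]
    rw [e]
    exact isCompact_range (AlgSp.Points.continuous_map _)
  exact ⟨by simpa using hp.isCompact_preimage isCompact_univ⟩

theorem isUnivClosedMor_baseChange {X Y X' Y' : AlgSp.Sp S} {f : X ⟶ Y} {g : Y' ⟶ Y} {fst : X' ⟶ X}
    {f' : X' ⟶ Y'} (sq : IsPullback fst f' f g) (hf : AlgSp.IsUnivClosedMor f) :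
    AlgSp.IsUnivClosedMor f' :=
  fun _ _ hZ z _ _ sq' => hf hZ (z ≫ g) _ _ (sq'.paste_horiz sq)

theorem isUnivClosedMor_comp {X Y Z : AlgSp.Sp S} (hY : AlgSp.IsAlgSpace Y) (hZ : AlgSp.IsAlgSpace Z)
    {f : X ⟶ Y} {g : Y ⟶ Z} (hf : AlgSp.IsUnivClosedMor f) (hg : AlgSp.IsUnivClosedMor g) :
    AlgSp.IsUnivClosedMor (f ≫ g) := by
  intro W W' hW w fst snd sq
  have s1 := IsPullback.of_hasPullback g w
  have h1 : (fst ≫ f) ≫ g = snd ≫ w := by rw [Category.assoc, sq.w]
  have s2 : IsPullback fst (s1.lift _ _ h1) f (pullback.fst g w) := by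
    refine IsPullback.of_bot ?_ (s1.lift_fst _ _ h1).symm s1
    rw [s1.lift_snd]
    exact sq
  have c1 : IsClosedMap (AlgSp.Points.map (s1.lift _ _ h1)) :=
    hf (isAlgSpace_pullback hZ hY hW g w) _ _ _ s2
  have c2 : IsClosedMap (AlgSp.Points.map (pullback.snd g w)) := hg hW w _ _ s1
  intro E hE
  have := c2 _ (c1 E hE)
  rw [← Set.image_comp] at this
  convert this using 1
  refine Set.image_congr fun x _ => ?_
  rw [Function.comp_apply, ← AlgSp.Points.map_comp, s1.lift_snd]

theorem isUnivClosedMor_of_surjective_triangle {X Y Z : AlgSp.Sp S} (f : X ⟶ Y) (q : Y ⟶ Z)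
    (hf : Function.Surjective (AlgSp.Points.map f)) (hp : AlgSp.IsUnivClosedMor (f ≫ q)) :
    AlgSp.IsUnivClosedMor q := by
  intro W W' hW w fst snd sq E hE
  have s1 := IsPullback.of_hasPullback f fst
  have hc : IsClosedMap (AlgSp.Points.map (pullback.snd f fst ≫ snd)) := hp hW w _ _ (s1.paste_vert sq)
  have := hc _ (hE.preimage (AlgSp.Points.continuous_map (pullback.snd f fst)))
  convert this using 1
  ext z
  constructor
  · rintro ⟨e, he, rfl⟩
    obtain ⟨e', rfl⟩ := surjective_map_of_isPullback s1 hf e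
    exact ⟨e', he, AlgSp.Points.map_comp _ _ _⟩
  · rintro ⟨e', he, rfl⟩
    exact ⟨_, he, (AlgSp.Points.map_comp _ _ _).symm⟩

/-- Separation conditions pass to the target of a surjective universally closed map. -/
theorem separation_of_surjective_univClosed {X Y B : AlgSp.Sp S} (hX : AlgSp.IsAlgSpace X)
    (hY : AlgSp.IsAlgSpace Y) (hB : AlgSp.IsAlgSpace B) (f : X ⟶ Y) (p : X ⟶ B) (q : Y ⟶ B)
    (comm : f ≫ q = p) (hs : Function.Surjective (AlgSp.Points.map f)) (hc : AlgSp.IsUnivClosedMor f) :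
    (AlgSp.IsQuasiSeparatedMor p → AlgSp.IsQuasiSeparatedMor q) ∧
      (AlgSp.IsSeparatedMor p → AlgSp.IsSeparatedMor q) := by
  subst comm
  obtain ⟨m1, hm11, hm12⟩ : ∃ m : pullback (f ≫ q) (f ≫ q) ⟶ pullback q (f ≫ q),
      m ≫ pullback.fst _ _ = pullback.fst _ _ ≫ f ∧ m ≫ pullback.snd _ _ = pullback.snd _ _ :=
    ⟨pullback.lift (pullback.fst _ _ ≫ f)
    (pullback.snd _ _) (by rw [Category.assoc, pullback.condition]), pullback.lift_fst .., pullback.lift_snd ..⟩
  obtain ⟨m2, hm21, hm22⟩ : ∃ m : pullback q (f ≫ q) ⟶ pullback q q,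
      m ≫ pullback.fst _ _ = pullback.fst _ _ ∧ m ≫ pullback.snd _ _ = pullback.snd _ _ ≫ f :=
    ⟨pullback.lift (pullback.fst _ _)
    (pullback.snd _ _ ≫ f) (by rw [Category.assoc, pullback.condition]), pullback.lift_fst .., pullback.lift_snd ..⟩
  have s1 : IsPullback (pullback.fst (f ≫ q) (f ≫ q)) m1 f (pullback.fst q (f ≫ q)) := by
    refine IsPullback.of_bot ?_ hm11.symm (IsPullback.of_hasPullback q (f ≫ q))
    rw [hm12]
    exact IsPullback.of_hasPullback (f ≫ q) (f ≫ q)
  have s2 : IsPullback (pullback.snd q (f ≫ q)) m2 f (pullback.snd q q) := by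
    refine IsPullback.of_bot ?_ hm22.symm (IsPullback.of_hasPullback q q).flip
    rw [hm21]
    exact (IsPullback.of_hasPullback q (f ≫ q)).flip
  have hXX := isAlgSpace_pullback hB hX hX (f ≫ q) (f ≫ q)
  have hYX := isAlgSpace_pullback hB hY hX q (f ≫ q)
  have hYY := isAlgSpace_pullback hB hY hY q q
  have e : f ≫ pullback.diagonal q = pullback.diagonal (f ≫ q) ≫ m1 ≫ m2 := by
    apply pullback.hom_ext <;> simp [hm11, hm12, hm21, hm22, reassoc_of% hm11, reassoc_of% hm12]
  have hm : AlgSp.IsUnivClosedMor (m1 ≫ m2) :=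
    isUnivClosedMor_comp hYX hYY (isUnivClosedMor_baseChange s1 hc) (isUnivClosedMor_baseChange s2 hc)
  have hr := (diagonal_props hY q).1
  have hq : AlgSp.IsQuasiSeparatedMor (f ≫ q) → AlgSp.IsQuasiSeparatedMor q := fun hp => by
    refine (repWith_quasiCompact_iff hYY _ hr).2 ?_
    refine isQuasiCompactMor_of_surjective_triangle hY hYY f _ hs ?_
    rw [e]
    exact isQuasiCompactMor_comp hX hXX hYY (isQuasiCompactMor_of_repWith hXX hp)
      (isQuasiCompactMor_of_isUnivClosedMor hXX hYY _ hm)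
  refine ⟨hq, fun hp => ?_⟩
  have huc : AlgSp.RepWith @UniversallyClosed (pullback.diagonal q) := by
    refine (repWith_universallyClosed_iff _ hr).2 ?_
    refine isUnivClosedMor_of_surjective_triangle f _ hs ?_
    rw [e]
    exact isUnivClosedMor_comp hXX hYY (isUnivClosedMor_of_repWith
      (repWith_mono (Q := @UniversallyClosed) (fun g hg => have : IsClosedImmersion g := hg; inferInstance) hp)) hm
  refine ⟨hr, fun U V g fst snd sq => ?_⟩
  have : UniversallyClosed snd.left := huc.2 g fst snd sq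
  have : LocallyOfFiniteType snd.left := (diagonal_props hY q).2.1.2 g fst snd sq
  have : Mono snd.left := (diagonal_props hY q).2.2.1.2 g fst snd sq
  have hpr : IsProper snd.left := { }
  exact (IsClosedImmersion.iff_isProper_and_mono snd.left).2 ⟨hpr, inferInstance⟩

end Groth.Agent.AlgSp
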