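import Groth.Agent.StFib.Props2
import Groth.Agent.AlgSp.UnivClosed
import Groth.Agent.AlgSp.RepGeneral
import Groth.Agent.AlgSp.LocPFin

/-!
# Closed subspaces proper over a base
-/

universe u

open CategoryTheory CategoryTheory.Limits AlgebraicGeometry Opposite

set_option backward.isDefEq.respectTransparency.types false

namespace Groth.Agent.AlgSp

variable {S : Scheme.{u}}

/-- Closed immersions are proper. -/
theorem isProperMor_of_isClosedImmersion {X Y : AlgSp.Sp S} (hY : AlgSp.IsAlgSpace Y) {i : X ⟶ Y}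
    (hi : AlgSp.RepWith @IsClosedImmersion i) : AlgSp.IsProperMor i := by
  have : Mono i := mono_of_repWith (fun g hg => have : IsClosedImmersion g := hg; inferInstance) i hi
  exact ⟨MorphismProperty.of_isIso (AlgSp.RepWith @IsClosedImmersion) (pullback.diagonal i),
    ⟨AlgSpCov.locP_of_repWith AlgSpCov.etaleLocal_locallyOfFiniteType
        (repWith_mono (Q := @LocallyOfFiniteType) (fun g hg => have : IsClosedImmersion g := hg; inferInstance) hi),
      isQuasiCompactMor_of_repWith hY
        (repWith_mono (Q := @QuasiCompact) (fun g hg => have : IsClosedImmersion g := hg; inferInstance) hi)⟩,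
    isUnivClosedMor_of_repWith
      (repWith_mono (Q := @UniversallyClosed) (fun g hg => have : IsClosedImmersion g := hg; inferInstance) hi)⟩

/-- Universal closedness descends along jointly surjective finite families. -/
theorem isUnivClosedMor_of_family {ι : Type*} [Finite ι] {Y Z : AlgSp.Sp S} {X : ι → AlgSp.Sp S}
    (f : ∀ k, X k ⟶ Y) (q : Y ⟶ Z) (hf : ∀ y, ∃ k, y ∈ Set.range (AlgSp.Points.map (f k)))
    (hp : ∀ k, AlgSp.IsUnivClosedMor (f k ≫ q)) : AlgSp.IsUnivClosedMor q := by
  intro W W' hW w fst snd sq E hE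
  have hsq := fun k => IsPullback.of_hasPullback (f k) fst
  have hc := fun k => (hp k hW w _ _ ((hsq k).paste_vert sq)) _
    (hE.preimage (AlgSp.Points.continuous_map (pullback.snd (f k) fst)))
  have he : AlgSp.Points.map snd '' E = ⋃ k, AlgSp.Points.map (pullback.snd (f k) fst ≫ snd) ''
      (AlgSp.Points.map (pullback.snd (f k) fst) ⁻¹' E) := by
    ext z
    constructor
    · rintro ⟨e, he, rfl⟩
      obtain ⟨k, x, hx⟩ := hf (AlgSp.Points.map fst e)
      obtain ⟨e', -, rfl⟩ := Groth.Agent.AlgSpB.exists_of_isPullback (hsq k) x e hx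
      exact Set.mem_iUnion.2 ⟨k, e', he, AlgSp.Points.map_comp _ _ _⟩
    · rintro hz
      obtain ⟨k, e', he, rfl⟩ := Set.mem_iUnion.1 hz
      exact ⟨_, he, (AlgSp.Points.map_comp _ _ _).symm⟩
  rw [he]
  exact isClosed_iUnion_of_finite hc

/-- Quasi-compactness descends along jointly surjective finite families. -/
theorem isQuasiCompactMor_of_family {ι : Type*} [Finite ι] {Y Z : AlgSp.Sp S} (hY : AlgSp.IsAlgSpace Y)
    (hZ : AlgSp.IsAlgSpace Z) {X : ι → AlgSp.Sp S} (f : ∀ k, X k ⟶ Y) (q : Y ⟶ Z)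
    (hf : ∀ y, ∃ k, y ∈ Set.range (AlgSp.Points.map (f k)))
    (hp : ∀ k, AlgSp.IsQuasiCompactMor (f k ≫ q)) : AlgSp.IsQuasiCompactMor q := by
  refine isQuasiCompactMor_of_affine hY hZ q fun W _ g P fst snd sq => ?_
  have hsq := fun k => IsPullback.of_hasPullback (f k) fst
  have hc := fun k => compactSpace_points (hp k (AlgSp.IsAlgSpace.yon_obj W) (isQuasiCompactSp_yon W) _ _ _
    ((hsq k).paste_vert sq))
  refine ⟨?_⟩
  have he : (Set.univ : Set (AlgSp.Points P)) = ⋃ k, Set.range (AlgSp.Points.map (pullback.snd (f k) fst)) := by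
    ext z
    simp only [Set.mem_univ, true_iff]
    obtain ⟨k, x, hx⟩ := hf (AlgSp.Points.map fst z)
    obtain ⟨e', -, rfl⟩ := Groth.Agent.AlgSpB.exists_of_isPullback (hsq k) x z hx
    exact Set.mem_iUnion.2 ⟨k, e', rfl⟩
  rw [he]
  exact isCompact_iUnion fun k => have := hc k; isCompact_range (AlgSp.Points.continuous_map _)

/-- A space receiving a jointly surjective finite family of proper, universally closed pieces is proper. -/
theorem isProperMor_of_family {ι : Type*} [Finite ι] {Y B : AlgSp.Sp S} (hY : AlgSp.IsAlgSpace Y)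
    (hB : AlgSp.IsAlgSpace B) {X : ι → AlgSp.Sp S} (hX : ∀ k, AlgSp.IsAlgSpace (X k))
    (f : ∀ k, X k ⟶ Y) (q : Y ⟶ B) (hf : ∀ y, ∃ k, y ∈ Set.range (AlgSp.Points.map (f k)))
    (hc : ∀ k, AlgSp.IsUnivClosedMor (f k)) (hp : ∀ k, AlgSp.IsProperMor (f k ≫ q))
    (hlft : AlgSp.LocP @LocallyOfFiniteType q) : AlgSp.IsProperMor q := by
  refine ⟨?_, ⟨hlft, isQuasiCompactMor_of_family hY hB f q hf fun k => (hp k).2.1.2⟩,
    isUnivClosedMor_of_family f q hf fun k => (hp k).2.2⟩
  have hYY := isAlgSpace_pullback hB hY hY q q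
  have hr := (diagonal_props hY q).1
  have huc : AlgSp.RepWith @UniversallyClosed (pullback.diagonal q) := by
    refine (repWith_universallyClosed_iff _ hr).2 ?_
    refine isUnivClosedMor_of_family f _ hf fun k => ?_
    obtain ⟨m1, hm11, hm12⟩ : ∃ m : pullback (f k ≫ q) (f k ≫ q) ⟶ pullback q (f k ≫ q),
        m ≫ pullback.fst _ _ = pullback.fst _ _ ≫ f k ∧ m ≫ pullback.snd _ _ = pullback.snd _ _ :=
      ⟨pullback.lift (pullback.fst _ _ ≫ f k) (pullback.snd _ _)
        (by rw [Category.assoc, pullback.condition]), pullback.lift_fst .., pullback.lift_snd ..⟩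
    obtain ⟨m2, hm21, hm22⟩ : ∃ m : pullback q (f k ≫ q) ⟶ pullback q q,
        m ≫ pullback.fst _ _ = pullback.fst _ _ ∧ m ≫ pullback.snd _ _ = pullback.snd _ _ ≫ f k :=
      ⟨pullback.lift (pullback.fst _ _) (pullback.snd _ _ ≫ f k)
        (by rw [Category.assoc, pullback.condition]), pullback.lift_fst .., pullback.lift_snd ..⟩
    have s1 : IsPullback (pullback.fst (f k ≫ q) (f k ≫ q)) m1 (f k) (pullback.fst q (f k ≫ q)) := by
      refine IsPullback.of_bot ?_ hm11.symm (IsPullback.of_hasPullback q (f k ≫ q))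
      rw [hm12]
      exact IsPullback.of_hasPullback (f k ≫ q) (f k ≫ q)
    have s2 : IsPullback (pullback.snd q (f k ≫ q)) m2 (f k) (pullback.snd q q) := by
      refine IsPullback.of_bot ?_ hm22.symm (IsPullback.of_hasPullback q q).flip
      rw [hm21]
      exact (IsPullback.of_hasPullback q (f k ≫ q)).flip
    have hXX := isAlgSpace_pullback hB (hX k) (hX k) (f k ≫ q) (f k ≫ q)
    have hYX := isAlgSpace_pullback hB hY (hX k) q (f k ≫ q)
    have e : f k ≫ pullback.diagonal q = pullback.diagonal (f k ≫ q) ≫ m1 ≫ m2 := by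
      apply pullback.hom_ext <;> simp [hm11, hm12, hm21, hm22, reassoc_of% hm11, reassoc_of% hm12]
    rw [e]
    exact isUnivClosedMor_comp hXX hYY (isUnivClosedMor_of_repWith
      (repWith_mono (Q := @UniversallyClosed) (fun g hg => have : IsClosedImmersion g := hg; inferInstance)
        (hp k).1))
      (isUnivClosedMor_comp hYX hYY (isUnivClosedMor_baseChange s1 (hc k))
        (isUnivClosedMor_baseChange s2 (hc k)))
  refine ⟨hr, fun U V g fst snd sq => ?_⟩
  have : UniversallyClosed snd.left := huc.2 g fst snd sq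
  have : LocallyOfFiniteType snd.left := (diagonal_props hY q).2.1.2 g fst snd sq
  have : Mono snd.left := (diagonal_props hY q).2.2.1.2 g fst snd sq
  have hpr : IsProper snd.left := { }
  exact (IsClosedImmersion.iff_isProper_and_mono snd.left).2 ⟨hpr, inferInstance⟩

/-- A closed subspace covered by the images of finitely many spaces proper over the base is proper over it. -/
theorem isProperMor_of_image {ι : Type*} [Finite ι] {Y B Z' : AlgSp.Sp S} (hY : AlgSp.IsAlgSpace Y)
    (hB : AlgSp.IsAlgSpace B) (hZ' : AlgSp.IsAlgSpace Z') (b : Y ⟶ B)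
    (hb : AlgSp.LocP @LocallyOfFiniteType b) {Z : ι → AlgSp.Sp S} (hZ : ∀ k, AlgSp.IsAlgSpace (Z k))
    (g : ∀ k, Z k ⟶ Y) (hg : ∀ k, AlgSp.IsUnivClosedMor (g k))
    (hp : ∀ k, AlgSp.IsProperMor (g k ≫ b)) (j : Z' ⟶ Y) (hj : AlgSp.RepWith @IsClosedImmersion j)
    (hr : Set.range (AlgSp.Points.map j) = ⋃ k, Set.range (AlgSp.Points.map (g k))) :
    AlgSp.IsProperMor (j ≫ b) := by
  have hjp := isProperMor_of_isClosedImmersion hY hj
  have hW := fun k => isAlgSpace_pullback hY (hZ k) hZ' (g k) j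
  refine isProperMor_of_family hZ' hB hW (fun k => pullback.snd (g k) j) (j ≫ b) (fun y => ?_)
    (fun k => isUnivClosedMor_baseChange (IsPullback.of_hasPullback (g k) j) (hg k)) (fun k => ?_)
    (Groth.Agent.StFib.good_lft.comp hZ' hY hB j b hjp.2.1.1 hb)
  · have hy : AlgSp.Points.map j y ∈ ⋃ k, Set.range (AlgSp.Points.map (g k)) := hr ▸ ⟨y, rfl⟩
    obtain ⟨k, z, hz⟩ := Set.mem_iUnion.1 hy
    obtain ⟨p, -, hp'⟩ := Groth.Agent.AlgSpB.exists_of_isPullback
      (IsPullback.of_hasPullback (g k) j) z y hz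
    exact ⟨k, p, hp'⟩
  · have e : pullback.snd (g k) j ≫ j ≫ b = pullback.fst (g k) j ≫ g k ≫ b := by
      rw [← Category.assoc, ← pullback.condition, Category.assoc]
    rw [e]
    exact Groth.Agent.StFib.good_proper.comp (hW k) (hZ k) hB _ _
      (isProperMor_of_isClosedImmersion (hZ k)
        (MorphismProperty.pullback_fst _ _ hj)) (hp k)

/-- A morphism over a separated base from a universally closed space is universally closed. -/
theorem isUnivClosedMor_of_comp {X Y B : AlgSp.Sp S} (hX : AlgSp.IsAlgSpace X) (hY : AlgSp.IsAlgSpace Y)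
    (hB : AlgSp.IsAlgSpace B) (f : X ⟶ Y) (b : Y ⟶ B) (h : AlgSp.IsUnivClosedMor (f ≫ b))
    (hb : AlgSp.IsSeparatedMor b) : AlgSp.IsUnivClosedMor f := by
  have e : f = pullback.lift (𝟙 X) f (by simp) ≫ pullback.snd (f ≫ b) b := by rw [pullback.lift_snd]
  have h1 : AlgSp.RepWith @IsClosedImmersion (pullback.lift (𝟙 X) f (by simp) : X ⟶ pullback (f ≫ b) b) :=
    MorphismProperty.of_isPullback (pullback_lift_diagonal_isPullback f b) hb
  have hP := isAlgSpace_pullback hB hX hY (f ≫ b) b
  rw [e]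
  exact isUnivClosedMor_comp hP hY
    (isUnivClosedMor_of_repWith
      (repWith_mono (Q := @UniversallyClosed) (fun g hg => have : IsClosedImmersion g := hg; inferInstance) h1))
    (isUnivClosedMor_baseChange (IsPullback.of_hasPullback (f ≫ b) b) h)

theorem range_map_of_isPullback {X Y Z Z' : AlgSp.Sp S} {i : Z ⟶ Y} {f : X ⟶ Y} {q : Z' ⟶ Z}
    {i' : Z' ⟶ X} (sq : IsPullback q i' i f) :
    Set.range (AlgSp.Points.map i') = AlgSp.Points.map f ⁻¹' Set.range (AlgSp.Points.map i) := by
  ext x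
  constructor
  · rintro ⟨z, rfl⟩
    exact ⟨AlgSp.Points.map q z, by rw [← AlgSp.Points.map_comp, ← AlgSp.Points.map_comp, sq.w]⟩
  · rintro ⟨z, hz⟩
    obtain ⟨p, -, hp⟩ := Groth.Agent.AlgSpB.exists_of_isPullback sq z x hz
    exact ⟨p, hp⟩

theorem range_map_subset_isClosed {X Y : AlgSp.Sp S} (hY : AlgSp.IsAlgSpace Y) {g : X ⟶ Y}
    (hg : AlgSp.IsUnivClosedMor g) : IsClosed (Set.range (AlgSp.Points.map g)) := by
  have h := hg hY (𝟙 Y) (𝟙 X) g IsPullback.of_id_fst
  exact h.isClosed_range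

end Groth.Agent.AlgSp
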