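import Mathlib.AlgebraicGeometry.Sites.Fpqc
import Mathlib.AlgebraicGeometry.Morphisms.FlatDescent
import Mathlib.AlgebraicGeometry.Morphisms.LocalFlatDescent
import Mathlib.AlgebraicGeometry.Morphisms.LocalIso
import Mathlib.AlgebraicGeometry.Cover.Sigma

/-!
# fppf locality on the target from descent along surjective flat lfp morphisms
-/

universe u

set_option backward.isDefEq.respectTransparency.types false

open CategoryTheory CategoryTheory.Limits AlgebraicGeometry

namespace Groth.Agent.AlgSp

/-- A Zariski local, base change stable property which descends along surjective flat lfp morphisms is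
fppf local on the target. -/
theorem isLocalAtTarget_fppf (P : MorphismProperty Scheme.{u}) [P.IsStableUnderBaseChange]
    [IsZariskiLocalAtTarget P]
    [P.DescendsAlong (@Surjective ⊓ @Flat ⊓ @LocallyOfFinitePresentation)] :
    P.IsLocalAtTarget Scheme.fppfPrecoverage where
  pullbackSnd _ _ hf _ := P.pullback_snd _ _ hf
  of_forall_pullbackSnd {X Y f R} hR h := by
    obtain ⟨ι, W, g, rfl⟩ := R.exists_eq_ofArrows
    obtain ⟨hs, hg⟩ := (Scheme.ofArrows_mem_precoverage_iff _).1 hR
    choose i hi using hs
    let π : (∐ fun x : ↥X => W (i x)) ⟶ X := Sigma.desc fun x => g (i x)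
    have hsurj : Surjective π := by
      refine ⟨fun x => ?_⟩
      obtain ⟨w, hw⟩ := hi x
      refine ⟨Sigma.ι (fun x : ↥X => W (i x)) x w, ?_⟩
      rw [← Scheme.Hom.comp_apply, Sigma.ι_desc]
      exact hw
    have hflat : Flat π := IsZariskiLocalAtSource.sigmaDesc fun x => (hg (i x)).1
    have hlfp : LocallyOfFinitePresentation π :=
      IsZariskiLocalAtSource.sigmaDesc fun x => (hg (i x)).2
    refine MorphismProperty.of_pullback_fst_of_descendsAlong
      (Q := @Surjective ⊓ @Flat ⊓ @LocallyOfFinitePresentation) (f := π) (g := f)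
      ⟨⟨hsurj, hflat⟩, hlfp⟩ ?_
    rw [IsZariskiLocalAtTarget.iff_of_openCover (P := P) (sigmaOpenCover fun x : ↥X => W (i x))]
    intro x
    have e : IsPullback (pullback.fst (pullback.fst π f) (Sigma.ι _ x) ≫ pullback.snd π f)
        (pullback.snd (pullback.fst π f) (Sigma.ι _ x)) f (g (i x)) := by
      have := (IsPullback.of_hasPullback (pullback.fst π f) (Sigma.ι _ x)).paste_horiz
        (IsPullback.of_hasPullback π f).flip
      exact (congrArg (IsPullback _ _ f) (Sigma.ι_desc (fun x : ↥X => g (i x)) x)).mp this
    have h' : P (pullback.snd f (g (i x))) := h (Presieve.ofArrows.mk (i x))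
    change P (pullback.snd (pullback.fst π f) (Sigma.ι _ x))
    rw [← e.isoPullback_hom_snd]
    exact (P.cancel_left_of_respectsIso _ _).2 h'

instance : MorphismProperty.IsLocalAtTarget @LocallyOfFiniteType Scheme.fppfPrecoverage.{u} :=
  isLocalAtTarget_fppf _

instance : MorphismProperty.IsLocalAtTarget @LocallyOfFinitePresentation Scheme.fppfPrecoverage.{u} :=
  isLocalAtTarget_fppf _

instance : MorphismProperty.IsLocalAtTarget @Etale Scheme.fppfPrecoverage.{u} :=
  isLocalAtTarget_fppf _

instance : MorphismProperty.IsLocalAtTarget @Smooth Scheme.fppfPrecoverage.{u} :=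
  isLocalAtTarget_fppf _

instance : MorphismProperty.IsLocalAtTarget @Surjective Scheme.fppfPrecoverage.{u} :=
  isLocalAtTarget_fppf _

instance : MorphismProperty.IsLocalAtTarget @UniversallyOpen Scheme.fppfPrecoverage.{u} :=
  isLocalAtTarget_fppf _

instance : MorphismProperty.IsLocalAtTarget @UniversallyClosed Scheme.fppfPrecoverage.{u} :=
  isLocalAtTarget_fppf _

instance : MorphismProperty.IsLocalAtTarget @IsOpenImmersion Scheme.fppfPrecoverage.{u} :=
  isLocalAtTarget_fppf _

instance : (MorphismProperty.isomorphisms Scheme.{u}).IsLocalAtTarget Scheme.fppfPrecoverage.{u} :=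
  isLocalAtTarget_fppf _

end Groth.Agent.AlgSp
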