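import Groth.Agent.AlgSp.Basic
import Groth.Agent.AlgSp.FppfLocal
import Mathlib.AlgebraicGeometry.Morphisms.QuasiFinite
import Mathlib.CategoryTheory.ObjectProperty.LimitsOfShape

/-!
# Algebraic spaces: fibre products, properties of the diagonal
-/

universe u

open CategoryTheory CategoryTheory.Limits AlgebraicGeometry Opposite

set_option backward.isDefEq.respectTransparency.types false
set_option linter.unusedSimpArgs false

namespace Groth.Agent.AlgSp

variable {S : Scheme.{u}}

section Prod

variable {C : Type*} [Category C] [HasBinaryProducts C] (Q : MorphismProperty C)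
  [Q.IsStableUnderBaseChange]

theorem prodMap_id_mem {A B : C} {f : A ⟶ B} (hf : Q f) (D : C) : Q (prod.map f (𝟙 D)) :=
  Q.of_isPullback (IsPullback.of_prod_fst_with_id f D) hf

theorem id_prodMap_mem {A B : C} {f : A ⟶ B} (hf : Q f) (D : C) : Q (prod.map (𝟙 D) f) := by
  have := MorphismProperty.IsStableUnderBaseChange.respectsIso (P := Q)
  have e : prod.map (𝟙 D) f = (prod.braiding D A).hom ≫ prod.map f (𝟙 D) ≫ (prod.braiding D B).inv := by
    apply prod.hom_ext <;> simp [prod.lift_fst, prod.lift_snd, prod.lift_fst_assoc, prod.lift_snd_assoc]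
  rw [e]
  exact (Q.cancel_left_of_respectsIso _ _).2 ((Q.cancel_right_of_respectsIso _ _).2 (prodMap_id_mem Q hf D))

theorem prodMap_mem [Q.IsStableUnderComposition] {A B A' B' : C} {f : A ⟶ B} {g : A' ⟶ B'}
    (hf : Q f) (hg : Q g) : Q (prod.map f g) := by
  have e : prod.map f g = prod.map f (𝟙 A') ≫ prod.map (𝟙 B) g := by
    apply prod.hom_ext <;> simp [prod.lift_fst, prod.lift_snd, prod.lift_fst_assoc, prod.lift_snd_assoc]
  rw [e]
  exact Q.comp_mem _ _ (prodMap_id_mem Q hf A') (id_prodMap_mem Q hg B)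

/-- For a monomorphism the diagonal of the source is the base change of that of the target. -/
theorem isPullback_diag_of_mono {F G : C} (m : F ⟶ G) [Mono m] :
    IsPullback m (Limits.diag F) (Limits.diag G) (prod.map m m) := by
  have key : ∀ s : PullbackCone (Limits.diag G) (prod.map m m),
      s.snd ≫ prod.fst ≫ m = s.fst ∧ s.snd ≫ prod.snd ≫ m = s.fst := by
    intro s
    have h1 := congrArg (· ≫ prod.fst) s.condition
    have h2 := congrArg (· ≫ prod.snd) s.condition
    simp only [Category.assoc, prod.lift_fst, prod.lift_snd, prod.map_fst, prod.map_snd,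
      Category.comp_id] at h1 h2
    exact ⟨h1.symm, h2.symm⟩
  refine IsPullback.of_isLimit' ⟨by apply prod.hom_ext <;> simp [prod.lift_fst, prod.lift_snd, prod.lift_fst_assoc, prod.lift_snd_assoc]⟩
    (PullbackCone.IsLimit.mk _ (fun s => s.snd ≫ prod.fst) (fun s => ?_) (fun s => ?_) (fun s t _ ht => ?_))
  · rw [Category.assoc]; exact (key s).1
  · apply prod.hom_ext
    · simp [prod.lift_fst, prod.lift_snd, prod.lift_fst_assoc, prod.lift_snd_assoc]
    · rw [← cancel_mono m]
      simp [(key s).1, (key s).2, prod.lift_fst, prod.lift_snd, prod.lift_fst_assoc, prod.lift_snd_assoc]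
  · have := congrArg (· ≫ prod.fst) ht
    simpa [prod.lift_fst, prod.lift_snd, prod.lift_fst_assoc, prod.lift_snd_assoc] using this

theorem diag_prod_mem [Q.IsStableUnderComposition] {X Y : C} (hX : Q (Limits.diag X))
    (hY : Q (Limits.diag Y)) : Q (Limits.diag (X ⨯ Y)) := by
  have := MorphismProperty.IsStableUnderBaseChange.respectsIso (P := Q)
  let e : (X ⨯ X) ⨯ (Y ⨯ Y) ≅ (X ⨯ Y) ⨯ (X ⨯ Y) :=
    { hom := prod.lift (prod.map prod.fst prod.fst) (prod.map prod.snd prod.snd)
      inv := prod.lift (prod.map prod.fst prod.fst) (prod.map prod.snd prod.snd)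
      hom_inv_id := by apply prod.hom_ext <;> apply prod.hom_ext <;> simp [prod.lift_fst, prod.lift_snd, prod.lift_fst_assoc, prod.lift_snd_assoc]
      inv_hom_id := by apply prod.hom_ext <;> apply prod.hom_ext <;> simp [prod.lift_fst, prod.lift_snd, prod.lift_fst_assoc, prod.lift_snd_assoc] }
  have he : Limits.diag (X ⨯ Y) = prod.map (Limits.diag X) (Limits.diag Y) ≫ e.hom := by
    apply prod.hom_ext <;> apply prod.hom_ext <;> simp [e, prod.lift_fst, prod.lift_snd, prod.lift_fst_assoc, prod.lift_snd_assoc]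
  rw [he]
  have := e.isIso_hom
  exact (Q.cancel_right_of_respectsIso _ _).2 (prodMap_mem Q hX hY)

/-- A property stable under base change and composition passes from the diagonals of `X`, `Y` to the
diagonal of any subobject of `X ⨯ Y`. -/
theorem diag_mem_of_mono_prod [Q.IsStableUnderComposition] {X Y Z : C} (m : Z ⟶ X ⨯ Y) [Mono m]
    (hX : Q (Limits.diag X)) (hY : Q (Limits.diag Y)) : Q (Limits.diag Z) :=
  Q.of_isPullback (isPullback_diag_of_mono m) (diag_prod_mem Q hX hY)

theorem mono_lift_of_isPullback {P X Y Z : C} {fst : P ⟶ X} {snd : P ⟶ Y} {f : X ⟶ Z} {g : Y ⟶ Z}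
    (h : IsPullback fst snd f g) : Mono (prod.lift fst snd) :=
  ⟨fun a b w => h.hom_ext (by simpa [prod.lift_fst, prod.lift_snd, prod.lift_fst_assoc, prod.lift_snd_assoc] using congrArg (· ≫ prod.fst) w) (by simpa [prod.lift_fst, prod.lift_snd, prod.lift_fst_assoc, prod.lift_snd_assoc] using congrArg (· ≫ prod.snd) w)⟩

end Prod

theorem representable_map {U : Over S} {F : AlgSp.Sp S} (hF : AlgSp.Representable (Limits.diag F))
    (g : (AlgSp.yon S).obj U ⟶ F) : AlgSp.Representable g :=
  Functor.relativelyRepresentable.of_diag hF g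

/-- `yon` applied to a pullback square in `Over S` from a represented square. -/
theorem exists_isPullback_yon {F : AlgSp.Sp S} (hF : AlgSp.Representable (Limits.diag F)) {U V : Over S}
    (a : (AlgSp.yon S).obj U ⟶ F) (b : (AlgSp.yon S).obj V ⟶ F) :
    ∃ (W : Over S) (p : W ⟶ U) (q : W ⟶ V),
      IsPullback ((AlgSp.yon S).map p) ((AlgSp.yon S).map q) a b :=
  ⟨_, _, _, (representable_map hF a).isPullback' b⟩

/-- A fibre product of two algebraic spaces over a sheaf with representable diagonal is an algebraic space. -/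
theorem isAlgSpace_of_isPullback {H X Y P : AlgSp.Sp S} (hH : AlgSp.Representable (Limits.diag H))
    (hX : AlgSp.IsAlgSpace X) (hY : AlgSp.IsAlgSpace Y) {f : X ⟶ H} {g : Y ⟶ H} {fst : P ⟶ X}
    {snd : P ⟶ Y} (h : IsPullback fst snd f g) : AlgSp.IsAlgSpace P := by
  refine ⟨have := mono_lift_of_isPullback h
    diag_mem_of_mono_prod _ (prod.lift fst snd) hX.diag hY.diag, ?_⟩
  obtain ⟨U, p, hpe, hps⟩ := hX.atlas
  obtain ⟨V, q, hqe, hqs⟩ := hY.atlas
  obtain ⟨W, a, b, sq⟩ := exists_isPullback_yon hH (p ≫ f) (q ≫ g)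
  have s1 := IsPullback.of_hasPullback p fst
  have t1 := s1.paste_vert h
  have s2 := IsPullback.of_hasPullback (pullback.snd p fst ≫ snd) q
  have t2 := s2.paste_horiz t1
  let e := sq.isoIsPullback _ _ t2
  have := e.isIso_hom
  have key : ∀ (Q : MorphismProperty Scheme.{u}) [Q.IsStableUnderBaseChange] [Q.IsMultiplicative],
      AlgSp.RepWith Q p → AlgSp.RepWith Q q →
      AlgSp.RepWith Q (e.hom ≫ pullback.fst (pullback.snd p fst ≫ snd) q ≫ pullback.snd p fst) := by
    intro Q _ _ hp hq
    exact (MorphismProperty.cancel_left_of_respectsIso (AlgSp.RepWith Q) _ _).2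
      ((AlgSp.RepWith Q).comp_mem _ _ (MorphismProperty.pullback_fst _ _ hq)
        (MorphismProperty.pullback_snd _ _ hp))
  exact ⟨W, _, key _ hpe hqe, key _ hps hqs⟩

/-- Fibre products over an algebraic space. -/
theorem isAlgSpace_of_isPullback' {H X Y P : AlgSp.Sp S} (hH : AlgSp.IsAlgSpace H)
    (hX : AlgSp.IsAlgSpace X) (hY : AlgSp.IsAlgSpace Y) {f : X ⟶ H} {g : Y ⟶ H} {fst : P ⟶ X}
    {snd : P ⟶ Y} (h : IsPullback fst snd f g) : AlgSp.IsAlgSpace P :=
  isAlgSpace_of_isPullback hH.diag hX hY h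

theorem isAlgSpace_pullback {H X Y : AlgSp.Sp S} (hH : AlgSp.IsAlgSpace H)
    (hX : AlgSp.IsAlgSpace X) (hY : AlgSp.IsAlgSpace Y) (f : X ⟶ H) (g : Y ⟶ H) :
    AlgSp.IsAlgSpace (pullback f g) :=
  isAlgSpace_of_isPullback' hH hX hY (IsPullback.of_hasPullback f g)

instance isClosedUnderLimitsOfShape_walkingCospan :
    ObjectProperty.IsClosedUnderLimitsOfShape (AlgSp.IsAlgSpace (S := S)) WalkingCospan :=
  .mk' (by
    rintro _ ⟨G, hG⟩
    exact (isAlgSpace_pullback (hG .one) (hG .left) (hG .right) (G.map WalkingCospan.Hom.inl)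
      (G.map WalkingCospan.Hom.inr)).of_iso
      (HasLimit.isoOfNatIso (diagramIsoCospan G).symm))

/-- A chart of the source lying over a given chart of the target. -/
theorem exists_chart_lift {X Y : AlgSp.Sp S} (hX : AlgSp.IsAlgSpace X) (hY : AlgSp.IsAlgSpace Y)
    (a : X ⟶ Y) {V : Over S} (q : (AlgSp.yon S).obj V ⟶ Y) (hqe : AlgSp.RepWith @Etale q)
    (hqs : AlgSp.RepWith @Surjective q) :
    ∃ (U : Over S) (p : (AlgSp.yon S).obj U ⟶ X) (α : U ⟶ V),
      AlgSp.RepWith @Etale p ∧ AlgSp.RepWith @Surjective p ∧ p ≫ a = (AlgSp.yon S).map α ≫ q := by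
  obtain ⟨U, r, hre, hrs⟩ :=
    (isAlgSpace_pullback hY hX (AlgSp.IsAlgSpace.yon_obj V) a q).atlas
  obtain ⟨α, hα⟩ := (AlgSp.yon S).map_surjective (r ≫ pullback.snd a q)
  refine ⟨U, r ≫ pullback.fst a q, α, (AlgSp.RepWith _).comp_mem _ _ hre (MorphismProperty.pullback_fst _ _ hqe),
    (AlgSp.RepWith _).comp_mem _ _ hrs (MorphismProperty.pullback_fst _ _ hqs), ?_⟩
  rw [hα, Category.assoc, Category.assoc, pullback.condition]

theorem repWith_diag_mono (F : AlgSp.Sp S) (h : AlgSp.Representable (Limits.diag F)) :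
    AlgSp.RepWith (MorphismProperty.monomorphisms Scheme.{u}) (Limits.diag F) := by
  refine repWith_of_snd h fun U g => ?_
  have : Mono ((AlgSp.yon S).map (h.snd g)) :=
    ⟨fun a b w => (h.isPullback g).hom_ext (by
      rw [← cancel_mono (Limits.diag F), Category.assoc, Category.assoc, (h.isPullback g).w, ← Category.assoc,
        w, Category.assoc]) w⟩
  have : Mono (h.snd g) := (AlgSp.yon S).mono_of_mono_map this
  exact inferInstanceAs (Mono (h.snd g).left)

theorem repWith_diag_lft (F : AlgSp.Sp S) (hF : AlgSp.IsAlgSpace F) :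
    AlgSp.RepWith @LocallyOfFiniteType (Limits.diag F) := by
  obtain ⟨U, p, hpe, hps⟩ := hF.atlas
  obtain ⟨R, t, s, sq⟩ := exists_isPullback_yon hF.diag p p
  have hb := isLocallySurjective_of_etale_surjective (prod.map p p)
    (prodMap_mem _ hpe hpe) (prodMap_mem _ hps hps)
  have ht : Etale t.left := by
    exact hpe.2 _ _ _ sq.flip
  have hlft : LocallyOfFiniteType (prod.lift t s).left := by
    have : t.left = (prod.lift t s).left ≫ (prod.fst : U ⨯ U ⟶ U).left := by
      rw [← Over.comp_left, prod.lift_fst]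
    have : LocallyOfFiniteType ((prod.lift t s).left ≫ (prod.fst : U ⨯ U ⟶ U).left) := this ▸ inferInstance
    exact locallyOfFiniteType_of_comp _ (prod.fst : U ⨯ U ⟶ U).left
  refine repWith_of_isPullback_of_isLocallySurjective (Limits.diag F) hF.diag (prod.map p p)
    ((AlgSp.yon S).map t ≫ p) (prod.lift ((AlgSp.yon S).map t) ((AlgSp.yon S).map s)) ?_ _ ?_
  · have key : ∀ z : PullbackCone (Limits.diag F) (prod.map p p),
        (z.snd ≫ prod.fst) ≫ p = z.fst ∧ (z.snd ≫ prod.snd) ≫ p = z.fst := by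
      intro z
      have h1 := congrArg (· ≫ prod.fst) z.condition
      have h2 := congrArg (· ≫ prod.snd) z.condition
      simp only [Category.assoc, prod.lift_fst, prod.lift_snd, prod.map_fst, prod.map_snd,
        Category.comp_id] at h1 h2 ⊢
      exact ⟨h1.symm, h2.symm⟩
    refine IsPullback.of_isLimit' ⟨by apply prod.hom_ext <;> simp [sq.w, prod.lift_fst, prod.lift_snd, prod.lift_fst_assoc, prod.lift_snd_assoc]⟩ (PullbackCone.IsLimit.mk _
      (fun z => sq.lift (z.snd ≫ prod.fst) (z.snd ≫ prod.snd) ((key z).1.trans (key z).2.symm))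
      (fun z => ?_) (fun z => ?_) (fun z m _ hm => ?_))
    · rw [sq.lift_fst_assoc]; exact (key z).1
    · apply prod.hom_ext <;> simp [prod.lift_fst, prod.lift_snd, prod.lift_fst_assoc, prod.lift_snd_assoc]
    · apply sq.hom_ext
      · rw [sq.lift_fst, ← hm, Category.assoc, prod.lift_fst]
      · rw [sq.lift_snd, ← hm, Category.assoc, prod.lift_snd]
  · have he : prod.lift ((AlgSp.yon S).map t) ((AlgSp.yon S).map s) =
        (AlgSp.yon S).map (prod.lift t s) ≫ prodComparison (AlgSp.yon S) U U := by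
      apply prod.hom_ext <;> simp [← Functor.map_comp, prod.lift_fst, prod.lift_snd, prod.lift_fst_assoc, prod.lift_snd_assoc]
    rw [he]
    exact (MorphismProperty.cancel_right_of_respectsIso _ _ _).2 ((AlgSp.repWith_yon_map_iff _ _).2 hlft)

/-- The properties of the diagonal of an algebraic space. -/
theorem repWith_diag (F : AlgSp.Sp S) (hF : AlgSp.IsAlgSpace F) (P : MorphismProperty Scheme.{u})
    (hP : ∀ {X Y : Scheme.{u}} (f : X ⟶ Y), LocallyOfFiniteType f → Mono f → P f) :
    AlgSp.RepWith P (Limits.diag F) :=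
  repWith_mono (fun f hf => hP f hf.1 hf.2)
    (repWith_inf (repWith_diag_lft F hF) (repWith_diag_mono F hF.diag))

end Groth.Agent.AlgSp
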