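import Groth.Agent.AlgSp.DescentLqf
import Groth.Agent.AlgSp.Space
import Groth.Agent.AlgSp.Diag

/-!
# Sheaves with an etale surjective map from a scheme are algebraic spaces
-/

universe u

open CategoryTheory CategoryTheory.Limits AlgebraicGeometry Opposite

set_option backward.isDefEq.respectTransparency.types false

namespace Groth.Agent.AlgSp

variable {S : Scheme.{u}}

/-- Separated, locally quasi-finite morphisms locally of finite type satisfy effective descent. -/
theorem repWith_sepLqf_of_baseChange {F G H Q : AlgSp.Sp S} (a : F ⟶ G) (b : H ⟶ G)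
    [Sheaf.IsLocallySurjective b] {b' : Q ⟶ F} {a' : Q ⟶ H} (sq : IsPullback b' a' a b)
    (h : AlgSp.RepWith (@IsSeparated ⊓ @LocallyQuasiFinite ⊓ @LocallyOfFiniteType) a') :
    AlgSp.RepWith (@IsSeparated ⊓ @LocallyQuasiFinite ⊓ @LocallyOfFiniteType) a :=
  repWith_of_effective _ a b sq h fun {U V W} _ _ p _ _ _ {F'} a₀ π w s hw => by
    obtain ⟨⟨h1, h2⟩, h3⟩ := hw
    exact exists_iso_of_fppf_lqf p a₀ π w s

/-- The diagonal pulled back along `p × p` is the kernel pair of `p`. -/
theorem isPullback_diag_prodMap {C : Type*} [Category C] [HasBinaryProducts C] {F U R : C} (p : U ⟶ F)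
    {t s : R ⟶ U} (sq : IsPullback t s p p) :
    IsPullback (t ≫ p) (prod.lift t s) (Limits.diag F) (prod.map p p) := by
  have key : ∀ z : PullbackCone (Limits.diag F) (prod.map p p),
      (z.snd ≫ prod.fst) ≫ p = z.fst ∧ (z.snd ≫ prod.snd) ≫ p = z.fst := by
    intro z
    have h1 := congrArg (· ≫ prod.fst) z.condition
    have h2 := congrArg (· ≫ prod.snd) z.condition
    simp only [Category.assoc, prod.lift_fst, prod.lift_snd, prod.map_fst, prod.map_snd,
      Category.comp_id] at h1 h2 ⊢
    exact ⟨h1.symm, h2.symm⟩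
  refine IsPullback.of_isLimit' ⟨by apply prod.hom_ext <;> simp [sq.w, prod.lift_fst, prod.lift_snd,
    prod.lift_fst_assoc, prod.lift_snd_assoc]⟩ (PullbackCone.IsLimit.mk _
    (fun z => sq.lift (z.snd ≫ prod.fst) (z.snd ≫ prod.snd) ((key z).1.trans (key z).2.symm))
    (fun z => ?_) (fun z => ?_) (fun z m _ hm => ?_))
  · rw [sq.lift_fst_assoc]; exact (key z).1
  · apply prod.hom_ext <;> simp [prod.lift_fst, prod.lift_snd]
  · apply sq.hom_ext
    · rw [sq.lift_fst, ← hm, Category.assoc, prod.lift_fst]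
    · rw [sq.lift_snd, ← hm, Category.assoc, prod.lift_snd]

theorem isLocallySurjective_prodMap {A B A' B' : AlgSp.Sp S} (f : A ⟶ B) (g : A' ⟶ B')
    [Sheaf.IsLocallySurjective f] [Sheaf.IsLocallySurjective g] : Sheaf.IsLocallySurjective (prod.map f g) := by
  refine ⟨fun {U} x => ?_⟩
  refine (AlgSp.J S).superset_covering ?_ ((AlgSp.J S).intersection_covering
    (Presheaf.imageSieve_mem (J := AlgSp.J S) f.hom (yEquiv (yEquiv.symm x ≫ prod.fst)))
    (Presheaf.imageSieve_mem (J := AlgSp.J S) g.hom (yEquiv (yEquiv.symm x ≫ prod.snd))))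
  rintro V k ⟨⟨a, ha⟩, b, hb⟩
  refine ⟨yEquiv (prod.lift (yEquiv.symm a) (yEquiv.symm b)), ?_⟩
  change (prod.map f g).hom.app _ _ = (B ⨯ B').obj.map k.op x
  rw [← yEquiv_comp]
  apply yEquiv.symm.injective
  rw [Equiv.symm_apply_apply, prod.lift_map]
  have hx : yEquiv.symm ((B ⨯ B').obj.map k.op x) = (AlgSp.yon S).map k ≫ yEquiv.symm x := by
    apply yEquiv.injective
    rw [Equiv.apply_symm_apply, yEquiv_map, Equiv.apply_symm_apply]
  rw [hx]
  apply prod.hom_ext
  · rw [prod.lift_fst, Category.assoc]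
    apply yEquiv.injective
    rw [yEquiv_comp, yEquiv_map, Equiv.apply_symm_apply]
    exact ha
  · rw [prod.lift_snd, Category.assoc]
    apply yEquiv.injective
    rw [yEquiv_comp, yEquiv_map, Equiv.apply_symm_apply]
    exact hb

theorem prodLift_map {R U : Over S} (t s : R ⟶ U) :
    prod.lift ((AlgSp.yon S).map t) ((AlgSp.yon S).map s) =
      (AlgSp.yon S).map (prod.lift t s) ≫ prodComparison (AlgSp.yon S) U U := by
  apply prod.hom_ext <;> simp [← Functor.map_comp, prod.lift_fst, prod.lift_snd]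

/-- A sheaf with a locally surjective map from a scheme whose kernel pair is a scheme with etale projection is an
algebraic space, and the map is an atlas. -/
theorem isAlgSpace_of_kernelPair {F : AlgSp.Sp S} {U R : Over S} (p : (AlgSp.yon S).obj U ⟶ F)
    [Sheaf.IsLocallySurjective p] {t s : R ⟶ U}
    (sq : IsPullback ((AlgSp.yon S).map t) ((AlgSp.yon S).map s) p p) (hs : Etale s.left) :
    AlgSp.IsAlgSpace F ∧ AlgSp.RepWith @Etale p ∧ AlgSp.RepWith @Surjective p := by
  obtain ⟨e, -, hes⟩ := sq.exists_lift (𝟙 _) (𝟙 _) rfl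
  obtain ⟨e, rfl⟩ := (AlgSp.yon S).map_surjective e
  have hes : e ≫ s = 𝟙 _ := (AlgSp.yon S).map_injective (by simpa using hes)
  have hmono : Mono (prod.lift t s) := by
    refine ⟨fun a b w => (AlgSp.yon S).map_injective (sq.hom_ext ?_ ?_)⟩
    · rw [← Functor.map_comp, ← Functor.map_comp, ← prod.lift_fst t s, ← Category.assoc, ← Category.assoc, w]
    · rw [← Functor.map_comp, ← Functor.map_comp, ← prod.lift_snd t s, ← Category.assoc, ← Category.assoc, w]
  have hlft : LocallyOfFiniteType (prod.lift t s).left := by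
    have e2 : (prod.lift t s).left ≫ (prod.snd : U ⨯ U ⟶ U).left = s.left := by
      rw [← Over.comp_left, prod.lift_snd]
    have : LocallyOfFiniteType ((prod.lift t s).left ≫ (prod.snd : U ⨯ U ⟶ U).left) := e2 ▸ inferInstance
    exact locallyOfFiniteType_of_comp _ (prod.snd : U ⨯ U ⟶ U).left
  have hP : (@IsSeparated ⊓ @LocallyQuasiFinite ⊓ @LocallyOfFiniteType : MorphismProperty Scheme.{u})
      (prod.lift t s).left := by
    have hm : Mono (prod.lift t s).left := inferInstance
    exact ⟨⟨inferInstance, locallyQuasiFinite_of_mono _ hlft hm⟩, hlft⟩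
  have hd : AlgSp.Representable (Limits.diag F) := by
    have : Sheaf.IsLocallySurjective (prod.map p p) := isLocallySurjective_prodMap p p
    refine (repWith_sepLqf_of_baseChange (Limits.diag F) (prod.map p p)
      (isPullback_diag_prodMap p sq) ?_).1
    rw [prodLift_map]
    exact (MorphismProperty.cancel_right_of_respectsIso _ _ _).2 ((AlgSp.repWith_yon_map_iff _ _).2 hP)
  have hp : AlgSp.Representable p := Functor.relativelyRepresentable.of_diag hd p
  have he := repWith_of_isPullback_of_isLocallySurjective p hp p _ _ sq @Etale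
    ((AlgSp.repWith_yon_map_iff _ _).2 hs)
  have hsu := repWith_of_isPullback_of_isLocallySurjective p hp p _ _ sq @Surjective
    ((AlgSp.repWith_yon_map_iff _ _).2 ⟨fun x => ⟨e.left x, congrArg (fun k : U ⟶ U => k.left x) hes⟩⟩)
  exact ⟨⟨hd, U, p, he, hsu⟩, he, hsu⟩

/-- A sheaf with a representable etale surjective map from a scheme is an algebraic space. -/
theorem isAlgSpace_of_etale_surjective {F : AlgSp.Sp S} {U : Over S} (p : (AlgSp.yon S).obj U ⟶ F)
    (he : AlgSp.RepWith @Etale p) (hs : AlgSp.RepWith @Surjective p) : AlgSp.IsAlgSpace F := by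
  have := isLocallySurjective_of_etale_surjective p he hs
  obtain ⟨R, t, s, sq⟩ := AlgSpB.exists_pullback_yon he.1 p
  exact (isAlgSpace_of_kernelPair p sq (he.2 _ _ _ sq)).1

end Groth.Agent.AlgSp
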