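import Groth.Agent.AlgSp.Basic
import Mathlib.CategoryTheory.Sites.RegularEpi
import Mathlib.CategoryTheory.Limits.Shapes.KernelPair
import Mathlib.CategoryTheory.Limits.Types.Pullbacks

/-!
# Quotient sheaves of equivalence relations
-/

universe u

open CategoryTheory CategoryTheory.Limits AlgebraicGeometry Opposite

set_option backward.isDefEq.respectTransparency.types false

namespace Groth.Agent.AlgSp

variable {S : Scheme.{u}} {R U : Over S} (s t : R ⟶ U) (h : AlgSp.IsEqvRel s t)

/-- The relation on `T`-points. -/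
def relSetoid (T : Over S) : Setoid (T ⟶ U) :=
  ⟨fun a b => ∃ r : T ⟶ R, r ≫ t = a ∧ r ≫ s = b, h.equivalence T⟩

/-- The quotient presheaf `T ↦ U(T)/∼`. -/
def quotPsh : (Over S)ᵒᵖ ⥤ Type (u + 1) where
  obj T := ULift.{u + 1} (Quotient (relSetoid s t h T.unop))
  map {T T'} f := ↾fun x => ⟨Quotient.lift (s := relSetoid s t h T.unop)
    (fun a => Quotient.mk (relSetoid s t h T'.unop) (f.unop ≫ a))
    (fun a b hab => Quotient.sound (s := relSetoid s t h T'.unop)
      (Exists.elim hab fun r hr =>
        ⟨f.unop ≫ r, by rw [Category.assoc, hr.1], by rw [Category.assoc, hr.2]⟩)) x.down⟩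
  map_id T := by
    ext ⟨x⟩
    induction x using Quotient.inductionOn
    simp
  map_comp f g := by
    ext ⟨x⟩
    induction x using Quotient.inductionOn
    simp

/-- The projection to the quotient presheaf. -/
def quotPshπ : yoneda.obj U ⋙ uliftFunctor.{u + 1, u} ⟶ quotPsh s t h where
  app T := ↾fun x => ⟨Quotient.mk (relSetoid s t h T.unop) x.down⟩
  naturality _ _ _ := rfl

theorem quotPshπ_eq_iff {T : (Over S)ᵒᵖ} (a b : T.unop ⟶ U) :
    (quotPshπ s t h).app T ⟨a⟩ = (quotPshπ s t h).app T ⟨b⟩ ↔ ∃ r : T.unop ⟶ R, r ≫ t = a ∧ r ≫ s = b :=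
  ULift.ext_iff.trans Quotient.eq

abbrev pmap {V W : Over S} (g : V ⟶ W) :
    yoneda.obj V ⋙ uliftFunctor.{u + 1, u} ⟶ yoneda.obj W ⋙ uliftFunctor.{u + 1, u} :=
  Functor.whiskerRight (yoneda.map g) uliftFunctor.{u + 1, u}

theorem quotPsh_condition : pmap s ≫ quotPshπ s t h = pmap t ≫ quotPshπ s t h := by
  ext T ⟨r⟩
  exact ((quotPshπ_eq_iff s t h (r ≫ t) (r ≫ s)).2 ⟨r, rfl, rfl⟩).symm

theorem isPullback_quotPsh : IsPullback (pmap t) (pmap s) (quotPshπ s t h) (quotPshπ s t h) := by
  refine IsPullback.of_forall_isPullback_app fun T => (Types.isPullback_iff _ _ _ _).2 ⟨?_, ?_, ?_⟩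
  · exact (congr_app (quotPsh_condition s t h) T).symm
  · rintro ⟨r⟩ ⟨r'⟩ ⟨h1, h2⟩
    exact congrArg ULift.up (h.injective T.unop r r' (congrArg ULift.down h1) (congrArg ULift.down h2))
  · rintro ⟨a⟩ ⟨b⟩ hab
    obtain ⟨r, h1, h2⟩ := (quotPshπ_eq_iff s t h a b).1 hab
    exact ⟨⟨r⟩, congrArg ULift.up h1, congrArg ULift.up h2⟩

/-- The quotient presheaf is the coequalizer in presheaves. -/
noncomputable def isColimitQuotPsh :
    IsColimit (Cofork.ofπ (quotPshπ s t h) (quotPsh_condition s t h)) :=
  Cofork.IsColimit.mk _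
    (fun c =>
      { app := fun T => ↾fun x => Quotient.lift (s := relSetoid s t h T.unop) (fun a => c.π.app T ⟨a⟩)
          (fun a b hab => by
            obtain ⟨r, h1, h2⟩ : ∃ r : T.unop ⟶ R, r ≫ t = a ∧ r ≫ s = b := hab
            have := (ConcreteCategory.congr_hom (congr_app c.condition T) ⟨r⟩).symm
            subst h1 h2
            exact this) x.down
        naturality := fun T T' f => by
          ext ⟨x⟩
          induction x using Quotient.inductionOn with
          | h a => exact ConcreteCategory.congr_hom (c.π.naturality f) ⟨a⟩ })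
    (fun c => by ext T ⟨a⟩; rfl)
    (fun c m hm => by
      ext T ⟨x⟩
      induction x using Quotient.inductionOn with
      | h a => exact ConcreteCategory.congr_hom (congr_app hm T) ⟨a⟩)

/-- The quotient sheaf is an effective quotient: `h_R` is the kernel pair of the quotient map. -/
theorem isPullback_quotπ (h : AlgSp.IsEqvRel s t) :
    IsPullback (QuotSh.repMap Scheme.fppfPrecoverage t) (QuotSh.repMap Scheme.fppfPrecoverage s)
      (QuotSh.quotπ Scheme.fppfPrecoverage s t) (QuotSh.quotπ Scheme.fppfPrecoverage s t) := by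
  let G := presheafToSheaf (AlgSp.J S) (Type (u + 1))
  have sq := (isPullback_quotPsh s t h).map G
  have hc := isColimitCoforkMapOfIsColimit G _ (isColimitQuotPsh s t h)
  let e := (coequalizerIsCoequalizer (G.map (pmap s)) (G.map (pmap t))).coconePointUniqueUpToIso hc
  have he : QuotSh.quotπ Scheme.fppfPrecoverage s t ≫ e.hom = G.map (quotPshπ s t h) :=
    IsColimit.comp_coconePointUniqueUpToIso_hom
      (coequalizerIsCoequalizer (G.map (pmap s)) (G.map (pmap t))) hc WalkingParallelPair.one
  exact IsPullback.of_iso sq (Iso.refl _) (Iso.refl _) (Iso.refl _) e.symm (by simp [G]) (by simp [G])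
    (by simp [← he]) (by simp [← he])

/-- The quotient map is locally surjective. -/
theorem isLocallySurjective_quotπ :
    Sheaf.IsLocallySurjective (QuotSh.quotπ Scheme.fppfPrecoverage s t) :=
  (Sheaf.isLocallySurjective_iff_epi _).2
    (show Epi (coequalizer.π (QuotSh.repMap Scheme.fppfPrecoverage s)
      (QuotSh.repMap Scheme.fppfPrecoverage t)) from inferInstance)

theorem repMap_repIso {V W : Over S} (g : V ⟶ W) :
    (QuotSh.repIsoUliftYoneda Scheme.fppfPrecoverage V).inv ≫ QuotSh.repMap Scheme.fppfPrecoverage g =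
      (AlgSp.yon S).map g ≫ (QuotSh.repIsoUliftYoneda Scheme.fppfPrecoverage W).inv :=
  ((sheafificationNatIso (AlgSp.J S) (Type (u + 1))).hom.naturality ((AlgSp.yon S).map g)).symm

/-- The quotient map on `h_U`. -/
noncomputable abbrev yπ : (AlgSp.yon S).obj U ⟶ QuotSh.quot Scheme.fppfPrecoverage s t :=
  (QuotSh.repIsoUliftYoneda Scheme.fppfPrecoverage U).inv ≫ QuotSh.quotπ Scheme.fppfPrecoverage s t

theorem isLocallySurjective_yπ : Sheaf.IsLocallySurjective (yπ s t) :=
  have := isLocallySurjective_quotπ s t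
  Sheaf.isLocallySurjective_comp _ _

theorem isPullback_yπ (h : AlgSp.IsEqvRel s t) :
    IsPullback ((AlgSp.yon S).map t) ((AlgSp.yon S).map s) (yπ s t) (yπ s t) :=
  IsPullback.of_iso (isPullback_quotπ s t h) (QuotSh.repIsoUliftYoneda Scheme.fppfPrecoverage R)
    (QuotSh.repIsoUliftYoneda Scheme.fppfPrecoverage U) (QuotSh.repIsoUliftYoneda Scheme.fppfPrecoverage U)
    (Iso.refl _)
    (by rw [← cancel_mono (QuotSh.repIsoUliftYoneda Scheme.fppfPrecoverage U).inv, Category.assoc,
      Category.assoc, ← repMap_repIso]; simp)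
    (by rw [← cancel_mono (QuotSh.repIsoUliftYoneda Scheme.fppfPrecoverage U).inv, Category.assoc,
      Category.assoc, ← repMap_repIso]; simp)
    (by simp [yπ]) (by simp [yπ])

/-- A locally surjective map of sheaves is the coequalizer of its kernel pair. -/
theorem isColimit_of_isPullback {F G W : AlgSp.Sp S} (p : F ⟶ G) [Sheaf.IsLocallySurjective p]
    {a b : W ⟶ F} (sq : IsPullback a b p p) : Nonempty (IsColimit (Cofork.ofπ p sq.w)) := by
  have : Epi p := Sheaf.epi_of_isLocallySurjective p
  have : IsRegularEpi p := IsRegularEpiCategory.regularEpiOfEpi p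
  exact ⟨(show IsKernelPair p a b from sq).toCoequalizer'⟩

end Groth.Agent.AlgSp
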