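import Groth.Agent.AlgSp.DescentRep
import Groth.Agent.AlgSp.Quot
import Groth.Agent.AlgSp.DescentSepLqf

/-!
# Restriction of an equivalence relation
-/

universe u

open CategoryTheory CategoryTheory.Limits AlgebraicGeometry Opposite

set_option backward.isDefEq.respectTransparency.types false

namespace Groth.Agent.AlgSp

variable {S : Scheme.{u}} {R U R' U' : Over S} {s t : R ⟶ U} {g : U' ⟶ U} {s' t' : R' ⟶ U'} {r : R' ⟶ R}

theorem restrict_rel (hsq : IsPullback (prod.lift t' s') r (prod.map g g) (prod.lift t s))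
    (T : Over S) (a b : T ⟶ U') :
    (∃ x : T ⟶ R', x ≫ t' = a ∧ x ≫ s' = b) ↔ ∃ y : T ⟶ R, y ≫ t = a ≫ g ∧ y ≫ s = b ≫ g := by
  have h1 : t' ≫ g = r ≫ t := by
    have := congrArg (· ≫ prod.fst) hsq.w
    simpa [prod.lift_fst, prod.lift_fst_assoc, prod.map_fst] using this
  have h2 : s' ≫ g = r ≫ s := by
    have := congrArg (· ≫ prod.snd) hsq.w
    simpa [prod.lift_snd, prod.lift_snd_assoc, prod.map_snd] using this
  constructor
  · rintro ⟨x, rfl, rfl⟩
    exact ⟨x ≫ r, by rw [Category.assoc, ← h1, Category.assoc], by rw [Category.assoc, ← h2, Category.assoc]⟩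
  · rintro ⟨y, hy1, hy2⟩
    obtain ⟨x, hx, -⟩ := hsq.exists_lift (prod.lift a b) y (by
      apply prod.hom_ext <;> simp [prod.lift_fst, prod.lift_snd, hy1, hy2])
    exact ⟨x, by simpa [prod.lift_fst] using congrArg (· ≫ prod.fst) hx,
      by simpa [prod.lift_snd] using congrArg (· ≫ prod.snd) hx⟩

theorem restrict_isEqvRel (hsq : IsPullback (prod.lift t' s') r (prod.map g g) (prod.lift t s))
    (hR : AlgSp.IsEqvRel s t) : AlgSp.IsEqvRel s' t' where
  injective T x x' h1 h2 := by
    have e : ∀ z : T ⟶ R', (z ≫ r) ≫ t = (z ≫ t') ≫ g ∧ (z ≫ r) ≫ s = (z ≫ s') ≫ g := fun z => by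
      have := congrArg (z ≫ ·) hsq.w
      exact ⟨by simpa [prod.lift_fst, prod.lift_fst_assoc, prod.map_fst] using (congrArg (· ≫ prod.fst) this).symm,
        by simpa [prod.lift_snd, prod.lift_snd_assoc, prod.map_snd] using (congrArg (· ≫ prod.snd) this).symm⟩
    apply hsq.hom_ext
    · apply prod.hom_ext <;> simp [prod.lift_fst, prod.lift_snd, h1, h2]
    · exact hR.injective T _ _ (by rw [(e x).1, (e x').1, h1]) (by rw [(e x).2, (e x').2, h2])
  equivalence T := by
    constructor
    · exact fun a => (restrict_rel hsq T a a).2 ((hR.equivalence T).refl _)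
    · exact fun {a b} h => (restrict_rel hsq T b a).2 ((hR.equivalence T).symm ((restrict_rel hsq T a b).1 h))
    · exact fun {a b c} h h' => (restrict_rel hsq T a c).2
        ((hR.equivalence T).trans ((restrict_rel hsq T a b).1 h) ((restrict_rel hsq T b c).1 h'))

/-- The map of quotients induced by a flat lfp map is an open immersion. -/
theorem repWith_isOpenImmersion_quot_restrict
    (hsq : IsPullback (prod.lift t' s') r (prod.map g g) (prod.lift t s)) (hR : AlgSp.IsEqvRel s t)
    [Surjective s.left] [Flat s.left] [LocallyOfFinitePresentation s.left] [Flat g.left]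
    [LocallyOfFinitePresentation g.left]
    (φ : QuotSh.quot Scheme.fppfPrecoverage s' t' ⟶ QuotSh.quot Scheme.fppfPrecoverage s t)
    (hφ : yπ s' t' ≫ φ = (AlgSp.yon S).map g ≫ yπ s t) : AlgSp.RepWith @IsOpenImmersion φ := by
  have sqR := isPullback_yπ s t hR
  have sqR' := isPullback_yπ s' t' (restrict_isEqvRel hsq hR)
  have := isLocallySurjective_yπ s t
  have := isLocallySurjective_yπ s' t'
  have hmono : Mono φ := by
    refine mono_of_yon φ fun T a b hab => ?_
    have := isLocallySurjective_prodMap (yπ s' t') (yπ s' t')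
    obtain ⟨P, hP, hl⟩ := exists_cover_lift (prod.map (yπ s' t') (yπ s' t')) (prod.lift a b)
    apply yEquiv.injective
    refine (((isSheaf_iff_isSheaf_of_type _ _).1 (QuotSh.quot Scheme.fppfPrecoverage s' t').property).isSeparated
      _ (mem_of_cover (T := Sieve.generate (fun W q => (AlgSp.yon S).map q ≫ a = (AlgSp.yon S).map q ≫ b)) hP
        fun W k hk => ?_)).ext fun W q hq => ?_
    · obtain ⟨h, hh⟩ := hl k hk
      obtain ⟨u₀, hu₀⟩ := (AlgSp.yon S).map_surjective (h ≫ prod.fst)
      obtain ⟨v₀, hv₀⟩ := (AlgSp.yon S).map_surjective (h ≫ prod.snd)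
      have ha : (AlgSp.yon S).map u₀ ≫ yπ s' t' =
          (AlgSp.yon S).map (Over.homMk k rfl : Over.mk (k ≫ T.hom) ⟶ T) ≫ a := by
        rw [hu₀, Category.assoc, ← prod.map_fst (yπ s' t') (yπ s' t'), ← Category.assoc, hh, Category.assoc,
          prod.lift_fst]
      have hb : (AlgSp.yon S).map v₀ ≫ yπ s' t' =
          (AlgSp.yon S).map (Over.homMk k rfl : Over.mk (k ≫ T.hom) ⟶ T) ≫ b := by
        rw [hv₀, Category.assoc, ← prod.map_snd (yπ s' t') (yπ s' t'), ← Category.assoc, hh, Category.assoc,
          prod.lift_snd]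
      refine Sieve.le_generate _ _ _ ?_
      change _ = _
      rw [← ha, ← hb]
      obtain ⟨y, hy1, hy2⟩ := sqR.exists_lift ((AlgSp.yon S).map (u₀ ≫ g)) ((AlgSp.yon S).map (v₀ ≫ g)) (by
        rw [Functor.map_comp, Functor.map_comp, Category.assoc, Category.assoc, ← hφ, ← Category.assoc, ha,
          ← Category.assoc, hb, Category.assoc, Category.assoc, hab])
      obtain ⟨y, rfl⟩ := (AlgSp.yon S).map_surjective y
      obtain ⟨x, hx1, hx2⟩ := (restrict_rel hsq _ u₀ v₀).2 ⟨y, (AlgSp.yon S).map_injective (by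
        rw [Functor.map_comp, hy1]), (AlgSp.yon S).map_injective (by rw [Functor.map_comp, hy2])⟩
      rw [← hx1, ← hx2, Functor.map_comp, Functor.map_comp, Category.assoc, Category.assoc, sqR'.w]
    · obtain ⟨Z, e, q', hq', rfl⟩ := hq
      rw [← yEquiv_map, ← yEquiv_map, Functor.map_comp, Category.assoc, Category.assoc, hq']
  -- the open subscheme
  let Z := pullback g t
  let v : Z ⟶ U := pullback.snd g t ≫ s
  have hfst : ∀ (P : MorphismProperty Scheme.{u}) [P.IsStableUnderBaseChange], P g.left → P (pullback.snd g t).left :=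
    fun P _ hP => P.of_isPullback ((IsPullback.of_hasPullback g t).map (Over.forget S)) hP
  have : Flat v.left := by
    have := hfst @Flat inferInstance
    exact inferInstanceAs (Flat (_ ≫ s.left))
  have : LocallyOfFinitePresentation v.left := by
    have := hfst @LocallyOfFinitePresentation inferInstance
    exact inferInstanceAs (LocallyOfFinitePresentation (_ ≫ s.left))
  let O : U.left.Opens := ⟨Set.range v.left, v.left.isOpenMap.isOpen_range⟩
  have hvφ : ((AlgSp.yon S).map (pullback.fst g t) ≫ yπ s' t') ≫ φ = (AlgSp.yon S).map v ≫ yπ s t := by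
    rw [Category.assoc, hφ, ← Functor.map_comp_assoc, pullback.condition, Functor.map_comp_assoc,
      Functor.map_comp_assoc, sqR.w]
  let π := pullback.snd (pullback.snd φ (yπ s t)) ((AlgSp.yon S).map (openι U O))
  have hπ : Sheaf.IsLocallySurjective π := by
    refine isLocallySurjective_of_fppf_lift π fun T x => ?_
    obtain ⟨x, rfl⟩ := (AlgSp.yon S).map_surjective x
    let vO : Z ⟶ openOver U O := Over.homMk (IsOpenImmersion.lift O.ι v.left
      (by rw [Scheme.Opens.range_ι]; exact subset_rfl)) (by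
      change _ ≫ O.ι ≫ U.hom = _
      rw [IsOpenImmersion.lift_fac_assoc, Over.w v])
    have hvO : vO ≫ openι U O = v := Over.OverMorphism.ext (IsOpenImmersion.lift_fac _ _ _)
    have hvι : vO.left ≫ O.ι = v.left := IsOpenImmersion.lift_fac _ _ _
    have : Flat vO.left :=
      MorphismProperty.of_postcomp @Flat (W' := @IsOpenImmersion) vO.left O.ι inferInstance (hvι ▸ inferInstance)
    have : LocallyOfFinitePresentation vO.left := MorphismProperty.of_postcomp @LocallyOfFinitePresentation
      (W' := @IsOpenImmersion) vO.left O.ι inferInstance (hvι ▸ inferInstance)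
    have : Surjective vO.left := ⟨fun y => by
      obtain ⟨z, hz⟩ := y.2
      exact ⟨z, O.ι.injective ((congrArg (fun k : Z.left ⟶ U.left => k z) hvι).trans hz)⟩⟩
    have sq := (IsPullback.of_hasPullback x vO).map (Over.forget S)
    refine ⟨pullback x vO, pullback.fst x vO, pullback.lift (pullback.lift
      ((AlgSp.yon S).map (pullback.snd x vO) ≫ (AlgSp.yon S).map (pullback.fst g t) ≫ yπ s' t')
      ((AlgSp.yon S).map (pullback.snd x vO ≫ v)) (by
        simp only [Functor.map_comp, Category.assoc] at hvφ ⊢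
        rw [hvφ]))
      ((AlgSp.yon S).map (pullback.fst x vO ≫ x)) (by
        rw [pullback.lift_snd, ← Functor.map_comp, ← hvO, ← pullback.condition_assoc, Category.assoc]),
      MorphismProperty.of_isPullback sq.flip (inferInstanceAs (Flat vO.left)),
      MorphismProperty.of_isPullback sq.flip (inferInstanceAs (Surjective vO.left)),
      MorphismProperty.of_isPullback sq.flip (inferInstanceAs (LocallyOfFinitePresentation vO.left)), ?_⟩
    rw [pullback.lift_snd, Functor.map_comp]
  have : Epi π := Sheaf.epi_of_isLocallySurjective π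
  have : IsIso π := isIso_of_mono_of_epi π
  let θ := inv π ≫ pullback.fst (pullback.snd φ (yπ s t)) ((AlgSp.yon S).map (openι U O))
  have hθ : θ ≫ pullback.snd φ (yπ s t) = (AlgSp.yon S).map (openι U O) := by
    simp [θ, π, pullback.condition]
  have : IsIso θ := by
    refine isIso_of_yon θ fun T x => ?_
    obtain ⟨β, hβ⟩ := (AlgSp.yon S).map_surjective (x ≫ pullback.snd φ (yπ s t))
    have hmem : ∀ w, β.left w ∈ O := fun w => by
      obtain ⟨P, hP, hl⟩ := exists_cover_lift (yπ s' t') (x ≫ pullback.fst φ (yπ s t))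
      obtain ⟨ι, X, k, rfl⟩ := P.exists_eq_ofArrows
      obtain ⟨hs, -⟩ := (Scheme.ofArrows_mem_precoverage_iff _).1 hP
      obtain ⟨i, w, rfl⟩ := hs w
      obtain ⟨h, hh⟩ := hl (k i) (Presieve.ofArrows.mk i)
      obtain ⟨a, rfl⟩ := (AlgSp.yon S).map_surjective h
      let q : Over.mk (k i ≫ T.hom) ⟶ T := Over.homMk (k i) rfl
      obtain ⟨y, hy1, hy2⟩ := sqR.exists_lift ((AlgSp.yon S).map (a ≫ g)) ((AlgSp.yon S).map (q ≫ β)) (by
        rw [Functor.map_comp, Functor.map_comp, Category.assoc, Category.assoc, ← hφ, ← Category.assoc, hh, hβ,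
          Category.assoc, Category.assoc, Category.assoc, pullback.condition])
      obtain ⟨y, rfl⟩ := (AlgSp.yon S).map_surjective y
      have hy1 : y ≫ t = a ≫ g := (AlgSp.yon S).map_injective (by rw [Functor.map_comp, hy1])
      have hy2 : y ≫ s = q ≫ β := (AlgSp.yon S).map_injective (by rw [Functor.map_comp, hy2])
      have e : pullback.lift a y hy1.symm ≫ v = q ≫ β := by rw [pullback.lift_snd_assoc, hy2]
      exact ⟨(pullback.lift a y hy1.symm).left w, congrArg (fun f : Over.mk (k i ≫ T.hom) ⟶ U => f.left w) e⟩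
    let y : T ⟶ openOver U O := Over.homMk (IsOpenImmersion.lift O.ι β.left
      (by rw [Scheme.Opens.range_ι]; exact Set.range_subset_iff.2 hmem)) (by
      change _ ≫ O.ι ≫ U.hom = _
      rw [IsOpenImmersion.lift_fac_assoc, Over.w β])
    have hy : y ≫ openι U O = β := Over.OverMorphism.ext (IsOpenImmersion.lift_fac _ _ _)
    refine ⟨y, ?_, fun y' hy' => ?_⟩
    · beta_reduce
      rw [← cancel_mono (pullback.snd φ (yπ s t)), Category.assoc, hθ, ← Functor.map_comp, hy, hβ]
    · have : Mono (openι U O) := (Over.forget S).mono_of_mono_map (inferInstanceAs (Mono O.ι))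
      rw [← cancel_mono (openι U O), hy]
      apply (AlgSp.yon S).map_injective
      rw [hβ, ← hy', Category.assoc, hθ, Functor.map_comp]
  refine repWith_isOpenImmersion_of_baseChange φ (yπ s t) (IsPullback.of_hasPullback _ _) ?_
  rw [← MorphismProperty.cancel_left_of_respectsIso (AlgSp.RepWith @IsOpenImmersion) θ, hθ, AlgSp.repWith_yon_map_iff]
  exact inferInstanceAs (IsOpenImmersion O.ι)

end Groth.Agent.AlgSp
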