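import Groth.Agent.AlgSp.Codim0
import Groth.Agent.FlatMor.GenericPts
import Mathlib.AlgebraicGeometry.ZariskisMainTheorem

/-!
# Scheme lemmas on finiteness over dense opens
-/

universe u

open CategoryTheory CategoryTheory.Limits AlgebraicGeometry Opposite Topology

set_option backward.isDefEq.respectTransparency.types false

namespace Groth.Agent.AlgSp

/-- Generic points are detected on open subschemes. -/
theorem generic_open_iff {R A : Scheme.{u}} (i : R ⟶ A) [IsOpenImmersion i] (z : ↥R) :
    closure {z} ∈ irreducibleComponents (R : Type u) ↔ closure {i z} ∈ irreducibleComponents (A : Type u) := by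
  rw [← stalkDim_zero_iff, ← stalkDim_zero_iff, Groth.Agent.AlgSpD.ringKrullDim_stalk_eq i z]

/-- Finitely many generic points give finitely many components. -/
theorem finite_irreducibleComponents_of_generic {V : Scheme.{u}}
    (h : {v : ↥V | closure {v} ∈ irreducibleComponents (V : Type u)}.Finite) :
    (irreducibleComponents (V : Type u)).Finite :=
  (h.image fun v => closure {v}).subset fun Z hZ => by
    obtain ⟨η, hη⟩ := QuasiSober.sober hZ.1 (isClosed_of_mem_irreducibleComponents Z hZ)
    exact ⟨η, by simpa [hη.def] using hZ, hη.def⟩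

/-- Finitely many components give finitely many generic points. -/
theorem finite_generic_of_irreducibleComponents {V : Scheme.{u}}
    (h : (irreducibleComponents (V : Type u)).Finite) :
    {v : ↥V | closure {v} ∈ irreducibleComponents (V : Type u)}.Finite :=
  Set.Finite.of_finite_image (f := fun v => closure ({v} : Set ↥V))
    (h.subset (by rintro _ ⟨v, hv, rfl⟩; exact hv))
    (fun a _ b _ e => (inseparable_iff_closure_eq.2 e).eq)

/-- A dense open contains every generic point. -/
theorem generic_mem_of_dense {V : Scheme.{u}} (O : V.Opens) (hO : Dense (O : Set ↥V)) {v : ↥V}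
    (hv : closure {v} ∈ irreducibleComponents (V : Type u))
    (hfin : (irreducibleComponents (V : Type u)).Finite) : v ∈ O := by
  let C := ⋃ Z ∈ irreducibleComponents (V : Type u) \ {closure {v}}, Z
  have hC : IsClosed C :=
    (hfin.subset Set.sdiff_subset).isClosed_biUnion fun Z hZ => isClosed_of_mem_irreducibleComponents Z hZ.1
  have hvC : v ∈ Cᶜ := by
    simp only [C, Set.mem_compl_iff, Set.mem_iUnion, not_exists]
    intro Z hZ hvZ
    exact hZ.2 ((hv.eq_of_le hZ.1.1
      (closure_minimal (Set.singleton_subset_iff.2 hvZ) (isClosed_of_mem_irreducibleComponents Z hZ.1))).symm)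
  obtain ⟨x, hxC, hxO⟩ := (dense_iff_inter_open.1 hO) _ hC.isOpen_compl ⟨v, hvC⟩
  obtain ⟨Z, hZ, hxZ⟩ := Set.mem_sUnion.1 ((sUnion_irreducibleComponents (X := (V : Type u))).ge (Set.mem_univ x))
  have e : Z = closure {v} := by
    by_contra e
    exact hxC (Set.mem_iUnion₂.2 ⟨Z, ⟨hZ, e⟩, hxZ⟩)
  exact (specializes_iff_mem_closure.2 (e ▸ hxZ)).mem_open O.2 hxO

/-- Finiteness passes to smaller open subschemes of the base. -/
theorem isFinite_of_restrict_le {Z Z' V : Scheme.{u}} (g : Z ⟶ V) (O : V.Opens) (g' : Z' ⟶ O.toScheme)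
    (i : Z' ⟶ Z) (V' : V.Opens) (hle : O ≤ V') (hfin : IsFinite (g ∣_ V'))
    (hs : IsPullback i g' g O.ι) : IsFinite g' := by
  have h1 : IsPullback (g ⁻¹ᵁ V').ι (g ∣_ V') g V'.ι := (isPullback_morphismRestrict g V').flip
  let k := V.homOfLE hle
  have hk : k ≫ V'.ι = O.ι := V.homOfLE_ι hle
  let l := h1.lift i (g' ≫ k) (by rw [Category.assoc, hk, hs.w])
  have h2 : IsPullback l g' (g ∣_ V') k :=
    IsPullback.of_right (h₁₂ := (g ⁻¹ᵁ V').ι) (h₂₂ := V'.ι) (v₁₃ := g)
      (by rw [h1.lift_fst, hk]; exact hs) (h1.lift_snd _ _ _) h1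
  exact MorphismProperty.of_isPullback h2 hfin

/-- If a morphism is finite near a point, the self fibre product has finite fibre over it. -/
theorem finite_fibre_pullback {U V : Scheme.{u}} (h : U ⟶ V) [IsAffine V] (v : ↥V) (O₁ : V.Opens)
    (hv : v ∈ O₁) (hfin : IsFinite (h ∣_ O₁)) :
    ((pullback.fst h h ≫ h) ⁻¹' {v}).Finite := by
  obtain ⟨O, hO, hvO, hle⟩ := exists_isAffineOpen_mem_and_subset hv
  have : IsAffine O.toScheme := hO
  have : IsFinite (h ∣_ O) := isFinite_of_restrict_le h O (h ∣_ O) (h ⁻¹ᵁ O).ι O₁ hle hfin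
    (isPullback_morphismRestrict h O).flip
  have : IsAffineHom O.ι := isAffineHom_of_isAffine _
  let g := (h ⁻¹ᵁ O).ι ≫ h
  have hg : (h ∣_ O) ≫ O.ι = g := morphismRestrict_ι h O
  have : LocallyQuasiFinite g := by rw [← hg]; infer_instance
  have : QuasiCompact g := by rw [← hg]; infer_instance
  let m : pullback g g ⟶ pullback h h :=
    pullback.map g g h h (h ⁻¹ᵁ O).ι (h ⁻¹ᵁ O).ι (𝟙 _) (by simp [g]) (by simp [g])
  refine (((pullback.fst g g ≫ g).finite_preimage_singleton v).image m).subset fun z hz => ?_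
  have hz1 : h (pullback.fst h h z) = v := hz
  have hz2 : h (pullback.snd h h z) = v := by
    rw [← Scheme.Hom.comp_apply, ← pullback.condition]; exact hz
  have hm : IsOpenImmersion m := inferInstance
  have hr : z ∈ Set.range m := by
    rw [Scheme.Pullback.range_map]
    exact ⟨⟨⟨_, show h (pullback.fst h h z) ∈ O by rw [hz1]; exact hvO⟩, rfl⟩,
      ⟨⟨_, show h (pullback.snd h h z) ∈ O by rw [hz2]; exact hvO⟩, rfl⟩⟩
  obtain ⟨w, rfl⟩ := hr
  refine ⟨w, ?_, rfl⟩
  have e : (m ≫ pullback.fst h h ≫ h) = pullback.fst g g ≫ g := by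
    simp only [m, g, pullback.lift_fst_assoc, Category.assoc]
  show (pullback.fst g g ≫ g) w = v
  rw [← e]
  exact hz

/-- An open subscheme containing all generic points and finite over the base is everything. -/
theorem isFinite_of_generic_open {R R₀ B : Scheme.{u}} (i : R₀ ⟶ R) [IsOpenImmersion i] (r : R ⟶ B)
    [IsSeparated r] (hfin : IsFinite (i ≫ r))
    (hgen : ∀ z : ↥R, closure {z} ∈ irreducibleComponents (R : Type u) → z ∈ Set.range i) : IsFinite r := by
  have : IsFinite i := IsFinite.of_comp i r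
  have hs : Surjective i := ⟨fun z => by
    obtain ⟨η, hη, hηz⟩ := Groth.Agent.FlatMor.GenericPts.exists_generic_specializes z
    exact hηz.mem_closed i.isClosedMap.isClosed_range (hgen η hη)⟩
  have : IsIso i := (isIso_iff_isOpenImmersion_and_surjective i).2 ⟨inferInstance, hs⟩
  exact (MorphismProperty.cancel_left_of_respectsIso @IsFinite i r).1 hfin

end Groth.Agent.AlgSp
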