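import Groth.Agent.AlgSp.DescentImm
import Groth.Agent.AlgSp.Space
import Groth.Agent.AlgSpB.Diag

/-!
# Affine morphisms, immersions: testing on affine schemes and descent
-/

universe u

open CategoryTheory CategoryTheory.Limits AlgebraicGeometry Opposite

set_option backward.isDefEq.respectTransparency.types false

namespace Groth.Agent.AlgSp

variable {S : Scheme.{u}}

theorem repWith_isClosedImmersion_of_baseChange {F G H Q : AlgSp.Sp S} (a : F ⟶ G) (b : H ⟶ G)
    [Sheaf.IsLocallySurjective b] {b' : Q ⟶ F} {a' : Q ⟶ H} (sq : IsPullback b' a' a b)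
    (h : AlgSp.RepWith @IsClosedImmersion a') : AlgSp.RepWith @IsClosedImmersion a :=
  repWith_of_isPullback_of_isLocallySurjective a (repWith_isAffineHom_of_baseChange a b sq
    (repWith_mono (Q := @IsAffineHom) (fun g hg => have : IsClosedImmersion g := hg; inferInstance) h)).1
    b _ _ sq @IsClosedImmersion h

/-- A map to a scheme which is representable over every affine open is representable. -/
theorem repWith_of_affineOpens {P : MorphismProperty Scheme.{u}} [P.IsStableUnderBaseChange]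
    [IsZariskiLocalAtTarget P] {U : Over S} {F : AlgSp.Sp S} (a : F ⟶ (AlgSp.yon S).obj U)
    (h : ∀ V : U.left.affineOpens, ∃ (F₀ : AlgSp.Sp S) (π : F₀ ⟶ F) (a' : F₀ ⟶ (AlgSp.yon S).obj (openOver U V.1)),
      IsPullback π a' a ((AlgSp.yon S).map (openι U V.1)) ∧ AlgSp.RepWith P a') :
    AlgSp.RepWith P a := by
  obtain ⟨X, ⟨e⟩⟩ := exists_iso_of_affineOpens a fun V => by
    obtain ⟨F₀, π, a', sq, ha'⟩ := h V
    obtain ⟨W, w, fst, sW⟩ := ha'.1 (𝟙 _)
    exact ⟨W, fst ≫ π, w, by simpa using sW.paste_horiz sq⟩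
  obtain ⟨x, hx⟩ := (AlgSp.yon S).map_surjective (e.hom ≫ a)
  have ea : a = e.inv ≫ (AlgSp.yon S).map x := by rw [hx, e.inv_hom_id_assoc]
  rw [ea, MorphismProperty.cancel_left_of_respectsIso (AlgSp.RepWith P), AlgSp.repWith_yon_map_iff]
  have : P.RespectsIso := MorphismProperty.IsStableUnderBaseChange.respectsIso
  rw [IsZariskiLocalAtTarget.iff_of_iSup_eq_top (P := P) (fun V : U.left.affineOpens => V.1)
    (iSup_affineOpens_eq_top _)]
  intro V
  obtain ⟨F₀, π, a', sq, ha'⟩ := h V
  let XV := openOver X (x.left ⁻¹ᵁ V.1)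
  let r : XV ⟶ openOver U V.1 := Over.homMk (x.left ∣_ V.1) (by
    change (x.left ∣_ V.1) ≫ V.1.ι ≫ U.hom = (x.left ⁻¹ᵁ V.1).ι ≫ X.hom
    rw [morphismRestrict_ι_assoc, Over.w x])
  have s1 : IsPullback (openι X _) r x (openι U V.1) :=
    IsPullback.of_map (Over.forget S) (Over.OverMorphism.ext (morphismRestrict_ι _ _).symm)
      (isPullback_morphismRestrict x.left V.1).flip
  have s2 : IsPullback ((AlgSp.yon S).map (openι X _) ≫ e.hom) ((AlgSp.yon S).map r) a
      ((AlgSp.yon S).map (openι U V.1)) :=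
    IsPullback.of_iso (s1.map (AlgSp.yon S)) (Iso.refl _) e (Iso.refl _) (Iso.refl _) (by simp) (by simp)
      (by simp [hx]) (by simp)
  have hr : AlgSp.RepWith P ((AlgSp.yon S).map r) := by
    rw [← s2.isoIsPullback_hom_snd _ _ sq]
    exact (MorphismProperty.cancel_left_of_respectsIso _ _ _).2 ha'
  exact (AlgSp.repWith_yon_map_iff _ _).1 hr

/-- A map of sheaves which is representable with `P` over every affine scheme is representable with `P`. -/
theorem repWith_of_affine_baseChange {P : MorphismProperty Scheme.{u}} [P.IsStableUnderBaseChange]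
    [IsZariskiLocalAtTarget P] {F G : AlgSp.Sp S} (a : F ⟶ G)
    (h : ∀ (Z : Over S), IsAffine Z.left → ∀ (g : (AlgSp.yon S).obj Z ⟶ G) (Q : AlgSp.Sp S)
      (fst : Q ⟶ F) (snd : Q ⟶ (AlgSp.yon S).obj Z), IsPullback fst snd a g → AlgSp.RepWith P snd) :
    AlgSp.RepWith P a := by
  have hU : ∀ (U : Over S) (g : (AlgSp.yon S).obj U ⟶ G), AlgSp.RepWith P (pullback.snd a g) := fun U g =>
    repWith_of_affineOpens _ fun V => ⟨_, _, _, IsPullback.of_hasPullback _ _,
      h (openOver U V.1) V.2 _ _ _ _ ((IsPullback.of_hasPullback (pullback.snd a g) ((AlgSp.yon S).map (openι U V.1))).paste_horiz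
        (IsPullback.of_hasPullback a g))⟩
  refine ⟨fun U g => ?_, fun U V g fst snd sq => ?_⟩
  · obtain ⟨W, w, fst, sW⟩ := (hU U g).1 (𝟙 _)
    exact ⟨W, w, fst ≫ pullback.fst a g, by simpa using sW.paste_horiz (IsPullback.of_hasPullback a g)⟩
  · have e := IsPullback.isoIsPullback_hom_snd _ _ sq (IsPullback.of_hasPullback a g)
    refine (AlgSp.repWith_yon_map_iff P snd).1 ?_
    rw [← e]
    exact (MorphismProperty.cancel_left_of_respectsIso _ _ _).2 (hU U g)

/-- Affine morphisms of sheaves are representable by affine morphisms, and conversely. -/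
theorem isAffineMor_iff {F G : AlgSp.Sp S} (a : F ⟶ G) :
    AlgSp.IsAffineMor a ↔ AlgSp.RepWith @IsAffineHom a := by
  constructor
  · refine fun h => repWith_of_affine_baseChange a fun Z hZ g Q fst snd sq => ?_
    obtain ⟨W, i, fst', sW, hW⟩ := h hZ g
    rw [← sq.isoIsPullback_hom_snd _ _ sW]
    refine (MorphismProperty.cancel_left_of_respectsIso _ _ _).2 ((AlgSp.repWith_yon_map_iff _ i).2 ?_)
    exact isAffineHom_of_isAffine i.left
  · intro h Z hZ g
    have : IsAffineHom (h.1.snd g).left := h.2 _ _ _ (h.1.isPullback g)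
    exact ⟨h.1.pullback g, h.1.snd g, h.1.fst g, h.1.isPullback g, isAffine_of_isAffineHom (h.1.snd g).left⟩

/-- Affineness only has to be tested on affine schemes etale over the target. -/
theorem isAffineMor_of_etale_affine {X Y : AlgSp.Sp S} (hY : AlgSp.IsAlgSpace Y) (f : X ⟶ Y)
    (h : ∀ (V : Over S), IsAffine V.left → ∀ (b : (AlgSp.yon S).obj V ⟶ Y), AlgSp.RepWith @Etale b →
      ∀ (P : AlgSp.Sp S) (fst : P ⟶ X) (snd : P ⟶ (AlgSp.yon S).obj V), IsPullback fst snd f b →
      ∃ (W : Over S), IsAffine W.left ∧ Nonempty ((AlgSp.yon S).obj W ≅ P)) :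
    AlgSp.IsAffineMor f := by
  obtain ⟨U, p, hpe, hps⟩ := hY.atlas
  have := isLocallySurjective_of_etale_surjective p hpe hps
  refine (isAffineMor_iff f).2 (repWith_isAffineHom_of_baseChange f p (IsPullback.of_hasPullback f p) ?_)
  refine repWith_of_affineOpens _ fun V => ?_
  have sq := IsPullback.of_hasPullback (pullback.snd f p) ((AlgSp.yon S).map (openι U V.1))
  refine ⟨_, _, _, sq, ?_⟩
  have hb : AlgSp.RepWith @Etale ((AlgSp.yon S).map (openι U V.1) ≫ p) :=
    (AlgSp.RepWith _).comp_mem _ _ ((AlgSp.repWith_yon_map_iff _ _).2 (inferInstanceAs (Etale V.1.ι))) hpe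
  obtain ⟨W, hW, ⟨e⟩⟩ := h (openOver U V.1) V.2 _ hb _ _ _ (sq.paste_horiz (IsPullback.of_hasPullback f p))
  obtain ⟨w, hw⟩ := (AlgSp.yon S).map_surjective (e.hom ≫ pullback.snd (pullback.snd f p) ((AlgSp.yon S).map (openι U V.1)))
  have : IsAffine (openOver U V.1).left := V.2
  refine (MorphismProperty.cancel_left_of_respectsIso (AlgSp.RepWith @IsAffineHom) e.hom _).1 ?_
  rw [← hw, AlgSp.repWith_yon_map_iff]
  exact isAffineHom_of_isAffine w.left

theorem isAffineMor_over_base {X Y B : AlgSp.Sp S} (g : X ⟶ Y) (q : Y ⟶ B) (hp : AlgSp.IsAffineMor (g ≫ q))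
    (hd : AlgSp.RepWith @IsAffineHom (pullback.diagonal q)) : AlgSp.IsAffineMor g := by
  have e : g = pullback.lift (𝟙 X) g (by simp) ≫ pullback.snd (g ≫ q) q := by rw [pullback.lift_snd]
  have h1 : AlgSp.RepWith @IsAffineHom (pullback.lift (𝟙 X) g (by simp) : X ⟶ pullback (g ≫ q) q) :=
    MorphismProperty.of_isPullback (pullback_lift_diagonal_isPullback g q) hd
  rw [isAffineMor_iff, e]
  exact (AlgSp.RepWith _).comp_mem _ _ h1 (MorphismProperty.pullback_snd _ _ ((isAffineMor_iff _).1 hp))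

end Groth.Agent.AlgSp
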