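import Mathlib.RingTheory.Unramified.LocalStructure
import Mathlib.AlgebraicGeometry.Morphisms.Etale

/-!
Lifting etale algebras and etale charts along a surjection `A → A ⧸ I`.
-/

universe u

open AlgebraicGeometry CategoryTheory Polynomial

namespace Groth.Agent.AlgSp.InfRing

variable {A : Type u} [CommRing A] (I : Ideal A)

/-- A standard etale algebra over `A ⧸ I` is the reduction of a standard etale algebra over `A`. -/
theorem exists_standardEtale_lift {B : Type u} [CommRing B] [Algebra (A ⧸ I) B] [Algebra A B]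
    [IsScalarTower A (A ⧸ I) B] [Algebra.IsStandardEtale (A ⧸ I) B] :
    ∃ (P : StandardEtalePair A) (ψ : P.Ring →ₐ[A] B),
      Function.Surjective ψ ∧ RingHom.ker ψ = I.map (algebraMap A P.Ring) := by
  obtain ⟨Q⟩ := Algebra.IsStandardEtale.nonempty_standardEtalePresentation (R := A ⧸ I) (S := B)
  obtain ⟨f, hf, -, hfm⟩ := Polynomial.lifts_and_natDegree_eq_and_monic
    (f := Ideal.Quotient.mk I)
    ((Polynomial.mem_lifts _).2 (Polynomial.map_surjective _ Ideal.Quotient.mk_surjective _)) Q.monic_f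
  obtain ⟨p₁, p₂, n, e⟩ := Q.cond
  obtain ⟨q₁, hq₁⟩ := Polynomial.map_surjective _ (Ideal.Quotient.mk_surjective (I := I)) p₁
  obtain ⟨q₂, hq₂⟩ := Polynomial.map_surjective _ (Ideal.Quotient.mk_surjective (I := I)) p₂
  obtain ⟨g, hg₀⟩ := Polynomial.map_surjective _ (Ideal.Quotient.mk_surjective (I := I)) Q.g
  let P : StandardEtalePair A :=
    ⟨f, hfm, (derivative f * q₁ + f * q₂) * g, q₁ * g, q₂ * g, 1, by ring⟩
  have hg : P.g.map (algebraMap A (A ⧸ I)) = Q.g ^ (n + 1) := by
    rw [Ideal.Quotient.algebraMap_eq, pow_succ, ← e]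
    simp [P, hf, hq₁, hq₂, hg₀, ← Polynomial.derivative_map]
  have hP : P.HasMap Q.x := by
    constructor
    · rw [← Polynomial.aeval_map_algebraMap (A ⧸ I), Ideal.Quotient.algebraMap_eq, hf]
      exact Q.hasMap.1
    · rw [← Polynomial.aeval_map_algebraMap (A ⧸ I), hg, map_pow]
      exact Q.hasMap.2.pow (n + 1)
  let ψ := P.lift Q.x hP
  let J := I.map (algebraMap A P.Ring)
  let ψb : P.Ring ⧸ J →ₐ[A] B := Ideal.Quotient.liftₐ J ψ fun a ha => by
    have : J ≤ RingHom.ker ψ := Ideal.map_le_iff_le_comap.2 fun a ha => by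
      rw [Ideal.mem_comap, RingHom.mem_ker, AlgHom.commutes, IsScalarTower.algebraMap_apply A (A ⧸ I) B,
        Ideal.Quotient.algebraMap_eq, Ideal.Quotient.eq_zero_iff_mem.2 ha, map_zero]
    exact this ha
  let _ : Algebra (A ⧸ I) (P.Ring ⧸ J) :=
    (Ideal.Quotient.lift I ((Ideal.Quotient.mk J).comp (algebraMap A P.Ring)) fun a ha =>
      Ideal.Quotient.eq_zero_iff_mem.2 (Ideal.mem_map_of_mem _ ha)).toAlgebra
  have : IsScalarTower A (A ⧸ I) (P.Ring ⧸ J) := .of_algebraMap_eq fun _ => rfl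
  have hX : P.HasMap (Ideal.Quotient.mkₐ A J P.X) := P.hasMap_X.map _
  have hQ : Q.HasMap (Ideal.Quotient.mkₐ A J P.X) := by
    constructor
    · rw [← hf, ← Ideal.Quotient.algebraMap_eq, Polynomial.aeval_map_algebraMap]
      exact hX.1
    · have h := hX.2
      rw [← Polynomial.aeval_map_algebraMap (A ⧸ I), hg, map_pow] at h
      exact (isUnit_pow_iff n.succ_ne_zero).1 h
  let θ : B →ₐ[A ⧸ I] P.Ring ⧸ J :=
    (Q.P.lift (Ideal.Quotient.mkₐ A J P.X) hQ).comp Q.equivRing.toAlgHom
  have hθ : θ Q.x = Ideal.Quotient.mkₐ A J P.X := by simp [θ]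
  have h₁ : ∀ z, θ (ψb z) = z := by
    have : ((θ.restrictScalars A).comp ψb).comp (Ideal.Quotient.mkₐ A J) = Ideal.Quotient.mkₐ A J :=
      P.hom_ext (by change θ (ψ P.X) = _; simp [ψ, hθ])
    intro z
    obtain ⟨z, rfl⟩ := Ideal.Quotient.mk_surjective z
    exact congr($this z)
  have h₂ : ∀ b, ψb (θ b) = b := by
    let ψ' : P.Ring ⧸ J →ₐ[A ⧸ I] B :=
      { ψb.toRingHom with
        commutes' := fun r => by
          obtain ⟨r, rfl⟩ := Ideal.Quotient.mk_surjective r
          exact (ψb.commutes r).trans (IsScalarTower.algebraMap_apply A (A ⧸ I) B r) }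
    have : ψ'.comp θ = AlgHom.id _ _ := Q.hom_ext (by change ψb (θ Q.x) = _; rw [hθ]; change ψ P.X = _; simp [ψ])
    exact fun b => congr($this b)
  refine ⟨P, ψ, fun b => ?_, ?_⟩
  · obtain ⟨z, hz⟩ := Ideal.Quotient.mk_surjective (θ b)
    exact ⟨z, by rw [← h₂ b, ← hz]; rfl⟩
  · refine le_antisymm (fun z hz => ?_) (Ideal.map_le_iff_le_comap.2 fun a ha => ?_)
    · refine Ideal.Quotient.eq_zero_iff_mem.1 ?_
      rw [← h₁ (Ideal.Quotient.mk J z)]
      exact (congrArg θ hz).trans (map_zero _)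
    · rw [Ideal.mem_comap, RingHom.mem_ker, AlgHom.commutes, IsScalarTower.algebraMap_apply A (A ⧸ I) B,
        Ideal.Quotient.algebraMap_eq, Ideal.Quotient.eq_zero_iff_mem.2 ha, map_zero]

/-- An etale scheme over `Spec (A ⧸ I)` is, near each of its points, covered by the reduction of an affine
scheme etale over `Spec A`. -/
theorem exists_etale_lift' {W : Scheme.{u}} (π : W ⟶ Spec (CommRingCat.of (A ⧸ I))) [Etale π] (w : W) :
    ∃ (B : Type u) (_ : CommRing B) (φ : A →+* B) (k : Spec (CommRingCat.of (B ⧸ I.map φ)) ⟶ W),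
      φ.Etale ∧ k ≫ π = Spec.map (CommRingCat.ofHom (Ideal.quotientMap (I.map φ) φ Ideal.le_comap_map)) ∧
        w ∈ Set.range k ∧ IsOpenImmersion k := by
  obtain ⟨i, x, rfl⟩ := W.affineOpenCover.openCover.exists_eq w
  let S : CommRingCat.{u} := W.affineOpenCover.X i
  let j : Spec S ⟶ W := W.affineOpenCover.f i
  have : IsOpenImmersion j := inferInstanceAs (IsOpenImmersion (W.affineOpenCover.openCover.f i))
  obtain ⟨χ, hχ⟩ := Spec.map_surjective (j ≫ π)
  have hχ' : χ.hom.Etale := by
    rw [← HasRingHomProperty.Spec_iff (P := @Etale), hχ]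
    infer_instance
  let _ : Algebra (A ⧸ I) S := χ.hom.toAlgebra
  let _ : Algebra A S := (χ.hom.comp (Ideal.Quotient.mk I)).toAlgebra
  have : IsScalarTower A (A ⧸ I) S := .of_algebraMap_eq fun _ => rfl
  have : Algebra.Etale (A ⧸ I) S := hχ'
  let q : PrimeSpectrum S := x
  obtain ⟨r, hr, hr'⟩ := Algebra.IsEtaleAt.exists_isStandardEtale (R := A ⧸ I) q.asIdeal
  obtain ⟨P, ψ, hψ, hker⟩ := exists_standardEtale_lift I (B := Localization.Away r)
  let e : P.Ring ⧸ I.map (algebraMap A P.Ring) ≃+* Localization.Away r :=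
    (Ideal.quotEquivOfEq hker.symm).trans (RingHom.quotientKerEquivOfSurjective hψ)
  refine ⟨P.Ring, inferInstance, algebraMap A P.Ring,
    Spec.map (CommRingCat.ofHom (e.symm.toRingHom.comp (algebraMap S (Localization.Away r)))) ≫ j,
    RingHom.etale_algebraMap.2 inferInstance, ?_, ?_, ?_⟩
  · rw [Category.assoc, ← hχ, ← Spec.map_comp]
    congr 1
    ext a
    change e.symm (algebraMap S (Localization.Away r) (χ.hom (Ideal.Quotient.mk I a))) = _
    rw [RingEquiv.symm_apply_eq]
    change _ = ψ (algebraMap A P.Ring a)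
    rw [AlgHom.commutes, IsScalarTower.algebraMap_apply A (A ⧸ I) (Localization.Away r),
      IsScalarTower.algebraMap_apply (A ⧸ I) S (Localization.Away r)]
    rfl
  · obtain ⟨y, hy⟩ : q ∈ Set.range (PrimeSpectrum.comap (algebraMap S (Localization.Away r))) := by
      rw [PrimeSpectrum.localization_away_comap_range _ r]
      exact hr
    obtain ⟨z, hz⟩ : ∃ z, PrimeSpectrum.comap e.symm.toRingHom z = y :=
      ⟨PrimeSpectrum.comap e.toRingHom y, by
        rw [← PrimeSpectrum.comap_comp_apply, RingEquiv.toRingHom_comp_symm_toRingHom]; rfl⟩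
    exact ⟨z, congrArg j ((congrArg _ hz).trans hy)⟩
  · have : IsOpenImmersion (Spec.map (CommRingCat.ofHom (algebraMap S (Localization.Away r)))) :=
      IsOpenImmersion.of_isLocalization r
    have : IsIso (CommRingCat.ofHom e.symm.toRingHom) :=
      (ConcreteCategory.isIso_iff_bijective _).2 e.symm.bijective
    rw [show CommRingCat.ofHom (e.symm.toRingHom.comp (algebraMap S (Localization.Away r))) =
      CommRingCat.ofHom (algebraMap S (Localization.Away r)) ≫ CommRingCat.ofHom e.symm.toRingHom from rfl,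
      Spec.map_comp]
    infer_instance

/-- An etale scheme over `Spec (A ⧸ I)` is, near each of its points, covered by the reduction of an affine
scheme etale over `Spec A`. -/
theorem exists_etale_lift {W : Scheme.{u}} (π : W ⟶ Spec (CommRingCat.of (A ⧸ I))) [Etale π] (w : W) :
    ∃ (B : Type u) (_ : CommRing B) (φ : A →+* B) (k : Spec (CommRingCat.of (B ⧸ I.map φ)) ⟶ W),
      φ.Etale ∧ k ≫ π = Spec.map (CommRingCat.ofHom (Ideal.quotientMap (I.map φ) φ Ideal.le_comap_map)) ∧
        w ∈ Set.range k := by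
  obtain ⟨B, i, φ, k, h₁, h₂, h₃, -⟩ := exists_etale_lift' I π w
  exact ⟨B, i, φ, k, h₁, h₂, h₃⟩

/-- `B ⧸ I B` is the pushout of `A → A ⧸ I` along `A → B`. -/
theorem isPushout_quotient {B : Type u} [CommRing B] (φ : A →+* B) :
    IsPushout (CommRingCat.ofHom φ) (CommRingCat.ofHom (Ideal.Quotient.mk I))
      (CommRingCat.ofHom (Ideal.Quotient.mk (I.map φ)))
      (CommRingCat.ofHom (Ideal.quotientMap (I.map φ) φ Ideal.le_comap_map)) :=
  have w : CommRingCat.ofHom φ ≫ CommRingCat.ofHom (Ideal.Quotient.mk (I.map φ)) =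
      CommRingCat.ofHom (Ideal.Quotient.mk I) ≫
        CommRingCat.ofHom (Ideal.quotientMap (I.map φ) φ Ideal.le_comap_map) := by
    ext a; rfl
  ⟨⟨w⟩, ⟨Limits.PushoutCocone.IsColimit.mk w
    (fun s => CommRingCat.ofHom (Ideal.Quotient.lift (I.map φ) s.inl.hom fun b hb => by
      have : I.map φ ≤ RingHom.ker s.inl.hom := Ideal.map_le_iff_le_comap.2 fun a ha => by
        rw [Ideal.mem_comap, RingHom.mem_ker]
        have e := congr($(s.condition).hom a)
        refine e.trans ?_
        change s.inr.hom (Ideal.Quotient.mk I a) = 0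
        rw [Ideal.Quotient.eq_zero_iff_mem.2 ha, map_zero]
      exact this hb))
    (fun s => by ext b; rfl)
    (fun s => by
      ext a
      exact congr($(s.condition).hom a))
    (fun s m h₁ h₂ => by
      ext b
      exact congr($(h₁).hom b))⟩⟩

/-- `Spec (B ⧸ I B)` is the base change of `Spec B` along `Spec (A ⧸ I) ⟶ Spec A`. -/
theorem isPullback_quotient {B : Type u} [CommRing B] (φ : A →+* B) :
    IsPullback (Spec.map (CommRingCat.ofHom (Ideal.Quotient.mk (I.map φ))))
      (Spec.map (CommRingCat.ofHom (Ideal.quotientMap (I.map φ) φ Ideal.le_comap_map)))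
      (Spec.map (CommRingCat.ofHom φ)) (Spec.map (CommRingCat.ofHom (Ideal.Quotient.mk I))) :=
  isPullback_SpecMap_of_isPushout _ _ _ _ (isPushout_quotient I φ)

end Groth.Agent.AlgSp.InfRing
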