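import Groth.Prelude.Def_AlgSpInf
import Groth.Agent.AlgSp.InfRing

/-!
Gluing maps `h_T ⟶ F` along etale coverings, and gluing of infinitesimal lifts.
-/

universe u

open CategoryTheory CategoryTheory.Limits AlgebraicGeometry Opposite AlgSp

namespace Groth.Agent.AlgSp.InfGlue

variable {S : Scheme.{u}}

/-- A jointly surjective etale family of schemes over `S` is a covering for the fppf topology. -/
theorem mem_J {ι : Type*} {T : Over S} {U : ι → Over S} (g : ∀ i, U i ⟶ T)
    (he : ∀ i, Etale (g i).left) (hs : ∀ x, ∃ i, x ∈ Set.range (g i).left) :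
    Sieve.ofArrows U g ∈ J S T := by
  rw [GrothendieckTopology.mem_over_iff, Sieve.overEquiv_ofArrows]
  refine Precoverage.generate_mem_toGrothendieck
    ((Scheme.ofArrows_mem_precoverage_iff (P := @Flat ⊓ @LocallyOfFinitePresentation)).2 ⟨hs, fun i => ?_⟩)
  have := he i
  exact ⟨inferInstance, inferInstance⟩

variable {F : Sp S}

/-- Two maps `h_T ⟶ F` agreeing on an etale covering are equal. -/
theorem hom_ext_cover {ι : Type*} {T : Over S} {U : ι → Over S} (g : ∀ i, U i ⟶ T)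
    (he : ∀ i, Etale (g i).left) (hs : ∀ x, ∃ i, x ∈ Set.range (g i).left)
    (l l' : (yon S).obj T ⟶ F) (h : ∀ i, (yon S).map (g i) ≫ l = (yon S).map (g i) ≫ l') : l = l' := by
  refine (J S).uliftYonedaEquiv.injective ?_
  refine (Presieve.isSeparatedFor_iff_generate.2
    (((isSheaf_iff_isSheaf_of_type _ _).1 F.property).isSeparated _ (mem_J g he hs))).ext ?_
  rintro Y f ⟨i⟩
  rw [(J S).uliftYonedaEquiv_naturality, (J S).uliftYonedaEquiv_naturality, h i]

/-- Maps on the members of an etale covering which agree on overlaps glue. -/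
theorem exists_glue {ι : Type*} {T : Over S} {U : ι → Over S} (g : ∀ i, U i ⟶ T)
    (he : ∀ i, Etale (g i).left) (hs : ∀ x, ∃ i, x ∈ Set.range (g i).left)
    (s : ∀ i, (yon S).obj (U i) ⟶ F)
    (h : ∀ i j (Z : Over S) (a : Z ⟶ U i) (b : Z ⟶ U j), a ≫ g i = b ≫ g j →
      (yon S).map a ≫ s i = (yon S).map b ≫ s j) :
    ∃ l : (yon S).obj T ⟶ F, ∀ i, (yon S).map (g i) ≫ l = s i := by
  have hF : (Presieve.ofArrows U g).IsSheafFor F.obj :=
    (Presieve.isSheafFor_iff_generate _).2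
      (((isSheaf_iff_isSheaf_of_type _ _).1 F.property) _ (mem_J g he hs))
  obtain ⟨t, ht, -⟩ := (Presieve.isSheafFor_arrows_iff F.obj g).1 hF
    (fun i => (J S).uliftYonedaEquiv (s i)) fun i j Z a b w => by
      rw [(J S).uliftYonedaEquiv_naturality, (J S).uliftYonedaEquiv_naturality, h i j Z a b w]
  refine ⟨(J S).uliftYonedaEquiv.symm t, fun i => ?_⟩
  rw [(J S).uliftYonedaEquiv_symm_naturality_left, Equiv.symm_apply_eq]
  exact ht i

/-- Two maps out of the spectrum of a ring which agree etale locally around every point are equal. -/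
theorem hom_ext_local {A : Type u} [CommRing A] (str : Spec (CommRingCat.of A) ⟶ S)
    (l l' : (yon S).obj (Over.mk str) ⟶ F)
    (h : ∀ t : ↥(Spec (CommRingCat.of A)), ∃ (U : Over S) (g : U ⟶ Over.mk str),
      Etale g.left ∧ t ∈ Set.range g.left ∧ (yon S).map g ≫ l = (yon S).map g ≫ l') : l = l' := by
  choose U g he hs hh using h
  exact hom_ext_cover g he (fun t => ⟨t, hs t⟩) l l' hh

section Restrict

variable {G : Sp S} {f : F ⟶ G} (sq : InfSq f)
variable {B : Type u} [CommRing B] (φ : sq.A →+* B)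

/-- `Spec B` over `S` for a map `A → B`. -/
noncomputable abbrev ptR : Over S := Over.mk (Spec.map (CommRingCat.ofHom φ) ≫ sq.str)

/-- `Spec B ⟶ Spec A` over `S`. -/
noncomputable abbrev toT' : ptR sq φ ⟶ sq.ptT' := Over.homMk (Spec.map (CommRingCat.ofHom φ)) rfl

/-- `Spec (B ⧸ I B)` over `S`. -/
noncomputable abbrev ptR₀ : Over S :=
  Over.mk (Spec.map (CommRingCat.ofHom (Ideal.Quotient.mk (sq.I.map φ))) ≫
    Spec.map (CommRingCat.ofHom φ) ≫ sq.str)

/-- `Spec (B ⧸ I B) ⟶ Spec (A ⧸ I)` over `S`. -/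
noncomputable abbrev toT : ptR₀ sq φ ⟶ sq.ptT :=
  Over.homMk (Spec.map (CommRingCat.ofHom (Ideal.quotientMap (sq.I.map φ) φ Ideal.le_comap_map))) (by
    change Spec.map _ ≫ Spec.map _ ≫ sq.str = Spec.map _ ≫ Spec.map _ ≫ sq.str
    rw [← Spec.map_comp_assoc, ← Spec.map_comp_assoc]
    rfl)

/-- The closed immersion `Spec (B ⧸ I B) ⟶ Spec B` over `S`. -/
noncomputable abbrev jR : ptR₀ sq φ ⟶ ptR sq φ :=
  Over.homMk (Spec.map (CommRingCat.ofHom (Ideal.Quotient.mk (sq.I.map φ)))) rfl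

theorem jR_toT' : jR sq φ ≫ toT' sq φ = toT sq φ ≫ sq.j := by
  ext1
  exact (InfRing.isPullback_quotient sq.I φ).w

theorem isPullback_R : IsPullback (jR sq φ) (toT sq φ) (toT' sq φ) sq.j := by
  refine IsPullback.of_map (Over.forget S) (jR_toT' sq φ) ?_
  exact InfRing.isPullback_quotient sq.I φ

/-- The square `sq` restricted along `A → B`. -/
noncomputable def restrict : InfSq f where
  A := B
  I := sq.I.map φ
  sq_zero := by rw [← Ideal.map_pow, sq.sq_zero, Ideal.map_bot]
  str := Spec.map (CommRingCat.ofHom φ) ≫ sq.str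
  top := (yon S).map (toT sq φ) ≫ sq.top
  bot := (yon S).map (toT' sq φ) ≫ sq.bot
  comm := by
    change ((yon S).map (toT sq φ) ≫ sq.top) ≫ f = (yon S).map (jR sq φ) ≫ (yon S).map (toT' sq φ) ≫ sq.bot
    rw [Category.assoc, sq.comm, ← Category.assoc, ← Category.assoc, ← Functor.map_comp, ← Functor.map_comp,
      jR_toT']

/-- `m : h_{Spec B} ⟶ F` is a dotted arrow for `sq` restricted to `Spec B`. -/
def IsLiftOn (m : (yon S).obj (ptR sq φ) ⟶ F) : Prop :=
  (yon S).map (jR sq φ) ≫ m = (yon S).map (toT sq φ) ≫ sq.top ∧ m ≫ f = (yon S).map (toT' sq φ) ≫ sq.bot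

variable {C : Type u} [CommRing C] (χ : B →+* C)

variable {ψ : sq.A →+* C} (hψ : χ.comp φ = ψ)

/-- `Spec C ⟶ Spec B` over `S`. -/
noncomputable abbrev toR : ptR sq ψ ⟶ ptR sq φ :=
  Over.homMk (Spec.map (CommRingCat.ofHom χ)) (by
    change Spec.map _ ≫ Spec.map _ ≫ sq.str = Spec.map _ ≫ sq.str
    rw [← Spec.map_comp_assoc, ← hψ]
    rfl)

theorem toR_toT' : toR sq φ χ hψ ≫ toT' sq φ = toT' sq ψ := by
  ext1
  change Spec.map _ ≫ Spec.map _ = Spec.map _
  rw [← Spec.map_comp, ← hψ]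
  rfl

theorem IsLiftOn.comp {m : (yon S).obj (ptR sq φ) ⟶ F} (hm : IsLiftOn sq φ m) :
    IsLiftOn sq ψ ((yon S).map (toR sq φ χ hψ) ≫ m) := by
  have w : (jR sq ψ ≫ toR sq φ χ hψ) ≫ toT' sq φ = toT sq ψ ≫ sq.j := by
    rw [Category.assoc, toR_toT', jR_toT']
  constructor
  · rw [← Category.assoc, ← Functor.map_comp, ← (isPullback_R sq φ).lift_fst _ _ w,
      Functor.map_comp, Category.assoc, hm.1, ← Category.assoc, ← Functor.map_comp, IsPullback.lift_snd]
  · rw [Category.assoc, hm.2, ← Category.assoc, ← Functor.map_comp, toR_toT']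

theorem IsLiftOn.unique (hf : IsFormallyUnramifiedMor f) {m m' : (yon S).obj (ptR sq φ) ⟶ F}
    (hm : IsLiftOn sq φ m) (hm' : IsLiftOn sq φ m') : m = m' :=
  hf (restrict sq φ) m m' hm.1 hm.2 hm'.1 hm'.2

theorem isLiftOn_of_hasLift (h : (restrict sq φ).HasLift) : ∃ m, IsLiftOn sq φ m := h

end Restrict

/-- Infinitesimal lifts which exist etale locally glue, if lifts of the restricted squares are unique. -/
theorem hasLift_of_local' {G : Sp S} {f : F ⟶ G} (sq : InfSq f)
    (hu : ∀ (C : Type u) [CommRing C] (ψ : sq.A →+* C) (m m' : (yon S).obj (ptR sq ψ) ⟶ F),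
      IsLiftOn sq ψ m → IsLiftOn sq ψ m' → m = m')
    (h : ∀ t : ↥(Spec (CommRingCat.of sq.A)), ∃ (B : Type u) (_ : CommRing B) (φ : sq.A →+* B)
      (m : (yon S).obj (ptR sq φ) ⟶ F),
      φ.Etale ∧ t ∈ Set.range (Spec.map (CommRingCat.ofHom φ)) ∧ IsLiftOn sq φ m) :
    sq.HasLift := by
  choose B hB φ m he hs hm using h
  have he' : ∀ t, Etale (toT' sq (φ t)).left := fun t =>
    (HasRingHomProperty.Spec_iff (P := @Etale)).2 (he t)
  obtain ⟨l, hl⟩ := exists_glue (fun t => toT' sq (φ t)) he' (fun t => ⟨t, hs t⟩) m (by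
    intro i j Z a b w
    let _ : Algebra sq.A (B i) := (φ i).toAlgebra
    let _ : Algebra sq.A (B j) := (φ j).toAlgebra
    let C : Type u := TensorProduct sq.A (B i) (B j)
    let χi : B i →+* C := Algebra.TensorProduct.includeLeftRingHom
    let χj : B j →+* C := (Algebra.TensorProduct.includeRight (R := sq.A) (A := B i) (B := B j)).toRingHom
    have hχ : χj.comp (φ j) = χi.comp (φ i) := Algebra.TensorProduct.includeLeftRingHom_comp_algebraMap.symm
    have P : IsPullback (toR sq (φ i) χi rfl) (toR sq (φ j) χj hχ) (toT' sq (φ i)) (toT' sq (φ j)) := by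
      refine IsPullback.of_map (Over.forget S) ?_ ?_
      · rw [toR_toT', toR_toT']
      · exact isPullback_SpecMap_of_isPushout _ _ _ _ (CommRingCat.isPushout_tensorProduct sq.A (B i) (B j))
    have e := hu _ _ _ _ ((hm i).comp sq (φ i) χi rfl) ((hm j).comp sq (φ j) χj hχ)
    rw [← P.lift_fst a b w, Functor.map_comp, Category.assoc, e, ← Category.assoc, ← Functor.map_comp,
      IsPullback.lift_snd])
  refine ⟨l, ?_, hom_ext_cover _ he' (fun t => ⟨t, hs t⟩) _ _ fun t => ?_⟩
  · refine hom_ext_cover (fun t => toT sq (φ t)) (fun t => ?_) (fun x => ?_) _ _ fun t => ?_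
    · exact MorphismProperty.of_isPullback (P := @Etale) (InfRing.isPullback_quotient sq.I (φ t)) (he' t)
    · refine ⟨sq.j.left x, ?_⟩
      obtain ⟨y, hy⟩ := hs (sq.j.left x)
      obtain ⟨z, -, hz⟩ := Scheme.exists_preimage_of_isPullback
        (InfRing.isPullback_quotient sq.I (φ (sq.j.left x))) y x hy
      exact ⟨z, hz⟩
    · rw [← Category.assoc, ← Functor.map_comp, ← jR_toT', Functor.map_comp, Category.assoc, hl]
      exact (hm t).1
  · rw [← Category.assoc, hl]
    exact (hm t).2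

/-- Infinitesimal lifts which exist etale locally glue, for a formally unramified morphism. -/
theorem hasLift_of_local {G : Sp S} {f : F ⟶ G} (hf : IsFormallyUnramifiedMor f) (sq : InfSq f)
    (h : ∀ t : ↥(Spec (CommRingCat.of sq.A)), ∃ (B : Type u) (_ : CommRing B) (φ : sq.A →+* B)
      (m : (yon S).obj (ptR sq φ) ⟶ F),
      φ.Etale ∧ t ∈ Set.range (Spec.map (CommRingCat.ofHom φ)) ∧ IsLiftOn sq φ m) :
    sq.HasLift :=
  hasLift_of_local' sq (fun _ _ ψ _ _ hm hm' => IsLiftOn.unique sq ψ hf hm hm') h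

end Groth.Agent.AlgSp.InfGlue
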