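import Groth.Agent.AlgSp.Basic
import Groth.Agent.AlgSp.InfGlue
import Mathlib.AlgebraicGeometry.RelativeGluing

/-!
# A sheaf over a scheme which is representable locally on the base is representable
-/

universe u

open CategoryTheory CategoryTheory.Limits AlgebraicGeometry Opposite

set_option backward.isDefEq.respectTransparency.types false

namespace Groth.Agent.AlgSp

variable {S : Scheme.{u}}

/-- A map `h_X ⟶ F` which is bijective on maps from schemes is an isomorphism. -/
theorem isIso_of_yon {X : Over S} {F : AlgSp.Sp S} (Φ : (AlgSp.yon S).obj X ⟶ F)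
    (h : ∀ (T : Over S) (x : (AlgSp.yon S).obj T ⟶ F), ∃! y : T ⟶ X, (AlgSp.yon S).map y ≫ Φ = x) :
    IsIso Φ := by
  have : IsIso Φ.hom := by
    rw [NatTrans.isIso_iff_isIso_app]
    intro T
    rw [isIso_iff_bijective]
    constructor
    · intro s s' e
      have key : ∀ r, yEquiv.symm (Φ.hom.app T r) =
          (AlgSp.yon S).map ((AlgSp.yon S).preimage (yEquiv.symm r)) ≫ Φ := by
        intro r
        rw [Functor.map_preimage, Equiv.symm_apply_eq, yEquiv_comp, Equiv.apply_symm_apply]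
      have := (h T.unop (yEquiv.symm (Φ.hom.app T s))).unique (key s).symm ((key s').symm.trans (by rw [e]))
      have := congrArg (AlgSp.yon S).map this
      rw [Functor.map_preimage, Functor.map_preimage] at this
      exact yEquiv.symm.injective this
    · intro r
      obtain ⟨y, hy, -⟩ := h T.unop (yEquiv.symm r)
      refine ⟨yEquiv ((AlgSp.yon S).map y), ?_⟩
      rw [← yEquiv_comp, hy, Equiv.apply_symm_apply]
  have : IsIso ((sheafToPresheaf (AlgSp.J S) (Type (u + 1))).map Φ) := ‹IsIso Φ.hom›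
  exact isIso_of_fully_faithful (sheafToPresheaf (AlgSp.J S) (Type (u + 1))) Φ

/-- The open subscheme `V` of `U` over `S`. -/
abbrev openOver (U : Over S) (V : U.left.Opens) : Over S := Over.mk (V.ι ≫ U.hom)

/-- The inclusion of an open subscheme. -/
abbrev openι (U : Over S) (V : U.left.Opens) : openOver U V ⟶ U := Over.homMk V.ι rfl

/-- The transition map between open subschemes. -/
noncomputable abbrev openHom (U : Over S) {V V' : U.left.Opens} (h : V ≤ V') : openOver U V ⟶ openOver U V' :=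
  Over.homMk (U.left.homOfLE h) (Scheme.homOfLE_ι_assoc _ _ _)

@[reassoc]
theorem openHom_ι (U : Over S) {V V' : U.left.Opens} (h : V ≤ V') : openHom U h ≫ openι U V' = openι U V :=
  Over.OverMorphism.ext (Scheme.homOfLE_ι _ h)

/-- The output of relative gluing. -/
theorem exists_glued {T : Scheme.{u}} {𝒰 : T.OpenCover} [Category 𝒰.I₀] [𝒰.LocallyDirected] [Small.{u} 𝒰.I₀]
    [Quiver.IsThin 𝒰.I₀] (d : 𝒰.RelativeGluingData) :
    ∃ (X : Scheme.{u}) (q : X ⟶ T) (ι : ∀ i, d.functor.obj i ⟶ X),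
      (∀ {i j} (f : i ⟶ j), d.functor.map f ≫ ι j = ι i) ∧
      (∀ i, IsPullback (ι i) (d.natTrans.app i) q (𝒰.f i)) ∧ ∀ x, ∃ i, x ∈ Set.range (ι i) :=
  ⟨_, d.toBase, colimit.ι d.functor, fun f => colimit.w d.functor f,
    fun i => (d.isPullback_natTrans_ι_toBase i).flip, fun x => ⟨_, d.cover.covers x⟩⟩

/-- A sheaf over a scheme `U` which is representable over every affine open of `U` is representable. -/
theorem exists_iso_of_affineOpens {U : Over S} {F : AlgSp.Sp S} (a : F ⟶ (AlgSp.yon S).obj U)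
    (h : ∀ V : U.left.affineOpens, ∃ (W : Over S) (π : (AlgSp.yon S).obj W ⟶ F) (w : W ⟶ openOver U V.1),
      IsPullback π ((AlgSp.yon S).map w) a ((AlgSp.yon S).map (openι U V.1))) :
    ∃ (X : Over S), Nonempty ((AlgSp.yon S).obj X ≅ F) := by
  choose W π w hW using h
  -- transition maps
  have hle : ∀ {V V' : U.left.affineOpens} (hVV' : V.1 ≤ V'.1), ∃ t : W V ⟶ W V',
      (AlgSp.yon S).map t ≫ π V' = π V ∧ t ≫ w V' = w V ≫ openHom U hVV' := by
    intro V V' hVV'
    have e : π V ≫ a = ((AlgSp.yon S).map (w V) ≫ (AlgSp.yon S).map (openHom U hVV')) ≫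
        (AlgSp.yon S).map (openι U V'.1) := by
      rw [(hW V).w, Category.assoc, ← Functor.map_comp, ← Functor.map_comp, ← Functor.map_comp, openHom_ι]
    obtain ⟨t, ht⟩ := (AlgSp.yon S).map_surjective ((hW V').lift _ _ e)
    exact ⟨t, by rw [ht, (hW V').lift_fst], (AlgSp.yon S).map_injective (by
      rw [Functor.map_comp, ht, (hW V').lift_snd, Functor.map_comp])⟩
  choose t htπ htw' using @hle
  have huniq : ∀ (V : U.left.affineOpens) {T : Over S} (x y : T ⟶ W V),
      (AlgSp.yon S).map x ≫ π V = (AlgSp.yon S).map y ≫ π V → x ≫ w V = y ≫ w V → x = y :=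
    fun V _ x y h1 h2 => (AlgSp.yon S).map_injective
      ((hW V).hom_ext h1 (by rw [← Functor.map_comp, ← Functor.map_comp, h2]))
  have htid : ∀ V : U.left.affineOpens, t (le_refl V.1) = 𝟙 (W V) := fun V => huniq V _ _
    (by rw [htπ, CategoryTheory.Functor.map_id, Category.id_comp])
    (by rw [htw', Category.id_comp]; exact Over.OverMorphism.ext (by simp))
  have htcomp : ∀ {V V' V'' : U.left.affineOpens} (h₁ : V.1 ≤ V'.1) (h₂ : V'.1 ≤ V''.1),
      t (h₁.trans h₂) = t h₁ ≫ t h₂ := fun h₁ h₂ => huniq _ _ _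
    (by rw [htπ, Functor.map_comp, Category.assoc, htπ, htπ])
    (by rw [htw', Category.assoc, htw', reassoc_of% (htw' h₁)]; exact Over.OverMorphism.ext (by simp))
  let 𝒰 := U.left.directedAffineCover
  let Fn : U.left.affineOpens ⥤ Scheme.{u} :=
    { obj := fun V => (W V).left
      map := fun {V V'} f => (t (show V.1 ≤ V'.1 from leOfHom f)).left
      map_id := fun V => by
        change (t (le_refl V.1)).left = _
        rw [htid]; rfl
      map_comp := fun {_ _ _} f g => by
        change (t (le_trans (leOfHom f) (leOfHom g) : _)).left = _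
        rw [htcomp]; rfl }
  let nt : Fn ⟶ 𝒰.functorOfLocallyDirected :=
    { app := fun V => (w V).left
      naturality := fun V V' f => congrArg (fun k => k.left) (htw' (show V.1 ≤ V'.1 from leOfHom f)) }
  let d : 𝒰.RelativeGluingData :=
    { functor := Fn
      natTrans := nt
      equifibered := fun V V' f => by
        have hf : (V : U.left.affineOpens).1 ≤ (V' : U.left.affineOpens).1 := leOfHom f
        have sq : IsPullback ((AlgSp.yon S).map (t hf)) ((AlgSp.yon S).map (w V))
            ((AlgSp.yon S).map (w V')) ((AlgSp.yon S).map (openHom U hf)) := by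
          refine IsPullback.of_right ?_ (by rw [← Functor.map_comp, ← Functor.map_comp, htw']) (hW V')
          rw [htπ, ← Functor.map_comp, openHom_ι]
          exact hW V
        exact (IsPullback.of_map (AlgSp.yon S) (htw' _) sq).map (Over.forget S) }
  have hthin : Quiver.IsThin 𝒰.I₀ := fun (_ _ : U.left.affineOpens) =>
    inferInstanceAs (Subsingleton (ULift (PLift _)))
  have hsmall : Small.{u} 𝒰.I₀ := inferInstanceAs (Small.{u} U.left.affineOpens)
  obtain ⟨X₀, q₀, ι, hw, hpb, hcov⟩ := exists_glued d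
  let X : Over S := Over.mk (q₀ ≫ U.hom)
  let q : X ⟶ U := Over.homMk q₀ rfl
  have hι : ∀ V : U.left.affineOpens, ι V ≫ q₀ = (w V).left ≫ V.1.ι :=
    fun V => (hpb V).w
  let i : ∀ V, W V ⟶ X := fun V => Over.homMk (ι V) (by
    change ι V ≫ q₀ ≫ U.hom = (W V).hom
    rw [reassoc_of% (hι V)]
    exact Over.w (w V))
  have hiq : ∀ V, i V ≫ q = w V ≫ openι U V.1 := fun V => Over.OverMorphism.ext (hι V)
  have hit : ∀ {V V' : U.left.affineOpens} (hVV' : V.1 ≤ V'.1), t hVV' ≫ i V' = i V :=
    fun {V V'} hVV' => Over.OverMorphism.ext (hw (homOfLE (show V ≤ V' from hVV')))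
  have hipb : ∀ V, IsPullback (i V) (w V) q (openι U V.1) := fun V =>
    IsPullback.of_map (Over.forget S) (hiq V) (hpb V)
  have hcov : ∀ x, ∃ V, x ∈ Set.range (i V).left := hcov
  have hopen : ∀ V, IsOpenImmersion (i V).left := fun V =>
    MorphismProperty.of_isPullback ((hipb V).map (Over.forget S)).flip
      (inferInstanceAs (IsOpenImmersion V.1.ι))
  -- overlaps
  have hov : ∀ V V' (Z : Over S) (x : Z ⟶ W V) (y : Z ⟶ W V'), x ≫ i V = y ≫ i V' →
      (AlgSp.yon S).map x ≫ π V = (AlgSp.yon S).map y ≫ π V' := by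
    intro V V' Z x y hxy
    let g := x ≫ w V ≫ openι U V.1
    have hg' : g = y ≫ w V' ≫ openι U V'.1 := by
      simp only [g, ← hiq, reassoc_of% hxy]
    have hsmall : ∀ z, ∃ K : U.left.affineOpens, K ≤ V ∧ K ≤ V' ∧ g.left z ∈ K.1 := by
      intro z
      have h1 : g.left z ∈ V.1 := ((w V).left (x.left z)).2
      have h2 : g.left z ∈ V'.1 := by rw [hg']; exact ((w V').left (y.left z)).2
      obtain ⟨K, hK, hzK, hKle⟩ := exists_isAffineOpen_mem_and_subset (x := g.left z) (U := V.1 ⊓ V'.1) ⟨h1, h2⟩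
      exact ⟨⟨K, hK⟩, fun _ hu => (hKle hu).1, fun _ hu => (hKle hu).2, hzK⟩
    choose K hKV hKV' hzK using hsmall
    let ZK := fun z => openOver Z (g.left ⁻¹ᵁ (K z).1)
    refine InfGlue.hom_ext_cover (T := Z) (U := ZK) (fun z => openι Z _) (fun z => inferInstanceAs (Etale (Scheme.Opens.ι _)))
      (fun z => ⟨z, ⟨z, hzK z⟩, rfl⟩) _ _ fun z => ?_
    let e : ZK z ⟶ openOver U (K z).1 := Over.homMk (g.left ∣_ (K z).1) (by
      change (g.left ∣_ (K z).1) ≫ (K z).1.ι ≫ U.hom = (g.left ⁻¹ᵁ (K z).1).ι ≫ Z.hom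
      rw [morphismRestrict_ι_assoc, Over.w g])
    let c := (hipb (K z)).lift (openι Z _ ≫ x ≫ i V) e (by
      simp only [Category.assoc, hiq]
      exact Over.OverMorphism.ext (morphismRestrict_ι _ _).symm)
    have : Mono (i V) := (Over.forget S).mono_of_mono_map (have := hopen V; inferInstanceAs (Mono (i V).left))
    have : Mono (i V') := (Over.forget S).mono_of_mono_map (have := hopen V'; inferInstanceAs (Mono (i V').left))
    have hc : c ≫ i (K z) = openι Z _ ≫ x ≫ i V := (hipb (K z)).lift_fst ..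
    have e1 : c ≫ t (hKV z) = openι Z _ ≫ x := (cancel_mono (i V)).1 (by rw [Category.assoc, hit, hc, Category.assoc])
    have e2 : c ≫ t (hKV' z) = openι Z _ ≫ y := (cancel_mono (i V')).1 (by rw [Category.assoc, hit, hc, Category.assoc, hxy])
    rw [← Functor.map_comp_assoc, ← Functor.map_comp_assoc, ← e1, ← e2, Functor.map_comp, Functor.map_comp,
      Category.assoc, Category.assoc, htπ, htπ]
  obtain ⟨Φ, hΦ⟩ := InfGlue.exists_glue (T := X) (U := W) i (fun V => have := hopen V; inferInstance) hcov π hov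
  have hΦa : Φ ≫ a = (AlgSp.yon S).map q := by
    refine InfGlue.hom_ext_cover (T := X) (U := W) i (fun V => have := hopen V; inferInstance) hcov _ _ fun V => ?_
    rw [reassoc_of% (hΦ V), (hW V).w, ← Functor.map_comp, ← Functor.map_comp, hiq]
  have : IsIso Φ := isIso_of_yon Φ fun T x => by
    obtain ⟨g, hg⟩ := (AlgSp.yon S).map_surjective (x ≫ a)
    let TV := fun V : U.left.affineOpens => openOver T (g.left ⁻¹ᵁ V.1)
    let e : ∀ V : U.left.affineOpens, TV V ⟶ openOver U V.1 := fun V => Over.homMk (g.left ∣_ V.1) (by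
      change (g.left ∣_ V.1) ≫ V.1.ι ≫ U.hom = (g.left ⁻¹ᵁ V.1).ι ≫ T.hom
      rw [morphismRestrict_ι_assoc, Over.w g])
    have he : ∀ V, e V ≫ openι U V.1 = openι T _ ≫ g := fun V => Over.OverMorphism.ext (morphismRestrict_ι _ _)
    have hTcov : ∀ y, ∃ V : U.left.affineOpens, y ∈ Set.range (openι T (g.left ⁻¹ᵁ V.1)).left := by
      intro y
      obtain ⟨V, hV, hyV, -⟩ := exists_isAffineOpen_mem_and_subset (x := g.left y) (U := ⊤) trivial
      exact ⟨⟨V, hV⟩, ⟨y, hyV⟩, rfl⟩
    have hloc : ∀ V, ∃ y : TV V ⟶ W V, (AlgSp.yon S).map y ≫ π V = (AlgSp.yon S).map (openι T _) ≫ x ∧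
        y ≫ w V = e V := by
      intro V
      obtain ⟨y, hy⟩ := (AlgSp.yon S).map_surjective ((hW V).lift ((AlgSp.yon S).map (openι T _) ≫ x)
        ((AlgSp.yon S).map (e V)) (by rw [Category.assoc, ← hg, ← Functor.map_comp, ← Functor.map_comp, he]))
      exact ⟨y, by rw [hy, (hW V).lift_fst], (AlgSp.yon S).map_injective (by rw [Functor.map_comp, hy, (hW V).lift_snd])⟩
    choose y hy1 hy2 using hloc
    have hΦq : ∀ {Z : Over S} (z : Z ⟶ X), (AlgSp.yon S).map (z ≫ q) = ((AlgSp.yon S).map z ≫ Φ) ≫ a :=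
      fun z => by rw [Category.assoc, hΦa, Functor.map_comp]
    have huq : ∀ {Z : Over S} (z z' : Z ⟶ X), (AlgSp.yon S).map z ≫ Φ = (AlgSp.yon S).map z' ≫ Φ → z = z' := by
      intro Z z z' hzz
      have hq : z ≫ q = z' ≫ q := (AlgSp.yon S).map_injective (by rw [hΦq, hΦq, hzz])
      have hZcov : ∀ p, ∃ V : U.left.affineOpens, p ∈ Set.range (openι Z ((z ≫ q).left ⁻¹ᵁ V.1)).left := by
        intro p
        obtain ⟨V, hV, hpV, -⟩ := exists_isAffineOpen_mem_and_subset (x := (z ≫ q).left p) (U := ⊤) trivial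
        exact ⟨⟨V, hV⟩, ⟨p, hpV⟩, rfl⟩
      refine (AlgSp.yon S).map_injective (InfGlue.hom_ext_cover (fun V : U.left.affineOpens => openι Z _)
        (fun V => inferInstanceAs (Etale (Scheme.Opens.ι _))) hZcov _ _ fun V => ?_)
      let eV : openOver Z ((z ≫ q).left ⁻¹ᵁ V.1) ⟶ openOver U V.1 := Over.homMk ((z ≫ q).left ∣_ V.1) (by
        change ((z ≫ q).left ∣_ V.1) ≫ V.1.ι ≫ U.hom = ((z ≫ q).left ⁻¹ᵁ V.1).ι ≫ Z.hom
        rw [morphismRestrict_ι_assoc, Over.w (z ≫ q)])
      have heV : eV ≫ openι U V.1 = openι Z _ ≫ z ≫ q := Over.OverMorphism.ext (morphismRestrict_ι _ _)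
      let c := (hipb V).lift (openι Z _ ≫ z) eV (by rw [Category.assoc, heV])
      let c' := (hipb V).lift (openι Z _ ≫ z') eV (by rw [Category.assoc, heV, hq])
      have hcc : c = c' := by
        refine huniq V c c' ?_ (((hipb V).lift_snd ..).trans ((hipb V).lift_snd ..).symm)
        simp only [← hΦ V, ← Category.assoc, ← Functor.map_comp, c, c', IsPullback.lift_fst]
        simp only [Functor.map_comp, Category.assoc, hzz]
      rw [← Functor.map_comp, ← Functor.map_comp,
        show openι Z _ ≫ z = c ≫ i V from ((hipb V).lift_fst ..).symm,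
        show openι Z _ ≫ z' = c' ≫ i V from ((hipb V).lift_fst ..).symm, hcc]
    obtain ⟨l, hl⟩ := InfGlue.exists_glue (T := T) (U := TV) (fun V => openι T _)
      (fun V => inferInstanceAs (Etale (Scheme.Opens.ι _))) hTcov
      (fun V => (AlgSp.yon S).map (y V ≫ i V)) fun V V' Z a b hab => by
        rw [← Functor.map_comp, ← Functor.map_comp]
        congr 1
        refine huq _ _ ?_
        simp only [Functor.map_comp, Category.assoc, hΦ, hy1]
        rw [← Functor.map_comp_assoc, ← Functor.map_comp_assoc, hab]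
    obtain ⟨l, rfl⟩ := (AlgSp.yon S).map_surjective l
    refine ⟨l, InfGlue.hom_ext_cover (T := T) (U := TV) (fun V => openι T _)
      (fun V => inferInstanceAs (Etale (Scheme.Opens.ι _))) hTcov _ _ fun V => ?_, fun l' hl' => huq _ _ ?_⟩
    · rw [reassoc_of% (hl V), Functor.map_comp, Category.assoc, hΦ, hy1]
    · rw [hl']
      refine InfGlue.hom_ext_cover (T := T) (U := TV) (fun V => openι T _)
        (fun V => inferInstanceAs (Etale (Scheme.Opens.ι _))) hTcov _ _ fun V => ?_
      rw [reassoc_of% (hl V), Functor.map_comp, Category.assoc, hΦ, hy1]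
  exact ⟨X, ⟨asIso Φ⟩⟩

end Groth.Agent.AlgSp
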