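import Groth.Agent.AlgSp.Basic
import Groth.Agent.AlgSp.DescentGlue
import Mathlib.AlgebraicGeometry.Gluing

/-!
# A sheaf which is a directed union of open subschemes is a scheme
-/

universe u

open CategoryTheory CategoryTheory.Limits AlgebraicGeometry Opposite

set_option backward.isDefEq.respectTransparency.types false

namespace Groth.Agent.AlgSp

/-- Colimits of locally directed diagrams of open immersions, as an existence statement. -/
theorem exists_colimit {J : Type u} [Category.{u} J] [Quiver.IsThin J] (F : J ⥤ Scheme.{u})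
    [∀ {i j} (f : i ⟶ j), IsOpenImmersion (F.map f)] [(F ⋙ Scheme.forget).IsLocallyDirected]
    (T : Scheme.{u}) (str : ∀ i, F.obj i ⟶ T) (hstr : ∀ {i j} (f : i ⟶ j), F.map f ≫ str j = str i) :
    ∃ (X : Scheme.{u}) (q : X ⟶ T) (ι : ∀ i, F.obj i ⟶ X), (∀ i, IsOpenImmersion (ι i)) ∧
      (∀ {i j} (f : i ⟶ j), F.map f ≫ ι j = ι i) ∧ (∀ x, ∃ i, x ∈ Set.range (ι i)) ∧
      ∀ i, ι i ≫ q = str i :=
  ⟨colimit F, colimit.desc F ⟨T, { app := str, naturality := fun i j f => by simp [hstr f] }⟩, colimit.ι F,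
    fun i => (Scheme.IsLocallyDirected.openCover F).map_prop i, fun f => colimit.w F f,
    fun x => by
      obtain ⟨i, xi, h⟩ := Scheme.IsLocallyDirected.ι_jointly_surjective F x
      exact ⟨i, xi, h⟩,
    fun i => colimit.ι_desc _ _⟩

variable {S : Scheme.{u}}

/-- A sheaf covered by a directed, intersection-closed family of open subschemes is a scheme. -/
theorem exists_iso_of_directed {ι : Type u} [Preorder ι] (hdir : ∀ i j : ι, ∃ k, i ≤ k ∧ j ≤ k)
    {F : AlgSp.Sp S} (X : ι → Over S) (m : ∀ i, (AlgSp.yon S).obj (X i) ⟶ F) [∀ i, Mono (m i)]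
    (t : ∀ {i j : ι}, i ≤ j → (X i ⟶ X j)) (hto : ∀ {i j : ι} (h : i ≤ j), IsOpenImmersion (t h).left)
    (htm : ∀ {i j : ι} (h : i ≤ j), (AlgSp.yon S).map (t h) ≫ m j = m i)
    (hcap : ∀ {i j k : ι} (hi : i ≤ k) (hj : j ≤ k) (x : (X i).left) (y : (X j).left),
      (t hi).left x = (t hj).left y → ∃ (l : ι) (hli : l ≤ i) (hlj : l ≤ j) (z : (X l).left),
        (t hli).left z = x ∧ (t hlj).left z = y)
    {W : Over S} (π : (AlgSp.yon S).obj W ⟶ F) [Sheaf.IsLocallySurjective π] (O : ι → W.left.Opens)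
    (hOc : ∀ x, ∃ i, x ∈ O i) (q : ∀ i, openOver W (O i) ⟶ X i)
    (hq : ∀ i, (AlgSp.yon S).map (q i) ≫ m i = (AlgSp.yon S).map (openι W (O i)) ≫ π) :
    ∃ X₀ : Over S, Nonempty ((AlgSp.yon S).obj X₀ ≅ F) := by
  have hinj : ∀ {i : ι} {T : Over S} (x y : T ⟶ X i),
      (AlgSp.yon S).map x ≫ m i = (AlgSp.yon S).map y ≫ m i → x = y :=
    fun x y h => (AlgSp.yon S).map_injective ((cancel_mono _).1 h)
  let D : ι ⥤ Scheme.{u} :=
    { obj := fun i => (X i).left
      map := fun f => (t (leOfHom f)).left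
      map_id := fun i => congrArg (fun k => k.left) (hinj (t (le_refl i)) (𝟙 _)
        (by rw [htm, CategoryTheory.Functor.map_id, Category.id_comp]))
      map_comp := fun {i j k} f g => congrArg (fun k => k.left) (hinj (t ((leOfHom f).trans (leOfHom g)))
        (t (leOfHom f) ≫ t (leOfHom g)) (by rw [htm, Functor.map_comp, Category.assoc, htm, htm])) }
  have : ∀ {i j : ι} (f : i ⟶ j), IsOpenImmersion (D.map f) := fun f => hto (leOfHom f)
  have : (D ⋙ Scheme.forget).IsLocallyDirected := ⟨fun {i j k} fi fj xi xj h => by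
    obtain ⟨l, hli, hlj, z, h1, h2⟩ := hcap (leOfHom fi) (leOfHom fj) xi xj h
    exact ⟨l, homOfLE hli, homOfLE hlj, z, h1, h2⟩⟩
  obtain ⟨C, str, c, hco, hcw, hcc, hcs⟩ := exists_colimit D S (fun i => (X i).hom)
    (fun f => Over.w (t (leOfHom f)))
  let X₀ : Over S := Over.mk str
  let ci : ∀ i, X i ⟶ X₀ := fun i => Over.homMk (c i) (hcs i)
  have hci : ∀ {i j : ι} (h : i ≤ j), t h ≫ ci j = ci i := fun h => Over.OverMorphism.ext (hcw (homOfLE h))
  have hcm : ∀ i, Mono (ci i) := fun i =>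
    (Over.forget S).mono_of_mono_map (have := hco i; inferInstanceAs (Mono (c i)))
  have hcE : ∀ i, Etale (ci i).left := fun i => have := hco i; inferInstanceAs (Etale (c i))
  obtain ⟨Φ, hΦ⟩ := InfGlue.exists_glue (T := X₀) (U := X) ci hcE hcc m fun i j Z a b hab => by
    obtain ⟨k, hik, hjk⟩ := hdir i j
    have := hcm k
    have e : a ≫ t hik = b ≫ t hjk := (cancel_mono (ci k)).1 (by
      rw [Category.assoc, Category.assoc, hci, hci, hab])
    rw [← htm hik, ← htm hjk, ← Functor.map_comp_assoc, ← Functor.map_comp_assoc, e]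
  have : Mono Φ := mono_of_yon Φ fun T x y hxy => by
    obtain ⟨x, rfl⟩ := (AlgSp.yon S).map_surjective x
    obtain ⟨y, rfl⟩ := (AlgSp.yon S).map_surjective y
    let Z := fun ij : ι × ι => openOver T ((x.left ⁻¹ᵁ (c ij.1).opensRange) ⊓ (y.left ⁻¹ᵁ (c ij.2).opensRange))
    refine InfGlue.hom_ext_cover (T := T) (U := Z) (fun ij => openι T _)
      (fun ij => inferInstanceAs (Etale (Scheme.Opens.ι _))) (fun z => ?_) _ _ fun ij => ?_
    · obtain ⟨i, xi, hi⟩ := hcc (x.left z)
      obtain ⟨j, xj, hj⟩ := hcc (y.left z)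
      exact ⟨(i, j), ⟨z, ⟨xi, hi⟩, ⟨xj, hj⟩⟩, rfl⟩
    · obtain ⟨i, j⟩ := ij
      have hlift : ∀ (k : ι) (u : T ⟶ X₀), (∀ z : (Z (i, j)).left, u.left ((openι T _).left z) ∈ Set.range (c k)) →
          ∃ u' : Z (i, j) ⟶ X k, u' ≫ ci k = openι T _ ≫ u := by
        intro k u hu
        have := hco k
        refine ⟨Over.homMk (IsOpenImmersion.lift (c k) ((openι T _).left ≫ u.left)
          (by rintro _ ⟨z, rfl⟩; exact hu z)) ?_, Over.OverMorphism.ext (IsOpenImmersion.lift_fac _ _ _)⟩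
        rw [← hcs k, IsOpenImmersion.lift_fac_assoc, Category.assoc]
        change _ ≫ u.left ≫ X₀.hom = _
        rw [Over.w u]; rfl
      obtain ⟨x', hx'⟩ := hlift i x fun z => z.2.1
      obtain ⟨y', hy'⟩ := hlift j y fun z => z.2.2
      obtain ⟨k, hik, hjk⟩ := hdir i j
      have e : x' ≫ t hik = y' ≫ t hjk := by
        refine hinj _ _ ?_
        rw [Functor.map_comp, Functor.map_comp, Category.assoc, Category.assoc, htm, htm, ← hΦ i, ← hΦ j]
        rw [← Functor.map_comp_assoc, ← Functor.map_comp_assoc, hx', hy', Functor.map_comp_assoc,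
          Functor.map_comp_assoc, hxy]
      rw [← Functor.map_comp, ← Functor.map_comp, ← hx', ← hy', ← hci hik, ← hci hjk, reassoc_of% e]
  let Wo := fun i => openOver W (O i)
  obtain ⟨g, hg⟩ := InfGlue.exists_glue (T := W) (U := Wo) (fun i => openι W (O i))
    (fun i => inferInstanceAs (Etale (O i).ι)) (fun x => (hOc x).elim fun i hi => ⟨i, ⟨x, hi⟩, rfl⟩)
    (fun i => (AlgSp.yon S).map (q i ≫ ci i)) fun i j Z a b hab => by
      obtain ⟨k, hik, hjk⟩ := hdir i j
      have e : a ≫ q i ≫ t hik = b ≫ q j ≫ t hjk := by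
        refine hinj _ _ ?_
        simp only [Functor.map_comp, Category.assoc, htm, hq]
        rw [← Functor.map_comp_assoc, ← Functor.map_comp_assoc, hab]
      rw [← Functor.map_comp, ← Functor.map_comp, ← hci hik, ← hci hjk, reassoc_of% e]
  have hgΦ : g ≫ Φ = π := by
    refine InfGlue.hom_ext_cover (T := W) (U := Wo) (fun i => openι W (O i))
      (fun i => inferInstanceAs (Etale (O i).ι)) (fun x => (hOc x).elim fun i hi => ⟨i, ⟨x, hi⟩, rfl⟩) _ _ fun i => ?_
    rw [reassoc_of% (hg i), Functor.map_comp, Category.assoc, hΦ, hq]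
  have : Epi π := Sheaf.epi_of_isLocallySurjective π
  have : Epi Φ := epi_of_epi_fac hgΦ
  have : IsIso Φ := isIso_of_mono_of_epi Φ
  exact ⟨X₀, ⟨asIso Φ⟩⟩

end Groth.Agent.AlgSp
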