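import Groth.Agent.AlgSp.DescentImm
import Groth.Agent.AlgSpB.Points
import Mathlib.CategoryTheory.Sites.Subsheaf

/-!
# Open subsheaves given by saturated opens of a covering scheme
-/

universe u

open CategoryTheory CategoryTheory.Limits AlgebraicGeometry Opposite

set_option backward.isDefEq.respectTransparency.types false

namespace Groth.Agent.AlgSp

variable {S : Scheme.{u}}

/-- A saturated open of a scheme over a sheaf is the preimage of its image subsheaf. -/
theorem exists_subsheaf {W : Over S} {F : AlgSp.Sp S} (π : (AlgSp.yon S).obj W ⟶ F)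
    (O : W.left.Opens) (hO : ∀ x y, AlgSp.Points.ofPt π x = AlgSp.Points.ofPt π y → x ∈ O → y ∈ O) :
    ∃ (G : AlgSp.Sp S) (m : G ⟶ F) (e : (AlgSp.yon S).obj (openOver W O) ⟶ G),
      Mono m ∧ Sheaf.IsLocallySurjective e ∧ IsPullback e ((AlgSp.yon S).map (openι W O)) m π := by
  let f := (AlgSp.yon S).map (openι W O) ≫ π
  refine ⟨Sheaf.image f, Sheaf.imageι f, Sheaf.toImage f, inferInstance,
    (Sheaf.isLocallySurjective_iff_epi _).2 inferInstance, ?_⟩
  have : Sheaf.IsLocallySurjective (Sheaf.toImage f) := (Sheaf.isLocallySurjective_iff_epi _).2 inferInstance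
  have : Mono (openι W O) := (Over.forget S).mono_of_mono_map (inferInstanceAs (Mono O.ι))
  let c := pullback.lift (f := Sheaf.imageι f) (g := π) (Sheaf.toImage f) ((AlgSp.yon S).map (openι W O))
    (Sheaf.toImage_ι f)
  have hc : IsIso c := isIso_of_yon c fun T x => by
    obtain ⟨y, hy⟩ := (AlgSp.yon S).map_surjective (x ≫ pullback.snd (Sheaf.imageι f) π)
    have hrange : Set.range y.left ⊆ (O : Set W.left) := by
      rintro _ ⟨z, rfl⟩
      obtain ⟨R, hR, hl⟩ := exists_cover_lift (Sheaf.toImage f) (x ≫ pullback.fst (Sheaf.imageι f) π)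
      obtain ⟨ι, X, k, rfl⟩ := R.exists_eq_ofArrows
      obtain ⟨i, z', rfl⟩ := ((Scheme.ofArrows_mem_precoverage_iff _).1 hR).1 z
      obtain ⟨h, hh⟩ := hl (k i) (Presieve.ofArrows.mk i)
      obtain ⟨h, rfl⟩ := (AlgSp.yon S).map_surjective h
      let k' : Over.mk (k i ≫ T.hom) ⟶ T := Over.homMk (k i) rfl
      have e : (AlgSp.yon S).map (h ≫ openι W O) ≫ π = (AlgSp.yon S).map (k' ≫ y) ≫ π := by
        rw [Functor.map_comp, Functor.map_comp, hy, Category.assoc]
        have := congrArg (· ≫ Sheaf.imageι f) hh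
        simp only [Category.assoc, Sheaf.toImage_ι] at this
        rw [this, pullback.condition]
        simp only [Category.assoc]
        rfl
      have e2 : AlgSp.Points.ofPt π ((h ≫ openι W O).left z') = AlgSp.Points.ofPt π ((k' ≫ y).left z') := by
        rw [← AlgSpB.ofPt_map_comp, ← AlgSpB.ofPt_map_comp, e]
      exact hO _ _ e2 ((h.left z').2)
    let y' : T ⟶ openOver W O := Over.homMk (IsOpenImmersion.lift O.ι y.left
      (by rw [Scheme.Opens.range_ι]; exact hrange)) (by
      change _ ≫ O.ι ≫ W.hom = T.hom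
      rw [IsOpenImmersion.lift_fac_assoc, Over.w y])
    have hy' : y' ≫ openι W O = y := Over.OverMorphism.ext (IsOpenImmersion.lift_fac _ _ _)
    refine ⟨y', ?_, fun y'' hy'' => ?_⟩
    · apply pullback.hom_ext
      · rw [Category.assoc, pullback.lift_fst, ← cancel_mono (Sheaf.imageι f), Category.assoc, Sheaf.toImage_ι,
          Category.assoc, pullback.condition, ← Category.assoc x, ← hy, ← hy', Functor.map_comp, Category.assoc]
      · rw [Category.assoc, pullback.lift_snd, ← Functor.map_comp, hy', hy]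
    · rw [← cancel_mono (openι W O), hy']
      refine (AlgSp.yon S).map_injective ?_
      rw [hy, ← hy'', Category.assoc, pullback.lift_snd, Functor.map_comp]
  exact IsPullback.of_iso_pullback ⟨Sheaf.toImage_ι f⟩ (asIso c) (pullback.lift_fst _ _ _) (pullback.lift_snd _ _ _)

end Groth.Agent.AlgSp
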