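import Groth.Agent.AlgSp.DescentQAffine
import Groth.Agent.AlgSp.DescentSubsheaf
import Groth.Agent.AlgSp.DescentDirected
import Groth.Agent.AlgSp.AffineMor
import Mathlib.AlgebraicGeometry.ZariskisMainTheorem

/-!
# Effective descent of separated locally quasi-finite schemes
-/

universe u

open CategoryTheory CategoryTheory.Limits AlgebraicGeometry Opposite

set_option backward.isDefEq.respectTransparency.types false

namespace Groth.Agent.AlgSp

/-- A quasi-compact open of a separated locally quasi-finite scheme over an affine scheme is quasi-affine. -/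
theorem isQuasiAffine_of_lqf {O V : Scheme.{u}} [IsAffine V] (f : O ⟶ V) [CompactSpace O] [IsSeparated f]
    [LocallyQuasiFinite f] [LocallyOfFiniteType f] : O.IsQuasiAffine := by
  have : QuasiCompact f := (quasiCompact_iff_compactSpace f).2 inferInstance
  have : IsAffine f.normalization := isAffine_of_isAffineHom f.fromNormalization
  exact Scheme.IsQuasiAffine.of_isImmersion f.toNormalization

variable {S : Scheme.{u}}

theorem isLocallySurjective_baseChange_fppf {V U : Over S} (p : V ⟶ U) [Flat p.left] [Surjective p.left]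
    [LocallyOfFinitePresentation p.left] {G : AlgSp.Sp S} {H : AlgSp.Sp S} {π : H ⟶ G}
    {a : G ⟶ (AlgSp.yon S).obj U} {a' : H ⟶ (AlgSp.yon S).obj V}
    (sq : IsPullback π a' a ((AlgSp.yon S).map p)) : Sheaf.IsLocallySurjective π :=
  have h : ∀ (P : MorphismProperty Scheme.{u}) [P.IsStableUnderBaseChange], P p.left → AlgSp.RepWith P π :=
    fun P _ hP => MorphismProperty.of_isPullback sq.flip ((AlgSp.repWith_yon_map_iff P p).2 hP)
  isLocallySurjective_of_repWith π (h @Flat inferInstance) (h @LocallyOfFinitePresentation inferInstance)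
    (h @Surjective inferInstance)

/-- The data attached to a saturated quasi-compact open. -/
theorem exists_piece {U V W : Over S} [IsAffine U.left] [IsAffine V.left] (p : V ⟶ U) [Flat p.left]
    [Surjective p.left] [LocallyOfFinitePresentation p.left] {F : AlgSp.Sp S} (a : F ⟶ (AlgSp.yon S).obj U)
    (π : (AlgSp.yon S).obj W ⟶ F) (w : W ⟶ V)
    (sq : IsPullback π ((AlgSp.yon S).map w) a ((AlgSp.yon S).map p))
    [IsSeparated w.left] [LocallyQuasiFinite w.left] [LocallyOfFiniteType w.left]
    (O : W.left.Opens) (hO : ∀ x y, AlgSp.Points.ofPt π x = AlgSp.Points.ofPt π y → x ∈ O → y ∈ O)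
    (hOc : IsCompact (O : Set W.left)) :
    ∃ (X : Over S) (m : (AlgSp.yon S).obj X ⟶ F) (q : openOver W O ⟶ X), Mono m ∧
      AlgSp.RepWith @IsOpenImmersion m ∧ Surjective q.left ∧ Sheaf.IsLocallySurjective ((AlgSp.yon S).map q) ∧
      (AlgSp.yon S).map q ≫ m = (AlgSp.yon S).map (openι W O) ≫ π := by
  obtain ⟨G, m, e, hm, he, sqG⟩ := exists_subsheaf π O hO
  let wO := openι W O ≫ w
  have : IsSeparated wO.left := inferInstanceAs (IsSeparated (O.ι ≫ w.left))
  have : LocallyQuasiFinite wO.left := inferInstanceAs (LocallyQuasiFinite (O.ι ≫ w.left))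
  have : LocallyOfFiniteType wO.left := inferInstanceAs (LocallyOfFiniteType (O.ι ≫ w.left))
  have : CompactSpace (openOver W O).left := isCompact_iff_compactSpace.1 hOc
  have : (openOver W O).left.IsQuasiAffine := isQuasiAffine_of_lqf wO.left
  have sqO : IsPullback e ((AlgSp.yon S).map wO) (m ≫ a) ((AlgSp.yon S).map p) := by
    rw [Functor.map_comp]
    exact sqG.paste_vert sq
  obtain ⟨X, ⟨ε⟩⟩ := exists_iso_of_fppf_quasiAffine p (m ≫ a) e wO sqO
  obtain ⟨q, hq⟩ := (AlgSp.yon S).map_surjective (e ≫ ε.inv)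
  have := isLocallySurjective_baseChange_fppf p sq
  have sqX : IsPullback ((AlgSp.yon S).map q) ((AlgSp.yon S).map (openι W O)) (ε.hom ≫ m) π := by
    refine IsPullback.of_iso sqG (Iso.refl _) ε.symm (Iso.refl _) (Iso.refl _) (by simp [hq]) (by simp)
      (by simp) (by simp)
  have hopen := repWith_isOpenImmersion_of_baseChange _ π sqX
    ((AlgSp.repWith_yon_map_iff _ _).2 (inferInstanceAs (IsOpenImmersion O.ι)))
  have hsurj : AlgSp.RepWith @Surjective ((AlgSp.yon S).map q) :=
    MorphismProperty.of_isPullback sqX.flip (MorphismProperty.of_isPullback sq.flip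
      ((AlgSp.repWith_yon_map_iff @Surjective p).2 inferInstance))
  exact ⟨X, ε.hom ≫ m, q, mono_comp _ _, hopen, (AlgSp.repWith_yon_map_iff _ q).1 hsurj,
    hq ▸ Sheaf.isLocallySurjective_comp e ε.inv, sqX.w⟩

/-- fppf descent of separated locally quasi-finite schemes: a sheaf over an affine scheme which becomes such a
scheme after a surjective flat lfp affine base change is a scheme. -/
theorem exists_iso_of_fppf_lqf {U V W : Over S} [IsAffine U.left] [IsAffine V.left] (p : V ⟶ U)
    [Flat p.left] [Surjective p.left] [LocallyOfFinitePresentation p.left] {F : AlgSp.Sp S}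
    (a : F ⟶ (AlgSp.yon S).obj U) (π : (AlgSp.yon S).obj W ⟶ F) (w : W ⟶ V)
    (sq : IsPullback π ((AlgSp.yon S).map w) a ((AlgSp.yon S).map p))
    [IsSeparated w.left] [LocallyQuasiFinite w.left] [LocallyOfFiniteType w.left] :
    ∃ W₀ : Over S, Nonempty ((AlgSp.yon S).obj W₀ ≅ F) := by
  let pt := AlgSp.Points.ofPt π
  have : QuasiSeparatedSpace W.left := quasiSeparatedSpace_of_quasiSeparated w.left
  -- the kernel pair of `π`
  have hπp : ∀ (P : MorphismProperty Scheme.{u}) [P.IsStableUnderBaseChange], P p.left → AlgSp.RepWith P π :=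
    fun P _ hP => MorphismProperty.of_isPullback sq.flip ((AlgSp.repWith_yon_map_iff P p).2 hP)
  obtain ⟨R, r₁, r₂, hR⟩ := AlgSpB.exists_pullback_yon (hπp @Flat inferInstance).1 π
  have hr₁ : QuasiCompact r₁.left := (hπp @QuasiCompact inferInstance).2 π _ r₁ hR.flip
  have hr₂ : UniversallyOpen r₂.left := (hπp @UniversallyOpen inferInstance).2 π _ r₂ hR
  have hsat : ∀ O : W.left.Opens, IsCompact (O : Set W.left) →
      ∃ O' : W.left.Opens, O ≤ O' ∧ (∀ x y, pt x = pt y → x ∈ O' → y ∈ O') ∧ IsCompact (O' : Set W.left) := by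
    intro O hO
    have e := AlgSpB.preimage_range_ofPt hR (O : Set W.left)
    refine ⟨⟨pt ⁻¹' (pt '' O), ?_⟩, fun x hx => ⟨x, hx, rfl⟩, fun x y h hx => ?_, ?_⟩
    · rw [e]
      exact r₂.left.isOpenMap _ (O.isOpen.preimage r₁.left.continuous)
    · change pt y ∈ pt '' O
      rw [← h]
      exact hx
    · change IsCompact (pt ⁻¹' (pt '' O))
      rw [e]
      exact (r₁.left.isCompact_preimage hO).image r₂.left.continuous
  let ι := {O : W.left.Opens // (∀ x y, pt x = pt y → x ∈ O → y ∈ O) ∧ IsCompact (O : Set W.left)}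
  have hcov : ∀ x : W.left, ∃ i : ι, x ∈ i.1 := fun x => by
    obtain ⟨A, hA, hx, -⟩ := exists_isAffineOpen_mem_and_subset (x := x) (U := ⊤) trivial
    obtain ⟨O', h1, h2, h3⟩ := hsat A hA.isCompact
    exact ⟨⟨O', h2, h3⟩, h1 hx⟩
  have hdir : ∀ i j : ι, ∃ k : ι, i ≤ k ∧ j ≤ k := fun i j =>
    ⟨⟨i.1 ⊔ j.1, fun x y h hx => hx.elim (fun hx => Or.inl (i.2.1 x y h hx)) (fun hx => Or.inr (j.2.1 x y h hx)),
      i.2.2.union j.2.2⟩, le_sup_left (a := i.1) (b := j.1), le_sup_right (a := i.1) (b := j.1)⟩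
  choose X m q hm hopen hq hql hqm using fun i : ι => exists_piece p a π w sq i.1 i.2.1 i.2.2
  have := isLocallySurjective_baseChange_fppf p sq
  -- transition maps
  have ht : ∀ {i j : ι}, i ≤ j → ∃ t : X i ⟶ X j, (AlgSp.yon S).map t ≫ m j = m i := by
    intro i j hij
    let incl : openOver W i.1 ⟶ openOver W j.1 := openHom W hij
    have sX : CommSq ((AlgSp.yon S).map (incl ≫ q j)) ((AlgSp.yon S).map (q i)) (m j) (m i) := ⟨by
      rw [hqm, Functor.map_comp, Category.assoc, hqm, ← Functor.map_comp_assoc, openHom_ι]⟩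
    have := hql i
    have : Epi ((AlgSp.yon S).map (q i)) := Sheaf.epi_of_isLocallySurjective _
    have : IsRegularEpi ((AlgSp.yon S).map (q i)) := IsRegularEpiCategory.regularEpiOfEpi _
    have := hm j
    obtain ⟨t, ht⟩ := (AlgSp.yon S).map_surjective sX.lift
    exact ⟨t, by rw [ht, sX.fac_right]⟩
  choose t ht using @ht
  have hto : ∀ {i j : ι} (h : i ≤ j), IsOpenImmersion (t h).left := by
    intro i j h
    have := hm j
    have s1 : IsPullback (𝟙 _) ((AlgSp.yon S).map (t h)) (m i) (m j) := by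
      refine IsPullback.of_isLimit' ⟨by rw [Category.id_comp, ht]⟩ (PullbackCone.IsLimit.mk _ (fun c => c.fst)
        (fun c => Category.comp_id _) (fun c => ?_) (fun c n h1 _ => ?_))
      · rw [← cancel_mono (m j), Category.assoc, ht, c.condition]
      · rw [← h1, Category.comp_id]
    exact (hopen i).2 (m j) _ (t h) s1
  refine exists_iso_of_directed hdir X m t hto ht ?_ π (fun i => i.1) hcov q hqm
  intro i j k hi hj x y hxy
  obtain ⟨z, hz⟩ := (hq i).surj x
  obtain ⟨z', hz'⟩ := (hq j).surj y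
  have hzz : pt z.1 = pt z'.1 := by
    have hm' : ∀ (i : ι) (u : (openOver W i.1).left), pt u.1 = AlgSp.Points.ofPt (m i) ((q i).left u) := fun i u => by
      rw [← AlgSpB.ofPt_map_comp, hqm, AlgSpB.ofPt_map_comp]
      rfl
    rw [hm', hm', hz, hz', ← ht hi, ← ht hj, AlgSpB.ofPt_map_comp, AlgSpB.ofPt_map_comp, hxy]
  let l : ι := ⟨i.1 ⊓ j.1, fun x y h hx => ⟨i.2.1 x y h hx.1, j.2.1 x y h hx.2⟩,
    i.2.2.inter_of_isOpen j.2.2 i.1.isOpen j.1.isOpen⟩
  have hli : l ≤ i := inf_le_left (a := i.1) (b := j.1)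
  have hlj : l ≤ j := inf_le_right (a := i.1) (b := j.1)
  let z₀ : (openOver W l.1).left := ⟨z.1, z.2, j.2.1 _ _ hzz.symm z'.2⟩
  have hq' : ∀ {a b : ι} (h : a ≤ b) (u : (openOver W a.1).left),
      (t h).left ((q a).left u) = (q b).left ((openHom W h).left u) := by
    intro a b h u
    have := hm b
    have e : q a ≫ t h = openHom W h ≫ q b := (AlgSp.yon S).map_injective ((cancel_mono (m b)).1 (by
      rw [Functor.map_comp, Functor.map_comp, Category.assoc, Category.assoc, ht, hqm, hqm,
        ← Functor.map_comp_assoc, openHom_ι]))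
    exact congrArg (fun k : openOver W a.1 ⟶ X b => k.left u) e
  have hx' : (t hli).left ((q l).left z₀) = x := by
    rw [hq', ← hz]
    refine congrArg _ (i.1.ι.injective ?_)
    exact congr($(Scheme.homOfLE_ι _ hli) z₀)
  refine ⟨l, hli, hlj, (q l).left z₀, hx', ?_⟩
  have := hto hj
  refine (t hj).left.injective ?_
  rw [← hxy, ← hx']
  have := hm k
  have e : t hlj ≫ t hj = t hli ≫ t hi := (AlgSp.yon S).map_injective ((cancel_mono (m k)).1 (by
    rw [Functor.map_comp, Functor.map_comp, Category.assoc, Category.assoc, ht, ht, ht, ht]))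
  exact congrArg (fun k : X l ⟶ X k => k.left ((q l).left z₀)) e

end Groth.Agent.AlgSp
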