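import Groth.Prelude.Def_AlgSp
import Mathlib.CategoryTheory.Sites.LocallySurjective

/-!
# Basic toolkit for fppf sheaves over a scheme and representable morphisms
-/

universe u

open CategoryTheory CategoryTheory.Limits AlgebraicGeometry Opposite

namespace Groth.Agent.AlgSp

variable {S : Scheme.{u}}

/-- Yoneda: morphisms `h_U ⟶ F` are sections. -/
noncomputable abbrev yEquiv {U : Over S} {F : AlgSp.Sp S} :
    ((AlgSp.yon S).obj U ⟶ F) ≃ F.obj.obj (op U) :=
  GrothendieckTopology.uliftYonedaEquiv.{u + 1} (AlgSp.J S)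

theorem yEquiv_comp {U : Over S} {F G : AlgSp.Sp S} (α : (AlgSp.yon S).obj U ⟶ F) (β : F ⟶ G) :
    yEquiv (α ≫ β) = β.hom.app _ (yEquiv α) := rfl

theorem yEquiv_map {U V : Over S} {F : AlgSp.Sp S} (f : V ⟶ U) (α : (AlgSp.yon S).obj U ⟶ F) :
    yEquiv ((AlgSp.yon S).map f ≫ α) = F.obj.map f.op (yEquiv α) :=
  (GrothendieckTopology.uliftYonedaEquiv_naturality.{u + 1} (AlgSp.J S) α f).symm

theorem hom_ext_yon {F G : AlgSp.Sp S} {f g : F ⟶ G}
    (h : ∀ (U : Over S) (a : (AlgSp.yon S).obj U ⟶ F), a ≫ f = a ≫ g) : f = g := by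
  ext X x
  have := congrArg yEquiv (h X.unop (yEquiv.symm x))
  simpa only [yEquiv_comp, Equiv.apply_symm_apply] using! this

theorem mono_of_yon {F G : AlgSp.Sp S} (f : F ⟶ G)
    (h : ∀ (U : Over S) (a b : (AlgSp.yon S).obj U ⟶ F), a ≫ f = b ≫ f → a = b) : Mono f :=
  ⟨fun a b w => hom_ext_yon fun U c => h U _ _ (by rw [Category.assoc, w, Category.assoc])⟩

instance fppfPrecoverage_hasPullbacks : (Scheme.fppfPrecoverage.{u}).HasPullbacks where
  hasPullbacks_of_mem _ _ := ⟨fun _ => inferInstance⟩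

instance fppfPrecoverage_hasIsos : (Scheme.fppfPrecoverage.{u}).HasIsos := by
  have : (@Flat ⊓ @LocallyOfFinitePresentation : MorphismProperty Scheme.{u}).ContainsIdentities :=
    ⟨fun X => ⟨inferInstance, inferInstance⟩⟩
  have : (@Flat ⊓ @LocallyOfFinitePresentation : MorphismProperty Scheme.{u}).RespectsIso :=
    @MorphismProperty.RespectsIso.inf _ _ _ _ MorphismProperty.IsStableUnderBaseChange.respectsIso
      MorphismProperty.IsStableUnderBaseChange.respectsIso
  unfold Scheme.fppfPrecoverage; infer_instance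

/-- A sieve covering in the fppf topology over `S` contains an fppf covering of the underlying scheme. -/
theorem exists_cover_of_mem {U : Over S} {T : Sieve U} (hT : T ∈ AlgSp.J S U) :
    ∃ R ∈ Scheme.fppfPrecoverage U.left, ∀ ⦃W : Scheme.{u}⦄ (g : W ⟶ U.left), R g →
      T (Over.homMk g rfl : Over.mk (g ≫ U.hom) ⟶ U) := by
  have h : Sieve.overEquiv U T ∈ Scheme.fppfPrecoverage.toGrothendieck U.left := hT
  obtain ⟨R, hR, hle⟩ := Precoverage.mem_toGrothendieck_iff_of_isStableUnderComposition.1 h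
  refine ⟨R, hR, fun W g hg => ?_⟩
  exact (Sieve.overEquiv_iff T g).1 (hle W g hg)

/-- A sieve containing an fppf covering of the underlying scheme covers. -/
theorem mem_of_cover {U : Over S} {T : Sieve U} {R : Presieve U.left}
    (hR : R ∈ Scheme.fppfPrecoverage U.left) (h : ∀ ⦃W : Scheme.{u}⦄ (g : W ⟶ U.left), R g →
      T (Over.homMk g rfl : Over.mk (g ≫ U.hom) ⟶ U)) : T ∈ AlgSp.J S U := by
  change Sieve.overEquiv U T ∈ Scheme.fppfPrecoverage.toGrothendieck U.left
  refine GrothendieckTopology.superset_covering _ ?_ (Precoverage.generate_mem_toGrothendieck hR)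
  rw [Sieve.generate_le_iff]
  intro W g hg
  exact (Sieve.overEquiv_iff T g).2 (h g hg)

/-- The singleton of a surjective flat lfp morphism gives a covering sieve. -/
theorem mem_of_fppf {U V : Over S} (g : V ⟶ U) [Flat g.left] [Surjective g.left]
    [LocallyOfFinitePresentation g.left] {T : Sieve U} (hT : T g) : T ∈ AlgSp.J S U := by
  refine mem_of_cover (Scheme.Hom.singleton_mem_fppfPrecoverage g.left) fun W k hk => ?_
  cases hk
  have : (Over.homMk g.left rfl : Over.mk (g.left ≫ U.hom) ⟶ U) =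
      (Over.homMk (𝟙 V.left) (by simp) : Over.mk (g.left ≫ U.hom) ⟶ V) ≫ g :=
    Over.OverMorphism.ext (by simp)
  rw [this]
  exact T.downward_closed hT _

/-- Local lifts through a locally surjective map, along an fppf covering. -/
theorem exists_cover_lift {F G : AlgSp.Sp S} (f : F ⟶ G) [Sheaf.IsLocallySurjective f]
    {U : Over S} (g : (AlgSp.yon S).obj U ⟶ G) :
    ∃ R ∈ Scheme.fppfPrecoverage U.left, ∀ ⦃W : Scheme.{u}⦄ (k : W ⟶ U.left), R k →
      ∃ h : (AlgSp.yon S).obj (Over.mk (k ≫ U.hom)) ⟶ F,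
        h ≫ f = (AlgSp.yon S).map (Over.homMk k rfl : Over.mk (k ≫ U.hom) ⟶ U) ≫ g := by
  obtain ⟨R, hR, h⟩ := exists_cover_of_mem (U := U) (T := Presheaf.imageSieve f.hom (yEquiv g)) (Presheaf.IsLocallySurjective.imageSieve_mem _)
  refine ⟨R, hR, fun W k hk => ?_⟩
  obtain ⟨x, hx⟩ := h k hk
  refine ⟨yEquiv.symm x, yEquiv.injective ?_⟩
  rw [yEquiv_comp, Equiv.apply_symm_apply, yEquiv_map]
  exact hx

/-- Criterion for local surjectivity: lifts after a single fppf covering. -/
theorem isLocallySurjective_of_fppf_lift {F G : AlgSp.Sp S} (f : F ⟶ G)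
    (h : ∀ (U : Over S) (g : (AlgSp.yon S).obj U ⟶ G), ∃ (V : Over S) (k : V ⟶ U)
      (l : (AlgSp.yon S).obj V ⟶ F), Flat k.left ∧ Surjective k.left ∧
      LocallyOfFinitePresentation k.left ∧ l ≫ f = (AlgSp.yon S).map k ≫ g) :
    Sheaf.IsLocallySurjective f := by
  refine ⟨fun {U} s => ?_⟩
  obtain ⟨V, k, l, _, _, _, hl⟩ := h U (yEquiv.symm s)
  refine mem_of_fppf k ⟨yEquiv l, ?_⟩
  change f.hom.app _ (yEquiv l) = G.obj.map k.op s
  rw [← yEquiv_comp, hl, yEquiv_map, Equiv.apply_symm_apply]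

/-- Representable, flat, lfp and surjective maps are locally surjective. -/
theorem isLocallySurjective_of_repWith {F G : AlgSp.Sp S} (a : F ⟶ G)
    (h₁ : AlgSp.RepWith @Flat a) (h₂ : AlgSp.RepWith @LocallyOfFinitePresentation a)
    (h₃ : AlgSp.RepWith @Surjective a) : Sheaf.IsLocallySurjective a :=
  isLocallySurjective_of_fppf_lift a fun _ g =>
    ⟨h₁.1.pullback g, h₁.1.snd g, h₁.1.fst g, h₁.2 _ _ _ (h₁.1.isPullback g),
      h₃.2 _ _ _ (h₁.1.isPullback g), h₂.2 _ _ _ (h₁.1.isPullback g), h₁.1.w g⟩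

theorem repWith_mono {P Q : MorphismProperty Scheme.{u}} (h : ∀ {X Y : Scheme.{u}} (f : X ⟶ Y), P f → Q f)
    {F G : AlgSp.Sp S} {a : F ⟶ G} (ha : AlgSp.RepWith P a) : AlgSp.RepWith Q a :=
  ⟨ha.1, fun _ _ g fst snd sq => h _ (ha.2 g fst snd sq)⟩

theorem repWith_inf {P Q : MorphismProperty Scheme.{u}} {F G : AlgSp.Sp S} {a : F ⟶ G}
    (h₁ : AlgSp.RepWith P a) (h₂ : AlgSp.RepWith Q a) : AlgSp.RepWith (P ⊓ Q) a :=
  ⟨h₁.1, fun _ _ g fst snd sq => ⟨h₁.2 g fst snd sq, h₂.2 g fst snd sq⟩⟩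

/-- Etale surjective representable maps are locally surjective. -/
theorem isLocallySurjective_of_etale_surjective {F G : AlgSp.Sp S} (a : F ⟶ G)
    (he : AlgSp.RepWith @Etale a) (hs : AlgSp.RepWith @Surjective a) : Sheaf.IsLocallySurjective a :=
  isLocallySurjective_of_repWith a
    (repWith_mono (fun f hf => (have : Etale f := hf; inferInstance : Flat f)) he)
    (repWith_mono (fun f hf => (have : Etale f := hf; inferInstance : LocallyOfFinitePresentation f)) he) hs

/-- To check `RepWith P` it suffices to check one pullback for each test map. -/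
theorem repWith_of_snd {P : MorphismProperty Scheme.{u}} [P.RespectsIso] {F G : AlgSp.Sp S}
    {a : F ⟶ G} (ha : AlgSp.Representable a)
    (h : ∀ ⦃U : Over S⦄ (g : (AlgSp.yon S).obj U ⟶ G), P (ha.snd g).left) :
    AlgSp.RepWith P a :=
  MorphismProperty.relative_of_snd ha h

/-- `RepWith P` descends along a locally surjective base change. -/
theorem repWith_of_isPullback_of_isLocallySurjective {F G H Q : AlgSp.Sp S} (a : F ⟶ G)
    (ha : AlgSp.Representable a) (b : H ⟶ G) [Sheaf.IsLocallySurjective b] (b' : Q ⟶ F) (a' : Q ⟶ H)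
    (sq : IsPullback b' a' a b) (P : MorphismProperty Scheme.{u}) [P.IsStableUnderBaseChange]
    [P.IsLocalAtTarget Scheme.fppfPrecoverage] (h : AlgSp.RepWith P a') : AlgSp.RepWith P a := by
  refine repWith_of_snd ha fun U g => ?_
  obtain ⟨R, hR, hl⟩ := exists_cover_lift b g
  refine MorphismProperty.IsLocalAtTarget.of_forall_pullbackSnd (K := Scheme.fppfPrecoverage) hR ?_
  intro W k _ hk
  obtain ⟨l, hl⟩ := hl k hk
  let V := ha.pullback g
  let k' : Over.mk (k ≫ U.hom) ⟶ U := Over.homMk k rfl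
  have sq0 := ((IsPullback.of_hasPullback (ha.snd g) k').map (AlgSp.yon S)).paste_horiz (ha.isPullback g)
  rw [← hl] at sq0
  have w : ((AlgSp.yon S).map (pullback.fst (ha.snd g) k') ≫ ha.fst g) ≫ a =
      ((AlgSp.yon S).map (pullback.snd (ha.snd g) k') ≫ l) ≫ b := by rw [sq0.w, Category.assoc]
  have sq1 : IsPullback (sq.lift _ _ w) ((AlgSp.yon S).map (pullback.snd (ha.snd g) k')) a' l := by
    refine IsPullback.of_right ?_ (sq.lift_snd _ _ w) sq
    simpa [sq.lift_fst] using sq0
  have hP : P (pullback.snd (ha.snd g) k').left := h.2 _ _ _ sq1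
  have sq2 := (IsPullback.of_hasPullback (ha.snd g) k').map (Over.forget S)
  have sq3 := IsPullback.of_hasPullback (ha.snd g).left k
  have : P.RespectsIso := MorphismProperty.IsStableUnderBaseChange.respectsIso
  rw [← IsPullback.isoIsPullback_hom_snd _ _ sq3 sq2]
  exact (P.cancel_left_of_respectsIso _ _).2 hP

/-- A map which is representable by monomorphisms is a monomorphism of sheaves. -/
theorem mono_of_repWith_monomorphisms {F G : AlgSp.Sp S} (f : F ⟶ G)
    (h : AlgSp.RepWith (MorphismProperty.monomorphisms Scheme.{u}) f) : Mono f := by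
  refine mono_of_yon f fun U a b w => ?_
  let p := h.1.lift (g := a ≫ f) a (𝟙 U) (by simp)
  let q := h.1.lift (g := a ≫ f) b (𝟙 U) (by simp [← w])
  have hm : Mono (h.1.snd (a ≫ f)).left := h.2 _ _ _ (h.1.isPullback _)
  have : Mono (h.1.snd (a ≫ f)) := Functor.mono_of_mono_map (Over.forget S) hm
  have hpq : p = q := by
    rw [← cancel_mono (h.1.snd (a ≫ f))]
    simp [p, q]
  calc a = (AlgSp.yon S).map p ≫ h.1.fst (a ≫ f) := by simp [p]
    _ = (AlgSp.yon S).map q ≫ h.1.fst (a ≫ f) := by rw [hpq]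
    _ = b := by simp [q]

theorem mono_of_repWith {P : MorphismProperty Scheme.{u}}
    (hP : ∀ {X Y : Scheme.{u}} (f : X ⟶ Y), P f → Mono f) {F G : AlgSp.Sp S} (f : F ⟶ G)
    (h : AlgSp.RepWith P f) : Mono f :=
  mono_of_repWith_monomorphisms f (repWith_mono (fun f hf => hP f hf) h)

end Groth.Agent.AlgSp
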