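import Groth.Agent.AlgSp.NormGlue
import Groth.Agent.AlgSpCov.LocPBasic

/-!
# Properties of relative normalizations
-/

universe u

open CategoryTheory CategoryTheory.Limits AlgebraicGeometry Opposite

set_option backward.isDefEq.respectTransparency.types false

namespace Groth.Agent.AlgSp

open ElemDist

variable {S : Scheme.{u}}

theorem isNormOn_of_iso {F G X' X'' T : AlgSp.Sp S} {f : F ⟶ G} {ν : X' ⟶ G} {f' : F ⟶ X'} {ν' : X'' ⟶ G}
    {f'' : F ⟶ X''} (e : X' ≅ X'') (e1 : f' ≫ e.hom = f'') (e2 : e.hom ≫ ν' = ν) {b : T ⟶ G}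
    (h : IsNormOn f ν f' b) : IsNormOn f ν' f'' b := by
  intro F₁ X₁ a f₁ c ν₁ f₁' sF sX w₁ w₂
  refine h a f₁ (c ≫ e.inv) ν₁ f₁' sF ?_ w₁ ?_
  · exact sX.of_iso (Iso.refl _) e.symm (Iso.refl _) (Iso.refl _) (by simp) (by simp)
      (by simp [← e2]) (by simp)
  · rw [reassoc_of% w₂, ← e1, Category.assoc, e.hom_inv_id, Category.comp_id]

/-- Every normalization of a quasi-compact quasi-separated morphism commutes with smooth base change. -/
theorem isSmoothNorm_of_relNorm {F G X' : AlgSp.Sp S} (hF : AlgSp.IsAlgSpace F) (hG : AlgSp.IsAlgSpace G)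
    (hX' : AlgSp.IsAlgSpace X') {f : F ⟶ G} (hqc : AlgSp.IsQuasiCompactMor f)
    (hqs : AlgSp.IsQuasiSeparatedMor f) {ν : X' ⟶ G} {f' : F ⟶ X'}
    (hn : AlgSp.IsRelNormalization f ν f') : IsSmoothNorm f ν f' := by
  obtain ⟨X₀, ν₀, f₀, hX₀, h₀⟩ := exists_isSmoothNorm hF hG f hqc hqs
  obtain ⟨e, e1, e2⟩ := relNorm_iso (h₀.relNorm hG hX₀) hX₀ hX' hn
  exact ⟨hn.1, hn.2.1, fun T hT b hb => isNormOn_of_iso e e1 e2 (h₀.2.2 T hT b hb)⟩

/-- Normalizations commute with smooth base change. -/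
theorem relNorm_smooth_baseChange {F G X' T F₁ X₁ : AlgSp.Sp S} (hF : AlgSp.IsAlgSpace F)
    (hG : AlgSp.IsAlgSpace G) (hX' : AlgSp.IsAlgSpace X') (hT : AlgSp.IsAlgSpace T) (hX₁ : AlgSp.IsAlgSpace X₁)
    {f : F ⟶ G} (hqc : AlgSp.IsQuasiCompactMor f) (hqs : AlgSp.IsQuasiSeparatedMor f) {ν : X' ⟶ G} {f' : F ⟶ X'}
    (hn : AlgSp.IsRelNormalization f ν f') {b : T ⟶ G} (hb : AlgSp.LocP @Smooth b) {a : F₁ ⟶ F}
    {f₁ : F₁ ⟶ T} {c : X₁ ⟶ X'} {ν₁ : X₁ ⟶ T} {f₁' : F₁ ⟶ X₁} (sF : IsPullback a f₁ f b)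
    (sX : IsPullback c ν₁ ν b) (w₁ : f₁' ≫ ν₁ = f₁) (w₂ : f₁' ≫ c = a ≫ f') :
    AlgSp.IsRelNormalization f₁ ν₁ f₁' :=
  ((isSmoothNorm_of_relNorm hF hG hX' hqc hqs hn).baseChange hG hT hb sF sX w₁ w₂).relNorm hT hX₁

/-- Integral morphisms cancel: if `h ≫ π` and `π` are integral, so is `h`. -/
theorem repWith_isIntegralHom_of_comp {X Z G : AlgSp.Sp S} (h : X ⟶ Z) (π : Z ⟶ G)
    (hν : AlgSp.RepWith @IsIntegralHom (h ≫ π)) (hπ : AlgSp.RepWith @IsIntegralHom π) :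
    AlgSp.RepWith @IsIntegralHom h := by
  refine MorphismProperty.relative.of_exists fun T g => ?_
  have sπ := hπ.1.isPullback (g ≫ π)
  have sν := hν.1.isPullback (g ≫ π)
  have hr : IsIntegralHom (hπ.1.snd (g ≫ π)).left := hπ.2 _ _ _ sπ
  have hr' : IsIntegralHom (hν.1.snd (g ≫ π)).left := hν.2 _ _ _ sν
  obtain ⟨s, hs⟩ := (AlgSp.yon S).map_surjective (sπ.lift g (𝟙 _) (by rw [Category.id_comp]))
  obtain ⟨hT, hhT⟩ := (AlgSp.yon S).map_surjective (sπ.lift (hν.1.fst (g ≫ π) ≫ h)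
    ((AlgSp.yon S).map (hν.1.snd (g ≫ π))) (by rw [Category.assoc, sν.w]))
  have hT2 : hT ≫ hπ.1.snd (g ≫ π) = hν.1.snd (g ≫ π) := (AlgSp.yon S).map_injective (by
    rw [Functor.map_comp, hhT, sπ.lift_snd])
  have hTi : IsIntegralHom hT.left := by
    have : IsIntegralHom (hT.left ≫ (hπ.1.snd (g ≫ π)).left) := by
      rw [← Over.comp_left, hT2]; exact hr'
    exact MorphismProperty.of_postcomp @IsIntegralHom (W' := @IsSeparated) hT.left (hπ.1.snd (g ≫ π)).left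
      inferInstance this
  have sh : IsPullback (hν.1.fst (g ≫ π)) ((AlgSp.yon S).map hT) h (hπ.1.fst (g ≫ π)) := by
    refine IsPullback.of_bot ?_ (by rw [hhT, sπ.lift_fst]) sπ
    rw [← Functor.map_comp, hT2]; exact sν
  have hg : (AlgSp.yon S).map s ≫ hπ.1.fst (g ≫ π) = g := by rw [hs, sπ.lift_fst]
  have sP := ((IsPullback.of_hasPullback hT s).map (AlgSp.yon S)).paste_horiz sh
  rw [hg] at sP
  exact ⟨_, _, _, sP, MorphismProperty.of_isPullback (P := @IsIntegralHom)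
    ((IsPullback.of_hasPullback hT s).map (Over.forget S)) hTi⟩

end Groth.Agent.AlgSp
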