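import Groth.Agent.AlgSp.NormUniv
import Groth.Agent.AlgSpB.LqfSep
import Groth.Agent.S10298
import Mathlib.AlgebraicGeometry.ZariskisMainTheorem
import Mathlib.AlgebraicGeometry.QuasiAffine

/-!
# The normalization of a quasi-finite separated morphism
-/

universe u

open CategoryTheory CategoryTheory.Limits AlgebraicGeometry Opposite

set_option backward.isDefEq.respectTransparency.types false

namespace Groth.Agent.AlgSp

open ElemDist

variable {S : Scheme.{u}}

theorem isQuasiSeparatedMor_of_sep {F G : AlgSp.Sp S} {f : F ⟶ G} (h : AlgSp.IsSeparatedMor f) :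
    AlgSp.IsQuasiSeparatedMor f :=
  repWith_mono (fun g (hg : IsClosedImmersion g) => (inferInstance : QuasiCompact g)) h

theorem isSeparatedMor_baseChange' {X Y X' Y' : AlgSp.Sp S} {f : X ⟶ Y} {g : Y' ⟶ Y} {fst : X' ⟶ X}
    {f' : X' ⟶ Y'} (sq : IsPullback fst f' f g) (hf : AlgSp.IsSeparatedMor f) : AlgSp.IsSeparatedMor f' :=
  MorphismProperty.of_isPullback (P := (AlgSp.RepWith @IsClosedImmersion).diagonal) sq hf

/-- Representability cancels. -/
theorem representable_of_comp' {X Z G : AlgSp.Sp S} (h : X ⟶ Z) (π : Z ⟶ G)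
    (hν : AlgSp.Representable (h ≫ π)) (hπ : AlgSp.Representable π) : AlgSp.Representable h := fun T g => by
  obtain ⟨A, a, i, sπ⟩ : ∃ (A : Over S) (a : (AlgSp.yon S).obj A ⟶ Z) (i : A ⟶ T),
      IsPullback a ((AlgSp.yon S).map i) π (g ≫ π) := ⟨_, _, _, hπ.isPullback _⟩
  obtain ⟨B, b, k, sν⟩ : ∃ (B : Over S) (b : (AlgSp.yon S).obj B ⟶ X) (k : B ⟶ T),
      IsPullback b ((AlgSp.yon S).map k) (h ≫ π) (g ≫ π) := ⟨_, _, _, hν.isPullback _⟩
  obtain ⟨s, hs⟩ := (AlgSp.yon S).map_surjective (sπ.lift g (𝟙 _) (by rw [Category.id_comp]))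
  obtain ⟨hT, hhT⟩ := (AlgSp.yon S).map_surjective (sπ.lift (b ≫ h) ((AlgSp.yon S).map k)
    (by rw [Category.assoc, sν.w]))
  have hT2 : hT ≫ i = k := (AlgSp.yon S).map_injective (by rw [Functor.map_comp, hhT, sπ.lift_snd])
  have sh : IsPullback b ((AlgSp.yon S).map hT) h a := by
    refine IsPullback.of_bot ?_ (by rw [hhT, sπ.lift_fst]) sπ
    rw [← Functor.map_comp, hT2]; exact sν
  have sP := ((IsPullback.of_hasPullback hT s).map (AlgSp.yon S)).paste_horiz sh
  rw [show (AlgSp.yon S).map s ≫ a = g by rw [hs, sπ.lift_fst]] at sP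
  exact ⟨_, _, _, sP⟩

/-- The scheme over a base scheme obtained from a separated quasi-finite morphism. -/
theorem exists_chart_lqf_sep {X Y : AlgSp.Space S} {f : X.obj ⟶ Y.obj}
    (hqf : AlgSp.LocP (@LocallyQuasiFinite ⊓ @LocallyOfFiniteType) f) (hqc : AlgSp.IsQuasiCompactMor f)
    (hsep : AlgSp.IsSeparatedMor f) {V : Over S} (b : (AlgSp.yon S).obj V ⟶ Y.obj) :
    ∃ (W : Over S) (u : (AlgSp.yon S).obj W ⟶ X.obj) (w : W ⟶ V), IsPullback u ((AlgSp.yon S).map w) f b ∧
      LocallyQuasiFinite w.left ∧ LocallyOfFiniteType w.left ∧ IsSeparated w.left ∧ QuasiCompact w.left := by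
  have hrep := AlgSpB.representable_of_lqf_sep X.property Y.property f hqf hsep
  obtain ⟨W, u, w, sW⟩ : ∃ (W : Over S) (u : (AlgSp.yon S).obj W ⟶ X.obj) (w : W ⟶ V),
      IsPullback u ((AlgSp.yon S).map w) f b := ⟨_, _, _, hrep.isPullback _⟩
  obtain ⟨h1, h2⟩ := AlgSp.locP_yon_map (AlgSpCov.locP_baseChange
    (AlgSpCov.etaleLocal_locallyQuasiFinite.inf AlgSpCov.etaleLocal_locallyOfFiniteType)
    X.property Y.property sW hqf)
  refine ⟨W, u, w, sW, h1, h2, (AlgSp.isSeparatedMor_yon_map_iff w).1 (isSeparatedMor_baseChange' sW hsep), ?_⟩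
  exact (AlgSp.repWith_yon_map_iff _ _).1 ((repWith_quasiCompact_iff (AlgSp.IsAlgSpace.yon_obj V) _
    (AlgSp.representable_yon_map w)).2 (isQuasiCompactMor_baseChange sW hqc))

/-- Quasi-finite separated morphisms are quasi-affine and embed into their normalization. -/
theorem openImmersion_normalization {X Y Y' : AlgSp.Space S} {f : X.obj ⟶ Y.obj}
    (hqf : AlgSp.LocP (@LocallyQuasiFinite ⊓ @LocallyOfFiniteType) f) (hqc : AlgSp.IsQuasiCompactMor f)
    (hsep : AlgSp.IsSeparatedMor f) {ν : Y'.obj ⟶ Y.obj} {f' : X.obj ⟶ Y'.obj}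
    (hn : AlgSp.IsRelNormalization f ν f') :
    AlgSp.RepWith @IsOpenImmersion f' ∧ AlgSp.IsQuasiCompactMor f' ∧ AlgSp.IsQuasiAffineMor f := by
  refine (fun h : AlgSp.RepWith (@IsOpenImmersion ⊓ @QuasiCompact) f' =>
    (⟨repWith_mono (fun g hg => hg.1) h,
      isQuasiCompactMor_of_repWith Y'.property (repWith_mono (fun g hg => hg.2) h), ?_⟩ :
      AlgSp.RepWith @IsOpenImmersion f' ∧ AlgSp.IsQuasiCompactMor f' ∧ AlgSp.IsQuasiAffineMor f)) ?_
  · intro Z hZ g
    obtain ⟨W, u, w, sW, h1, h2, h3, h4⟩ := exists_chart_lqf_sep hqf hqc hsep g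
    refine ⟨W, w, u, sW, ?_⟩
    have : IsAffine Z.left := hZ
    have : IsAffine w.left.normalization := isAffine_of_isAffineHom w.left.fromNormalization
    have : CompactSpace W.left := QuasiCompact.compactSpace_of_compactSpace w.left
    exact Scheme.IsQuasiAffine.of_isImmersion w.left.toNormalization
  obtain ⟨V, b, hb, hbs⟩ := Y.property.atlas
  obtain ⟨W, u, w, sW, h1, h2, h3, h4⟩ := exists_chart_lqf_sep hqf hqc hsep b
  have hνr : AlgSp.RepWith @IsIntegralHom ν := (AlgSpD.isIntegralMor_iff ν).1 hn.2.1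
  obtain ⟨N, c, νV, sN⟩ : ∃ (N : Over S) (c : (AlgSp.yon S).obj N ⟶ Y'.obj) (νV : N ⟶ V),
      IsPullback c ((AlgSp.yon S).map νV) ν b := ⟨_, _, _, hνr.1.isPullback _⟩
  let fV := sN.lift (u ≫ f') ((AlgSp.yon S).map w) (by rw [Category.assoc, hn.1, sW.w])
  have hnV := relNorm_smooth_baseChange X.property Y.property Y'.property (AlgSp.IsAlgSpace.yon_obj V)
    (AlgSp.IsAlgSpace.yon_obj N) hqc (isQuasiSeparatedMor_of_sep hsep) hn (locP_smooth_of_etale hb)
    sW sN (f₁' := fV) (sN.lift_snd _ _ _) (sN.lift_fst _ _ _)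
  let N₀ : Over S := Over.mk (w.left.fromNormalization ≫ V.hom)
  let t : W ⟶ N₀ := Over.homMk w.left.toNormalization (by
    change w.left.toNormalization ≫ w.left.fromNormalization ≫ V.hom = W.hom
    rw [Scheme.Hom.toNormalization_fromNormalization_assoc, Over.w w])
  let ν₀ : N₀ ⟶ V := Over.homMk w.left.fromNormalization rfl
  have hn₀ := Groth.Agent.S10298.result w t ν₀ (Iso.refl _) (Category.comp_id _) (Category.id_comp _)
  obtain ⟨e, he1, -⟩ := relNorm_iso hn₀ (AlgSp.IsAlgSpace.yon_obj _) (AlgSp.IsAlgSpace.yon_obj N) hnV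
  have hfV : AlgSp.RepWith (@IsOpenImmersion ⊓ @QuasiCompact) fV := by
    rw [← he1]
    refine (MorphismProperty.cancel_right_of_respectsIso _ _ _).2 ((AlgSp.repWith_yon_map_iff _ _).2 ⟨?_, ?_⟩)
    · exact inferInstanceAs (IsOpenImmersion w.left.toNormalization)
    · exact inferInstanceAs (QuasiCompact w.left.toNormalization)
  have sq : IsPullback u fV f' c := by
    refine IsPullback.of_bot ?_ (sN.lift_fst _ _ _).symm sN
    rw [sN.lift_snd, hn.1]; exact sW
  have hrep : AlgSp.Representable f' := representable_of_comp' f' ν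
    (hn.1 ▸ AlgSpB.representable_of_lqf_sep X.property Y.property f hqf hsep) hνr.1
  have hc : AlgSp.RepWith @Etale c := MorphismProperty.of_isPullback sN.flip hb
  have hcs : AlgSp.RepWith @Surjective c := MorphismProperty.of_isPullback sN.flip hbs
  have := AlgSp.isLocallySurjective_of_etale_surjective c hc hcs
  exact repWith_of_isPullback_of_isLocallySurjective f' hrep c _ _ sq _ hfV

end Groth.Agent.AlgSp
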