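import Groth.Agent.AlgSpD.EtaleTop
import Groth.Agent.AlgSpD.HasAt
import Groth.Agent.FlatMor.GenericPts

/-!
# Points of codimension zero and generic points of charts
-/

universe u

open CategoryTheory CategoryTheory.Limits AlgebraicGeometry Opposite Topology

set_option backward.isDefEq.respectTransparency.types false

namespace Groth.Agent.AlgSp

variable {S : Scheme.{u}}

/-- A point of a scheme is generic in a component if and only if its local ring has dimension zero. -/
theorem stalkDim_zero_iff {V : Scheme.{u}} (v : ↥V) :
    ringKrullDim ↥(V.presheaf.stalk v) = 0 ↔ closure {v} ∈ irreducibleComponents (V : Type u) := by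
  rw [Groth.Agent.FlatMor.GenericPts.closure_mem_irreducibleComponents_iff]
  constructor
  · intro hd
    rw [ringKrullDim_stalk_eq_coheight] at hd
    exact Order.coheight_eq_zero.1 (by exact_mod_cast hd)
  · intro h
    rw [ringKrullDim_stalk_eq_coheight, Order.coheight_eq_zero.2 h]
    rfl

/-- Points of codimension zero are read on any chart. -/
theorem codim0_iff_chart {F : AlgSp.Sp S} {U : Over S} {a : (AlgSp.yon S).obj U ⟶ F}
    (ha : AlgSp.RepWith @Etale a) (u : ↥U.left) :
    AlgSp.HasAt (fun U u => ringKrullDim ↥(U.presheaf.stalk u) = 0) F (AlgSp.Points.ofPt a u) ↔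
      closure {u} ∈ irreducibleComponents (U.left : Type u) := by
  rw [Groth.Agent.AlgSpD.hasAt_iff_chart (Groth.Agent.AlgSpD.stalkDim_invariant 0) ha, stalkDim_zero_iff]

end Groth.Agent.AlgSp
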