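import Groth.Agent.AlgSpB.Points
import Groth.Agent.AlgSp.Space
import Groth.Prelude.Def_AlgSp4
import Groth.Prelude.Def_SGA1

/-!
# Morphisms of sheaves and their maps on points: base change, universal topological properties
-/

universe u

open CategoryTheory CategoryTheory.Limits AlgebraicGeometry Opposite Topology

set_option backward.isDefEq.respectTransparency.types false

namespace Groth.Agent.AlgSp

open Groth.Agent.AlgSpB (exists_of_isPullback ofPt_map_comp)

variable {S : Scheme.{u}}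

/-- Preimages of images along a pullback square. -/
theorem preimage_image_map {X Y Z P : AlgSp.Sp S} {f : X ⟶ Y} {g : Z ⟶ Y} {fst : P ⟶ X} {snd : P ⟶ Z}
    (h : IsPullback fst snd f g) (E : Set (AlgSp.Points X)) :
    AlgSp.Points.map g ⁻¹' (AlgSp.Points.map f '' E) =
      AlgSp.Points.map snd '' (AlgSp.Points.map fst ⁻¹' E) := by
  ext z
  constructor
  · rintro ⟨x, hx, e⟩
    obtain ⟨p, hp1, hp2⟩ := exists_of_isPullback h x z e
    exact ⟨p, by rw [Set.mem_preimage, hp1]; exact hx, hp2⟩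
  · rintro ⟨p, hp, rfl⟩
    exact ⟨_, hp, by rw [← AlgSp.Points.map_comp, h.w, AlgSp.Points.map_comp]⟩

theorem ofPt_preimage_eq {T : Over S} {F : AlgSp.Sp S} (g : (AlgSp.yon S).obj T ⟶ F)
    (W : Set (AlgSp.Points F)) :
    AlgSp.Points.ofPt g ⁻¹' W = AlgSp.Points.ofScheme T ⁻¹' (AlgSp.Points.map g ⁻¹' W) := by
  ext t
  rw [Set.mem_preimage, AlgSp.Points.ofPt_eq_map_ofScheme]
  rfl

/-- Base change preserves surjectivity on points. -/
theorem surjective_map_of_isPullback {X Y Z P : AlgSp.Sp S} {f : X ⟶ Y} {g : Z ⟶ Y} {fst : P ⟶ X}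
    {snd : P ⟶ Z} (h : IsPullback fst snd f g) (hf : Function.Surjective (AlgSp.Points.map f)) :
    Function.Surjective (AlgSp.Points.map snd) := by
  intro z
  obtain ⟨x, hx⟩ := hf (AlgSp.Points.map g z)
  obtain ⟨p, -, hp⟩ := exists_of_isPullback h x z hx
  exact ⟨p, hp⟩

theorem surjective_map_iff_of_schemes {T T' : Over S} (φ : T ⟶ T') :
    Function.Surjective (AlgSp.Points.map ((AlgSp.yon S).map φ)) ↔ Function.Surjective φ.left := by
  rw [AlgSp.Points.map_yon_map_eq, Function.Surjective.of_comp_iff' (Homeomorph.bijective _),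
    Function.Surjective.of_comp_iff _ (Homeomorph.surjective _)]

/-- The representable and the point-wise notions of surjectivity agree. -/
theorem repWith_surjective_iff {X Y : AlgSp.Sp S} (f : X ⟶ Y) (hf : AlgSp.Representable f) :
    AlgSp.RepWith @Surjective f ↔ Function.Surjective (AlgSp.Points.map f) := by
  constructor
  · intro h y
    obtain ⟨p, hp⟩ := Groth.Agent.AlgSpB.exists_eq_ofPt_toHom y
    have : Surjective (hf.snd p.toHom).left := h.2 _ _ _ (hf.isPullback p.toHom)
    obtain ⟨v, -⟩ := (hf.snd p.toHom).left.surjective (IsLocalRing.closedPoint p.K)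
    exact ⟨AlgSp.Points.ofPt (hf.fst p.toHom) v, by
      rw [AlgSp.Points.map_ofPt, hf.w, ofPt_map_comp, hp]⟩
  · intro h
    exact ⟨hf, fun U V g fst snd sq =>
      ⟨(surjective_map_iff_of_schemes snd).1 (surjective_map_of_isPullback sq h)⟩⟩

/-- Openness of a set of points can be tested on affine schemes. -/
theorem isOpen_iff_affine {F : AlgSp.Sp S} {W : Set (AlgSp.Points F)} :
    IsOpen W ↔ ∀ (T : Over S), IsAffine T.left → ∀ (g : (AlgSp.yon S).obj T ⟶ F),
      IsOpen (AlgSp.Points.ofPt g ⁻¹' W) := by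
  refine ⟨fun h T _ g => AlgSp.Points.isOpen_iff.1 h T g, fun h => AlgSp.Points.isOpen_iff.2 fun T g => ?_⟩
  rw [isOpen_iff_forall_mem_open]
  intro t ht
  obtain ⟨V, hV, htV, -⟩ := exists_isAffineOpen_mem_and_subset (x := t) (U := ⊤) trivial
  let V' : Over S := Over.mk (V.ι ≫ T.hom)
  let j : V' ⟶ T := Over.homMk V.ι rfl
  have h' := h V' hV ((AlgSp.yon S).map j ≫ g)
  refine ⟨_, ?_, V.ι.isOpenEmbedding.isOpenMap _ h', ⟨⟨t, htV⟩, ?_, rfl⟩⟩
  · rintro _ ⟨v, hv, rfl⟩
    rw [Set.mem_preimage, ofPt_map_comp] at hv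
    exact hv
  · rw [Set.mem_preimage, ofPt_map_comp]
    exact ht

theorem isClosed_iff_ofPt {F : AlgSp.Sp S} {W : Set (AlgSp.Points F)} :
    IsClosed W ↔ ∀ (T : Over S) (g : (AlgSp.yon S).obj T ⟶ F), IsClosed (AlgSp.Points.ofPt g ⁻¹' W) := by
  simp only [← isOpen_compl_iff, AlgSp.Points.isOpen_iff, Set.preimage_compl]

theorem isClosed_iff_affine {F : AlgSp.Sp S} {W : Set (AlgSp.Points F)} :
    IsClosed W ↔ ∀ (T : Over S), IsAffine T.left → ∀ (g : (AlgSp.yon S).obj T ⟶ F),
      IsClosed (AlgSp.Points.ofPt g ⁻¹' W) := by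
  simp only [← isOpen_compl_iff, ← Set.preimage_compl]
  exact isOpen_iff_affine

theorem isOpenMap_map_iff_of_schemes {T T' : Over S} (φ : T ⟶ T') :
    IsOpenMap (AlgSp.Points.map ((AlgSp.yon S).map φ)) ↔ IsOpenMap φ.left := by
  rw [AlgSp.Points.map_yon_map_eq]
  refine ⟨fun h => ?_, fun h => (Homeomorph.isOpenMap _).comp (h.comp (Homeomorph.isOpenMap _))⟩
  have h' := ((AlgSp.Points.schemeHomeo T').symm.isOpenMap).comp (h.comp (AlgSp.Points.schemeHomeo T).isOpenMap)
  simpa [Function.comp_def] using h'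

theorem isClosedMap_map_iff_of_schemes {T T' : Over S} (φ : T ⟶ T') :
    IsClosedMap (AlgSp.Points.map ((AlgSp.yon S).map φ)) ↔ IsClosedMap φ.left := by
  rw [AlgSp.Points.map_yon_map_eq]
  refine ⟨fun h => ?_, fun h => (Homeomorph.isClosedMap _).comp (h.comp (Homeomorph.isClosedMap _))⟩
  have h' := ((AlgSp.Points.schemeHomeo T').symm.isClosedMap).comp (h.comp (AlgSp.Points.schemeHomeo T).isClosedMap)
  simpa [Function.comp_def] using h'

theorem isQuotientMap_map_iff_of_schemes {T T' : Over S} (φ : T ⟶ T') :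
    IsQuotientMap (AlgSp.Points.map ((AlgSp.yon S).map φ)) ↔ IsQuotientMap φ.left := by
  rw [AlgSp.Points.map_yon_map_eq]
  refine ⟨fun h => ?_, fun h => (Homeomorph.isQuotientMap _).comp (h.comp (Homeomorph.isQuotientMap _))⟩
  have h' := ((AlgSp.Points.schemeHomeo T').symm.isQuotientMap).comp (h.comp (AlgSp.Points.schemeHomeo T).isQuotientMap)
  simpa [Function.comp_def] using h'

theorem injective_map_iff_of_schemes {T T' : Over S} (φ : T ⟶ T') :
    Function.Injective (AlgSp.Points.map ((AlgSp.yon S).map φ)) ↔ Function.Injective φ.left := by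
  rw [AlgSp.Points.map_yon_map_eq, Function.Injective.of_comp_iff (Homeomorph.injective _),
    Function.Injective.of_comp_iff' _ (Homeomorph.bijective _)]

/-- A universal topological property of the morphism of schemes underlying a morphism over `S` only needs to be
tested on base changes over `S`. -/
theorem universally_left {Q : MorphismProperty Scheme.{u}} {V U : Over S} (snd : V ⟶ U)
    (h : ∀ (T' T : Over S) (f' : T' ⟶ T) (i₁ : T' ⟶ V) (i₂ : T ⟶ U),
      IsPullback i₁ f' snd i₂ → Q f'.left) : Q.universally snd.left := by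
  intro X' Y' i₁ i₂ f' sq₀
  have sq := sq₀.flip
  let T : Over S := Over.mk (i₂ ≫ U.hom)
  let T' : Over S := Over.mk (f' ≫ i₂ ≫ U.hom)
  let j₁ : T' ⟶ V := Over.homMk i₁ (by
    change i₁ ≫ V.hom = f' ≫ i₂ ≫ U.hom
    rw [← Over.w snd, reassoc_of% sq.w])
  let j₂ : T ⟶ U := Over.homMk i₂ rfl
  let g : T' ⟶ T := Over.homMk f' rfl
  have hsq : IsPullback j₁ g snd j₂ := IsPullback.of_map (Over.forget S) (by ext; exact sq.w) sq
  exact h T' T g j₁ j₂ hsq

/-- If all base changes of `f` to schemes satisfy the topological property on points, its represented base changes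
satisfy it universally. -/
theorem universally_of_points {X Y : AlgSp.Sp S} {f : X ⟶ Y} (hf : AlgSp.Representable f)
    {Q : MorphismProperty Scheme.{u}} {Q' : MorphismProperty (AlgSp.Sp S)}
    (hQ : ∀ {T T' : Over S} (φ : T ⟶ T'), Q' ((AlgSp.yon S).map φ) → Q φ.left)
    (h : AlgSp.UnivSp Q' f) : AlgSp.RepWith Q.universally f :=
  ⟨hf, fun U V g fst snd sq => universally_left snd fun T' T f' i₁ i₂ hsq =>
    hQ f' (h (AlgSp.IsAlgSpace.yon_obj T) _ _ _ ((hsq.map (AlgSp.yon S)).paste_horiz sq))⟩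

theorem isOpenMap_map_of_repWith {X Y : AlgSp.Sp S} {f : X ⟶ Y} (h : AlgSp.RepWith @UniversallyOpen f) :
    IsOpenMap (AlgSp.Points.map f) := by
  intro E hE
  refine AlgSp.Points.isOpen_iff.2 fun T g => ?_
  obtain ⟨V, snd, fst, sq⟩ := h.1 g
  have : UniversallyOpen snd.left := h.2 g fst snd sq
  rw [ofPt_preimage_eq, preimage_image_map sq]
  exact ((isOpenMap_map_iff_of_schemes snd).2 snd.left.isOpenMap _
    (hE.preimage (AlgSp.Points.continuous_map fst))).preimage (AlgSp.Points.schemeHomeo T).continuous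

theorem isClosedMap_map_of_repWith {X Y : AlgSp.Sp S} {f : X ⟶ Y} (h : AlgSp.RepWith @UniversallyClosed f) :
    IsClosedMap (AlgSp.Points.map f) := by
  intro E hE
  refine isClosed_iff_ofPt.2 fun T g => ?_
  obtain ⟨V, snd, fst, sq⟩ := h.1 g
  have : UniversallyClosed snd.left := h.2 g fst snd sq
  rw [ofPt_preimage_eq, preimage_image_map sq]
  exact ((isClosedMap_map_iff_of_schemes snd).2 snd.left.isClosedMap _
    (hE.preimage (AlgSp.Points.continuous_map fst))).preimage (AlgSp.Points.schemeHomeo T).continuous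

theorem isUnivOpenMor_of_repWith {X Y : AlgSp.Sp S} {f : X ⟶ Y} (h : AlgSp.RepWith @UniversallyOpen f) :
    AlgSp.IsUnivOpenMor f :=
  fun _ _ _ _ _ _ sq => isOpenMap_map_of_repWith (MorphismProperty.of_isPullback sq h)

theorem isUnivClosedMor_of_repWith {X Y : AlgSp.Sp S} {f : X ⟶ Y}
    (h : AlgSp.RepWith @UniversallyClosed f) : AlgSp.IsUnivClosedMor f :=
  fun _ _ _ _ _ _ sq => isClosedMap_map_of_repWith (MorphismProperty.of_isPullback sq h)

theorem repWith_universallyOpen_iff {X Y : AlgSp.Sp S} (f : X ⟶ Y) (hf : AlgSp.Representable f) :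
    AlgSp.RepWith @UniversallyOpen f ↔ AlgSp.IsUnivOpenMor f := by
  refine ⟨isUnivOpenMor_of_repWith, fun h => repWith_mono (fun g hg => ⟨hg⟩) (universally_of_points hf
    (Q := topologically @IsOpenMap) (fun φ hφ => (isOpenMap_map_iff_of_schemes φ).1 hφ) h)⟩

theorem repWith_universallyClosed_iff {X Y : AlgSp.Sp S} (f : X ⟶ Y) (hf : AlgSp.Representable f) :
    AlgSp.RepWith @UniversallyClosed f ↔ AlgSp.IsUnivClosedMor f := by
  refine ⟨isUnivClosedMor_of_repWith, fun h => repWith_mono (fun g hg => ⟨hg⟩) (universally_of_points hf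
    (Q := topologically @IsClosedMap) (fun φ hφ => (isClosedMap_map_iff_of_schemes φ).1 hφ) h)⟩

/-- Etale surjective representable maps are open quotient maps on points. -/
theorem isOpenQuotientMap_map {X Y : AlgSp.Sp S} {p : X ⟶ Y} (he : AlgSp.RepWith @Etale p)
    (hs : AlgSp.RepWith @Surjective p) : IsOpenQuotientMap (AlgSp.Points.map p) :=
  ⟨(repWith_surjective_iff p he.1).1 hs, AlgSp.Points.continuous_map p,
    isOpenMap_map_of_repWith (repWith_mono (Q := @UniversallyOpen) (fun g hg => have : Etale g := hg; inferInstance) he)⟩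

/-- Universal openness is tested on affine schemes. -/
theorem isUnivOpenMor_iff_affine {X Y : AlgSp.Sp S} (f : X ⟶ Y) :
    AlgSp.IsUnivOpenMor f ↔
      ∀ (Z : Over S), IsAffine Z.left → ∀ (g : (AlgSp.yon S).obj Z ⟶ Y) (P : AlgSp.Sp S)
        (fst : P ⟶ X) (snd : P ⟶ (AlgSp.yon S).obj Z), IsPullback fst snd f g →
        IsOpenMap (AlgSp.Points.map snd) := by
  refine ⟨fun h Z _ g P fst snd sq => h (AlgSp.IsAlgSpace.yon_obj Z) g fst snd sq, ?_⟩
  intro h Z Z' _ g fst snd sq W hW
  refine isOpen_iff_affine.2 fun T hT t => ?_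
  have sq' := IsPullback.of_hasPullback snd t
  rw [ofPt_preimage_eq, preimage_image_map sq']
  exact (h T hT _ _ _ _ (sq'.paste_horiz sq) _
    (hW.preimage (AlgSp.Points.continuous_map _))).preimage (AlgSp.Points.schemeHomeo T).continuous

/-- Universal closedness is tested on affine schemes. -/
theorem isUnivClosedMor_iff_affine {X Y : AlgSp.Sp S} (f : X ⟶ Y) :
    AlgSp.IsUnivClosedMor f ↔
      ∀ (Z : Over S), IsAffine Z.left → ∀ (g : (AlgSp.yon S).obj Z ⟶ Y) (P : AlgSp.Sp S)
        (fst : P ⟶ X) (snd : P ⟶ (AlgSp.yon S).obj Z), IsPullback fst snd f g →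
        IsClosedMap (AlgSp.Points.map snd) := by
  refine ⟨fun h Z _ g P fst snd sq => h (AlgSp.IsAlgSpace.yon_obj Z) g fst snd sq, ?_⟩
  intro h Z Z' _ g fst snd sq W hW
  refine isClosed_iff_affine.2 fun T hT t => ?_
  have sq' := IsPullback.of_hasPullback snd t
  rw [ofPt_preimage_eq, preimage_image_map sq']
  exact (h T hT _ _ _ _ (sq'.paste_horiz sq) _
    (hW.preimage (AlgSp.Points.continuous_map _))).preimage (AlgSp.Points.schemeHomeo T).continuous

/-- Data for descending universal topological properties along an etale surjective chart. -/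
theorem exists_chart_baseChange {X Y V : AlgSp.Sp S} (f : X ⟶ Y) (p : V ⟶ Y) {P : AlgSp.Sp S}
    {fst : P ⟶ X} {snd : P ⟶ V} (sq : IsPullback fst snd f p) (hY : AlgSp.IsAlgSpace Y)
    (hV : AlgSp.IsAlgSpace V) (hp : AlgSp.RepWith @Etale p) (hps : AlgSp.RepWith @Surjective p)
    {Q : MorphismProperty (AlgSp.Sp S)} (h : AlgSp.UnivSp Q snd) {Z Z' : AlgSp.Sp S}
    (hZ : AlgSp.IsAlgSpace Z) (g : Z ⟶ Y) {fst' : Z' ⟶ X} {snd' : Z' ⟶ Z}
    (sq' : IsPullback fst' snd' f g) :
    ∃ (A B : AlgSp.Sp S) (q : A ⟶ Z) (r : B ⟶ Z') (v : B ⟶ A), IsPullback r v snd' q ∧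
      IsOpenQuotientMap (AlgSp.Points.map q) ∧ Q v := by
  have hq := IsPullback.of_hasPullback g p
  have hA := isAlgSpace_pullback hY hZ hV g p
  have hr := IsPullback.of_hasPullback snd' (pullback.fst g p)
  have big : IsPullback (pullback.fst snd' (pullback.fst g p) ≫ fst') (pullback.snd snd' (pullback.fst g p))
      f (pullback.snd g p ≫ p) := by
    have := hr.paste_horiz sq'
    rw [hq.w] at this
    exact this
  have w : (pullback.fst snd' (pullback.fst g p) ≫ fst') ≫ f =
      (pullback.snd snd' (pullback.fst g p) ≫ pullback.snd g p) ≫ p := by rw [big.w, Category.assoc]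
  refine ⟨_, _, _, _, _, hr, isOpenQuotientMap_map (MorphismProperty.pullback_fst _ _ hp)
    (MorphismProperty.pullback_fst _ _ hps), h hA (pullback.snd g p) (sq.lift _ _ w) _ ?_⟩
  refine IsPullback.of_right ?_ (sq.lift_snd _ _ w) sq
  rw [sq.lift_fst]
  exact big

theorem isUnivOpenMor_of_chart {X Y V : AlgSp.Sp S} (f : X ⟶ Y) (p : V ⟶ Y) {P : AlgSp.Sp S}
    {fst : P ⟶ X} {snd : P ⟶ V} (sq : IsPullback fst snd f p) (hY : AlgSp.IsAlgSpace Y)
    (hV : AlgSp.IsAlgSpace V) (hp : AlgSp.RepWith @Etale p) (hps : AlgSp.RepWith @Surjective p)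
    (h : AlgSp.IsUnivOpenMor snd) : AlgSp.IsUnivOpenMor f := by
  intro Z Z' hZ g fst' snd' sq' W hW
  obtain ⟨A, B, q, r, v, hr, hq, hv⟩ := exists_chart_baseChange f p sq hY hV hp hps h hZ g sq'
  rw [← hq.isQuotientMap.isOpen_preimage, preimage_image_map hr]
  exact hv _ (hW.preimage (AlgSp.Points.continuous_map r))

theorem isUnivClosedMor_of_chart {X Y V : AlgSp.Sp S} (f : X ⟶ Y) (p : V ⟶ Y) {P : AlgSp.Sp S}
    {fst : P ⟶ X} {snd : P ⟶ V} (sq : IsPullback fst snd f p) (hY : AlgSp.IsAlgSpace Y)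
    (hV : AlgSp.IsAlgSpace V) (hp : AlgSp.RepWith @Etale p) (hps : AlgSp.RepWith @Surjective p)
    (h : AlgSp.IsUnivClosedMor snd) : AlgSp.IsUnivClosedMor f := by
  intro Z Z' hZ g fst' snd' sq' W hW
  obtain ⟨A, B, q, r, v, hr, hq, hv⟩ := exists_chart_baseChange f p sq hY hV hp hps h hZ g sq'
  rw [← hq.isQuotientMap.isClosed_preimage, preimage_image_map hr]
  exact hv _ (hW.preimage (AlgSp.Points.continuous_map r))

/-- A map from an algebraic space to the spectrum of a field is universally open. -/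
theorem isUnivOpenMor_to_field {X : AlgSp.Sp S} (hX : AlgSp.IsAlgSpace X) {k : Type u} [Field k]
    (str : Spec (CommRingCat.of k) ⟶ S) (p : X ⟶ (AlgSp.yon S).obj (Over.mk str)) :
    AlgSp.IsUnivOpenMor p := by
  obtain ⟨U, a, -, has⟩ := hX.atlas
  obtain ⟨φ, hφ⟩ := (AlgSp.yon S).map_surjective (a ≫ p)
  have hφo : AlgSp.RepWith @UniversallyOpen (a ≫ p) := by
    rw [← hφ]
    exact (AlgSp.repWith_yon_map_iff _ φ).2 (show UniversallyOpen φ.left from
      have : IsIntegral (Over.mk str).left := inferInstanceAs (IsIntegral (Spec (CommRingCat.of k)))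
      have : Subsingleton (Over.mk str).left := inferInstanceAs (Subsingleton (PrimeSpectrum k))
      inferInstance)
  intro Z Z' _ g fst snd sq W hW
  have s1 := IsPullback.of_hasPullback a fst
  have h1 : AlgSp.RepWith @UniversallyOpen (pullback.snd a fst ≫ snd) :=
    MorphismProperty.of_isPullback (s1.paste_vert sq) hφo
  have e : AlgSp.Points.map snd '' W =
      AlgSp.Points.map (pullback.snd a fst ≫ snd) '' (AlgSp.Points.map (pullback.snd a fst) ⁻¹' W) := by
    have hs := surjective_map_of_isPullback s1 ((repWith_surjective_iff a has.1).1 has)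
    ext z
    constructor
    · rintro ⟨w, hw, rfl⟩
      obtain ⟨w', rfl⟩ := hs w
      exact ⟨w', hw, AlgSp.Points.map_comp _ _ _⟩
    · rintro ⟨w', hw, rfl⟩
      exact ⟨_, hw, (AlgSp.Points.map_comp _ _ _).symm⟩
  rw [e]
  exact isOpenMap_map_of_repWith h1 _ (hW.preimage (AlgSp.Points.continuous_map _))

theorem mono_of_isLocallySurjective_baseChange {X Y H P : AlgSp.Sp S} (f : X ⟶ Y) (b : H ⟶ Y)
    [Sheaf.IsLocallySurjective b] {fst : P ⟶ X} {snd : P ⟶ H} (sq : IsPullback fst snd f b) [Mono snd] :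
    Mono f := by
  refine mono_of_yon f fun U x y w => ?_
  obtain ⟨R, hR, hl⟩ := exists_cover_lift b (x ≫ f)
  apply yEquiv.injective
  apply ((isSheaf_iff_isSheaf_of_type _ _).1 X.property).isSeparated
    (Sieve.generate (fun W (k : W ⟶ U) => R k.left)) ?_ |>.ext
  · intro W k hk
    obtain ⟨W', i, j, hj, rfl⟩ := hk
    let j' : Over.mk (j.left ≫ U.hom) ⟶ U := Over.homMk j.left rfl
    obtain ⟨l, hl⟩ := hl j.left hj
    let i' : W ⟶ Over.mk (j.left ≫ U.hom) := Over.homMk i.left (by
      change i.left ≫ j.left ≫ U.hom = W.hom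
      rw [Over.w j, Over.w i])
    have e : i ≫ j = i' ≫ j' := Over.OverMorphism.ext rfl
    have key : (AlgSp.yon S).map j' ≫ x = (AlgSp.yon S).map j' ≫ y := by
      have h1 : ((AlgSp.yon S).map j' ≫ x) ≫ f = l ≫ b := by rw [Category.assoc, hl]
      have h2 : ((AlgSp.yon S).map j' ≫ y) ≫ f = l ≫ b := by rw [Category.assoc, ← w, hl]
      have : sq.lift _ _ h1 = sq.lift _ _ h2 := by rw [← cancel_mono snd, sq.lift_snd, sq.lift_snd]
      simpa using congrArg (· ≫ fst) this
    rw [← yEquiv_map, ← yEquiv_map, e, Functor.map_comp, Category.assoc, Category.assoc, key]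
  · refine mem_of_cover hR fun W k hk => ?_
    exact ⟨_, 𝟙 _, Over.homMk k rfl, hk, Category.id_comp _⟩

end Groth.Agent.AlgSp
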