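import Groth.Agent.AlgSp.FppfLocal2
import Groth.Agent.AlgSp.Diag
import Groth.Agent.AlgSp.Space
import Groth.Agent.AlgSp.Basic
import Groth.Agent.AlgSpB.Diag

/-!
# Diagonals under base change: separation conditions
-/

universe u

open CategoryTheory CategoryTheory.Limits AlgebraicGeometry Opposite

set_option backward.isDefEq.respectTransparency.types false

namespace Groth.Agent.AlgSp

/-- The diagonal of a base change is a base change of the diagonal, along a base change of the map. -/
theorem isPullback_diagonal_baseChange {C : Type*} [Category C] [HasPullbacks C] {P X V Y : C}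
    {fst : P ⟶ X} {snd : P ⟶ V} {f : X ⟶ Y} {p : V ⟶ Y} (sq : IsPullback fst snd f p) :
    ∃ b : pullback snd snd ⟶ pullback f f,
      IsPullback fst (pullback.diagonal snd) (pullback.diagonal f) b ∧
      IsPullback b (pullback.fst snd snd ≫ snd) (pullback.fst f f ≫ f) p := by
  let b : pullback snd snd ⟶ pullback f f := pullback.lift (pullback.fst snd snd ≫ fst)
    (pullback.snd snd snd ≫ fst) (by simp [sq.w, pullback.condition_assoc])
  have hb1 : b ≫ pullback.fst f f = pullback.fst snd snd ≫ fst := pullback.lift_fst _ _ _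
  have hb2 : b ≫ pullback.snd f f = pullback.snd snd snd ≫ fst := pullback.lift_snd _ _ _
  have h1 : IsPullback b (pullback.snd snd snd) (pullback.snd f f) fst := by
    refine IsPullback.of_right ?_ hb2 (IsPullback.of_hasPullback f f)
    rw [hb1, sq.w]
    exact (IsPullback.of_hasPullback snd snd).paste_horiz sq
  refine ⟨b, ?_, ?_⟩
  · refine IsPullback.of_bot ?_ ?_ h1
    · simpa using IsPullback.of_vert_isIso (show CommSq fst (𝟙 P) (𝟙 X) fst from ⟨by simp⟩)
    · apply pullback.hom_ext <;> simp [hb1, hb2]
  · rw [pullback.condition, pullback.condition]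
    exact h1.paste_vert sq

variable {S : Scheme.{u}}

/-- A property of the diagonal passes to base changes. -/
theorem repWith_diagonal_baseChange {P : MorphismProperty Scheme.{u}} [P.IsStableUnderBaseChange]
    {X Y V Q : AlgSp.Sp S} {f : X ⟶ Y} {p : V ⟶ Y} {fst : Q ⟶ X} {snd : Q ⟶ V}
    (sq : IsPullback fst snd f p) (h : AlgSp.RepWith P (pullback.diagonal f)) :
    AlgSp.RepWith P (pullback.diagonal snd) := by
  obtain ⟨b, hb, -⟩ := isPullback_diagonal_baseChange sq
  exact MorphismProperty.of_isPullback hb h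

/-- A property of the diagonal descends along a surjective etale base change. -/
theorem repWith_diagonal_descend {P : MorphismProperty Scheme.{u}} [P.IsStableUnderBaseChange]
    [P.IsLocalAtTarget Scheme.fppfPrecoverage] {X Y V Q : AlgSp.Sp S} {f : X ⟶ Y} {p : V ⟶ Y}
    {fst : Q ⟶ X} {snd : Q ⟶ V} (sq : IsPullback fst snd f p) (hX : AlgSp.IsAlgSpace X)
    (hp : AlgSp.RepWith @Etale p) (hps : AlgSp.RepWith @Surjective p)
    (h : AlgSp.RepWith P (pullback.diagonal snd)) : AlgSp.RepWith P (pullback.diagonal f) := by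
  obtain ⟨b, hb, hb'⟩ := isPullback_diagonal_baseChange sq
  have := isLocallySurjective_of_etale_surjective b (MorphismProperty.of_isPullback hb'.flip hp)
    (MorphismProperty.of_isPullback hb'.flip hps)
  exact repWith_of_isPullback_of_isLocallySurjective _ (diagonal_props hX f).1 b fst _ hb P h

/-- A property of the diagonal can be checked on base changes to affine schemes. -/
theorem repWith_diagonal_of_affine {P : MorphismProperty Scheme.{u}} [P.IsStableUnderBaseChange]
    [IsZariskiLocalAtTarget P] {X Y : AlgSp.Sp S} {f : X ⟶ Y} (hX : AlgSp.IsAlgSpace X)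
    (h : ∀ (Z : Over S), IsAffine Z.left → ∀ (g : (AlgSp.yon S).obj Z ⟶ Y) (Q : AlgSp.Sp S)
      (fst : Q ⟶ X) (snd : Q ⟶ (AlgSp.yon S).obj Z), IsPullback fst snd f g →
      AlgSp.RepWith P (pullback.diagonal snd)) :
    AlgSp.RepWith P (pullback.diagonal f) := by
  refine AlgSpB.repWith_of_affine (diagonal_props hX f).1 fun U W g fst snd hU sq => ?_
  let y := g ≫ pullback.fst f f ≫ f
  have hQ := IsPullback.of_hasPullback f y
  obtain ⟨b, hb, hb'⟩ := isPullback_diagonal_baseChange hQ
  let l := hb'.lift g (𝟙 _) (by simp [y])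
  have hl : l ≫ b = g := hb'.lift_fst ..
  let k := hb.lift fst ((AlgSp.yon S).map snd ≫ l) (by rw [Category.assoc, hl, sq.w])
  refine (h U hU y _ _ _ hQ).2 l k snd (IsPullback.of_right ?_ (hb.lift_snd ..) hb)
  rw [hb.lift_fst, hl]
  exact sq

end Groth.Agent.AlgSp

namespace Groth.Agent.AlgSp

/-- For representable maps, a property of the diagonal is the property of the diagonals of the represented
base changes. -/
theorem repWith_diagonal_iff_of_representable {S : Scheme.{u}} (P : MorphismProperty Scheme.{u})
    [P.IsStableUnderBaseChange] [IsZariskiLocalAtTarget P] (Q : MorphismProperty Scheme.{u})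
    (hPQ : ∀ {A B : Scheme.{u}} (h : A ⟶ B), P (pullback.diagonal h) ↔ Q h)
    {X Y : AlgSp.Sp S} {f : X ⟶ Y} (hX : AlgSp.IsAlgSpace X) (hf : AlgSp.Representable f) :
    AlgSp.RepWith P (pullback.diagonal f) ↔ AlgSp.RepWith Q f := by
  constructor
  · refine fun h => ⟨hf, fun U V g fst snd sq => ?_⟩
    exact (hPQ _).1 ((AlgSp.repWith_diagonal_yon_map_iff P snd).1 (repWith_diagonal_baseChange sq h))
  · intro h
    refine repWith_diagonal_of_affine hX fun Z _ g Q' fst snd sq => ?_
    obtain ⟨W, w, fst', sq'⟩ := hf g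
    have e : snd = (sq.isoIsPullback _ _ sq').hom ≫ (AlgSp.yon S).map w :=
      (IsPullback.isoIsPullback_hom_snd _ _ _ _).symm
    have hd : AlgSp.RepWith P (pullback.diagonal ((AlgSp.yon S).map w)) :=
      (AlgSp.repWith_diagonal_yon_map_iff P w).2 ((hPQ _).2 (h.2 g fst' w sq'))
    exact repWith_diagonal_baseChange (IsPullback.of_horiz_isIso (show CommSq
      (sq.isoIsPullback _ _ sq').hom snd ((AlgSp.yon S).map w) (𝟙 _) from ⟨by rw [Category.comp_id, ← e]⟩)) hd

end Groth.Agent.AlgSp
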