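import Groth.Agent.AlgSp.LocPFin
import Groth.Agent.AlgSpB.Points
import Mathlib.AlgebraicGeometry.Morphisms.QuasiFinite
import Mathlib.AlgebraicGeometry.Morphisms.Finite
import Mathlib.Topology.JacobsonSpace

/-!
# Locally quasi-finite morphisms and discrete fibres over field-valued points
-/

universe u

open CategoryTheory CategoryTheory.Limits AlgebraicGeometry Opposite Topology

set_option backward.isDefEq.respectTransparency.types false

namespace Groth.Agent.AlgSp

variable {S : Scheme.{u}}

/-- A Noetherian sober space all of whose points are closed is discrete. -/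
theorem discreteTopology_of_noetherian {X : Type*} [TopologicalSpace X] [TopologicalSpace.NoetherianSpace X]
    [QuasiSober X] (h : ∀ x : X, IsClosed ({x} : Set X)) : DiscreteTopology X := by
  have : T1Space X := ⟨h⟩
  have hsub : ∀ Z ∈ irreducibleComponents X, Z.Subsingleton := fun Z hZ => by
    obtain ⟨η, hη⟩ := QuasiSober.sober hZ.1 (isClosed_of_mem_irreducibleComponents Z hZ)
    rw [← hη.def, (h η).closure_eq]
    exact Set.subsingleton_singleton
  have hfin : (Set.univ : Set X).Finite := by
    rw [← sUnion_irreducibleComponents]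
    exact TopologicalSpace.NoetherianSpace.finite_irreducibleComponents.sUnion fun Z hZ => (hsub Z hZ).finite
  have := Set.finite_univ_iff.1 hfin
  infer_instance

/-- A scheme locally of finite type over a field all of whose points are closed is discrete. -/
theorem discreteTopology_of_closed_points {k : Type u} [Field k] {A : Scheme.{u}}
    (h : A ⟶ Spec (CommRingCat.of k)) [LocallyOfFiniteType h] (hc : ∀ x : ↥A, IsClosed ({x} : Set ↥A)) :
    DiscreteTopology ↥A := by
  refine discreteTopology_iff_isOpen_singleton.2 fun x => ?_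
  obtain ⟨V, hV, hxV, -⟩ := exists_isAffineOpen_mem_and_subset (x := x) (U := (⊤ : A.Opens)) trivial
  have : IsLocallyNoetherian A := LocallyOfFiniteType.isLocallyNoetherian h
  have : IsAffine V.toScheme := hV
  have : IsNoetherian V.toScheme := { }
  have := discreteTopology_of_noetherian (X := ↥V.toScheme) fun z => by
    convert (hc (V.ι z)).preimage V.ι.continuous using 1
    ext w
    exact ⟨fun e => congrArg (fun t => V.ι t) e, fun e => V.ι.isOpenEmbedding.injective e⟩
  let z : ↥V.toScheme := ⟨x, hxV⟩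
  have hz := V.ι.isOpenEmbedding.isOpenMap _ (isOpen_discrete ({z} : Set ↥V.toScheme))
  rwa [Set.image_singleton] at hz

/-- An algebraic space with a discrete etale atlas has a discrete space of points. -/
theorem discreteTopology_points_of_cover {P : AlgSp.Sp S} {W : Over S} (π : (AlgSp.yon S).obj W ⟶ P)
    (hπ : AlgSp.RepWith @Etale π) (hπs : AlgSp.RepWith @Surjective π) [DiscreteTopology ↥W.left] :
    DiscreteTopology (AlgSp.Points P) := discreteTopology_iff_isOpen_singleton.2 fun x => by
  obtain ⟨z, rfl⟩ := AlgSpB.surjective_ofPt hπs x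
  simpa [Set.image_singleton] using AlgSpB.isOpenMap_ofPt hπ _ (isOpen_discrete {z})

/-- An etale chart of a discrete space locally of finite type over a field is discrete. -/
theorem discreteTopology_chart {k : Type u} [Field k] {str : Spec (CommRingCat.of k) ⟶ S} {X : AlgSp.Sp S}
    (hX : AlgSp.IsAlgSpace X) (s : X ⟶ (AlgSp.yon S).obj (Over.mk str))
    (hs : AlgSp.LocP @LocallyOfFiniteType s) [DiscreteTopology (AlgSp.Points X)] {A : Over S}
    (a : (AlgSp.yon S).obj A ⟶ X) (ha : AlgSp.RepWith @Etale a) : DiscreteTopology ↥A.left := by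
  obtain ⟨h, hh⟩ := (AlgSp.yon S).map_surjective (a ≫ s)
  have : LocallyOfFiniteType h.left := hs a (𝟙 _) h ha (AlgSp.repWith_id _ _) (by rw [hh, Category.comp_id])
  have hJk : JacobsonSpace ↥(Over.mk str).left := inferInstanceAs (JacobsonSpace ↥(Spec (CommRingCat.of k)))
  have : JacobsonSpace ↥A.left := LocallyOfFiniteType.jacobsonSpace h.left
  refine discreteTopology_of_closed_points (show A.left ⟶ Spec (CommRingCat.of k) from h.left) fun x => ?_
  have hO : IsOpen (AlgSp.Points.ofPt a ⁻¹' {AlgSp.Points.ofPt a x}) :=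
    (isOpen_discrete _).preimage (AlgSp.Points.continuous_ofPt a)
  obtain ⟨a₀, ha₀, hcl⟩ := nonempty_inter_closedPoints (Z := AlgSp.Points.ofPt a ⁻¹' {AlgSp.Points.ofPt a x})
    ⟨x, rfl⟩ hO.isLocallyClosed
  obtain ⟨R, t, q, sq⟩ := AlgSpB.exists_pullback_yon (hX.representable_from_yon a) a
  obtain ⟨r, hr₀, rfl⟩ := (AlgSpB.ofPt_eq_ofPt_iff sq a₀ x).1 (Set.mem_singleton_iff.1 ha₀)
  have : Etale t.left := ha.2 _ _ _ sq.flip
  have : Etale q.left := ha.2 _ _ _ sq
  have : LocallyQuasiFinite t.left := AlgSpCov.etale_le_locallyQuasiFinite _ _ t.left ‹Etale t.left›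
  have hFcl : IsClosed (t.left ⁻¹' {a₀}) := (mem_closedPoints_iff.1 hcl).preimage t.left.continuous
  have hrcl : IsClosed ({r} : Set ↥R.left) := by
    have := (t.left.isDiscrete_preimage_singleton a₀).to_subtype
    have h1 := hFcl.isClosedEmbedding_subtypeVal.isClosedMap _ (isClosed_discrete {(⟨r, hr₀⟩ : ↥(t.left ⁻¹' {a₀}))})
    simpa using h1
  exact mem_closedPoints_iff.1 (q.left.closePoints_subset_preimage_closedPoints (mem_closedPoints_iff.2 hrcl))

/-- The fibres over field-valued points of a locally quasi-finite morphism are discrete. -/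
theorem discreteTopology_fibre_of_lqf {X Y : AlgSp.Sp S} (hX : AlgSp.IsAlgSpace X) (hY : AlgSp.IsAlgSpace Y)
    (f : X ⟶ Y) (hf : AlgSp.LocP (@LocallyQuasiFinite ⊓ @LocallyOfFiniteType) f) {k : Type u} [Field k]
    {str : Spec (CommRingCat.of k) ⟶ S} {y : (AlgSp.yon S).obj (Over.mk str) ⟶ Y} {P : AlgSp.Sp S}
    {fst : P ⟶ X} {snd : P ⟶ (AlgSp.yon S).obj (Over.mk str)} (sq : IsPullback fst snd f y) :
    DiscreteTopology (AlgSp.Points P) := by
  have hsnd := AlgSpCov.locP_baseChange AlgSpCov.standard_locallyQuasiFinite.etaleLocal hX hY sq hf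
  obtain ⟨W, π, hπ, hπs⟩ := (isAlgSpace_of_isPullback' hY hX (AlgSp.IsAlgSpace.yon_obj _) sq).atlas
  obtain ⟨h, hh⟩ := (AlgSp.yon S).map_surjective (π ≫ snd)
  have hq : LocallyQuasiFinite h.left :=
    (hsnd π (𝟙 _) h hπ (AlgSp.repWith_id _ _) (by rw [hh, Category.comp_id])).1
  have hd := h.left.isDiscrete_preimage_singleton (IsLocalRing.closedPoint k)
  have : DiscreteTopology ↥W.left := isDiscrete_univ_iff.1 (hd.mono fun z _ =>
    @Subsingleton.elim _ (inferInstanceAs (Subsingleton (PrimeSpectrum k))) _ _)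
  exact discreteTopology_points_of_cover π hπ hπs

/-- A morphism locally of finite type with discrete fibres over field-valued points is locally quasi-finite. -/
theorem locP_lqf_of_discrete_fibres {X Y : AlgSp.Sp S} (hX : AlgSp.IsAlgSpace X) (hY : AlgSp.IsAlgSpace Y)
    (f : X ⟶ Y) (hf : AlgSp.LocP @LocallyOfFiniteType f)
    (H : ∀ (k : Type u) [Field k] (str : Spec (CommRingCat.of k) ⟶ S) (y : (AlgSp.yon S).obj (Over.mk str) ⟶ Y)
      (P : AlgSp.Sp S) (fst : P ⟶ X) (snd : P ⟶ (AlgSp.yon S).obj (Over.mk str)),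
      IsPullback fst snd f y → DiscreteTopology (AlgSp.Points P)) :
    AlgSp.LocP (@LocallyQuasiFinite ⊓ @LocallyOfFiniteType) f := by
  intro U V a b h ha hb w
  have hl : LocallyOfFiniteType h.left := hf a b h ha hb w
  refine ⟨locallyQuasiFinite_iff_isDiscrete_preimage_singleton.2 fun v => ?_, hl⟩
  let str : Spec (CommRingCat.of ↥(V.left.residueField v)) ⟶ S := V.left.fromSpecResidueField v ≫ V.hom
  let j : Over.mk str ⟶ V := Over.homMk (V.left.fromSpecResidueField v) rfl
  let W : Over S := Over.mk (h.left.fiberι v ≫ U.hom)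
  let i : W ⟶ U := Over.homMk (h.left.fiberι v) rfl
  have sW : IsPullback (h.left.fiberι v) (h.left.fiberToSpecResidueField v) h.left (V.left.fromSpecResidueField v) :=
    IsPullback.of_hasPullback _ _
  let p : W ⟶ Over.mk str := Over.homMk (h.left.fiberToSpecResidueField v) (by
    change h.left.fiberToSpecResidueField v ≫ V.left.fromSpecResidueField v ≫ V.hom = h.left.fiberι v ≫ U.hom
    rw [← sW.w_assoc, Over.w h])
  have sWS : IsPullback i p h j := IsPullback.of_map (Over.forget S) (Over.OverMorphism.ext sW.w) sW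
  have sW' := sWS.map (AlgSp.yon S)
  have hQ := IsPullback.of_hasPullback f b
  have hP := IsPullback.of_hasPullback f ((AlgSp.yon S).map j ≫ b)
  obtain ⟨m, hm, hm1, hm2⟩ := AlgSpCov.etale_toPullback ha hb w hQ
  let e := hQ.lift (pullback.fst f ((AlgSp.yon S).map j ≫ b))
    (pullback.snd f ((AlgSp.yon S).map j ≫ b) ≫ (AlgSp.yon S).map j) (by rw [Category.assoc, hP.w])
  let m' := hP.lift ((AlgSp.yon S).map i ≫ a) ((AlgSp.yon S).map p)
    (by rw [Category.assoc, w, ← Category.assoc, ← Category.assoc, sW'.w])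
  have se : IsPullback e (pullback.snd f ((AlgSp.yon S).map j ≫ b)) (pullback.snd f b) ((AlgSp.yon S).map j) :=
    IsPullback.of_right (h₁₂ := pullback.fst f b) (h₂₂ := b) (v₁₃ := f)
      (by rw [hQ.lift_fst]; exact hP) (hQ.lift_snd _ _ _) hQ
  have sm : IsPullback ((AlgSp.yon S).map i) m' m e := by
    refine IsPullback.of_bot ?_ ?_ se
    · rw [hm2, hP.lift_snd]; exact sW'
    · apply hQ.hom_ext
      · rw [Category.assoc, hm1, Category.assoc, hQ.lift_fst, hP.lift_fst]
      · rw [Category.assoc, hm2, Category.assoc, hQ.lift_snd, hP.lift_snd_assoc, sW'.w]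
  have hm' : AlgSp.RepWith @Etale m' := MorphismProperty.of_isPullback sm hm
  have := H _ str _ _ _ _ hP
  have : DiscreteTopology ↥(h.left.fiber v) := discreteTopology_chart
    (isAlgSpace_of_isPullback' hY hX (AlgSp.IsAlgSpace.yon_obj _) hP) (pullback.snd f ((AlgSp.yon S).map j ≫ b))
    (AlgSpCov.locP_baseChange AlgSpCov.etaleLocal_locallyOfFiniteType hX hY hP hf) m' hm'
  simpa [Scheme.Hom.range_fiberι] using
    (isDiscrete_univ_iff.mpr ‹_›).image (h.left.fiberι v).isEmbedding.toIsInducing

end Groth.Agent.AlgSp
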