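import Groth.Agent.AlgSp.ProperQf
import Groth.Agent.AlgSp.LqfDiscrete
import Groth.Agent.AlgSpB.Charts

/-!
# Quasi-finite points on arbitrary charts
-/

universe u

open CategoryTheory CategoryTheory.Limits AlgebraicGeometry Opposite Topology

set_option backward.isDefEq.respectTransparency.types false

namespace Groth.Agent.AlgSp

variable {S : Scheme.{u}}

/-- Quasi-finiteness at a point can be read on any chart. -/
theorem quasiFiniteAt_of_qfAt {X Y : AlgSp.Sp S} (hX : AlgSp.IsAlgSpace X) (hY : AlgSp.IsAlgSpace Y)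
    {f : X ⟶ Y} {U V : Over S} {a : (AlgSp.yon S).obj U ⟶ X} {b : (AlgSp.yon S).obj V ⟶ Y} {h : U ⟶ V}
    (ha : AlgSp.RepWith @Etale a) (hb : AlgSp.RepWith @Etale b) (w : a ≫ f = (AlgSp.yon S).map h ≫ b)
    {u : ↥U.left} (hu : QfAtMor f (AlgSp.Points.ofPt a u)) : h.left.QuasiFiniteAt u := by
  obtain ⟨A, g, hg, ⟨c, hc⟩, -, hq⟩ := exists_lqf_chart_of_qfAt hY hu
  obtain ⟨W, p, q, sq⟩ := AlgSpB.exists_pullback_yon (hX.representable_from_yon a) g
  obtain ⟨r, hr1, -⟩ := (AlgSpB.ofPt_eq_ofPt_iff sq u c).1 hc.symm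
  have : Etale p.left := hg.2 _ _ _ sq.flip
  have hq' : AlgSp.RepWith @Etale ((AlgSp.yon S).map q) :=
    (AlgSp.repWith_yon_map_iff _ _).2 (ha.2 _ _ _ sq)
  have hlqf := (hq ((AlgSp.yon S).map q) b (p ≫ h) hq' hb
    (by rw [← Category.assoc, ← sq.w, Category.assoc, w, Functor.map_comp, Category.assoc])).1
  let O : U.left.Opens := ⟨Set.range p.left, p.left.isOpenMap.isOpen_range⟩
  let e : W.left ⟶ O.toScheme := IsOpenImmersion.lift O.ι p.left (by simp [O])
  have he : e ≫ O.ι = p.left := IsOpenImmersion.lift_fac _ _ _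
  have : Etale (e ≫ O.ι) := by rw [he]; infer_instance
  have : Etale e := MorphismProperty.of_postcomp @Etale e O.ι (W' := @Etale)
    (inferInstanceAs (Etale O.ι)) ‹_›
  have : Surjective e := ⟨fun z => by
    obtain ⟨t, ht⟩ := z.2
    exact ⟨t, O.ι.isOpenEmbedding.injective (by rw [← Scheme.Hom.comp_apply, he]; exact ht)⟩⟩
  have : LocallyQuasiFinite (O.ι ≫ h.left) := AlgSpCov.etaleLocal_locallyQuasiFinite.ofPrecomp e _ ‹_› ‹_› (by
    rw [reassoc_of% he, ← Over.comp_left]; exact hlqf)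
  have := (O.ι ≫ h.left).quasiFiniteAt (⟨u, r, hr1⟩ : ↥O.toScheme)
  rwa [Scheme.Hom.quasiFiniteAt_comp_iff_of_isOpenImmersion] at this

/-- A morphism of finite type has finitely many quasi-finite points over each point. -/
theorem finite_qfAt_preimage {X Y : Scheme.{u}} (f : X ⟶ Y) [LocallyOfFiniteType f] [QuasiCompact f] (y : Y) :
    {x : X | f x = y ∧ f.QuasiFiniteAt x}.Finite := by
  have : LocallyOfFiniteType (f.fiberToSpecResidueField y) :=
    MorphismProperty.of_isPullback (IsPullback.of_hasPullback f (Y.fromSpecResidueField y)) ‹LocallyOfFiniteType f›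
  have : IsLocallyNoetherian (f.fiber y) := LocallyOfFiniteType.isLocallyNoetherian (f.fiberToSpecResidueField y)
  have : QuasiCompact (f.fiberToSpecResidueField y) :=
    MorphismProperty.of_isPullback (IsPullback.of_hasPullback f (Y.fromSpecResidueField y)) ‹QuasiCompact f›
  have : CompactSpace ↥(f.fiber y) := QuasiCompact.compactSpace_of_compactSpace (f.fiberToSpecResidueField y)
  have : IsNoetherian (f.fiber y) := { }
  let T : Set ↥(f.fiber y) := {z | IsOpen ({z} : Set ↥(f.fiber y))}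
  have hT : _root_.IsDiscrete T := isDiscrete_iff_discreteTopology.2 (discreteTopology_iff_isOpen_singleton.2 fun z => by
    have h2 : ({z} : Set ↥T) = Subtype.val ⁻¹' {z.1} := by ext; simp [Subtype.val_inj]
    rw [h2]
    exact IsOpen.preimage continuous_subtype_val z.2)
  refine (((TopologicalSpace.NoetherianSpace.isCompact T).finite hT).image (f.fiberι y)).subset ?_
  rintro x ⟨rfl, hx⟩
  exact ⟨f.asFiber x, Scheme.Hom.quasiFiniteAt_iff_isOpen_singleton_asFiber.1 hx, f.fiberι_asFiber x⟩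

/-- An affine chart of a quasi-compact base change of a morphism of finite type. -/
theorem exists_affine_chart_over {X Y : AlgSp.Sp S} (hX : AlgSp.IsAlgSpace X) (hY : AlgSp.IsAlgSpace Y)
    {f : X ⟶ Y} (hf : AlgSp.IsFiniteTypeMor f) {V : Over S} [IsAffine V.left] (b : (AlgSp.yon S).obj V ⟶ Y)
    {P : AlgSp.Sp S} {fst : P ⟶ X} {snd : P ⟶ (AlgSp.yon S).obj V} (sq : IsPullback fst snd f b) :
    ∃ (U : Over S) (a : (AlgSp.yon S).obj U ⟶ P) (h : U ⟶ V), IsAffine U.left ∧ AlgSp.RepWith @Etale a ∧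
      AlgSp.RepWith @Surjective a ∧ a ≫ snd = (AlgSp.yon S).map h ∧ LocallyOfFiniteType h.left ∧
      QuasiCompact h.left := by
  have hP := isAlgSpace_of_isPullback' hY hX (AlgSp.IsAlgSpace.yon_obj V) sq
  have := compactSpace_points (hf.2 (AlgSp.IsAlgSpace.yon_obj V) (AlgSp.isQuasiCompactSp_yon V) b fst snd sq)
  obtain ⟨A, p, hp, hps⟩ := hP.atlas
  obtain ⟨U, g, hU, ha, has⟩ := AlgSpB.exists_affine_chart_of_compactSpace hp hps
  obtain ⟨h, hh⟩ := (AlgSp.yon S).map_surjective (((AlgSp.yon S).map g ≫ p) ≫ snd)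
  refine ⟨U, _, h, hU, ha, has, hh.symm, ?_, (quasiCompact_iff_compactSpace h.left).2 inferInstance⟩
  exact AlgSpCov.locP_baseChange AlgSpCov.etaleLocal_locallyOfFiniteType hX hY sq hf.1 _ (𝟙 _) h ha
    (AlgSp.repWith_id _ _) (by rw [hh, Category.comp_id])

end Groth.Agent.AlgSp
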