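import Groth.Agent.AlgSpB.LqfSep

/-!
# Properties of the relation of a chart inherited from the diagonal
-/

universe u

open CategoryTheory CategoryTheory.Limits AlgebraicGeometry Opposite

set_option backward.isDefEq.respectTransparency false
set_option backward.isDefEq.respectTransparency.types false
set_option autoImplicit false

namespace Groth.Agent.AlgSp

open _root_.AlgSp

variable {S : Scheme.{u}}

/-- The relation of a chart maps to the fibre product with the property of the diagonal. -/
theorem prop_rel (P : MorphismProperty Scheme.{u}) [P.RespectsIso] {F : Sp S} {U R T : Over S} {p : (yon S).obj U ⟶ F}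
    {t s : R ⟶ U} (sq : IsPullback ((yon S).map t) ((yon S).map s) p p)
    {f : F ⟶ (yon S).obj T} (hf : RepWith P (pullback.diagonal f)) {u : U ⟶ T} (hu : p ≫ f = (yon S).map u)
    (hw : t.left ≫ u.left = s.left ≫ u.left) :
    P (pullback.lift t.left s.left hw : R.left ⟶ pullback u.left u.left) := by
  have hwO : t ≫ u = s ≫ u := Over.OverMorphism.ext hw
  let Q := pullback u u
  let l : R ⟶ Q := pullback.lift t s hwO
  have hm : ((yon S).map (pullback.fst u u) ≫ p) ≫ f = ((yon S).map (pullback.snd u u) ≫ p) ≫ f := by
    rw [Category.assoc, Category.assoc, hu, ← Functor.map_comp, ← Functor.map_comp, pullback.condition]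
  let m : (yon S).obj Q ⟶ pullback f f := pullback.lift _ _ hm
  have hQ := (IsPullback.of_hasPullback u u).map (yon S)
  have sqm : IsPullback ((yon S).map t ≫ p) ((yon S).map l) (pullback.diagonal f) m := by
    have key : ∀ c : PullbackCone (pullback.diagonal f) m,
        (c.snd ≫ (yon S).map (pullback.fst u u)) ≫ p = c.fst ∧
          (c.snd ≫ (yon S).map (pullback.snd u u)) ≫ p = c.fst := by
      intro c
      have h1 := congrArg (· ≫ pullback.fst f f) c.condition
      have h2 := congrArg (· ≫ pullback.snd f f) c.condition
      simp only [Category.assoc, pullback.diagonal_fst, pullback.diagonal_snd, Category.comp_id, m,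
        pullback.lift_fst, pullback.lift_snd] at h1 h2 ⊢
      exact ⟨h1.symm, h2.symm⟩
    have hl1 : (yon S).map l ≫ (yon S).map (pullback.fst u u) = (yon S).map t := by
      rw [← Functor.map_comp, pullback.lift_fst]
    have hl2 : (yon S).map l ≫ (yon S).map (pullback.snd u u) = (yon S).map s := by
      rw [← Functor.map_comp, pullback.lift_snd]
    refine IsPullback.of_isLimit' ⟨?_⟩ (PullbackCone.IsLimit.mk _
      (fun c => sq.lift _ _ ((key c).1.trans (key c).2.symm)) (fun c => ?_) (fun c => ?_) (fun c k h1 h2 => ?_))
    · apply pullback.hom_ext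
      · simp only [Category.assoc, pullback.diagonal_fst, Category.comp_id, m, pullback.lift_fst,
          reassoc_of% hl1]
      · simp only [Category.assoc, pullback.diagonal_snd, Category.comp_id, m, pullback.lift_snd,
          reassoc_of% hl2, sq.w]
    · rw [sq.lift_fst_assoc]; exact (key c).1
    · apply hQ.hom_ext
      · rw [Category.assoc, hl1, sq.lift_fst]
      · rw [Category.assoc, hl2, sq.lift_snd]
    · apply sq.hom_ext
      · rw [sq.lift_fst, ← h2, Category.assoc, hl1]
      · rw [sq.lift_snd, ← h2, Category.assoc, hl2]
  have hl : P l.left := hf.2 m _ l sqm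
  have eQ := Groth.Agent.AlgSpB.isPullback_map_left (IsPullback.of_hasPullback u u)
  have e : l.left ≫ eQ.isoPullback.hom = pullback.lift t.left s.left hw := by
    apply pullback.hom_ext <;> simp [l, ← Over.comp_left]
  rw [← e]
  exact (MorphismProperty.cancel_right_of_respectsIso _ _ _).2 hl

end Groth.Agent.AlgSp
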