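import Groth.Agent.AlgSpB.LqfSep
import Groth.Agent.AlgSpD.ProperMor

/-!
# Proper locally quasi-finite morphisms of algebraic spaces are finite
-/

universe u

open CategoryTheory CategoryTheory.Limits AlgebraicGeometry Opposite

set_option backward.isDefEq.respectTransparency.types false

namespace Groth.Agent.AlgSp

variable {S : Scheme.{u}}

/-- A proper locally quasi-finite morphism of algebraic spaces is finite. -/
theorem isFiniteMor_of_proper_lqf {X Y : AlgSp.Space S} (f : X.obj ⟶ Y.obj) (h : AlgSp.IsProperMor f)
    (hq : AlgSp.LocP (@LocallyQuasiFinite ⊓ @LocallyOfFiniteType) f) : AlgSp.IsFiniteMor f := by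
  have hr := AlgSpB.representable_of_lqf_sep X.property Y.property f hq h.1
  have h1 := (repWith_universallyClosed_iff f hr).2 h.2.2
  have h2 := (repWith_quasiCompact_iff Y.property f hr).2 h.2.1.2
  have h3 : AlgSp.RepWith @IsSeparated f := (repWith_diagonal_iff_of_representable @IsClosedImmersion @IsSeparated
    (fun h => ⟨fun hh => ⟨hh⟩, fun hh => hh.1⟩) X.property hr).1 h.1
  have h4 := AlgSpCov.repWith_of_locP AlgSpCov.standard_locallyQuasiFinite.etaleLocal X.property Y.property hr hq
  refine (AlgSpD.isFiniteMor_iff f).2 ⟨hr, fun U V g fst snd sq => ?_⟩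
  have : UniversallyClosed snd.left := h1.2 g fst snd sq
  have : QuasiCompact snd.left := h2.2 g fst snd sq
  have : IsSeparated snd.left := h3.2 g fst snd sq
  have : LocallyQuasiFinite snd.left := (h4.2 g fst snd sq).1
  have : LocallyOfFiniteType snd.left := (h4.2 g fst snd sq).2
  have : IsProper snd.left := ⟨⟩
  exact IsFinite.of_isProper_of_locallyQuasiFinite snd.left

end Groth.Agent.AlgSp
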