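import Groth.Prelude.Def_Dual3
import Groth.Agent.FlatMor.FibreStalk
import Groth.Agent.Gor.FlatLocal
import Groth.Agent.Gor.Basic
import Groth.Agent.Wt.FlatWt
import Groth.Agent.Thick.FlatCancel
import Groth.Agent.ProEtS.Affine
import Groth.Agent.Hens.IndEtale
import Groth.Agent.S0342
import Mathlib.RingTheory.TensorProduct.Quotient
import Mathlib.RingTheory.RingHom.FaithfullyFlat

/-!
# Gorenstein fibre stalks: etale invariance
-/

universe u

open CategoryTheory CategoryTheory.Limits AlgebraicGeometry IsLocalRing TensorProduct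

set_option backward.isDefEq.respectTransparency.types false

namespace Groth.Agent.AlgSp.GorCore

section Ring

variable {A B : Type u} [CommRing A] [CommRing B]

theorem flat_quotient_algebra [Algebra A B] (I : Ideal A) [Module.Flat A B] :
    Module.Flat (A ⧸ I) (B ⧸ I.map (algebraMap A B)) := by
  let e₀ : (A ⧸ I) ⊗[A] B ≃ₗ[A] B ⧸ I.map (algebraMap A B) :=
    (TensorProduct.quotTensorEquivQuotSMul B I).trans
      ((Submodule.quotEquivOfEq _ _ (Ideal.smul_top_eq_map (S := B) I)).trans
        (Submodule.Quotient.restrictScalarsEquiv A (I.map (algebraMap A B) : Submodule B B)))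
  exact Module.Flat.of_linearEquiv (e₀.extendScalarsOfSurjective Ideal.Quotient.mk_surjective).symm

/-- Flatness passes to the quotient by an extended ideal. -/
theorem flat_quotientMap (φ : A →+* B) (hφ : φ.Flat) (I : Ideal A) :
    (Ideal.quotientMap (I.map φ) φ Ideal.le_comap_map).Flat := by
  let _ := φ.toAlgebra
  have : Module.Flat A B := hφ
  have h := RingHom.flat_algebraMap_iff.2 (flat_quotient_algebra (B := B) I)
  exact h

/-- A field is Gorenstein. -/
theorem gorenstein_of_isField (h : IsField A) : LocCoh.IsGorensteinLocalRing A := by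
  let := h.toField
  exact Groth.Agent.S0342.result A

/-- Gorensteinness along a flat local map with field closed fibre. -/
theorem gorenstein_iff_of_map_max [IsLocalRing A] [IsNoetherianRing A] [IsLocalRing B] [IsNoetherianRing B]
    (φ : A →+* B) [IsLocalHom φ] (hφ : φ.Flat) (hm : (maximalIdeal A).map φ = maximalIdeal B) :
    LocCoh.IsGorensteinLocalRing A ↔ LocCoh.IsGorensteinLocalRing B := by
  algebraize [φ]
  have : IsLocalHom (algebraMap A B) := ‹IsLocalHom φ›
  have : (Ideal.map (algebraMap A B) (maximalIdeal A)).IsMaximal := by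
    change (Ideal.map φ (maximalIdeal A)).IsMaximal
    rw [hm]; infer_instance
  rw [Groth.Agent.Gor.FlatLocal.gorenstein_flat_local_iff A B]
  exact ⟨fun h => ⟨h, gorenstein_of_isField ((Ideal.Quotient.maximal_ideal_iff_isField_quotient _).1 this)⟩,
    fun h => h.1⟩

/-- Gorensteinness of quotients along a flat local map with field closed fibre. -/
theorem gorenstein_quotient_iff [IsLocalRing A] [IsLocalRing B] (φ : A →+* B) [IsLocalHom φ] (hφ : φ.Flat)
    (hm : (maximalIdeal A).map φ = maximalIdeal B) (I : Ideal A) (hI : I ≤ maximalIdeal A)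
    (hA : IsNoetherianRing (A ⧸ I)) (hB : IsNoetherianRing (B ⧸ I.map φ)) :
    LocCoh.IsGorensteinLocalRing (A ⧸ I) ↔ LocCoh.IsGorensteinLocalRing (B ⧸ I.map φ) := by
  have hI' : I.map φ ≤ maximalIdeal B := hm ▸ Ideal.map_mono hI
  have : Nontrivial (A ⧸ I) := Ideal.Quotient.nontrivial_iff.2 fun h => (maximalIdeal.isMaximal A).ne_top (top_le_iff.1 (h ▸ hI))
  have : Nontrivial (B ⧸ I.map φ) :=
    Ideal.Quotient.nontrivial_iff.2 fun h => (maximalIdeal.isMaximal B).ne_top (top_le_iff.1 (h ▸ hI'))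
  have : IsLocalRing (A ⧸ I) := IsLocalRing.of_surjective' _ Ideal.Quotient.mk_surjective
  have : IsLocalRing (B ⧸ I.map φ) := IsLocalRing.of_surjective' _ Ideal.Quotient.mk_surjective
  let ψ := Ideal.quotientMap (I.map φ) φ Ideal.le_comap_map
  have hmA : (maximalIdeal A).map (Ideal.Quotient.mk I) = maximalIdeal (A ⧸ I) :=
    IsLocalRing.map_maximalIdeal_of_surjective _ Ideal.Quotient.mk_surjective
  have hmB : (maximalIdeal B).map (Ideal.Quotient.mk (I.map φ)) = maximalIdeal (B ⧸ I.map φ) :=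
    IsLocalRing.map_maximalIdeal_of_surjective _ Ideal.Quotient.mk_surjective
  have hmψ : (maximalIdeal (A ⧸ I)).map ψ = maximalIdeal (B ⧸ I.map φ) := by
    rw [← hmA, ← hmB, ← hm, Ideal.map_map, Ideal.map_map, Ideal.quotientMap_comp_mk]
  have : IsLocalHom ψ := ((IsLocalRing.local_hom_TFAE ψ).out 0 2).2 hmψ.le
  exact gorenstein_iff_of_map_max ψ (flat_quotientMap φ hφ I) hmψ

/-- Flatness cancels along weakly etale algebras. -/
theorem flat_of_weaklyEtale_comp {R R' M : Type u} [CommRing R] [CommRing R'] [CommRing M] [Algebra R R']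
    [Algebra.WeaklyEtale R R'] (ψ : R' →+* M) (h : (ψ.comp (algebraMap R R')).Flat) : ψ.Flat := by
  have := (Groth.Agent.ProEtS.Affine.weaklyEtale_SpecMap_iff R R').2 ‹_›
  have : MorphismProperty.HasOfPostcompProperty @Flat @WeaklyEtale := by
    rw [MorphismProperty.hasOfPostcompProperty_iff_le_diagonal]
    intro X Y f hf
    exact WeaklyEtale.flat_diagonal (f := f) (self := hf)
  have h2 : Flat (Spec.map (CommRingCat.ofHom ψ) ≫ Spec.map (CommRingCat.ofHom (algebraMap R R'))) := by
    rw [← Spec.map_comp, HasRingHomProperty.Spec_iff (P := @Flat)]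
    exact h
  exact (HasRingHomProperty.Spec_iff (P := @Flat)).1
    (MorphismProperty.of_postcomp @Flat (W' := @WeaklyEtale) (Spec.map (CommRingCat.ofHom ψ)) _ ‹_› h2)

theorem weaklyEtale_of_isStrictHenselization (R S : Type u) [CommRing R] [IsLocalRing R] [CommRing S]
    [IsLocalRing S] [Algebra R S] [IsLocalHom (algebraMap R S)] [Hensel.IsStrictHenselization R S] :
    Algebra.WeaklyEtale R S :=
  Groth.Agent.IndAlg.Etale.weaklyEtale (Groth.Agent.IndAlg.fac_algEquiv
    (Groth.Agent.Hens.strictHenselizationEquiv S) Groth.Agent.Hens.fac_etLoc)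

/-- Flatness descends along a faithfully flat map of the source. -/
theorem flat_of_comp_flat {C : Type u} [CommRing C] [IsLocalRing B] [IsLocalRing C] (f : A →+* B) (g : B →+* C)
    [IsLocalHom g] (hg : g.Flat) (h : (g.comp f).Flat) : f.Flat := by
  let _ := f.toAlgebra
  let _ := g.toAlgebra
  let _ := (g.comp f).toAlgebra
  have : IsScalarTower A B C := .of_algebraMap_eq' rfl
  have : Module.Flat B C := hg
  have : IsLocalHom (algebraMap B C) := ‹IsLocalHom g›
  have : Module.FaithfullyFlat B C := Module.FaithfullyFlat.of_flat_of_isLocalHom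
  have : Module.Flat A C := h
  exact Groth.Agent.Thick.FlatCancel.module_flat_of_comp A B C

end Ring

variable {U V : Scheme.{u}}

theorem flat_fromSpecStalk (x : U) : Flat (U.fromSpecStalk x) := by
  obtain ⟨W, hW, hx, -⟩ := exists_isAffineOpen_mem_and_subset (x := x) (U := ⊤) trivial
  rw [← hW.fromSpecStalk_eq_fromSpecStalk hx, IsAffineOpen.fromSpecStalk]
  letI := TopCat.Presheaf.algebra_section_stalk U.presheaf (⟨x, hx⟩ : W)
  haveI := hW.isLocalization_stalk ⟨x, hx⟩
  haveI : Flat (Spec.map (U.presheaf.germ W x hx)) := by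
    rw [HasRingHomProperty.Spec_iff (P := @Flat), RingHom.Flat]
    exact IsLocalization.flat (U.presheaf.stalk x) (hW.primeIdealOf ⟨x, hx⟩).asIdeal.primeCompl
  infer_instance

/-- The local ring of the fibre, as a quotient of the local ring. -/
noncomputable abbrev fibIdeal (h : U ⟶ V) (u : U) : Ideal (U.presheaf.stalk u) :=
  (maximalIdeal (V.presheaf.stalk (h u))).map (h.stalkMap u).hom

theorem fibIdeal_le (h : U ⟶ V) (u : U) : fibIdeal h u ≤ maximalIdeal (U.presheaf.stalk u) :=
  Ideal.map_le_iff_le_comap.2 fun a ha => (IsLocalRing.mem_maximalIdeal _).2 fun hu => (IsLocalRing.mem_maximalIdeal a).1 ha (isUnit_of_map_unit (h.stalkMap u).hom a hu)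

theorem isGorensteinAt_iff (h : U ⟶ V) (u : U) :
    Dual3.IsGorensteinAt h u ↔
      (h.stalkMap u).hom.Flat ∧ LocCoh.IsGorensteinLocalRing (U.presheaf.stalk u ⧸ fibIdeal h u) := by
  obtain ⟨e⟩ := Groth.Agent.FlatMor.FibreStalk.exists_fibre_stalk_equiv h u
  exact and_congr_right' (Groth.Agent.Gor.FlatLocal.gorenstein_iff_of_ringEquiv e).symm

theorem fibIdeal_comp_le {W : Scheme.{u}} (f : U ⟶ V) (g : V ⟶ W) (u : U) :
    fibIdeal (f ≫ g) u = (fibIdeal g (f u)).map (f.stalkMap u).hom := by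
  rw [fibIdeal, fibIdeal, Ideal.map_map, Scheme.Hom.stalkMap_comp]
  rfl

theorem stalkMap_flat_of_comp_etale {W : Scheme.{u}} (h : U ⟶ V) (e : V ⟶ W) [Etale e] (u : U)
    (hu : ((h ≫ e).stalkMap u).hom.Flat) : (h.stalkMap u).hom.Flat := by
  have : MorphismProperty.HasOfPostcompProperty @Flat @Etale := by
    rw [MorphismProperty.hasOfPostcompProperty_iff_le_diagonal]
    intro X Y f hf
    have : Etale f := hf
    exact (inferInstanceAs (Flat (pullback.diagonal f)))
  let p := U.fromSpecStalk u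
  have h1 : Flat ((p ≫ h) ≫ e) := by
    rw [Category.assoc, ← Scheme.SpecMap_stalkMap_fromSpecStalk (h ≫ e)]
    have : Flat (Spec.map ((h ≫ e).stalkMap u)) := (HasRingHomProperty.Spec_iff (P := @Flat)).2 hu
    have := flat_fromSpecStalk ((h ≫ e) u)
    infer_instance
  have h2 : Flat (p ≫ h) := MorphismProperty.of_postcomp @Flat (W' := @Etale) _ e ‹_› h1
  have := flat_fromSpecStalk u
  have key : ∀ v, v = p (closedPoint (U.presheaf.stalk u)) → (h.stalkMap v).hom.Flat := by
    intro v hv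
    subst hv
    exact Groth.Agent.Thick.FlatCancel.flat_stalkMap_of_comp p h _ (Flat.stalkMap p _) (Flat.stalkMap (p ≫ h) _)
  exact key u Scheme.fromSpecStalk_closedPoint.symm

/-- Gorensteinness at a point does not change on composing with an etale map of the target. -/
theorem isGorensteinAt_postcomp {W : Scheme.{u}} (h : U ⟶ V) (e : V ⟶ W) [Etale e] (u : U) :
    Dual3.IsGorensteinAt (h ≫ e) u ↔ Dual3.IsGorensteinAt h u := by
  have hI : fibIdeal (h ≫ e) u = fibIdeal h u := by
    rw [fibIdeal_comp_le, fibIdeal, fibIdeal, (Groth.Agent.Wt.FlatWt.etale_stalk e (h u)).1]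
  rw [isGorensteinAt_iff, isGorensteinAt_iff, hI]
  refine and_congr_left' ⟨stalkMap_flat_of_comp_etale h e u, fun hu => ?_⟩
  rw [Scheme.Hom.stalkMap_comp]
  exact (Flat.stalkMap e (h u)).comp hu

/-- Gorensteinness at a point is etale local on the source. -/
theorem isGorensteinAt_precomp {U' : Scheme.{u}} (e : U' ⟶ U) [Etale e] (h : U ⟶ V) (u' : U')
    (hN : IsNoetherianRing (U.presheaf.stalk (e u') ⧸ fibIdeal h (e u')))
    (hN' : IsNoetherianRing (U'.presheaf.stalk u' ⧸ fibIdeal (e ≫ h) u')) :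
    Dual3.IsGorensteinAt (e ≫ h) u' ↔ Dual3.IsGorensteinAt h (e u') := by
  rw [isGorensteinAt_iff, isGorensteinAt_iff]
  refine and_congr ⟨fun hh => Groth.Agent.Thick.FlatCancel.flat_stalkMap_of_comp e h u' (Flat.stalkMap e u') hh,
    fun hh => ?_⟩ ?_
  · rw [Scheme.Hom.stalkMap_comp]
    exact hh.comp (Flat.stalkMap e u')
  · rw [fibIdeal_comp_le] at hN' ⊢
    exact (gorenstein_quotient_iff (e.stalkMap u').hom (Flat.stalkMap e u') (Groth.Agent.Wt.FlatWt.etale_stalk e u').1 _
      (fibIdeal_le h (e u')) hN hN').symm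

end Groth.Agent.AlgSp.GorCore

namespace Groth.Agent.AlgSp.GorCore

/-- Gorensteinness of the composite fibre. -/
theorem isGorensteinAt_comp_iff {U V W : Scheme.{u}} (f : U ⟶ V) (g : V ⟶ W) (u : U)
    (hf : (f.stalkMap u).hom.Flat)
    (hNg : IsNoetherianRing (V.presheaf.stalk (f u) ⧸ fibIdeal g (f u)))
    (hNfg : IsNoetherianRing (U.presheaf.stalk u ⧸ fibIdeal (f ≫ g) u)) :
    Dual3.IsGorensteinAt (f ≫ g) u ↔ Dual3.IsGorensteinAt g (f u) ∧ Dual3.IsGorensteinAt f u := by
  rw [isGorensteinAt_iff, isGorensteinAt_iff, isGorensteinAt_iff]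
  have hflat : ((f ≫ g).stalkMap u).hom.Flat ↔ (g.stalkMap (f u)).hom.Flat :=
    ⟨fun h => Groth.Agent.Thick.FlatCancel.flat_stalkMap_of_comp f g u hf h, fun h => by
      rw [Scheme.Hom.stalkMap_comp]; exact h.comp hf⟩
  rw [fibIdeal_comp_le] at hNfg ⊢
  let J := fibIdeal g (f u)
  let φ := (f.stalkMap u).hom
  have hJ' : J.map φ ≤ maximalIdeal (U.presheaf.stalk u) :=
    (Ideal.map_mono (fibIdeal_le g (f u))).trans (fibIdeal_le f u)
  have : Nontrivial (V.presheaf.stalk (f u) ⧸ J) := Ideal.Quotient.nontrivial_iff.2 fun h =>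
    (maximalIdeal.isMaximal _).ne_top (top_le_iff.1 (h.symm.le.trans (fibIdeal_le g (f u))))
  have : Nontrivial (U.presheaf.stalk u ⧸ J.map φ) := Ideal.Quotient.nontrivial_iff.2 fun h =>
    (maximalIdeal.isMaximal _).ne_top (top_le_iff.1 (h.symm.le.trans hJ'))
  have : IsLocalRing (V.presheaf.stalk (f u) ⧸ J) := IsLocalRing.of_surjective' _ Ideal.Quotient.mk_surjective
  have : IsLocalRing (U.presheaf.stalk u ⧸ J.map φ) := IsLocalRing.of_surjective' _ Ideal.Quotient.mk_surjective
  let ψ := Ideal.quotientMap (J.map φ) φ Ideal.le_comap_map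
  let _ := ψ.toAlgebra
  have : Module.Flat (V.presheaf.stalk (f u) ⧸ J) (U.presheaf.stalk u ⧸ J.map φ) := flat_quotientMap φ hf J
  have : IsLocalHom (algebraMap (V.presheaf.stalk (f u) ⧸ J) (U.presheaf.stalk u ⧸ J.map φ)) := ⟨fun x => by
    obtain ⟨a, rfl⟩ := Ideal.Quotient.mk_surjective x
    intro hu
    change IsUnit (Ideal.Quotient.mk (J.map φ) (φ a)) at hu
    have := IsLocalHom.of_surjective (Ideal.Quotient.mk (J.map φ)) Ideal.Quotient.mk_surjective
    exact (isUnit_of_map_unit φ a (isUnit_of_map_unit (Ideal.Quotient.mk (J.map φ)) _ hu)).map _⟩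
  have hid : (maximalIdeal (V.presheaf.stalk (f u) ⧸ J)).map (algebraMap _ (U.presheaf.stalk u ⧸ J.map φ)) =
      (fibIdeal f u).map (Ideal.Quotient.mk (J.map φ)) := by
    have e : ψ.comp (Ideal.Quotient.mk J) = (Ideal.Quotient.mk (J.map φ)).comp φ :=
      Ideal.quotientMap_comp_mk Ideal.le_comap_map
    change Ideal.map ψ _ = Ideal.map _ (Ideal.map φ _)
    rw [← IsLocalRing.map_maximalIdeal_of_surjective _ (Ideal.Quotient.mk_surjective (I := J))]
    exact (Ideal.map_map _ _).trans ((congrArg (fun χ => Ideal.map χ _) e).trans (Ideal.map_map _ _).symm)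
  rw [Groth.Agent.Gor.FlatLocal.gorenstein_flat_local_iff (V.presheaf.stalk (f u) ⧸ J)
    (U.presheaf.stalk u ⧸ J.map φ), hid, Groth.Agent.Gor.FlatLocal.gorenstein_iff_of_ringEquiv
    (DoubleQuot.quotQuotEquivQuotOfLE (Ideal.map_mono (fibIdeal_le g (f u)) : J.map φ ≤ fibIdeal f u)), hflat]
  tauto

end Groth.Agent.AlgSp.GorCore
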