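import Groth.Agent.AlgSp.InfUniv

/-!
The first order infinitesimal neighbourhood of a closed subspace is a universal first order thickening.
-/

universe u

open CategoryTheory CategoryTheory.Limits AlgebraicGeometry Opposite AlgSp

namespace Groth.Agent.AlgSp.InfNbhdUniv

open InfBC InfUniv InfSpace

variable {S : Scheme.{u}}

/-- The ideal sheaf of `Spec (A ⧸ I)` corresponds to `I` under the global sections isomorphism. -/
theorem equiv_ker {A : Type u} [CommRing A] (I : Ideal A) :
    Scheme.IdealSheafData.equivOfIsAffine (X := Spec (CommRingCat.of A))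
      (Spec.map (CommRingCat.ofHom (Ideal.Quotient.mk I))).ker =
      I.comap (Scheme.ΓSpecIso (CommRingCat.of A)).commRingCatIsoToRingEquiv.toRingHom := by
  rw [Scheme.ker_of_isAffine]
  change Scheme.IdealSheafData.equivOfIsAffine (Scheme.IdealSheafData.equivOfIsAffine.symm (RingHom.ker _)) = _
  rw [OrderRingIso.apply_symm_apply]
  ext x
  have hx := congr($(Scheme.ΓSpecIso_naturality (CommRingCat.ofHom (Ideal.Quotient.mk I))).hom x)
  rw [Ideal.mem_comap, RingHom.mem_ker, ← Ideal.Quotient.eq_zero_iff_mem]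
  change _ ↔ Ideal.Quotient.mk I ((Scheme.ΓSpecIso (CommRingCat.of A)).commRingCatIsoToRingEquiv x) = 0
  rw [show Ideal.Quotient.mk I ((Scheme.ΓSpecIso (CommRingCat.of A)).commRingCatIsoToRingEquiv x) = _ from hx.symm]
  exact (map_eq_zero_iff _ (Scheme.ΓSpecIso (CommRingCat.of (A ⧸ I))).commRingCatIsoToRingEquiv.injective).symm

/-- An ideal is determined by the kernel ideal sheaf of the closed subscheme it defines. -/
theorem ideal_eq_of_ker {A : Type u} [CommRing A] {I J : Ideal A} {n : ℕ}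
    (h : (Spec.map (CommRingCat.ofHom (Ideal.Quotient.mk I))).ker =
      (Spec.map (CommRingCat.ofHom (Ideal.Quotient.mk J))).ker ^ n) : I = J ^ n := by
  have h' := congrArg (Scheme.IdealSheafData.equivOfIsAffine (X := Spec (CommRingCat.of A))) h
  rw [map_pow, equiv_ker, equiv_ker] at h'
  have hs := (Scheme.ΓSpecIso (CommRingCat.of A)).commRingCatIsoToRingEquiv.surjective
  have h2 := congrArg (Ideal.map (Scheme.ΓSpecIso (CommRingCat.of A)).commRingCatIsoToRingEquiv.toRingHom) h'
  rwa [Ideal.map_pow, Ideal.map_comap_of_surjective (Scheme.ΓSpecIso (CommRingCat.of A)).commRingCatIsoToRingEquiv.toRingHom hs, Ideal.map_comap_of_surjective (Scheme.ΓSpecIso (CommRingCat.of A)).commRingCatIsoToRingEquiv.toRingHom hs] at h2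

/-- Containment of ideals may be checked on flat algebras covering the spectrum. -/
theorem le_of_flat_cover {A : Type u} [CommRing A] (K J : Ideal A)
    (h : ∀ p : ↥(Spec (CommRingCat.of A)), ∃ (B : Type u) (_ : CommRing B) (φ : A →+* B), φ.Flat ∧
      p ∈ Set.range (Spec.map (CommRingCat.ofHom φ)) ∧ K.map φ ≤ J.map φ) : K ≤ J := by
  intro x hx
  by_contra hx0
  have hne : J.colon {x} ≠ ⊤ := fun h => hx0 (by
    have : (1 : A) ∈ J.colon {x} := h ▸ Submodule.mem_top
    simpa [Submodule.mem_colon_singleton] using this)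
  obtain ⟨m, hm, hle⟩ := Ideal.exists_le_maximal _ hne
  obtain ⟨B, _, φ, hφ, ⟨q, hq⟩, hKJ⟩ := h ⟨m, hm.isPrime⟩
  have hqm : m = Ideal.comap φ q.asIdeal := (congrArg PrimeSpectrum.asIdeal hq).symm
  have := hm.isPrime
  let _ : Algebra (Localization.AtPrime m) (Localization.AtPrime q.asIdeal) :=
    (Localization.localRingHom m q.asIdeal φ hqm).toAlgebra
  have : Module.Flat (Localization.AtPrime m) (Localization.AtPrime q.asIdeal) :=
    RingHom.Flat.localRingHom hφ (P := q.asIdeal) (Q := m) hqm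
  have : IsLocalHom (algebraMap (Localization.AtPrime m) (Localization.AtPrime q.asIdeal)) :=
    Localization.isLocalHom_localRingHom _ _ _ hqm
  have : Module.FaithfullyFlat (Localization.AtPrime m) (Localization.AtPrime q.asIdeal) :=
    Module.FaithfullyFlat.of_flat_of_isLocalHom
  have hmem : algebraMap A (Localization.AtPrime m) x ∈ J.map (algebraMap A (Localization.AtPrime m)) := by
    rw [← Ideal.comap_map_eq_self_of_faithfullyFlat (B := Localization.AtPrime q.asIdeal)
      (J.map (algebraMap A (Localization.AtPrime m)))]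
    have hc : (algebraMap (Localization.AtPrime m) (Localization.AtPrime q.asIdeal)).comp
        (algebraMap A (Localization.AtPrime m)) = (algebraMap B (Localization.AtPrime q.asIdeal)).comp φ :=
      RingHom.ext fun a => Localization.localRingHom_to_map _ _ _ hqm a
    rw [Ideal.mem_comap, Ideal.map_map, hc, ← Ideal.map_map]
    have := Ideal.mem_map_of_mem (algebraMap B (Localization.AtPrime q.asIdeal))
      (hKJ (Ideal.mem_map_of_mem φ hx))
    rwa [show algebraMap (Localization.AtPrime m) (Localization.AtPrime q.asIdeal)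
        (algebraMap A (Localization.AtPrime m) x) = algebraMap B _ (φ x) from RingHom.congr_fun hc x]
  obtain ⟨s, hs, hsx⟩ := (IsLocalization.algebraMap_mem_map_algebraMap_iff m.primeCompl _ J x).1 hmem
  exact hs (hle (by simpa [Submodule.mem_colon_singleton] using hsx))

variable {Z U X Z₁ : Sp S} {c : Z ⟶ U} {u : U ⟶ X} {j : Z ⟶ Z₁} {k : Z₁ ⟶ U}

theorem mono_of_closed {F G : Sp S} {f : F ⟶ G} (h : RepWith @IsClosedImmersion f) : Mono f :=
  Groth.Agent.AlgSp.mono_of_repWith (P := @IsClosedImmersion)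
    (fun f hf => have : IsClosedImmersion f := hf; inferInstance) f h

/-- On any affine scheme over `U` the ideal of the first order neighbourhood is the square of that of `Z`. -/
theorem ideal_nbhd (hU : IsAlgSpace U) (hN : IsInfNbhd 1 c j k) {A : Type u} [CommRing A]
    (str : Spec (CommRingCat.of A) ⟶ S) (y : (yon S).obj (Over.mk str) ⟶ U) {J K : Ideal A}
    {fc : (yon S).obj (ptQ str J) ⟶ Z} {fk : (yon S).obj (ptQ str K) ⟶ Z₁}
    (hJ : IsPullback fc ((yon S).map (jQ str J)) c y) (hK : IsPullback fk ((yon S).map (jQ str K)) k y) :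
    K = J ^ 2 := by
  obtain ⟨-, hc, hk, hker⟩ := hN
  suffices ∀ t : ↥(Spec (CommRingCat.of A)), ∃ (B : Type u) (_ : CommRing B) (φ : A →+* B), φ.Flat ∧
      t ∈ Set.range (Spec.map (CommRingCat.ofHom φ)) ∧ K.map φ = (J ^ 2).map φ from
    le_antisymm (le_of_flat_cover _ _ fun t => by
        obtain ⟨B, i, φ, h₁, h₂, h₃⟩ := this t
        exact ⟨B, i, φ, h₁, h₂, h₃.le⟩)
      (le_of_flat_cover _ _ fun t => by
        obtain ⟨B, i, φ, h₁, h₂, h₃⟩ := this t
        exact ⟨B, i, φ, h₁, h₂, h₃.ge⟩)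
  intro t
  obtain ⟨B, _, φ, C, _, strC, b, ψ, v, hφ, ht, hb, hv, hvb⟩ := exists_affine_chart_lift hU str y t
  obtain ⟨JC, fJ, hJC⟩ := exists_quot_chart strC hc b
  obtain ⟨KC, fK, hKC⟩ := exists_quot_chart strC hk b
  have e : KC = JC ^ 2 := ideal_eq_of_ker
    (hker b fJ (jQ strC JC) fK (jQ strC KC) (inferInstanceAs (IsAffine (Spec (CommRingCat.of C)))) hb hJC hKC)
  obtain ⟨a₁, ha₁⟩ := isPullback_map str φ hJ
  obtain ⟨a₂, ha₂⟩ := isPullback_map str φ hK
  obtain ⟨b₁, hb₁⟩ := isPullback_map' strC ψ hJC v hv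
  obtain ⟨b₂, hb₂⟩ := isPullback_map' strC ψ hKC v hv
  rw [hvb] at hb₁ hb₂
  refine ⟨B, inferInstance, φ, ?_, ht, ?_⟩
  · have : Etale (Spec.map (CommRingCat.ofHom φ)) := (HasRingHomProperty.Spec_iff (P := @Etale)).2 hφ
    exact (HasRingHomProperty.Spec_iff (P := @Flat) (φ := CommRingCat.ofHom φ)).1 inferInstance
  · rw [Ideal.map_pow, ideal_eq _ ha₁ hb₁, ideal_eq _ ha₂ hb₂, e, Ideal.map_pow]

/-- Maps to the ambient space which land in an open subspace on a thickened affine scheme factor through it. -/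
theorem exists_lift_open (hu : RepWith @IsOpenImmersion u) {A : Type u} [CommRing A]
    {str : Spec (CommRingCat.of A) ⟶ S} {I : Ideal A} (hI : I ^ 2 = ⊥)
    {a : (yon S).obj (ptQ str I) ⟶ U} {b : (yon S).obj (Over.mk str) ⟶ X}
    (w : a ≫ u = (yon S).map (jQ str I) ≫ b) : ∃ b', b' ≫ u = b := by
  let s := hu.1.snd b
  have hso : IsOpenImmersion s.left := hu.2 _ _ _ (hu.1.isPullback b)
  obtain ⟨g, hg⟩ := (yon S).map_surjective ((hu.1.isPullback b).lift a ((yon S).map (jQ str I)) w)
  have hgs : g ≫ s = jQ str I := (yon S).map_injective (by rw [Functor.map_comp, hg, IsPullback.lift_snd])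
  have : Surjective s.left := ⟨fun t => by
    obtain ⟨t₀, ht₀⟩ := ((isThickMor_yon_map_iff _).1 (isFOThickMor_quot str hI).1).2.surj t
    exact ⟨g.left t₀, (congr(($hgs).left t₀)).trans ht₀⟩⟩
  have : IsIso ((Over.forget S).map s) := (isIso_iff_isOpenImmersion_and_surjective s.left).2 ⟨hso, this⟩
  have : IsIso s := isIso_of_reflects_iso s (Over.forget S)
  refine ⟨inv ((yon S).map s) ≫ hu.1.fst b, ?_⟩
  rw [Category.assoc, (hu.1.isPullback b).w, IsIso.inv_hom_id_assoc]

/-- The first order neighbourhood of `Z` is a first order thickening. -/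
theorem isFOThickMor_nbhd (hU : IsAlgSpace U) (hN : IsInfNbhd 1 c j k) : IsFOThickMor j := by
  have := mono_of_closed hN.2.2.1
  have hc := hN.2.1
  have hw := hN.1
  have sq : IsPullback (𝟙 Z) j c k :=
    ⟨⟨by simp [hw]⟩, ⟨Limits.PullbackCone.IsLimit.mk (by simp [hw]) (fun s => s.fst) (fun s => by simp)
      (fun s => by rw [← cancel_mono k, Category.assoc, hw, s.condition]) (fun s m h₁ _ => by simpa using h₁)⟩⟩
  have chart : ∀ (A : Type u) [CommRing A] (str : Spec (CommRingCat.of A) ⟶ S)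
      (y : (yon S).obj (Over.mk str) ⟶ Z₁), ∃ (J : Ideal A) (_ : J ^ 2 = ⊥)
        (f : (yon S).obj (ptQ str J) ⟶ Z), IsPullback f ((yon S).map (jQ str J)) j y := by
    intro A _ str y
    obtain ⟨J, f, hf⟩ := exists_quot_chart str ((repWith_isStableUnderBaseChange _).of_isPullback sq hc) y
    have hf' := hf.paste_horiz sq
    rw [Category.comp_id] at hf'
    obtain ⟨K, g, hg⟩ := exists_quot_chart str hN.2.2.1 (y ≫ k)
    have hK : K ≤ ⊥ := le_of_lift str hg (m := (yon S).map (jQ str ⊥) ≫ y) (Category.assoc _ _ _)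
    refine ⟨J, ?_, f, hf⟩
    rw [← ideal_nbhd hU hN str (y ≫ k) hf' hg, eq_bot_iff.2 hK]
  have hjc : RepWith @IsClosedImmersion j := (repWith_isStableUnderBaseChange _).of_isPullback sq hc
  refine isFOThickMor_of_forall ⟨hjc.1, fun V W y fst snd sqW => ⟨hjc.2 _ _ _ sqW, ⟨fun v => ?_⟩⟩⟩
    fun A _ str y _ => chart A str y
  obtain ⟨A, str, g, -, z, hz⟩ := exists_affine_etale V v
  obtain ⟨J, hJ, f, hf⟩ := chart A str ((yon S).map g ≫ y)
  obtain ⟨r, hr⟩ := (yon S).map_surjective
    (sqW.lift f ((yon S).map (jQ str J ≫ g)) (by rw [hf.w, Functor.map_comp, Category.assoc]))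
  have hr' : r ≫ snd = jQ str J ≫ g := (yon S).map_injective (by rw [Functor.map_comp, hr, IsPullback.lift_snd])
  obtain ⟨z₀, hz₀⟩ := ((isThickMor_yon_map_iff _).1 (isFOThickMor_quot str hJ).1).2.surj z
  refine ⟨r.left z₀, ?_⟩
  rw [← hz, ← hz₀]
  exact congr(($hr').left z₀)

/-- The first order neighbourhood of `Z` is a universal first order thickening. -/
theorem univ_nbhd (hU : IsAlgSpace U) (hu : RepWith @IsOpenImmersion u) (hN : IsInfNbhd 1 c j k) :
    IsUnivFOThick (c ≫ u) j (k ≫ u) := by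
  refine univ_of_quot_test (isFOThickMor_nbhd hU hN) (by rw [← Category.assoc, hN.1]) ?_
  intro A _ str I hI a b hab
  have := mono_of_closed hN.2.2.1
  have : Mono u := Groth.Agent.AlgSp.mono_of_repWith (P := @IsOpenImmersion)
    (fun f hf => have : IsOpenImmersion f := hf; inferInstance) u hu
  obtain ⟨b', rfl⟩ := exists_lift_open hu hI (a := a ≫ c) ((Category.assoc _ _ _).trans hab.symm)
  have hac : a ≫ c = (yon S).map (jQ str I) ≫ b' := by
    rw [← cancel_mono u, Category.assoc, Category.assoc, hab]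
  obtain ⟨J, fJ, hfJ⟩ := exists_quot_chart str hN.2.1 b'
  obtain ⟨K, fK, hfK⟩ := exists_quot_chart str hN.2.2.1 b'
  have hK : K = ⊥ := by
    rw [ideal_nbhd hU hN str b' hfJ hfK, eq_bot_iff, ← hI]
    exact Ideal.pow_right_mono (le_of_lift str hfJ hac) 2
  subst hK
  have hbij : Function.Bijective (Ideal.Quotient.mk (⊥ : Ideal A)) :=
    ⟨(RingHom.injective_iff_ker_eq_bot _).2 (Ideal.mk_ker), Ideal.Quotient.mk_surjective⟩
  have : IsIso (CommRingCat.ofHom (Ideal.Quotient.mk (⊥ : Ideal A))) :=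
    (ConcreteCategory.isIso_iff_bijective _).2 hbij
  have : IsIso ((Over.forget S).map (jQ str (⊥ : Ideal A))) :=
    inferInstanceAs (IsIso (Spec.map (CommRingCat.ofHom (Ideal.Quotient.mk (⊥ : Ideal A)))))
  have : IsIso (jQ str (⊥ : Ideal A)) := isIso_of_reflects_iso _ (Over.forget S)
  have hl : (inv ((yon S).map (jQ str ⊥)) ≫ fK) ≫ k = b' := by
    rw [Category.assoc, hfK.w, IsIso.inv_hom_id_assoc]
  refine ⟨inv ((yon S).map (jQ str ⊥)) ≫ fK, ⟨?_, by rw [← Category.assoc, hl]⟩, fun l hl' => ?_⟩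
  · rw [← cancel_mono k, Category.assoc, hl, Category.assoc, hN.1, hac]
  · rw [← cancel_mono k, hl, ← cancel_mono u, Category.assoc, hl'.2]

end Groth.Agent.AlgSp.InfNbhdUniv
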