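import Groth.Agent.IdealSh.EffCartier
import Groth.Agent.AlgSp.InfNbhdUniv
import Groth.Agent.AlgSpB.Points
import Groth.Prelude.Def_AlgSpSub

/-!
Effective Cartier ideals: descent along etale morphisms, and effective Cartier divisors on algebraic spaces.
-/

universe u

open CategoryTheory CategoryTheory.Limits AlgebraicGeometry Opposite AlgSp

namespace Groth.Agent.AlgSp.CartierDesc

open Groth.Agent.IdealSh Groth.Agent.IdealSh.Comap

/-- A principal equation found after flat covering by `S_q` of a ring `R`, with a global candidate generator. -/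
theorem exists_candidate {R S : Type u} [CommRing R] [CommRing S] (φ : R →+* S) (I : Ideal R) {a : S}
    (ha : a ∈ nonZeroDivisors S) (hI : I.map φ = Ideal.span {a}) (q : Ideal S) [q.IsPrime] :
    ∃ b ∈ I, ∃ c : S, φ b = c * a ∧ c ∉ q := by
  by_contra hne
  push Not at hne
  have hle : I.map φ ≤ q * Ideal.span {a} := Ideal.map_le_iff_le_comap.2 fun b hb => by
    obtain ⟨c, hc⟩ := Ideal.mem_span_singleton'.1 (hI.le (Ideal.mem_map_of_mem φ hb))
    rw [Ideal.mem_comap, ← hc]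
    exact Ideal.mul_mem_mul (hne b hb c hc.symm) (Ideal.mem_span_singleton_self a)
  obtain ⟨c, hc, hca⟩ := Ideal.mem_mul_span_singleton.1 (hle (hI.ge (Ideal.mem_span_singleton_self a)))
  have h1 : c - 1 = 0 := (mem_nonZeroDivisors_iff_right.mp ha) _ (by rw [sub_mul, hca, one_mul, sub_self])
  exact ‹q.IsPrime›.ne_top ((Ideal.eq_top_iff_one q).mpr (by rwa [sub_eq_zero.mp h1] at hc))

/-- An equation which is a nonzerodivisor equation on a flat covering is one. -/
theorem equation_of_flat_cover {R : Type u} [CommRing R] (I : Ideal R) (b : R)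
    (h : ∀ p : ↥(Spec (CommRingCat.of R)), ∃ (B : Type u) (_ : CommRing B) (φ : R →+* B), φ.Flat ∧
      p ∈ Set.range (Spec.map (CommRingCat.ofHom φ)) ∧ φ b ∈ nonZeroDivisors B ∧
        I.map φ = Ideal.span {φ b}) :
    b ∈ nonZeroDivisors R ∧ I = Ideal.span {b} := by
  refine ⟨mem_nonZeroDivisors_iff_right.mpr fun x hx => ?_, le_antisymm ?_ ?_⟩
  · have : Ideal.span {x} = ⊥ := InfBC.eq_bot_of_flat_cover _ fun p => by
      obtain ⟨B, i, φ, h₁, h₂, h₃, -⟩ := h p
      refine ⟨B, i, φ, h₁, h₂, ?_⟩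
      rw [Ideal.map_span, Set.image_singleton, Ideal.span_singleton_eq_bot]
      exact (mem_nonZeroDivisors_iff_right.mp h₃) _ (by rw [← map_mul, hx, map_zero])
    exact Ideal.span_singleton_eq_bot.1 this
  · exact InfNbhdUniv.le_of_flat_cover _ _ fun p => by
      obtain ⟨B, i, φ, h₁, h₂, -, h₄⟩ := h p
      exact ⟨B, i, φ, h₁, h₂, by rw [h₄, Ideal.map_span, Set.image_singleton]⟩
  · exact InfNbhdUniv.le_of_flat_cover _ _ fun p => by
      obtain ⟨B, i, φ, h₁, h₂, -, h₄⟩ := h p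
      exact ⟨B, i, φ, h₁, h₂, by rw [h₄, Ideal.map_span, Set.image_singleton]⟩

/-- Effective Cartier ideals descend along a flat open morphism, near the points of its image. -/
theorem exists_equation_of_flat {Y' Y : Scheme.{u}} (f : Y' ⟶ Y) [Flat f] (hopen : IsOpenMap f)
    (I : Y.IdealSheafData) (h : BlowUp.IsEffCartierIdeal (I.comap f)) (y' : Y') :
    ∃ U : Y.affineOpens, f y' ∈ U.1 ∧ ∃ b : Γ(Y, U.1), b ∈ nonZeroDivisors Γ(Y, U.1) ∧
      I.ideal U = Ideal.span {b} := by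
  obtain ⟨U₀, hU₀, -⟩ := exists_affine_le (f y') ⊤ trivial
  obtain ⟨V, hyV, hVU, a, ha, he⟩ := EffCartier.exists_equation h y' (f ⁻¹ᵁ U₀.1) hU₀
  let φ := (f.appLE U₀.1 V.1 hVU).hom
  rw [ideal_comap I f U₀ V hVU] at he
  obtain ⟨b, hb, c, hc, hcq⟩ := exists_candidate φ (I.ideal U₀) ha he (V.2.primeIdealOf ⟨y', hyV⟩).asIdeal
  let V₁ : Y'.Opens := Y'.basicOpen c
  have hV₁ : V₁ ≤ V.1 := Y'.basicOpen_le c
  have hyV₁ : y' ∈ V₁ := by
    have h1 : V.2.primeIdealOf ⟨y', hyV⟩ ∈ V.2.fromSpec ⁻¹ᵁ Y'.basicOpen c := by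
      rw [V.2.fromSpec_preimage_basicOpen]; exact hcq
    have h2 : V.2.fromSpec (V.2.primeIdealOf ⟨y', hyV⟩) ∈ Y'.basicOpen c := h1
    rwa [V.2.fromSpec_primeIdealOf] at h2
  let W : Y.Opens := ⟨f '' V₁, hopen _ V₁.2⟩
  obtain ⟨U, hyU, hUW⟩ := exists_affine_le (f y') (W ⊓ U₀.1) ⟨⟨y', hyV₁, rfl⟩, hU₀⟩
  refine ⟨U, hyU, Y.presheaf.map (homOfLE (hUW.trans inf_le_right)).op b, ?_⟩
  refine equation_of_flat_cover _ _ fun p => ?_
  obtain ⟨⟨y, hy⟩, rfl⟩ : ∃ y : U.1, U.2.primeIdealOf y = p :=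
    ⟨⟨U.2.fromSpec p, by rw [← SetLike.mem_coe, ← U.2.range_fromSpec]; exact Set.mem_range_self p⟩,
      U.2.fromSpec.isOpenEmbedding.injective (U.2.fromSpec_primeIdealOf _)⟩
  obtain ⟨z, hz, rfl⟩ := (hUW hy).1
  obtain ⟨V', hzV', hV'⟩ := exists_affine_le z (V₁ ⊓ f ⁻¹ᵁ U.1) ⟨hz, hy⟩
  let ψ := (f.appLE U.1 V'.1 (hV'.trans inf_le_right)).hom
  have hr : V'.1 ≤ V.1 := (hV'.trans inf_le_left).trans hV₁
  let ρ := (Y'.presheaf.map (homOfLE hr).op).hom
  have hψb : ψ (Y.presheaf.map (homOfLE (hUW.trans inf_le_right)).op b) = ρ (φ b) := by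
    change ((Y.presheaf.map _ ≫ f.appLE _ _ _).hom b) = ((f.appLE _ _ _ ≫ Y'.presheaf.map _).hom b)
    rw [Scheme.Hom.map_appLE, Scheme.Hom.appLE_map]
  have hcu : IsUnit (ρ c) := by
    have h1 := RingedSpace.isUnit_res_basicOpen Y'.toLocallyRingedSpace.toRingedSpace c
    have h2 := h1.map (Y'.presheaf.map (homOfLE (hV'.trans inf_le_left)).op).hom
    change IsUnit ((Y'.presheaf.map _).hom c)
    convert h2 using 1
    change _ = ((Y'.presheaf.map _ ≫ Y'.presheaf.map _).hom c)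
    rw [← Functor.map_comp]
    rfl
  refine ⟨_, inferInstance, ψ, f.flat_appLE U.2 V'.2 _, ⟨V'.2.primeIdealOf ⟨z, hzV'⟩, ?_⟩, ?_, ?_⟩
  · exact IsAffineOpen.comap_primeIdealOf_appLE U.1 U.2 V'.1 V'.2 (hV'.trans inf_le_right) hzV'
  · rw [hψb, hc, map_mul]
    refine mul_mem (IsUnit.mem_nonZeroDivisors hcu) ?_
    exact EffCartier.map_res_mem_nonZeroDivisors hr ha
  · rw [hψb, hc, map_mul, Ideal.span_singleton_mul_left_unit hcu,
      ← ideal_comap I f U V' (hV'.trans inf_le_right)]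
    exact EffCartier.restrict_eq hr ((ideal_comap I f U₀ V hVU).trans he)

/-- Effective Cartier is etale local. -/
theorem of_etale_local {Y : Scheme.{u}} {I : Y.IdealSheafData}
    (h : ∀ y : Y, ∃ (Y' : Scheme.{u}) (f : Y' ⟶ Y), Etale f ∧ y ∈ Set.range f ∧
      BlowUp.IsEffCartierIdeal (I.comap f)) : BlowUp.IsEffCartierIdeal I := fun y => by
  obtain ⟨Y', f, hf, ⟨y', rfl⟩, he⟩ := h y
  have : UniversallyOpen f := inferInstance
  obtain ⟨U, hU, b, hb, hI⟩ := exists_equation_of_flat f f.isOpenMap I he y'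
  exact ⟨U, hU, b, hb, hI⟩

/-- Effective Cartier away from the support. -/
theorem comap_ι_of_notMem {Y : Scheme.{u}} {I : Y.IdealSheafData} {y : Y} (hy : y ∉ I.support) :
    ∃ W : Y.Opens, y ∈ W ∧ BlowUp.IsEffCartierIdeal (I.comap W.ι) := by
  refine ⟨⟨(I.support : Set Y)ᶜ, I.support.isClosed.isOpen_compl⟩, hy, ?_⟩
  rw [comap_eq_top_of_disjoint]
  · exact EffCartier.top
  · rw [Scheme.Opens.range_ι]
    exact disjoint_compl_left

variable {S : Scheme.{u}} {F D : Sp S} {i : D ⟶ F}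

/-- The closed subscheme of an ideal sheaf as a scheme over `S`. -/
noncomputable abbrev subOver (U : Over S) (I : U.left.IdealSheafData) : Over S :=
  Over.mk (I.subschemeι ≫ U.hom)

/-- The inclusion of the closed subscheme of an ideal sheaf over `S`. -/
noncomputable abbrev subι (U : Over S) (I : U.left.IdealSheafData) : subOver U I ⟶ U :=
  Over.homMk I.subschemeι rfl

/-- A closed subspace pulls back to charts as a closed subscheme. -/
theorem exists_ideal (hi : RepWith @IsClosedImmersion i) {U : Over S} (a : (yon S).obj U ⟶ F) :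
    ∃ (I : U.left.IdealSheafData) (fst : (yon S).obj (subOver U I) ⟶ D),
      IsPullback fst ((yon S).map (subι U I)) i a := by
  obtain ⟨A, snd, fst, hsq⟩ := hi.1 a
  have : IsClosedImmersion snd.left := hi.2 _ _ _ hsq
  let e : A ≅ subOver U snd.left.ker := Over.isoMk (asIso snd.left.toImage) (by
    change snd.left.toImage ≫ snd.left.imageι ≫ U.hom = _
    rw [Scheme.Hom.toImage_imageι_assoc]
    exact Over.w snd)
  refine ⟨snd.left.ker, (yon S).map e.inv ≫ fst, hsq.of_iso ((yon S).mapIso e) (Iso.refl _) (Iso.refl _)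
    (Iso.refl _) ?_ ?_ (by simp) (by simp)⟩
  · simp [← Category.assoc, ← Functor.map_comp]
  · simp only [Functor.mapIso_hom, Iso.refl_hom, Category.comp_id]
    rw [← Functor.map_comp]
    congr 1
    ext1
    exact (Scheme.Hom.toImage_imageι snd.left).symm

theorem ker_eq_of_isos {P Q X Y : Scheme.{u}} (e' : Q ⟶ P) [IsIso e'] (e : Q ⟶ Y) [IsIso e] (p : P ⟶ X)
    (j : Y ⟶ X) (w : e' ≫ p = e ≫ j) : p.ker = j.ker := by
  rw [← Scheme.Hom.ker_comp_of_isIso e' p, w, Scheme.Hom.ker_comp_of_isIso]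

/-- The ideal of a closed subspace on a chart is compatible with maps of charts. -/
theorem comap_eq {U V : Over S} (g : V ⟶ U) {a : (yon S).obj U ⟶ F} {I : U.left.IdealSheafData}
    {fst : (yon S).obj (subOver U I) ⟶ D} (h : IsPullback fst ((yon S).map (subι U I)) i a)
    {J : V.left.IdealSheafData} {fst' : (yon S).obj (subOver V J) ⟶ D}
    (h' : IsPullback fst' ((yon S).map (subι V J)) i ((yon S).map g ≫ a)) : I.comap g.left = J := by
  have hp := (IsPullback.of_hasPullback (subι U I) g)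
  have h₁ := (hp.map (yon S)).paste_horiz h
  obtain ⟨e, he⟩ : ∃ e : pullback (subι U I) g ≅ subOver V J, e.hom ≫ subι V J = pullback.snd (subι U I) g :=
    ⟨(Functor.FullyFaithful.ofFullyFaithful (yon S)).preimageIso (h₁.isoIsPullback _ _ h'),
      (yon S).map_injective (by rw [Functor.map_comp]; simp [-Functor.map_comp])⟩
  obtain ⟨e', he'⟩ : ∃ e' : (pullback (subι U I) g).left ≅ pullback g.left I.subschemeι,
      e'.hom ≫ pullback.fst g.left I.subschemeι = (pullback.snd (subι U I) g).left :=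
    ⟨(hp.map (Over.forget S)).flip.isoPullback, IsPullback.isoPullback_hom_fst _⟩
  have : IsIso e.hom.left := ((Over.forget S).mapIso e).isIso_hom
  have w : e'.hom ≫ pullback.fst g.left I.subschemeι = e.hom.left ≫ (subι V J).left := by
    rw [he', ← he, Over.comp_left]
  exact (ker_eq_of_isos e'.hom e.hom.left _ _ w).trans J.ker_subschemeι

/-- On any chart, the ideal of an effective Cartier divisor is effective Cartier. -/
theorem isEffCartierIdeal_of_chart (hi : RepWith @IsClosedImmersion i) (h : IsEffCartierSub i) {U : Over S}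
    {a : (yon S).obj U ⟶ F} (ha : RepWith @Etale a) {I : U.left.IdealSheafData}
    {fst : (yon S).obj (subOver U I) ⟶ D} (hI : IsPullback fst ((yon S).map (subι U I)) i a) :
    BlowUp.IsEffCartierIdeal I := by
  obtain ⟨-, V, φ, I₀, fst₀, hφ, hφs, h₀, hE⟩ := h
  let R := hφ.1.pullback a
  let r₁ : R ⟶ V := hφ.1.fst' a
  let r₂ : R ⟶ U := hφ.1.snd a
  have hr : (yon S).map r₁ ≫ φ = (yon S).map r₂ ≫ a := by
    rw [Functor.relativelyRepresentable.map_fst']; exact (hφ.1.isPullback a).w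
  have hr₂ : Etale r₂.left := hφ.2 _ _ _ (hφ.1.isPullback a)
  have hr₂' : Surjective r₂.left := hφs.2 _ _ _ (hφ.1.isPullback a)
  have hr₁ : Etale r₁.left := by
    refine ha.2 φ ((yon S).map r₂) r₁ ?_
    have := (hφ.1.isPullback a).flip
    rwa [← Functor.relativelyRepresentable.map_fst'] at this
  obtain ⟨J, fJ, hJ⟩ := exists_ideal hi ((yon S).map r₁ ≫ φ)
  have hJ' := hJ
  rw [hr] at hJ'
  refine of_etale_local fun y => ⟨R.left, r₂.left, hr₂, r₂.left.surjective y, ?_⟩
  rw [comap_eq r₂ hI hJ', ← comap_eq r₁ h₀ hJ]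
  exact EffCartier.comap_of_flat r₁.left hE

/-- Effective Cartier divisors are detected by the ideals on all charts. -/
theorem isEffCartierSub_iff (hF : IsAlgSpace F) (hi : RepWith @IsClosedImmersion i) :
    IsEffCartierSub i ↔ ∀ (U : Over S) (φ : (yon S).obj U ⟶ F), RepWith @Etale φ →
      ∀ (I : U.left.IdealSheafData) (fst : (yon S).obj (subOver U I) ⟶ D),
        IsPullback fst ((yon S).map (subι U I)) i φ → BlowUp.IsEffCartierIdeal I := by
  refine ⟨fun h U φ hφ I fst hI => isEffCartierIdeal_of_chart hi h hφ hI, fun h => ⟨hi, ?_⟩⟩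
  obtain ⟨V, φ, hφ, hφs⟩ := hF.atlas
  obtain ⟨I, fst, hI⟩ := exists_ideal hi φ
  exact ⟨V, φ, I, fst, hφ, hφs, hI, h V φ hφ I fst hI⟩

/-- On an affine scheme an ideal with a global nonzerodivisor equation is effective Cartier. -/
theorem isEffCartierIdeal_of_global {X : Scheme.{u}} [IsAffine X] {I : X.IdealSheafData} {f : Γ(X, ⊤)}
    (hf : f ∈ nonZeroDivisors Γ(X, ⊤)) (hI : I.ideal ⟨⊤, isAffineOpen_top X⟩ = Ideal.span {f}) :
    BlowUp.IsEffCartierIdeal I :=
  fun x => ⟨⟨⊤, isAffineOpen_top X⟩, trivial, f, hf, hI⟩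

/-- Effective Cartier divisors are detected by principal equations near the divisor. -/
theorem isEffCartierSub_iff_nhd (hF : IsAlgSpace F) (hi : RepWith @IsClosedImmersion i) :
    IsEffCartierSub i ↔
      ∀ x : Points D,
        ∃ (U : Over S) (_ : IsAffine U.left) (a : (yon S).obj U ⟶ F) (u : ↥U.left)
          (f : Γ(U.left, ⊤)) (I : U.left.IdealSheafData)
          (fst : (yon S).obj (subOver U I) ⟶ D),
          RepWith @Etale a ∧ Points.ofPt a u = Points.map i x ∧
            f ∈ nonZeroDivisors Γ(U.left, ⊤) ∧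
            I.ideal ⟨⊤, isAffineOpen_top U.left⟩ = Ideal.span {f} ∧
            IsPullback fst ((yon S).map (subι U I)) i a := by
  constructor
  · intro h x
    obtain ⟨V, φ, hφ, hφs⟩ := hF.atlas
    obtain ⟨v, hv⟩ := AlgSpB.surjective_ofPt hφs (Points.map i x)
    obtain ⟨I₀, fst₀, h₀⟩ := exists_ideal hi φ
    obtain ⟨W, hvW, f, hf, hW⟩ := isEffCartierIdeal_of_chart hi h hφ h₀ v
    let U : Over S := Over.mk (W.1.ι ≫ V.hom)
    let g : U ⟶ V := Over.homMk W.1.ι rfl
    have : IsAffine U.left := W.2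
    have hg : Etale g.left := inferInstanceAs (Etale W.1.ι)
    obtain ⟨I, fst, hI⟩ := exists_ideal hi ((yon S).map g ≫ φ)
    have hW' := ideal_comap_span_singleton I₀ g.left W ⟨⊤, isAffineOpen_top U.left⟩ W.1.ι_preimage_self.ge hW
    rw [comap_eq g h₀ hI] at hW'
    refine ⟨U, inferInstance, _, ⟨v, hvW⟩, _, I, fst, AlgSpB.repWith_etale_map_comp g hφ, ?_, ?_, hW', hI⟩
    · rw [AlgSpB.ofPt_map_comp]; exact hv
    · exact EffCartier.map_mem_nonZeroDivisors_of_flat _ (g.left.flat_appLE W.2 (isAffineOpen_top _) _) hf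
  · intro h
    refine (isEffCartierSub_iff hF hi).2 fun V φ hφ I₀ fst₀ h₀ => of_etale_local fun v => ?_
    by_cases hv : v ∈ I₀.support
    · obtain ⟨d, hd⟩ : v ∈ Set.range I₀.subschemeι := by rw [Scheme.IdealSheafData.range_subschemeι]; exact hv
      obtain ⟨U, _, a, u, f, I, fst, ha, hu, hf, hI, hsq⟩ := h (Points.ofPt fst₀ d)
      have hvu : Points.ofPt a u = Points.ofPt φ v := by
        rw [hu, Points.map_ofPt, h₀.w, AlgSpB.ofPt_map_comp]
        exact congrArg _ hd
      let R := ha.1.pullback φ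
      let r₁ : R ⟶ U := ha.1.fst' φ
      let r₂ : R ⟶ V := ha.1.snd φ
      have hr : (yon S).map r₁ ≫ a = (yon S).map r₂ ≫ φ := by
        rw [Functor.relativelyRepresentable.map_fst']; exact (ha.1.isPullback φ).w
      have hr₂ : Etale r₂.left := ha.2 _ _ _ (ha.1.isPullback φ)
      have hr₁ : Etale r₁.left := by
        refine hφ.2 a ((yon S).map r₂) r₁ ?_
        have := (ha.1.isPullback φ).flip
        rwa [← Functor.relativelyRepresentable.map_fst'] at this
      obtain ⟨w, -, hw⟩ := (AlgSpB.ofPt_eq_ofPt_iff' (ha.1.isPullback φ) u v).1 hvu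
      obtain ⟨J, fJ, hJ⟩ := exists_ideal hi ((yon S).map r₁ ≫ a)
      have hJ' := hJ
      rw [hr] at hJ'
      refine ⟨R.left, r₂.left, hr₂, ⟨w, hw⟩, ?_⟩
      rw [comap_eq r₂ h₀ hJ', ← comap_eq r₁ hsq hJ]
      exact EffCartier.comap_of_flat r₁.left (isEffCartierIdeal_of_global hf hI)
    · obtain ⟨W, hW, he⟩ := comap_ι_of_notMem hv
      exact ⟨_, W.ι, inferInstance, ⟨⟨v, hW⟩, rfl⟩, he⟩

end Groth.Agent.AlgSp.CartierDesc
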