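import Groth.Agent.AlgSp.CartierDesc
import Groth.Prelude.Def_AlgSpModX

/-!
Effective Cartier divisors cut out by products of ideal sheaves.
-/

universe u

open CategoryTheory CategoryTheory.Limits AlgebraicGeometry Opposite AlgSp

namespace Groth.Agent.AlgSp.CartierCut

open Groth.Agent.IdealSh Groth.Agent.IdealSh.Comap CartierDesc

variable {S : Scheme.{u}} {X Z : Sp S} {i : Z ⟶ X}

/-- On an affine chart, the ideal of a closed subspace cut out by `I` has global sections the value of `I`. -/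
theorem ideal_of_cutOut {I : IdealEt X} (hI : IsCutOutBy I i) {U : Over S} {a : (yon S).obj U ⟶ X}
    (ha : RepWith @Etale a) (hU : IsAffine U.left) {J : U.left.IdealSheafData}
    {fst : (yon S).obj (subOver U J) ⟶ Z} (hJ : IsPullback fst ((yon S).map (subι U J)) i a) :
    J.ideal ⟨⊤, isAffineOpen_top U.left⟩ = I.ideal (EtOver.mk a ha) hU := by
  obtain ⟨hi, rfl⟩ := hI
  have h₁ := hi.1.isPullback a
  obtain ⟨e, he⟩ : ∃ e : hi.1.pullback a ≅ subOver U J, e.hom ≫ subι U J = hi.1.snd a :=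
    ⟨(Functor.FullyFaithful.ofFullyFaithful (yon S)).preimageIso (h₁.isoIsPullback _ _ hJ),
      (yon S).map_injective (by rw [Functor.map_comp]; simp [-Functor.map_comp])⟩
  have : IsClosedImmersion (hi.1.snd a).left := hi.2 _ _ _ h₁
  have : IsIso e.hom.left := ((Over.forget S).mapIso e).isIso_hom
  have hk : (hi.1.snd a).left.ker = J := by
    refine Eq.trans ?_ J.ker_subschemeι
    rw [← he, Over.comp_left]
    exact Scheme.Hom.ker_comp_of_isIso e.hom.left _
  rw [← hk, Scheme.Hom.ker_apply]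
  rfl

/-- The ideal of a product is the product of the ideals, on affine charts. -/
theorem ideal_mul {Y D : Sp S} {iY : Y ⟶ X} {iD : D ⟶ X} {I J : IdealEt X} (hZ : IsCutOutBy I i)
    (hY : IsCutOutBy J iY) (hD : IsCutOutBy (I * J) iD) {U : Over S} [hU : IsAffine U.left]
    {a : (yon S).obj U ⟶ X} (ha : RepWith @Etale a) {K₁ K₂ K : U.left.IdealSheafData}
    {f₁ : (yon S).obj (subOver U K₁) ⟶ Z} (h₁ : IsPullback f₁ ((yon S).map (subι U K₁)) i a)
    {f₂ : (yon S).obj (subOver U K₂) ⟶ Y} (h₂ : IsPullback f₂ ((yon S).map (subι U K₂)) iY a)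
    {f : (yon S).obj (subOver U K) ⟶ D} (h : IsPullback f ((yon S).map (subι U K)) iD a) :
    K = K₁ * K₂ := by
  apply Scheme.IdealSheafData.ext_of_isAffine
  rw [ideal_of_cutOut hD ha hU h, Scheme.IdealSheafData.ideal_mul, Pi.mul_apply, ideal_of_cutOut hZ ha hU h₁,
    ideal_of_cutOut hY ha hU h₂]
  rfl

/-- Effective Cartier subspaces may be recognised on affine charts. -/
theorem isEffCartierSub_of_affine {D : Sp S} {iD : D ⟶ X} (hX : IsAlgSpace X) (hi : RepWith @IsClosedImmersion iD)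
    (h : ∀ (U : Over S) (a : (yon S).obj U ⟶ X), IsAffine U.left → RepWith @Etale a →
      ∀ (K : U.left.IdealSheafData) (f : (yon S).obj (subOver U K) ⟶ D),
        IsPullback f ((yon S).map (subι U K)) iD a → BlowUp.IsEffCartierIdeal K) : IsEffCartierSub iD := by
  refine (isEffCartierSub_iff hX hi).2 fun V φ hφ I fst hI => EffCartier.of_openCover fun x => ?_
  obtain ⟨W, hxW, -⟩ := exists_affine_le x ⊤ trivial
  let U : Over S := Over.mk (W.1.ι ≫ V.hom)
  let g : U ⟶ V := Over.homMk W.1.ι rfl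
  have hU : IsAffine U.left := W.2
  have : Etale g.left := inferInstanceAs (Etale W.1.ι)
  obtain ⟨K, f, hK⟩ := exists_ideal hi ((yon S).map g ≫ φ)
  refine ⟨W.1, hxW, ?_⟩
  have e : I.comap g.left = K := comap_eq g hI hK
  change BlowUp.IsEffCartierIdeal (I.comap g.left)
  rw [e]
  exact h U _ hU (AlgSpB.repWith_etale_map_comp g hφ) K f hK

/-- A sum of effective Cartier divisors is effective Cartier. -/
theorem isEffCartierSub_sum {Y D : Sp S} {iY : Y ⟶ X} {iD : D ⟶ X} {I J : IdealEt X} (hX : IsAlgSpace X)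
    (hZ : IsCutOutBy I i) (hY : IsCutOutBy J iY) (hD : IsCutOutBy (I * J) iD) (e₁ : IsEffCartierSub i)
    (e₂ : IsEffCartierSub iY) : IsEffCartierSub iD := by
  refine isEffCartierSub_of_affine hX hD.1 fun U a hU ha K f hK => ?_
  obtain ⟨K₁, f₁, h₁⟩ := exists_ideal hZ.1 a
  obtain ⟨K₂, f₂, h₂⟩ := exists_ideal hY.1 a
  rw [ideal_mul hZ hY hD ha h₁ h₂ hK]
  exact EffCartier.mul (isEffCartierIdeal_of_chart hZ.1 e₁ ha h₁) (isEffCartierIdeal_of_chart hY.1 e₂ ha h₂)

/-- The summands of an effective Cartier divisor are effective Cartier. -/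
theorem isEffCartierSub_summands {Y D : Sp S} {iY : Y ⟶ X} {iD : D ⟶ X} {I J : IdealEt X} (hX : IsAlgSpace X)
    (hZ : IsCutOutBy I i) (hY : IsCutOutBy J iY) (hD : IsCutOutBy (I * J) iD) (e : IsEffCartierSub iD) :
    IsEffCartierSub i ∧ IsEffCartierSub iY := by
  refine ⟨isEffCartierSub_of_affine hX hZ.1 fun U a hU ha K₁ f₁ h₁ => ?_,
    isEffCartierSub_of_affine hX hY.1 fun U a hU ha K₂ f₂ h₂ => ?_⟩
  · obtain ⟨K₂, f₂, h₂⟩ := exists_ideal hY.1 a
    obtain ⟨K, f, hK⟩ := exists_ideal hD.1 a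
    have h := isEffCartierIdeal_of_chart hD.1 e ha hK
    rw [ideal_mul hZ hY hD ha h₁ h₂ hK, mul_comm] at h
    exact EffCartier.factor_right h
  · obtain ⟨K₁, f₁, h₁⟩ := exists_ideal hZ.1 a
    obtain ⟨K, f, hK⟩ := exists_ideal hD.1 a
    have h := isEffCartierIdeal_of_chart hD.1 e ha hK
    rw [ideal_mul hZ hY hD ha h₁ h₂ hK] at h
    exact EffCartier.factor_right h

end Groth.Agent.AlgSp.CartierCut
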