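import Groth.Prelude.Def_AlgSp3
import Mathlib.AlgebraicGeometry.Morphisms.LocalFlatDescent

/-!
Descent of properties of representable morphisms along representable etale surjections.
-/

universe u

open CategoryTheory CategoryTheory.Limits AlgebraicGeometry Opposite AlgSp

namespace Groth.Agent.AlgSp.InfDescent

variable (P : MorphismProperty Scheme.{u}) [P.IsStableUnderBaseChange] [IsZariskiLocalAtTarget P]
  [P.DescendsAlong (@Surjective ⊓ @Flat ⊓ @QuasiCompact)]

/-- A property of morphisms of schemes which is Zariski local on the target and descends along faithfully flat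
quasi-compact morphisms descends along surjective etale morphisms. -/
theorem prop_of_etale_cover {X T T' X' : Scheme.{u}} (g : X ⟶ T) (h : T' ⟶ T) [Etale h] [Surjective h]
    {fst : X' ⟶ X} {snd : X' ⟶ T'} (sq : IsPullback fst snd g h) (hP : P snd) : P g := by
  have H : ∀ t : T, ∃ V : T.Opens, t ∈ V ∧ P (g ∣_ V) := by
    intro t
    obtain ⟨t', rfl⟩ := h.surjective t
    obtain ⟨V₀, hV₀, hV₀t, -⟩ := exists_isAffineOpen_mem_and_subset (x := h t') (U := ⊤) trivial
    obtain ⟨W, hW, hWt, hWV⟩ := exists_isAffineOpen_mem_and_subset (x := t') (U := h ⁻¹ᵁ V₀) hV₀t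
    let V : T.Opens := ⟨h '' W, h.isOpenMap _ W.isOpen⟩
    have hVV₀ : V ≤ V₀ := by rintro _ ⟨w, hw, rfl⟩; exact hWV hw
    refine ⟨V, ⟨t', hWt, rfl⟩, ?_⟩
    have e : W ≤ h ⁻¹ᵁ V := fun w hw => ⟨w, hw, rfl⟩
    let p : (W : Scheme.{u}) ⟶ V := h.resLE V W e
    have : Surjective p := ⟨by
      rintro ⟨_, w, hw, rfl⟩
      refine ⟨⟨w, hw⟩, Subtype.ext ?_⟩
      exact congr($(h.resLE_comp_ι e) ⟨w, hw⟩)⟩
    have : QuasiCompact p := by
      have : IsAffine (W : Scheme.{u}) := hW
      have : IsAffine (V₀ : Scheme.{u}) := hV₀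
      have : QuasiCompact (p ≫ T.homOfLE hVV₀) := inferInstance
      exact QuasiCompact.of_comp p (T.homOfLE hVV₀)
    have : Flat p := by
      have : Etale p := inferInstanceAs (Etale (h.resLE V W e))
      infer_instance
    refine MorphismProperty.of_isPullback_of_descendsAlong (Q := @Surjective ⊓ @Flat ⊓ @QuasiCompact)
      (IsPullback.of_hasPullback (g ∣_ V) p).flip ⟨⟨inferInstance, inferInstance⟩, inferInstance⟩ ?_
    have sq₁ := (IsPullback.of_hasPullback (g ∣_ V) p).paste_horiz (isPullback_morphismRestrict g V).flip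
    have sq₂ : IsPullback (sq.lift (pullback.fst (g ∣_ V) p ≫ (g ⁻¹ᵁ V).ι) (pullback.snd (g ∣_ V) p ≫ W.ι)
        (by rw [Category.assoc, ← morphismRestrict_ι, pullback.condition_assoc, Category.assoc,
          Scheme.Hom.resLE_comp_ι]))
        (pullback.snd (g ∣_ V) p) snd W.ι := by
      refine IsPullback.of_right ?_ (sq.lift_snd _ _ _) sq
      rw [sq.lift_fst]
      simpa [p, Scheme.Hom.resLE_comp_ι] using sq₁
    exact P.of_isPullback sq₂ hP
  choose V hV hP' using H
  exact (IsZariskiLocalAtTarget.iff_of_iSup_eq_top (P := P) V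
    (top_unique fun t _ => TopologicalSpace.Opens.mem_iSup.2 ⟨t, hV t⟩)).2 hP'

variable {S : Scheme.{u}}

/-- Such a property of a representable morphism of sheaves descends along representable etale surjections. -/
theorem repWith_of_baseChange {F G G' F' : Sp S} {a : F ⟶ G} (ha : Representable a) {b : G' ⟶ G}
    (hb : RepWith @Etale b) (hs : RepWith @Surjective b) {b' : F' ⟶ F} {a' : F' ⟶ G'}
    (sq : IsPullback b' a' a b) (h : RepWith P a') : RepWith P a := by
  refine ⟨ha, fun U V g fst snd sqV => ?_⟩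
  let q := hb.1.snd g
  have hq : Etale q.left := hb.2 _ _ _ (hb.1.isPullback g)
  have hq' : Surjective q.left := hs.2 _ _ _ (hb.1.isPullback g)
  have sqW := ((IsPullback.of_hasPullback snd q).map (yon S)).paste_horiz sqV
  rw [← (hb.1.isPullback g).w] at sqW
  have w : ((yon S).map (pullback.fst snd q) ≫ fst) ≫ a =
      ((yon S).map (pullback.snd snd q) ≫ hb.1.fst g) ≫ b := by rw [sqW.w, Category.assoc]
  have sq₂ : IsPullback (sq.lift _ _ w) ((yon S).map (pullback.snd snd q)) a' (hb.1.fst g) :=
    IsPullback.of_right (by rw [sq.lift_fst]; exact sqW) (sq.lift_snd _ _ _) sq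
  exact prop_of_etale_cover P snd.left q.left ((IsPullback.of_hasPullback snd q).map (Over.forget S))
    (h.2 _ _ _ sq₂)

end Groth.Agent.AlgSp.InfDescent
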