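import Groth.Agent.AlgSp.InfScheme
import Groth.Agent.AlgSp.InfDescent

/-!
Formal lifting properties of morphisms of algebraic spaces and charts.
-/

universe u

open CategoryTheory CategoryTheory.Limits AlgebraicGeometry Opposite AlgSp

namespace Groth.Agent.AlgSp.InfCharts

open InfEtale

variable {S : Scheme.{u}}

/-- Every morphism of algebraic spaces has a surjective chart diagram. -/
theorem exists_chart {F G : Sp S} (hF : IsAlgSpace F) (hG : IsAlgSpace G) (f : F ⟶ G) :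
    ∃ (U V : Over S) (a : (yon S).obj U ⟶ F) (b : (yon S).obj V ⟶ G) (h : U ⟶ V),
      RepWith @Etale a ∧ RepWith @Surjective a ∧ RepWith @Etale b ∧ RepWith @Surjective b ∧
      a ≫ f = (yon S).map h ≫ b := by
  obtain ⟨U, a, ha, hs⟩ := hF.atlas
  obtain ⟨V, b, hb, hbs⟩ := hG.atlas
  let p := hb.1.fst' (a ≫ f)
  let q := hb.1.snd (a ≫ f)
  have hq₁ : RepWith @Etale ((yon S).map q) :=
    (repWith_yon_map_iff _ q).2 (hb.2 _ _ _ (hb.1.isPullback (a ≫ f)))
  have hq₂ : RepWith @Surjective ((yon S).map q) :=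
    (repWith_yon_map_iff _ q).2 (hbs.2 _ _ _ (hb.1.isPullback (a ≫ f)))
  refine ⟨_, V, (yon S).map q ≫ a, b, p, (repWith_isMultiplicative _).comp_mem _ _ hq₁ ha,
    (repWith_isMultiplicative _).comp_mem _ _ hq₂ hs, hb, hbs, ?_⟩
  rw [Category.assoc, Functor.relativelyRepresentable.map_fst', (hb.1.isPullback (a ≫ f)).w]

variable {F G : Sp S} {f : F ⟶ G} {U V : Over S} {a : (yon S).obj U ⟶ F} {b : (yon S).obj V ⟶ G}
  {h : U ⟶ V}

/-- A representable etale morphism is formally unramified. -/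
theorem formallyUnramified_of_repWith_etale {X Y : Sp S} {c : X ⟶ Y} (hc : RepWith @Etale c) :
    IsFormallyUnramifiedMor c :=
  fun sq l l' h₁ h₂ h₃ h₄ => (formallyEtale_of_repWith_etale hc sq).unique ⟨h₁, h₂⟩ ⟨h₃, h₄⟩

theorem formallyUnramified_comp {X Y Z : Sp S} {c : X ⟶ Y} {d : Y ⟶ Z} (hc : IsFormallyUnramifiedMor c)
    (hd : IsFormallyUnramifiedMor d) : IsFormallyUnramifiedMor (c ≫ d) := fun sq l l' h₁ h₂ h₃ h₄ => by
  let sqd : InfSq d := ⟨sq.A, sq.I, sq.sq_zero, sq.str, sq.top ≫ c, sq.bot, by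
    rw [Category.assoc]; exact sq.comm⟩
  have e : l ≫ c = l' ≫ c := hd sqd _ _ (by erw [← Category.assoc, h₁]) (by rw [Category.assoc]; exact h₂)
    (by erw [← Category.assoc, h₃]) (by rw [Category.assoc]; exact h₄)
  let sqc : InfSq c := ⟨sq.A, sq.I, sq.sq_zero, sq.str, sq.top, l ≫ c, by erw [← Category.assoc, h₁]⟩
  exact hc sqc l l' h₁ rfl h₃ e.symm

theorem formallyEtale_comp {X Y Z : Sp S} {c : X ⟶ Y} {d : Y ⟶ Z} (hc : IsFormallyEtaleMor c)
    (hd : IsFormallyEtaleMor d) : IsFormallyEtaleMor (c ≫ d) := fun sq => by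
  let sqd : InfSq d := ⟨sq.A, sq.I, sq.sq_zero, sq.str, sq.top ≫ c, sq.bot, by
    rw [Category.assoc]; exact sq.comm⟩
  obtain ⟨m, ⟨h₁, h₂⟩, hu⟩ := hd sqd
  let sqc : InfSq c := ⟨sq.A, sq.I, sq.sq_zero, sq.str, sq.top, m, h₁.symm⟩
  obtain ⟨l, ⟨g₁, g₂⟩, hu'⟩ := hc sqc
  refine ⟨l, ⟨g₁, by rw [← Category.assoc, g₂]; exact h₂⟩, fun l' hl => hu' l' ⟨hl.1, ?_⟩⟩
  exact hu (l' ≫ c) ⟨by erw [← Category.assoc, hl.1], by rw [Category.assoc]; exact hl.2⟩

theorem formallyEtale_of_comp {X Y Z : Sp S} {c : X ⟶ Y} {d : Y ⟶ Z} (hcd : IsFormallyEtaleMor (c ≫ d))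
    (hd : IsFormallyUnramifiedMor d) : IsFormallyEtaleMor c := fun sq => by
  let sq' : InfSq (c ≫ d) := ⟨sq.A, sq.I, sq.sq_zero, sq.str, sq.top, sq.bot ≫ d, by
    rw [← Category.assoc, sq.comm, Category.assoc]⟩
  obtain ⟨l, ⟨h₁, h₂⟩, hu⟩ := hcd sq'
  let sqd : InfSq d := ⟨sq.A, sq.I, sq.sq_zero, sq.str, sq.top ≫ c, sq.bot ≫ d, by
    rw [Category.assoc]; exact sq'.comm⟩
  refine ⟨l, ⟨h₁, hd sqd (l ≫ c) sq.bot (by erw [← Category.assoc, h₁])
    (by rw [Category.assoc]; exact h₂) sq.comm.symm rfl⟩, fun m hm => hu m ⟨hm.1, ?_⟩⟩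
  simp [sq', ← hm.2]

theorem formallyUnramified_chart (hf : IsFormallyUnramifiedMor f) (ha : RepWith @Etale a)
    (w : a ≫ f = (yon S).map h ≫ b) : FormallyUnramified h.left := by
  refine InfScheme.formallyUnramified_of_yon h fun sq l l' h₁ h₂ h₃ h₄ => ?_
  have hc := formallyUnramified_comp (formallyUnramified_of_repWith_etale ha) hf
  rw [w] at hc
  exact hc ⟨sq.A, sq.I, sq.sq_zero, sq.str, sq.top, sq.bot ≫ b, by rw [← Category.assoc, sq.comm, Category.assoc]⟩
    l l' h₁ ((Category.assoc _ _ _).symm.trans (congrArg (· ≫ b) h₂)) h₃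
      ((Category.assoc _ _ _).symm.trans (congrArg (· ≫ b) h₄))

theorem formallyEtale_chart (hf : IsFormallyEtaleMor f) (ha : RepWith @Etale a) (hb : RepWith @Etale b)
    (w : a ≫ f = (yon S).map h ≫ b) : MoreMor.IsFormallyEtaleHom h.left := by
  have hc := formallyEtale_comp (formallyEtale_of_repWith_etale ha) hf
  rw [w] at hc
  exact (InfScheme.formallyEtale_iff h).1 (formallyEtale_of_comp hc (formallyUnramified_of_repWith_etale hb))

theorem formallyUnramified_of_chart (ha : RepWith @Etale a) (hs : RepWith @Surjective a)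
    (hb : RepWith @Etale b) (w : a ≫ f = (yon S).map h ≫ b) (hh : FormallyUnramified h.left) :
    IsFormallyUnramifiedMor f := by
  refine formallyUnramified_of_cover ha hs ?_
  rw [w]
  exact formallyUnramified_comp (formallyUnramified_yon h) (formallyUnramified_of_repWith_etale hb)

theorem formallyEtale_of_chart (ha : RepWith @Etale a) (hs : RepWith @Surjective a)
    (hb : RepWith @Etale b) (w : a ≫ f = (yon S).map h ≫ b) (hh : MoreMor.IsFormallyEtaleHom h.left) :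
    IsFormallyEtaleMor f := by
  refine formallyEtale_of_cover ha hs ?_
  rw [w]
  exact formallyEtale_comp ((InfScheme.formallyEtale_iff h).2 hh) (formallyEtale_of_repWith_etale hb)

end Groth.Agent.AlgSp.InfCharts
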