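import Groth.Agent.AlgSp.CartierDesc
import Groth.Agent.AlgSp.InfDescent
import Groth.Agent.AlgSp.InfCharts
import Groth.Agent.IdealSh.Regular
import Groth.Agent.FpqcDesc.Props
import Groth.Prelude.Def_W4stk3spdivLocPr

/-!
Flat pullback of effective Cartier divisors, and complements of locally principal closed subspaces.
-/

universe u

open CategoryTheory CategoryTheory.Limits AlgebraicGeometry Opposite AlgSp

namespace Groth.Agent.AlgSp.CartierMore

open Groth.Agent.IdealSh Groth.Agent.IdealSh.Comap CartierDesc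

variable {S : Scheme.{u}}

/-- The open complement of the support of an ideal sheaf. -/
abbrev away {X : Scheme.{u}} (I : X.IdealSheafData) : X.Opens := I.support.compl

/-- Effective Cartier divisors pull back along flat morphisms. -/
theorem isEffCartierSub_pullback {X Y D P : Sp S} (hX : IsAlgSpace X) (hY : IsAlgSpace Y) {f : X ⟶ Y}
    (hf : LocP @Flat f) {i : D ⟶ Y} (hD : IsEffCartierSub i) {fst : P ⟶ D} {snd : P ⟶ X}
    (hP : IsPullback fst snd i f) : IsEffCartierSub snd := by
  obtain ⟨U, V, a, b, h, ha, has, hb, -, w⟩ := InfCharts.exists_chart hX hY f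
  have hi' : RepWith @IsClosedImmersion snd := (repWith_isStableUnderBaseChange _).of_isPullback hP hD.1
  obtain ⟨I₀, fst₀, h₀⟩ := exists_ideal hD.1 b
  obtain ⟨J, fJ, hJ⟩ := exists_ideal hi' a
  have hJ' := hJ.paste_horiz hP
  rw [w] at hJ'
  have : Flat h.left := hf a b h ha hb w
  refine ⟨hi', U, a, J, fJ, ha, has, hJ, ?_⟩
  rw [← comap_eq h h₀ hJ']
  exact EffCartier.comap_of_flat h.left (isEffCartierIdeal_of_chart hD.1 hD hb h₀)

/-- The complement of the support of a locally principal ideal sheaf has affine inclusion. -/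
theorem isAffineHom_compl {X : Scheme.{u}} {I : X.IdealSheafData} (hI : Curv2.IsLocPrincipal I) :
    IsAffineHom ((away I)).ι := by
  have key : ∀ x : X, ∃ U : X.Opens, x ∈ U ∧ IsAffineOpen U ∧ IsAffineOpen (U ⊓ (away I)) := fun x => by
    by_cases hx : x ∈ I.support
    · obtain ⟨U, hxU, f, hf⟩ := hI x hx
      refine ⟨U.1, hxU, U.2, ?_⟩
      have e : U.1 ⊓ (away I) = X.basicOpen f :=
        TopologicalSpace.Opens.ext (Regular.basicOpen_eq_compl_support hf).symm
      rw [e]
      exact U.2.basicOpen f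
    · obtain ⟨V, hxV, hV⟩ := exists_affine_le x (away I) hx
      exact ⟨V.1, hxV, V.2, by rw [inf_eq_left.2 hV]; exact V.2⟩
  choose U hxU hU hUW using key
  refine HasAffineProperty.of_iSup_eq_top (P := @IsAffineHom) (fun x => (⟨U x, hU x⟩ : X.affineOpens))
    (top_unique fun x _ => TopologicalSpace.Opens.mem_iSup.2 ⟨x, hxU x⟩) fun x => ?_
  change IsAffineOpen ((away I).ι ⁻¹ᵁ U x)
  rw [← (away I).ι.isAffineOpen_iff_of_isOpenImmersion, Scheme.Hom.image_preimage_eq_opensRange_inf,
    Scheme.Opens.opensRange_ι, inf_comm]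
  exact hUW x

/-- On a chart, an open subspace complementary to a closed subspace is the complement of the support. -/
theorem range_chart {F Z U : Sp S} {i : Z ⟶ F} {j : U ⟶ F}
    (hU : Set.range (Points.map j) = (Set.range (Points.map i))ᶜ) {V : Over S} {φ : (yon S).obj V ⟶ F}
    {I : V.left.IdealSheafData} {fst : (yon S).obj (subOver V I) ⟶ Z}
    (hI : IsPullback fst ((yon S).map (subι V I)) i φ) {O : Over S} {o₁ : (yon S).obj O ⟶ U} {o : O ⟶ V}
    (hO : IsPullback o₁ ((yon S).map o) j φ) : Set.range o.left = (I.support : Set V.left)ᶜ := by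
  have key : ∀ {A : Sp S} {W : Over S} {k : A ⟶ F} {k₁ : (yon S).obj W ⟶ A} {w : W ⟶ V}
      (_ : IsPullback k₁ ((yon S).map w) k φ) (v : V.left),
      v ∈ Set.range w.left ↔ Points.ofPt φ v ∈ Set.range (Points.map k) := fun {A W k k₁ w} h v => by
    constructor
    · rintro ⟨x, rfl⟩
      exact ⟨Points.ofPt k₁ x, by rw [Points.map_ofPt, h.w, AlgSpB.ofPt_map_comp]⟩
    · rintro ⟨y, hy⟩
      obtain ⟨p, -, hp⟩ := AlgSpB.exists_of_isPullback h y (Points.ofScheme V v)
        (by rw [hy, Points.map_ofPt, Category.id_comp])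
      refine ⟨Points.toScheme W p, ?_⟩
      rw [← Points.toScheme_ofPt, Points.ofPt_eq_map_ofScheme, Points.ofScheme_toScheme, hp,
        Points.toScheme_ofScheme]
  ext v
  rw [key hO, hU, ← I.range_subschemeι, Set.mem_compl_iff, Set.mem_compl_iff]
  exact not_congr (key hI v).symm

/-- The complement of a locally principal closed subspace has affine inclusion. -/
theorem isAffineMor_compl {X Z U : Sp S} {i : Z ⟶ X} (hi : IsLocPrincipalSub i) {j : U ⟶ X}
    (hj : RepWith @IsOpenImmersion j)
    (hU : Set.range (Points.map j) = (Set.range (Points.map i))ᶜ) : IsAffineMor j := by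
  obtain ⟨-, V, φ, I, fst, hφ, hφs, hI, hP⟩ := hi
  obtain ⟨O, o, o₁, hO⟩ := hj.1 φ
  have : IsOpenImmersion o.left := hj.2 _ _ _ hO
  have : IsAffineHom ((away I)).ι := isAffineHom_compl hP
  have hr : Set.range o.left = Set.range ((away I)).ι := by
    rw [range_chart hU hI hO, Scheme.Opens.range_ι]; rfl
  have ho : IsAffineHom o.left := by
    rw [← IsOpenImmersion.isoOfRangeEq_hom_fac o.left ((away I)).ι hr]
    infer_instance
  have := Groth.Agent.FpqcDesc.descendsAlong_isAffineHom.{u}
  have h := InfDescent.repWith_of_baseChange @IsAffineHom hj.1 hφ hφs hO ((repWith_yon_map_iff _ _).2 ho)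
  intro T hT g
  obtain ⟨W, w, w₁, hW⟩ := h.1 g
  have : IsAffineHom w.left := h.2 _ _ _ hW
  exact ⟨W, w, w₁, hW, isAffine_of_isAffineHom w.left⟩

/-- An effective Cartier ideal is locally principal. -/
theorem isLocPrincipal_of_effCartier {X : Scheme.{u}} {I : X.IdealSheafData} (h : BlowUp.IsEffCartierIdeal I) :
    Curv2.IsLocPrincipal I := fun x _ => by
  obtain ⟨U, hx, f, -, hf⟩ := h x
  exact ⟨U, hx, f, hf⟩

/-- The complement of an effective Cartier ideal is scheme theoretically dense. -/
theorem isSchematicallyDense_compl {X : Scheme.{u}} {I : X.IdealSheafData} (h : BlowUp.IsEffCartierIdeal I) :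
    CInt.IsSchematicallyDense (away I) := by
  intro V s t hst
  refine TopCat.Presheaf.section_ext X.sheaf V _ _ fun x hx => ?_
  obtain ⟨U, hxU, hUV, f, hf, he⟩ := EffCartier.exists_equation h x V hx
  have hle : X.basicOpen f ≤ V ⊓ (away I) := fun y hy => by
    have hy' : y ∈ (U.1 : Set X) \ (I.support : Set X) := by rw [← Regular.basicOpen_eq_compl_support he]; exact hy
    exact ⟨hUV hy'.1, hy'.2⟩
  have h0 : X.presheaf.map (homOfLE hUV).op s - X.presheaf.map (homOfLE hUV).op t = 0 := by
    refine Regular.eq_zero_of_restrict_basicOpen U.2 hf ?_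
    rw [map_sub, sub_eq_zero]
    have e := congrArg (X.presheaf.map (homOfLE hle).op) hst
    simp only [← ConcreteCategory.comp_apply, ← Functor.map_comp] at e ⊢
    exact e
  rw [sub_eq_zero] at h0
  have e := congrArg (X.presheaf.germ U.1 x hxU) h0
  rw [TopCat.Presheaf.germ_res_apply, TopCat.Presheaf.germ_res_apply] at e
  exact e

/-- The complement of an effective Cartier divisor is affine over the space and scheme theoretically dense. -/
theorem affine_dense_compl {X D U : Sp S} {i : D ⟶ X} (hD : IsEffCartierSub i) {j : U ⟶ X}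
    (hj : RepWith @IsOpenImmersion j) (hU : Set.range (Points.map j) = (Set.range (Points.map i))ᶜ) :
    IsAffineMor j ∧ IsSchDense j := by
  obtain ⟨hi, V, φ, I, fst, hφ, hφs, hI, hE⟩ := hD
  refine ⟨isAffineMor_compl ⟨hi, V, φ, I, fst, hφ, hφs, hI, isLocPrincipal_of_effCartier hE⟩ hj hU, hj, ?_⟩
  obtain ⟨O, o, o₁, hO⟩ := hj.1 φ
  have : IsOpenImmersion o.left := hj.2 _ _ _ hO
  have hr : Set.range o.left = Set.range ((away I)).ι := by
    rw [range_chart hU hI hO, Scheme.Opens.range_ι]; rfl
  let W := (away I)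
  let e₀ := IsOpenImmersion.isoOfRangeEq o.left W.ι hr
  have he₀ : e₀.hom ≫ W.ι = o.left := IsOpenImmersion.isoOfRangeEq_hom_fac o.left W.ι hr
  let e : O ≅ Over.mk (W.ι ≫ V.hom) := Over.isoMk e₀ (by
    change e₀.hom ≫ W.ι ≫ V.hom = O.hom
    rw [reassoc_of% he₀]; exact Over.w o)
  refine ⟨V, φ, W, (yon S).map e.inv ≫ o₁, hφ, hφs, hO.of_iso ((yon S).mapIso e) (Iso.refl _) (Iso.refl _)
    (Iso.refl _) ?_ ?_ (by simp) (by simp), isSchematicallyDense_compl hE⟩
  · simp [← Category.assoc, ← Functor.map_comp]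
  · simp only [Functor.mapIso_hom, Iso.refl_hom, Category.comp_id]
    rw [← Functor.map_comp]
    congr 1
    ext1
    exact he₀.symm

end Groth.Agent.AlgSp.CartierMore
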