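import Groth.Agent.AlgSp.CartierDesc
import Groth.Agent.IdealSh.Regular
import Groth.Agent.Depth.CM
import Groth.Prelude.Def_Pi1
import Groth.Agent.RegLoc.Serre

/-!
Serre's conditions pass to effective Cartier divisors.
-/

universe u

open CategoryTheory CategoryTheory.Limits AlgebraicGeometry Opposite AlgSp
open scoped Pointwise

namespace Groth.Agent.AlgSp.CartierSk

open Groth.Agent.IdealSh Groth.Agent.IdealSh.Comap CartierDesc

/-- Depth and dimension both drop by one modulo a regular element of a Noetherian local ring. -/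
theorem depth_dim_of_surjective {R S : Type u} [CommRing R] [IsLocalRing R] [IsNoetherianRing R] [CommRing S]
    [IsLocalRing S] (φ : R →+* S) (hs : Function.Surjective φ) {f : R} (hf : f ∈ nonZeroDivisors R)
    (hm : f ∈ IsLocalRing.maximalIdeal R) (hker : RingHom.ker φ = Ideal.span {f}) :
    LocCoh.depth S S + 1 = LocCoh.depth R R ∧ ringKrullDim S + 1 = ringKrullDim R := by
  let _ : Algebra R S := φ.toAlgebra
  have hs' : Function.Surjective (algebraMap R S) := hs
  have hreg : IsSMulRegular R f := fun x y h => (mul_cancel_left_mem_nonZeroDivisors hf).1 h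
  have he : (f • (⊤ : Submodule R R)) = LinearMap.ker (Algebra.linearMap R S) := by
    ext x
    rw [LinearMap.mem_ker, Algebra.linearMap_apply]
    change _ ↔ φ x = 0
    rw [← RingHom.mem_ker, hker, Ideal.mem_span_singleton', Submodule.mem_smul_pointwise_iff_exists]
    exact ⟨fun ⟨y, _, hy⟩ => ⟨y, by rw [← hy, smul_eq_mul, mul_comm]⟩,
      fun ⟨y, hy⟩ => ⟨y, trivial, by rw [← hy, smul_eq_mul, mul_comm]⟩⟩
  let e : QuotSMulTop f R ≃ₗ[R] S := (Submodule.quotEquivOfEq _ _ he).trans
    ((Algebra.linearMap R S).quotKerEquivOfSurjective hs')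
  constructor
  · rw [LocCoh.depth, LocCoh.depth, ← IsLocalRing.map_maximalIdeal_of_surjective _ hs',
      Depth.idealDepth_map_of_surjective hs', ← Depth.idealDepth_congr e,
      Depth.idealDepth_quotSMulTop_add_one hm hreg]
  · have h := ringKrullDim_quotient_span_singleton_succ_eq_ringKrullDim_of_mem_jacobson (x := f) (by
      exact hreg) (by rw [IsLocalRing.ringJacobson_eq_maximalIdeal]; exact hm)
    rw [← h, ← ringKrullDim_eq_of_ringEquiv
      ((Ideal.quotEquivOfEq hker).symm.trans (RingHom.quotientKerEquivOfSurjective hs))]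

/-- The kernel of the stalk map of a closed subscheme is generated by sections of the ideal. -/
theorem ker_stalkMap_le {X : Scheme.{u}} (J : X.IdealSheafData) (U : X.affineOpens) (z : J.subscheme)
    (hU : J.subschemeι z ∈ U.1) :
    RingHom.ker (J.subschemeι.stalkMap z).hom ≤
      (J.ideal U).map (X.presheaf.germ U.1 (J.subschemeι z) hU).hom := by
  intro b hb
  obtain ⟨W, hW, w, rfl⟩ := X.presheaf.exists_germ_eq b
  rw [RingHom.mem_ker, Scheme.Hom.germ_stalkMap_apply] at hb
  obtain ⟨W', hzW', i₁, i₂, e⟩ := J.subscheme.presheaf.germ_eq z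
    (U := J.subschemeι ⁻¹ᵁ W) (V := J.subschemeι ⁻¹ᵁ W) hW hW (J.subschemeι.app W w) 0
    (hb.trans (map_zero _).symm)
  rw [map_zero] at e
  obtain ⟨W₀, hW₀, eW₀⟩ := J.subschemeι.isEmbedding.isInducing.isOpen_iff.mp W'.2
  obtain ⟨_, ⟨D : X.Opens, hD, rfl⟩, hzD, hDW⟩ :=
    X.isBasis_affineOpens.exists_subset_of_mem_open
      (show J.subschemeι z ∈ W₀ ∩ W ∩ U.1 from ⟨⟨(Set.ext_iff.mp eW₀ z).mpr hzW', hW⟩, hU⟩)
      ((hW₀.inter W.2).inter U.1.2)
  have hDW' : D ≤ W := fun x hx => (hDW hx).1.2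
  have hDU : (⟨D, hD⟩ : X.affineOpens) ≤ U := fun x hx => (hDW hx).2
  have hle : J.subschemeι ⁻¹ᵁ D ≤ W' := fun y hy => (Set.ext_iff.mp eW₀ y).mp (hDW hy).1.1
  have hmem : X.presheaf.map (homOfLE hDW').op w ∈ J.ideal ⟨D, hD⟩ := by
    rw [← J.ker_subschemeι_app ⟨D, hD⟩, RingHom.mem_ker]
    have e1 := congr(J.subscheme.presheaf.map (homOfLE hle).op $e)
    rw [map_zero, ← CategoryTheory.comp_apply, ← Functor.map_comp] at e1
    refine Eq.trans ?_ e1
    exact congr($(J.subschemeι.naturality (homOfLE hDW').op) w)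
  rw [← J.map_ideal hDU] at hmem
  have := Ideal.mem_map_of_mem (X.presheaf.germ D (J.subschemeι z) hzD).hom hmem
  rw [Ideal.map_map] at this
  convert this using 2
  · rw [← CommRingCat.hom_comp]
    exact congrArg _ (X.presheaf.germ_res (homOfLE hDU) _ hzD).symm
  · exact (X.presheaf.germ_res_apply (homOfLE hDW') _ hzD w).symm

theorem le_of_add_one_le {a b : WithBot ℕ∞} (h : a + 1 ≤ b + 1) : a ≤ b := by
  cases a with
  | bot => exact bot_le
  | coe a =>
    cases b with
    | bot => simp at h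
    | coe b =>
      rw [← WithBot.coe_one, ← WithBot.coe_add, ← WithBot.coe_add, WithBot.coe_le_coe] at h
      exact WithBot.coe_le_coe.2 ((WithTop.add_le_add_iff_right ENat.one_ne_top).mp h)

theorem min_pred_le {k : ℕ} {d : WithBot ℕ∞} {t : ℕ∞}
    (h : min ((k : ℕ) : WithBot ℕ∞) (d + 1) ≤ ((t + 1 : ℕ∞) : WithBot ℕ∞)) :
    min ((k - 1 : ℕ) : WithBot ℕ∞) d ≤ (t : WithBot ℕ∞) := by
  rcases k with - | k
  · refine (min_le_left _ _).trans ?_
    simpa using WithBot.coe_le_coe.2 (zero_le : (0 : ℕ∞) ≤ t)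
  · refine le_of_add_one_le ?_
    rw [WithBot.coe_add, WithBot.coe_one] at h
    refine le_trans ?_ h
    simp only [Nat.add_sub_cancel, Nat.cast_add, Nat.cast_one]
    exact le_min (add_le_add (min_le_left _ _) le_rfl) (add_le_add (min_le_right _ _) le_rfl)

/-- Serre's condition drops by one on an effective Cartier divisor of a scheme. -/
theorem subscheme_Sk {X : Scheme.{u}} [IsLocallyNoetherian X] {I : X.IdealSheafData}
    (hI : BlowUp.IsEffCartierIdeal I) (k : ℕ)
    (hX : ∀ x : X, min ((k : ℕ) : WithBot ℕ∞) (ringKrullDim (X.presheaf.stalk x)) ≤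
      ((LocCoh.depth (X.presheaf.stalk x) (X.presheaf.stalk x) : ℕ∞) : WithBot ℕ∞)) :
    IsLocallyNoetherian I.subscheme ∧ ∀ v : I.subscheme,
      min ((k - 1 : ℕ) : WithBot ℕ∞) (ringKrullDim (I.subscheme.presheaf.stalk v)) ≤
        ((LocCoh.depth (I.subscheme.presheaf.stalk v) (I.subscheme.presheaf.stalk v) : ℕ∞) : WithBot ℕ∞) := by
  refine ⟨LocallyOfFiniteType.isLocallyNoetherian I.subschemeι, fun v => ?_⟩
  obtain ⟨U, hvU, -, f, hf, he⟩ := EffCartier.exists_equation hI (I.subschemeι v) ⊤ trivial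
  let a := (X.presheaf.germ U.1 (I.subschemeι v) hvU).hom f
  have ha : a ∈ nonZeroDivisors (X.presheaf.stalk (I.subschemeι v)) :=
    Regular.germ_mem_nonZeroDivisors U.2 _ hvU hf
  have hsupp : I.subschemeι v ∈ I.support := by
    rw [← SetLike.mem_coe, ← I.range_subschemeι]; exact ⟨v, rfl⟩
  have hm : a ∈ IsLocalRing.maximalIdeal (X.presheaf.stalk (I.subschemeι v)) := by
    rw [Scheme.IdealSheafData.mem_support_iff_of_mem hvU, he] at hsupp
    simp only [Scheme.zeroLocus_span, Scheme.zeroLocus_singleton, Set.mem_compl_iff, SetLike.mem_coe,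
      Scheme.mem_basicOpen _ _ _ hvU] at hsupp
    exact (IsLocalRing.mem_maximalIdeal _).mpr hsupp
  have hker : RingHom.ker (I.subschemeι.stalkMap v).hom = Ideal.span {a} := by
    refine le_antisymm ((ker_stalkMap_le I U v hvU).trans_eq ?_) ?_
    · rw [he, Ideal.map_span, Set.image_singleton]
    · rw [Ideal.span_le, Set.singleton_subset_iff, SetLike.mem_coe, RingHom.mem_ker]
      have h0 : (I.subschemeι.app U.1).hom f = 0 := by
        rw [← RingHom.mem_ker, I.ker_subschemeι_app, he]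
        exact Ideal.mem_span_singleton_self f
      exact (Scheme.Hom.germ_stalkMap_apply I.subschemeι U.1 v hvU f).trans
        ((congrArg (I.subscheme.presheaf.germ _ v hvU) h0).trans (map_zero _))
  obtain ⟨hd, hdim⟩ := depth_dim_of_surjective _ (I.subschemeι.stalkMap_surjective v) ha hm hker
  refine min_pred_le ?_
  rw [hdim, hd]
  exact hX _

variable {S : Scheme.{u}} {X D : Sp S} {i : D ⟶ X}

/-- Serre's condition drops by one on an effective Cartier divisor of an algebraic space. -/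
theorem etaleLocally_Sk (k : ℕ)
    (hX : EtaleLocally (fun U => IsLocallyNoetherian U ∧ ∀ x : ↥U,
        min ((k : ℕ) : WithBot ℕ∞) (ringKrullDim ↥(U.presheaf.stalk x)) ≤
          ((LocCoh.depth ↥(U.presheaf.stalk x) ↥(U.presheaf.stalk x) : ℕ∞) : WithBot ℕ∞)) X)
    (hD : IsEffCartierSub i) :
    EtaleLocally (fun V => IsLocallyNoetherian V ∧ ∀ v : ↥V,
        min ((k - 1 : ℕ) : WithBot ℕ∞) (ringKrullDim ↥(V.presheaf.stalk v)) ≤
          ((LocCoh.depth ↥(V.presheaf.stalk v) ↥(V.presheaf.stalk v) : ℕ∞) : WithBot ℕ∞)) D := by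
  obtain ⟨U, a, ha, has, hN, hk⟩ := hX
  obtain ⟨I, fst, hI⟩ := exists_ideal hD.1 a
  exact ⟨subOver U I, fst, (repWith_isStableUnderBaseChange _).of_isPullback hI.flip ha,
    (repWith_isStableUnderBaseChange _).of_isPullback hI.flip has,
    subscheme_Sk (isEffCartierIdeal_of_chart hD.1 hD ha hI) k hk⟩

/-- An effective Cartier divisor on a normal locally Noetherian space is S₁. -/
theorem etaleLocally_S1 (hX : EtaleLocally (fun U => IsLocallyNoetherian U ∧ Pi1.IsNormalScheme U) X)
    (hD : IsEffCartierSub i) :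
    EtaleLocally (fun V => IsLocallyNoetherian V ∧ ∀ v : ↥V,
        min ((1 : ℕ) : WithBot ℕ∞) (ringKrullDim ↥(V.presheaf.stalk v)) ≤
          ((LocCoh.depth ↥(V.presheaf.stalk v) ↥(V.presheaf.stalk v) : ℕ∞) : WithBot ℕ∞)) D := by
  refine etaleLocally_Sk 2 ?_ hD
  obtain ⟨U, a, ha, has, hN, hn⟩ := hX
  refine ⟨U, a, ha, has, hN, fun x => ?_⟩
  have := (hn x).1
  have := (hn x).2
  exact Groth.Agent.RegLoc.Serre.min_two_dim_le_depth

end Groth.Agent.AlgSp.CartierSk
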