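import Groth.Agent.AlgSp.LimSep

/-!
# Separated stages of a separated limit
-/

universe u

open CategoryTheory CategoryTheory.Limits AlgebraicGeometry Opposite

set_option backward.isDefEq.respectTransparency.types false
set_option backward.isDefEq.respectTransparency false
set_option autoImplicit false

namespace Groth.Agent.AlgSp.LimSepAbs

open _root_.AlgSp

variable {S : Scheme.{u}}

/-- The base as a terminal object. -/
noncomputable def isTerminalBase : IsTerminal ((yon S).obj (Over.mk (𝟙 S))) :=
  IsTerminal.isTerminalObj (yon S) _ Over.mkIdTerminal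

theorem diag_prop_iff (P : MorphismProperty Scheme.{u}) [P.IsStableUnderBaseChange] (F : Sp S) {T : Sp S}
    (hT : IsTerminal T) (t : F ⟶ T) :
    RepWith P (pullback.diagonal t) ↔ RepWith P (Limits.diag F) := by
  let e : pullback t t ≅ F ⨯ F :=
    { hom := prod.lift (pullback.fst t t) (pullback.snd t t)
      inv := pullback.lift prod.fst prod.snd (hT.hom_ext _ _)
      hom_inv_id := by apply pullback.hom_ext <;> simp
      inv_hom_id := by apply prod.hom_ext <;> simp }
  have : pullback.diagonal t ≫ e.hom = Limits.diag F := by
    apply prod.hom_ext <;> simp [e]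
  rw [← this]
  have hi : IsIso e.hom := ⟨e.inv, e.hom_inv_id, e.inv_hom_id⟩
  exact (@MorphismProperty.cancel_right_of_respectsIso _ _ (RepWith P : MorphismProperty (Sp S)) _ _ _ _ (pullback.diagonal t) e.hom hi).symm

theorem isQuasiSeparatedSp_base : IsQuasiSeparatedSp ((yon S).obj (Over.mk (𝟙 S))) := by
  let T := (yon S).obj (Over.mk (𝟙 S))
  have : IsIso (pullback.diagonal (𝟙 T)) := inferInstance
  have h : RepWith @QuasiCompact (pullback.diagonal (𝟙 T)) := by
    refine ⟨Functor.relativelyRepresentable.of_isIso (F := yon S) _, fun _ _ g fst snd sq => ?_⟩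
    have : IsIso ((yon S).map snd) := sq.isIso_snd_of_isIso
    have : IsIso snd := isIso_of_reflects_iso _ (yon S)
    have : IsIso snd.left := inferInstanceAs (IsIso ((Over.forget S).map snd))
    exact (inferInstance : QuasiCompact snd.left)
  exact (diag_prop_iff @QuasiCompact T isTerminalBase (𝟙 T)).1 h

end Groth.Agent.AlgSp.LimSepAbs
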