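import Groth.Agent.AlgSpB.Diag
import Groth.Agent.AlgSp.InfDescent
import Groth.Agent.AlgSp.LimSepAbs
import Groth.Agent.AlgSp.Space
import Groth.Agent.AlgSpCov.LocPBasic
import Groth.Agent.AlgSpD.ProperMor
import Groth.Agent.FpqcDesc.Props
import Groth.Agent.LimLib.FPSystem
import Groth.Agent.S2076
import Groth.Agent.S7409
import Groth.Prelude.Def_CohB1

/-!
# Separated finite type schemes over a separated algebraic space: a Chow lemma

* `exists_stage_closedImmersion`: such a scheme is closed in a finite type scheme over `ℤ` times the space.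
* `exists_chow_scheme`: a proper surjective cover immersed in projective space times the space.
-/

set_option autoImplicit false

universe u

open CategoryTheory CategoryTheory.Limits AlgebraicGeometry Opposite

set_option backward.isDefEq.respectTransparency false

namespace Groth.Agent.AlgSp.ChowLib

open _root_.AlgSp
open Groth.Agent

variable {S : Scheme.{u}}

theorem isPullback_prod_snd {C : Type*} [Category C] [HasBinaryProducts C] (X : C) {A B : C} (φ : A ⟶ B) :
    IsPullback (prod.map (𝟙 X) φ) (prod.snd : X ⨯ A ⟶ A) (prod.snd : X ⨯ B ⟶ B) φ := by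
  refine IsPullback.of_isLimit' ⟨by simp⟩ (PullbackCone.IsLimit.mk _
    (fun c => prod.lift (c.fst ≫ prod.fst) c.snd) (fun c => ?_) (fun c => prod.lift_snd _ _) (fun c m h1 h2 => ?_))
  · apply prod.hom_ext
    · simp
    · simp only [Category.assoc, prod.map_snd, prod.lift_snd_assoc]
      exact c.condition.symm
  · apply prod.hom_ext
    · rw [prod.lift_fst, ← h1]
      simp
    · rw [prod.lift_snd, ← h2]

/-- Separatedness of a space is inherited along separated morphisms. -/
theorem isSeparatedSp_of_mor {X Y : Sp S} (f : X ⟶ Y) (hf : IsSeparatedMor f) (hY : IsSeparatedSp Y) :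
    IsSeparatedSp X := by
  have h2 : RepWith @IsClosedImmersion (prod.lift (pullback.fst f f) (pullback.snd f f)) :=
    MorphismProperty.of_isPullback (Groth.Agent.AlgSp.isPullback_lift_diag (IsPullback.of_hasPullback f f)) hY
  have e : Limits.diag X = pullback.diagonal f ≫ prod.lift (pullback.fst f f) (pullback.snd f f) := by
    apply prod.hom_ext <;> simp [prod.lift_fst, prod.lift_snd]
  change RepWith @IsClosedImmersion (Limits.diag X)
  rw [e]
  exact (RepWith _).comp_mem _ _ hf h2

/-- A scheme which is separated as a space has separated structure morphism. -/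
theorem isSeparated_hom_of_sp {W : Over S} (h : IsSeparatedSp ((yon S).obj W)) : IsSeparated W.hom := by
  have hp : IsClosedImmersion (AlgSpB.pairHom (𝟙 W) (𝟙 W)) :=
    AlgSpB.prop_pairHom h (a := 𝟙 _) (b := 𝟙 _) (by rw [CategoryTheory.Functor.map_id]; exact IsPullback.of_id_fst)
  exact ⟨by simpa [AlgSpB.pairHom, pullback.diagonal] using hp⟩

/-- A scheme of finite type over a separated space is closed in a scheme of finite type over `ℤ` times the space. -/
theorem exists_stage_closedImmersion [S.IsSeparated] (Y : Space S) (hY : IsSeparatedSp Y.obj)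
    (hYc : IsQuasiCompactSp Y.obj) (W : Over S) [CompactSpace ↥W.left] [IsSeparated W.hom]
    (q : (yon S).obj W ⟶ Y.obj) (hq : LocP @LocallyOfFiniteType q) :
    ∃ (W₀ : Scheme.{u}) (π : W.left ⟶ W₀), CompactSpace ↥W₀ ∧
      IsSeparated (specULiftZIsTerminal.from W₀) ∧ LocallyOfFiniteType (specULiftZIsTerminal.from W₀) ∧
      RepWith @IsClosedImmersion (prod.lift
        ((yon S).map (Over.homMk (pullback.lift π W.hom (specULiftZIsTerminal.hom_ext _ _)) (pullback.lift_snd _ _ _) :
          W ⟶ Over.mk (pullback.snd (specULiftZIsTerminal.from W₀) (specULiftZIsTerminal.from S)))) q) := by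
  obtain ⟨U, b₀, hb₀, hb₀s, hU⟩ := hYc
  obtain ⟨P', π₁, π₂, sq⟩ := AlgSpB.exists_pullback_yon (Y.property.representable_from_yon q) b₀
  have : LocallyOfFiniteType π₂.left := AlgSpCov.locP_baseChange AlgSpCov.etaleLocal_locallyOfFiniteType
    (IsAlgSpace.yon_obj W) Y.property sq hq (𝟙 _) (𝟙 _) π₂ (repWith_id _ _) (repWith_id _ _)
    (by rw [Category.id_comp, Category.comp_id])
  -- closed immersion in the absolute product
  let t := specULiftZIsTerminal.from S
  let v₀ : U.left ⟶ Spec (.of (ULift.{u} ℤ)) := specULiftZIsTerminal.from U.left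
  let f₀ : W.left ⟶ Spec (.of (ULift.{u} ℤ)) := specULiftZIsTerminal.from W.left
  have hWt : f₀ = W.hom ≫ t := specULiftZIsTerminal.hom_ext _ _
  have : IsSeparated t := inferInstance
  have : IsSeparated f₀ := by rw [hWt]; infer_instance
  have hpair : IsClosedImmersion (AlgSpB.pairHom π₁ π₂) := AlgSpB.prop_pairHom hY sq
  let h₀ : P'.left ⟶ pullback f₀ v₀ := pullback.lift π₁.left π₂.left (specULiftZIsTerminal.hom_ext _ _)
  have hh₀ : IsClosedImmersion h₀ := by
    have hU' : v₀ = U.hom ≫ t := specULiftZIsTerminal.hom_ext _ _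
    have e : h₀ = (AlgSpB.pairHom π₁ π₂ ≫ pullback.mapDesc W.hom U.hom t) ≫
        (pullback.congrHom hWt.symm hU'.symm).hom := by
      apply pullback.hom_ext <;> simp [h₀, pullback.mapDesc]
    rw [e]
    infer_instance
  -- the limit
  have : QuasiSeparatedSpace ↥W.left := by
    have : IsSeparated (specULiftZIsTerminal.from W.left) := ‹IsSeparated f₀›
    exact quasiSeparatedSpace_of_quasiSeparated f₀
  obtain ⟨P⟩ := LimLib.nonempty_fpSystem f₀
  obtain ⟨i₁, hi₁⟩ := LimLib.FPSystem.eventually_isSeparated P
  let F := Over.pullback v₀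
  let c := F.mapCone (Cone.mk (Over.mk f₀) P.π)
  have hc : IsLimit c := isLimitOfPreserves F P.isLimit.some
  have hh : IsClosedImmersion (show P'.left ⟶ c.pt.left from h₀) := hh₀
  have : LocallyOfFiniteType ((show P'.left ⟶ c.pt.left from h₀) ≫ c.pt.hom) := by
    show LocallyOfFiniteType (h₀ ≫ pullback.snd f₀ v₀)
    rw [pullback.lift_snd]
    infer_instance
  have haff : ∀ (i j : P.Jᵒᵖ) (a : i ⟶ j), IsAffineHom ((P.D ⋙ F).map a).left := fun i j a => by
    have := P.isAffineHom a
    refine MorphismProperty.of_isPullback (P := @IsAffineHom)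
      (IsPullback.of_right ?_ (pullback.lift_fst _ _ _) (IsPullback.of_hasPullback (P.D.obj j).hom v₀).flip).flip this
    rw [pullback.lift_snd, Over.w (P.D.map a)]
    exact (IsPullback.of_hasPullback _ _).flip
  have : ∀ i, CompactSpace ↥((P.D ⋙ F).obj i).left := fun i => by
    have := hU
    have : QuasiCompact (pullback.snd (P.D.obj i).hom v₀) := inferInstance
    exact QuasiCompact.compactSpace_of_compactSpace (pullback.snd (P.D.obj i).hom v₀)
  obtain ⟨i, hi⟩ := S2076.result U.left (P.D ⋙ F) c hc (show P'.left ⟶ c.pt.left from h₀)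
  let j : P.Jᵒᵖ := IsCofiltered.min i i₁
  let π : W.left ⟶ (P.D.obj j).left := (P.π.app j).left
  have hsep : IsSeparated (P.D.obj j).hom := hi₁ j (IsCofiltered.minToRight i i₁)
  have hji : IsClosedImmersion (h₀ ≫ (c.π.app j).left) := by
    have := haff j i (IsCofiltered.minToLeft i i₁)
    have : IsClosedImmersion ((h₀ ≫ (c.π.app j).left) ≫ ((P.D ⋙ F).map (IsCofiltered.minToLeft i i₁)).left) := by
      rw [Category.assoc, ← Over.comp_left, c.w]
      exact hi
    exact IsClosedImmersion.of_comp _ ((P.D ⋙ F).map (IsCofiltered.minToLeft i i₁)).left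
  have hjterm : specULiftZIsTerminal.from (P.D.obj j).left = (P.D.obj j).hom := specULiftZIsTerminal.hom_ext _ _
  refine ⟨(P.D.obj j).left, π, inferInstance, by rw [hjterm]; exact hsep, by rw [hjterm]; infer_instance, ?_⟩
  let Wj : Over S := Over.mk (pullback.snd (specULiftZIsTerminal.from (P.D.obj j).left) t)
  let w : W ⟶ Wj := Over.homMk (pullback.lift π W.hom (specULiftZIsTerminal.hom_ext _ _)) (pullback.lift_snd _ _ _)
  show RepWith @IsClosedImmersion (prod.lift ((yon S).map w) q)
  let G : Over S := Wj ⨯ U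
  let b₁ : (yon S).obj G ⟶ (yon S).obj Wj ⨯ Y.obj :=
    prodComparison (yon S) Wj U ≫ prod.map (𝟙 _) b₀
  have sB : IsPullback b₁ ((yon S).map (prod.snd : G ⟶ U)) prod.snd b₀ :=
    (isPullback_prod_snd ((yon S).obj Wj) b₀).of_iso (asIso (prodComparison (yon S) Wj U)).symm
      (Iso.refl _) (Iso.refl _) (Iso.refl _) (by simp [b₁]) (by simp) (by simp) (by simp)
  have hb₁ : RepWith @Etale b₁ := MorphismProperty.of_isPullback sB.flip hb₀
  have hb₁s : RepWith @Surjective b₁ := MorphismProperty.of_isPullback sB.flip hb₀s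
  let l : P' ⟶ G := prod.lift (π₁ ≫ w) π₂
  have sm : IsPullback ((yon S).map π₁) ((yon S).map l) (prod.lift ((yon S).map w) q) b₁ := by
    refine IsPullback.of_bot ?_ ?_ sB
    · rw [← Functor.map_comp, prod.lift_snd, prod.lift_snd]
      exact sq
    · apply prod.hom_ext
      · simp only [b₁, Category.assoc, prod.lift_fst, prod.map_fst, Category.comp_id, prodComparison_fst]
        rw [← Functor.map_comp, ← Functor.map_comp, prod.lift_fst]
      · simp only [b₁, Category.assoc, prod.lift_snd, prod.map_snd, prodComparison_snd_assoc]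
        rw [← Functor.map_comp_assoc, prod.lift_snd]
        exact sq.w
  have : IsSeparated (specULiftZIsTerminal.from (P.D.obj j).left) := by rw [hjterm]; exact hsep
  let v : G.left ⟶ pullback (P.D.obj j).hom v₀ := pullback.lift
    ((prod.fst : G ⟶ Wj).left ≫ pullback.fst _ _) (prod.snd : G ⟶ U).left (specULiftZIsTerminal.hom_ext _ _)
  have : IsSeparated Wj.hom := inferInstanceAs (IsSeparated (pullback.snd _ t))
  have hGU : IsSeparated (prod.snd : G ⟶ U).left := by
    rw [← Over.prodLeftIsoPullback_hom_snd]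
    infer_instance
  have hv : IsSeparated v := by
    have : IsSeparated (v ≫ pullback.snd (P.D.obj j).hom v₀) := by rw [pullback.lift_snd]; exact hGU
    exact IsSeparated.of_comp v (pullback.snd (P.D.obj j).hom v₀)
  have hl : IsClosedImmersion l.left := by
    have : IsClosedImmersion (l.left ≫ v) := by
      have e : l.left ≫ v = h₀ ≫ (c.π.app j).left := by
        apply pullback.hom_ext
        · simp only [v, Category.assoc, pullback.lift_fst]
          rw [← reassoc_of% Over.comp_left, prod.lift_fst, Over.comp_left, Category.assoc]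
          show π₁.left ≫ pullback.lift _ _ _ ≫ pullback.fst _ _ = _
          rw [pullback.lift_fst]
          show _ = h₀ ≫ pullback.lift _ _ _ ≫ pullback.fst _ _
          rw [pullback.lift_fst, ← Category.assoc]
          exact congrArg (· ≫ π) (pullback.lift_fst _ _ _).symm
        · simp only [v, Category.assoc, pullback.lift_snd]
          rw [← Over.comp_left, prod.lift_snd]
          show _ = h₀ ≫ pullback.lift _ _ _ ≫ pullback.snd _ _
          rw [pullback.lift_snd]
          exact (pullback.lift_snd _ _ _).symm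
      rw [e]
      exact hji
    exact IsClosedImmersion.of_comp l.left v
  haveI : MorphismProperty.DescendsAlong @IsClosedImmersion
      (@Surjective ⊓ @Flat ⊓ @QuasiCompact : MorphismProperty Scheme.{u}) :=
    Groth.Agent.FpqcDesc.descendsAlong_isClosedImmersion
  exact InfDescent.repWith_of_baseChange @IsClosedImmersion
    ((Groth.Agent.AlgSp.isAlgSpace_of_isPullback' (IsAlgSpace.yon_obj _) (IsAlgSpace.yon_obj Wj) Y.property
      (IsPullback.of_is_product (prodIsProd _ _) LimSepAbs.isTerminalBase)).representable_from_yon _)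
    hb₁ hb₁s sm ((repWith_yon_map_iff _ _).2 hl)

/-- The base change of a product with a fixed factor. -/
theorem isPullback_prod_fst {C : Type*} [Category C] [HasBinaryProducts C] {A B : C} (φ : A ⟶ B) (X : C) :
    IsPullback (prod.fst : A ⨯ X ⟶ A) (prod.map φ (𝟙 X)) φ (prod.fst : B ⨯ X ⟶ B) :=
  IsPullback.of_prod_fst_with_id φ X

/-- A Chow lemma for schemes of finite type over a separated space. -/
theorem exists_chow_scheme [S.IsSeparated] (Y : Space S) (hY : IsSeparatedSp Y.obj)
    (hYc : IsQuasiCompactSp Y.obj) (W : Over S) [CompactSpace ↥W.left] [IsSeparated W.hom]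
    (q : (yon S).obj W ⟶ Y.obj) (hq : LocP @LocallyOfFiniteType q) :
    ∃ (n : ℕ) (W' : Over S) (p : W' ⟶ W)
      (b : (yon S).obj W' ⟶ (yon S).obj (Over.mk (CohB1.ProjSpaceOver.toBase n S)) ⨯ Y.obj),
      IsProper p.left ∧ Surjective p.left ∧ b ≫ prod.snd = (yon S).map p ≫ q ∧ RepWith @IsImmersion b := by
  obtain ⟨W₀, π, hW₀, hW₀s, hW₀l, hm⟩ := exists_stage_closedImmersion Y hY hYc W q hq
  let t := specULiftZIsTerminal.from S
  let t₀ := specULiftZIsTerminal.from W₀
  have : QuasiCompact t₀ := (quasiCompact_iff_compactSpace t₀).2 hW₀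
  obtain ⟨n, P₀, π₀, j, hj, hjw, hπp, hπs⟩ := S7409.result t₀
  let W₀S : Over S := Over.mk (pullback.snd t₀ t)
  let w : W ⟶ W₀S := Over.homMk (pullback.lift π W.hom (specULiftZIsTerminal.hom_ext _ _)) (pullback.lift_snd _ _ _)
  have hm' : RepWith @IsClosedImmersion (prod.lift ((yon S).map w) q) := hm
  let d : P₀ ⟶ Spec (.of (ULift.{u} ℤ)) := specULiftZIsTerminal.from P₀
  let P₀S : Over S := Over.mk (pullback.snd d t)
  let j₀ : P₀ ⟶ CohB1.ProjSpace n (ULift.{u} ℤ) := j ≫ pullback.fst _ _
  have : IsIso (specULiftZIsTerminal.from (Spec (CommRingCat.of (ULift.{u} ℤ)))) := by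
    rw [specULiftZIsTerminal.hom_ext (specULiftZIsTerminal.from _) (𝟙 _)]
    infer_instance
  have : IsIso (pullback.fst (CohB1.ProjSpace.toSpec n (ULift.{u} ℤ))
      (specULiftZIsTerminal.from (Spec (CommRingCat.of (ULift.{u} ℤ))))) := inferInstance
  have : IsImmersion j₀ := MorphismProperty.comp_mem @IsImmersion _ _ hj inferInstance
  let π₀S : P₀S ⟶ W₀S := Over.homMk (pullback.map d t t₀ t π₀ (𝟙 _) (𝟙 _)
    (specULiftZIsTerminal.hom_ext _ _) (by simp)) (by
      show pullback.map d t t₀ t _ _ _ _ _ ≫ pullback.snd t₀ t = pullback.snd d t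
      rw [pullback.lift_snd, Category.comp_id])
  let jS : P₀S ⟶ Over.mk (CohB1.ProjSpaceOver.toBase n S) :=
    Over.homMk (pullback.map d t (CohB1.ProjSpace.toSpec n (ULift.{u} ℤ)) t j₀ (𝟙 _) (𝟙 _)
      (specULiftZIsTerminal.hom_ext _ _) (by simp)) (by
      show pullback.map d t _ t _ _ _ _ _ ≫ pullback.snd _ t = pullback.snd d t
      rw [pullback.lift_snd, Category.comp_id])
  have hπS : IsProper π₀S.left ∧ Surjective π₀S.left := by
    have sqπ : IsPullback (pullback.fst d t) π₀S.left π₀ (pullback.fst t₀ t) := by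
      refine IsPullback.of_bot ?_ (pullback.lift_fst _ _ _).symm (IsPullback.of_hasPullback t₀ t)
      rw [show π₀S.left ≫ pullback.snd t₀ t = pullback.snd d t from Over.w π₀S,
        specULiftZIsTerminal.hom_ext (π₀ ≫ t₀) d]
      exact IsPullback.of_hasPullback d t
    exact ⟨MorphismProperty.of_isPullback sqπ hπp, MorphismProperty.of_isPullback sqπ hπs⟩
  have hjS : IsImmersion jS.left := by
    have sqj : IsPullback (pullback.fst d t) jS.left j₀ (pullback.fst (CohB1.ProjSpace.toSpec n (ULift.{u} ℤ)) t) := by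
      refine IsPullback.of_bot ?_ (pullback.lift_fst _ _ _).symm (IsPullback.of_hasPullback _ t)
      rw [show jS.left ≫ pullback.snd (CohB1.ProjSpace.toSpec n (ULift.{u} ℤ)) t = pullback.snd d t from Over.w jS,
        specULiftZIsTerminal.hom_ext (j₀ ≫ _) d]
      exact IsPullback.of_hasPullback d t
    exact MorphismProperty.of_isPullback sqj inferInstance
  have sW := (IsPullback.of_hasPullback w π₀S).map (Over.forget S)
  let W' := pullback w π₀S
  let b' : (yon S).obj W' ⟶ (yon S).obj P₀S ⨯ Y.obj :=
    prod.lift ((yon S).map (pullback.snd w π₀S)) ((yon S).map (pullback.fst w π₀S) ≫ q)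
  have sb : IsPullback ((yon S).map (pullback.fst w π₀S)) b' (prod.lift ((yon S).map w) q)
      (prod.map ((yon S).map π₀S) (𝟙 Y.obj)) := by
    have sq₀ := (IsPullback.of_hasPullback w π₀S).map (yon S)
    refine IsPullback.of_bot ?_ ?_ (isPullback_prod_fst ((yon S).map π₀S) Y.obj).flip
    · rw [prod.lift_fst, prod.lift_fst]
      exact sq₀
    · apply prod.hom_ext
      · simp only [Category.assoc, prod.lift_fst, prod.map_fst, b', prod.lift_fst_assoc]
        exact sq₀.w
      · simp only [Category.assoc, prod.lift_snd, prod.map_snd, b', Category.comp_id]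
  refine ⟨n, W', pullback.fst w π₀S, b' ≫ prod.map ((yon S).map jS) (𝟙 Y.obj),
    MorphismProperty.of_isPullback sW.flip hπS.1, MorphismProperty.of_isPullback sW.flip hπS.2, ?_, ?_⟩
  · simp [b']
  · refine (RepWith _).comp_mem _ _ ?_ (MorphismProperty.of_isPullback (isPullback_prod_fst _ Y.obj)
      ((repWith_yon_map_iff _ jS).2 hjS))
    exact repWith_mono (fun g (hg : IsClosedImmersion g) => (inferInstance : IsImmersion g))
      (MorphismProperty.of_isPullback sb hm')

end Groth.Agent.AlgSp.ChowLib
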