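import Groth.Agent.AlgSpD.EtSite
import Groth.Agent.AlgSp.InfRing
import Groth.Agent.AlgSpB.Points
import Groth.Prelude.Def_AlgSpOX2
import Mathlib.CategoryTheory.Sites.DenseSubsite.Basic
import Mathlib.AlgebraicGeometry.Morphisms.FlatMono

/-!
# The small etale site of a closed subspace

Base change along a closed immersion is cover dense and locally full.
-/

universe u

open CategoryTheory CategoryTheory.Limits AlgebraicGeometry Opposite

set_option backward.isDefEq.respectTransparency false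
set_option autoImplicit false

namespace Groth.Agent.AlgSp.ClosedEt

open _root_.AlgSp

/-- An etale scheme over a closed subscheme of an affine scheme is, near each point, covered by the closed
preimage in an etale scheme over the affine scheme. -/
theorem exists_etale_lift_closed {U Z₀ V₀ : Scheme.{u}} [IsAffine U] (c : Z₀ ⟶ U) [IsClosedImmersion c]
    (π : V₀ ⟶ Z₀) [Etale π] (v : V₀) :
    ∃ (U' W' : Scheme.{u}) (e : U' ⟶ U) (qW : W' ⟶ U') (pW : W' ⟶ Z₀) (k : W' ⟶ V₀),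
      Etale e ∧ IsPullback qW pW e c ∧ k ≫ π = pW ∧ v ∈ Set.range k := by
  obtain ⟨hZ, hs⟩ := IsClosedImmersion.isAffine_surjective_of_isAffine c
  let A := Γ(U, ⊤)
  let I := RingHom.ker c.appTop.hom
  let ε : (A ⧸ I) ≃+* Γ(Z₀, ⊤) := RingHom.quotientKerEquivOfSurjective hs
  let θ : Spec (CommRingCat.of (A ⧸ I)) ≅ Z₀ :=
    (Scheme.Spec.mapIso ε.toCommRingCatIso.op).symm ≪≫ Z₀.isoSpec.symm
  obtain ⟨B, _, φ, k, hφ, hk, hv, -⟩ := InfRing.exists_etale_lift' I (π ≫ θ.inv) v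
  let pc : Spec (CommRingCat.of (A ⧸ I)) ⟶ Spec A := Spec.map (CommRingCat.ofHom (Ideal.Quotient.mk I))
  have hθ : θ.hom ≫ c = pc ≫ U.isoSpec.inv := by
    have e1 : CommRingCat.ofHom (Ideal.Quotient.mk I) ≫ CommRingCat.ofHom ε.toRingHom = c.appTop := by
      ext x; rfl
    rw [← Iso.eq_inv_comp]
    simp only [θ, Iso.trans_inv, Iso.symm_inv, Functor.mapIso_hom, Iso.op_hom, Scheme.Spec_map,
      Quiver.Hom.unop_op, Category.assoc]
    change c = Z₀.isoSpec.hom ≫ Spec.map (CommRingCat.ofHom ε.toRingHom) ≫ pc ≫ U.isoSpec.inv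
    rw [← Spec.map_comp_assoc, e1, Scheme.isoSpec_hom_naturality_assoc, Iso.hom_inv_id, Category.comp_id]
  have sq := AlgebraicGeometry.isPullback_SpecMap_of_isPushout _ _ _ _ (InfRing.isPushout_quotient I φ)
  refine ⟨Spec (CommRingCat.of B), Spec (CommRingCat.of (B ⧸ I.map φ)),
    Spec.map (CommRingCat.ofHom φ) ≫ U.isoSpec.inv, Spec.map (CommRingCat.ofHom (Ideal.Quotient.mk (I.map φ))),
    Spec.map (CommRingCat.ofHom (Ideal.quotientMap (I.map φ) φ Ideal.le_comap_map)) ≫ θ.hom, k, ?_, ?_, ?_, hv⟩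
  · have : Etale (Spec.map (CommRingCat.ofHom φ)) := by
      rw [HasRingHomProperty.Spec_iff (P := @Etale)]
      exact hφ
    infer_instance
  · exact sq.of_iso (Iso.refl _) (Iso.refl _) θ U.isoSpec.symm (by simp) (by simp) (by simp [A])
      (by simpa [pc] using hθ.symm)
  · rw [← hk, Category.assoc, Category.assoc, θ.inv_hom_id, Category.comp_id]

variable {S : Scheme.{u}} {Z X : Sp S} {i : Z ⟶ X}

/-- Base change along a closed immersion is cover dense. -/
theorem isCoverDense_bc (hX : IsAlgSpace X) (hi : RepWith @IsClosedImmersion i) :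
    (EtOver.bc hi.1).IsCoverDense (etTop Z) := by
  refine ⟨fun E => ?_⟩
  rw [Groth.Agent.AlgSpD.mem_etTop_iff]
  intro x
  obtain ⟨U₀, P, hPe, hPs⟩ := hX.atlas
  have sqP := hi.1.isPullback P
  have hfe : RepWith @Etale (hi.1.fst P) := MorphismProperty.of_isPullback sqP.flip hPe
  have hfs : RepWith @Surjective (hi.1.fst P) := MorphismProperty.of_isPullback sqP.flip hPs
  obtain ⟨V, w, π, sqV⟩ := Groth.Agent.AlgSpB.exists_pullback_yon E.property.1 (hi.1.fst P)
  have : Etale π.left := E.property.2 _ _ _ sqV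
  obtain ⟨z, hz⟩ := Groth.Agent.AlgSpB.surjective_ofPt hfs (Points.ofPt E.obj.hom x)
  obtain ⟨v, hv, hvz⟩ := (Groth.Agent.AlgSpB.ofPt_eq_ofPt_iff sqV x z).1 hz.symm
  obtain ⟨_, ⟨Ua, hUa : IsAffineOpen Ua, rfl⟩, hmem, -⟩ :=
    U₀.left.isBasis_affineOpens.exists_subset_of_mem_open (Set.mem_univ ((hi.1.snd P).left z)) isOpen_univ
  let UA : Over S := Over.mk (Scheme.Opens.ι Ua ≫ U₀.hom)
  let ιA : UA ⟶ U₀ := Over.homMk (Scheme.Opens.ι Ua) rfl
  have : IsAffine UA.left := hUa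
  have : IsAffine (Scheme.Opens.toScheme Ua) := hUa
  have haE : RepWith @Etale ((yon S).map ιA ≫ P) :=
    (RepWith _).comp_mem _ _ ((repWith_yon_map_iff _ _).2 (inferInstanceAs (Etale (Scheme.Opens.ι Ua)))) hPe
  let c := hi.1.snd P
  have : IsClosedImmersion c.left := hi.2 _ _ _ sqP
  -- restrict to the affine open
  let cA : (c.left ⁻¹ᵁ Ua : Scheme.{u}) ⟶ Ua := c.left ∣_ Ua
  have : IsClosedImmersion cA := IsZariskiLocalAtTarget.restrict ‹_› Ua
  let zA : (c.left ⁻¹ᵁ Ua : Scheme.{u}) := ⟨z, hmem⟩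
  let VA := pullback π.left (c.left ⁻¹ᵁ Ua).ι
  obtain ⟨vA, hvA, -⟩ := Scheme.Pullback.exists_preimage_pullback (f := π.left) (g := (c.left ⁻¹ᵁ Ua).ι) v zA hvz
  obtain ⟨U', W', e, qW, pW, k, he, sqW, hk, hvk⟩ :=
    exists_etale_lift_closed cA (pullback.snd π.left (c.left ⁻¹ᵁ Ua).ι) vA
  obtain ⟨w₀, hw₀⟩ := hvk
  let B : Over S := Over.mk (e ≫ UA.hom)
  let eB : B ⟶ UA := Over.homMk e rfl
  have hBe : RepWith @Etale ((yon S).map eB ≫ (yon S).map ιA ≫ P) :=
    (RepWith _).comp_mem _ _ ((repWith_yon_map_iff _ eB).2 he) haE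
  let EB : EtOver X := EtOver.mk _ hBe
  let WB := (EtOver.bcObj hi.1 EB).obj.left
  have sqB : IsPullback (hi.1.fst EB.obj.hom) ((yon S).map (hi.1.snd EB.obj.hom)) i EB.obj.hom :=
    hi.1.isPullback _
  -- compare with the closed preimage
  let aO : WB ⟶ hi.1.pullback P :=
    hi.1.lift (hi.1.fst EB.obj.hom) (hi.1.snd EB.obj.hom ≫ eB ≫ ιA)
      (by rw [sqB.w]; simp [EB])
  have haO : aO ≫ c = hi.1.snd EB.obj.hom ≫ eB ≫ ιA := hi.1.lift_snd _ _ _
  have haO' : (yon S).map aO ≫ hi.1.fst P = hi.1.fst EB.obj.hom := hi.1.lift_fst _ _ _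
  have haOl : aO.left ≫ c.left = (hi.1.snd EB.obj.hom).left ≫ e ≫ (Scheme.Opens.ι Ua) := congrArg CommaMorphism.left haO
  let aA : WB.left ⟶ (c.left ⁻¹ᵁ Ua : Scheme.{u}) := IsOpenImmersion.lift (c.left ⁻¹ᵁ Ua).ι aO.left (by
    rw [Scheme.Opens.range_ι]
    rintro _ ⟨y, rfl⟩
    change c.left (aO.left y) ∈ Ua
    rw [← Scheme.Hom.comp_apply, haOl, Scheme.Hom.comp_apply, Scheme.Hom.comp_apply]
    exact (e _).2)
  have haA : aA ≫ (c.left ⁻¹ᵁ Ua).ι = aO.left := IsOpenImmersion.lift_fac _ _ _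
  let sB : WB.left ⟶ W' := sqW.lift (hi.1.snd EB.obj.hom).left aA (by
    rw [← cancel_mono (Scheme.Opens.ι Ua), Category.assoc, Category.assoc, morphismRestrict_ι, ← Category.assoc aA, haA, haOl])
  have hsB : sB ≫ pW = aA := sqW.lift_snd _ _ _
  let lV : WB.left ⟶ V.left := sB ≫ k ≫ pullback.fst π.left (c.left ⁻¹ᵁ Ua).ι
  have hlV : lV ≫ π.left = aO.left := by
    simp only [lV, Category.assoc]
    rw [pullback.condition, ← Category.assoc k, hk, ← Category.assoc, hsB, haA]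
  let lO : WB ⟶ V := Over.homMk lV (by rw [← Over.w π, ← Category.assoc, hlV, Over.w])
  have hlO : lO ≫ π = aO := Over.OverMorphism.ext hlV
  have hwl : (yon S).map (lO ≫ w) ≫ E.obj.hom = hi.1.fst EB.obj.hom := by
    rw [Functor.map_comp, Category.assoc, sqV.w, ← Functor.map_comp_assoc, hlO, haO']
  refine ⟨(EtOver.bc hi.1).obj EB, EtOver.homMk (lO ≫ w) hwl,
    ⟨⟨EB, 𝟙 _, EtOver.homMk (lO ≫ w) hwl, Category.id_comp _⟩⟩, ?_⟩
  -- the point
  let BW : Over S := Over.mk (qW ≫ B.hom)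
  let qO : BW ⟶ B := Over.homMk qW rfl
  let aW : BW ⟶ hi.1.pullback P := Over.homMk (pW ≫ (c.left ⁻¹ᵁ Ua).ι) (by
    rw [← Over.w c, Category.assoc, ← Category.assoc (c.left ⁻¹ᵁ Ua).ι, ← morphismRestrict_ι]
    change pW ≫ (cA ≫ (Scheme.Opens.ι Ua)) ≫ U₀.hom = qW ≫ e ≫ (Scheme.Opens.ι Ua) ≫ U₀.hom
    rw [← Category.assoc, ← Category.assoc pW, ← sqW.w, Category.assoc, Category.assoc])
  have haW : aW ≫ c = qO ≫ eB ≫ ιA := by
    ext1
    change (pW ≫ (c.left ⁻¹ᵁ Ua).ι) ≫ c.left = qW ≫ e ≫ (Scheme.Opens.ι Ua)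
    rw [Category.assoc, ← morphismRestrict_ι, ← Category.assoc, ← sqW.w, Category.assoc]
  obtain ⟨inv, hinv⟩ := (yon S).map_surjective (sqB.lift ((yon S).map aW ≫ hi.1.fst P) ((yon S).map qO) (by
    rw [Category.assoc, sqP.w, ← Functor.map_comp_assoc, haW]
    simp [EB]))
  have hi1 : inv ≫ hi.1.snd EB.obj.hom = qO := (yon S).map_injective (by
    rw [Functor.map_comp, hinv]; exact sqB.lift_snd _ _ _)
  have hi2 : inv ≫ aO = aW := by
    refine hi.1.hom_ext ?_ ?_
    · rw [Functor.map_comp, Category.assoc, haO', hinv]; exact sqB.lift_fst _ _ _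
    · rw [Category.assoc, haO, reassoc_of% hi1, haW]
  have hi3 : inv.left ≫ sB = 𝟙 W' := by
    refine sqW.hom_ext ?_ ?_
    · rw [Category.assoc, IsPullback.lift_fst]
      exact (congrArg CommaMorphism.left hi1).trans (Category.id_comp _).symm
    · rw [Category.assoc, hsB]
      refine Eq.trans ?_ (Category.id_comp _).symm
      rw [← cancel_mono (c.left ⁻¹ᵁ Ua).ι, Category.assoc, haA]
      exact congrArg CommaMorphism.left hi2
  refine ⟨inv.left w₀, ?_⟩
  change w.left (lV (inv.left w₀)) = x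
  have : lV (inv.left w₀) = v := by
    simp only [lV, Scheme.Hom.comp_apply]
    rw [show sB (inv.left w₀) = w₀ from (Scheme.Hom.comp_apply inv.left sB w₀).symm.trans (by rw [hi3]; rfl), hw₀,
      hvA]
  rw [this, hv]

/-- Base change along a closed immersion is locally full. -/
theorem isLocallyFull_bc (hX : IsAlgSpace X) (hi : RepWith @IsClosedImmersion i) :
    (EtOver.bc hi.1).IsLocallyFull (etTop Z) := by
  refine ⟨fun {E E'} g => ?_⟩
  rw [Groth.Agent.AlgSpD.mem_etTop_iff]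
  intro y
  obtain ⟨P, q', q, sqP⟩ := Groth.Agent.AlgSpB.exists_pullback_yon E'.property.1 E.obj.hom
  have : Etale q.left := E'.property.2 _ _ _ sqP
  have hPe : RepWith @Etale ((yon S).map q ≫ E.obj.hom) :=
    (RepWith _).comp_mem _ _ ((repWith_yon_map_iff _ q).2 ‹_›) E.property
  let EP : EtOver X := EtOver.mk _ hPe
  let fP : EP ⟶ E := EtOver.homMk q rfl
  let fP' : EP ⟶ E' := EtOver.homMk q' sqP.w
  let W := hi.1.pullback E.obj.hom
  let g' : W ⟶ E'.obj.left := g.hom.left ≫ hi.1.snd E'.obj.hom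
  obtain ⟨m, hm⟩ := (yon S).map_surjective (sqP.lift ((yon S).map g') ((yon S).map (hi.1.snd E.obj.hom)) (by
    simp only [g', Functor.map_comp, Category.assoc]
    rw [← hi.1.w, ← hi.1.w]
    exact (Category.assoc _ _ _).symm.trans (congrArg (fun f => f ≫ i) (EtOver.w g))))
  have hm1 : m ≫ q' = g' := (yon S).map_injective (by rw [Functor.map_comp, hm]; exact sqP.lift_fst _ _ _)
  have hm2 : m ≫ q = hi.1.snd E.obj.hom := (yon S).map_injective (by
    rw [Functor.map_comp, hm]; exact sqP.lift_snd _ _ _)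
  let σ : (EtOver.bc hi.1).obj E ⟶ (EtOver.bc hi.1).obj EP :=
    EtOver.homMk (hi.1.lift (hi.1.fst E.obj.hom) m (by
      change hi.1.fst E.obj.hom ≫ i = (yon S).map m ≫ (yon S).map q ≫ E.obj.hom
      rw [← Functor.map_comp_assoc, hm2, hi.1.w])) (hi.1.lift_fst _ _ _)
  have hσ : σ.hom.left ≫ hi.1.snd EP.obj.hom = m := hi.1.lift_snd _ _ _
  have hσ1 : σ ≫ (EtOver.bc hi.1).map fP = 𝟙 _ := by
    refine EtOver.hom_ext _ _ (hi.1.hom_ext ?_ ?_)
    · change (yon S).map (σ.hom.left ≫ (EtOver.bcMap hi.1 fP).hom.left) ≫ _ = (yon S).map (𝟙 _) ≫ _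
      rw [CategoryTheory.Functor.map_comp, Category.assoc, EtOver.map_bcMap_fst, CategoryTheory.Functor.map_id, Category.id_comp]
      exact hi.1.lift_fst _ _ _
    · change (σ.hom.left ≫ (EtOver.bcMap hi.1 fP).hom.left) ≫ _ = 𝟙 _ ≫ _
      rw [Category.assoc, EtOver.bcMap_snd, ← Category.assoc, hσ, Category.id_comp]
      exact hm2
  have hσ2 : σ ≫ (EtOver.bc hi.1).map fP' = g := by
    refine EtOver.hom_ext _ _ (hi.1.hom_ext ?_ ?_)
    · change (yon S).map (σ.hom.left ≫ (EtOver.bcMap hi.1 fP').hom.left) ≫ _ = _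
      rw [Functor.map_comp, Category.assoc, EtOver.map_bcMap_fst]
      exact (hi.1.lift_fst _ _ _).trans (EtOver.w g).symm
    · change (σ.hom.left ≫ (EtOver.bcMap hi.1 fP').hom.left) ≫ _ = _
      rw [Category.assoc, EtOver.bcMap_snd, ← Category.assoc, hσ]
      exact hm1
  have : Etale σ.hom.left.left := EtOver.etale_left σ
  have : Mono σ.hom.left.left := by
    have e : σ.hom.left.left ≫ (EtOver.bcMap hi.1 fP).hom.left.left = 𝟙 _ :=
      congrArg (fun k : (EtOver.bc hi.1).obj E ⟶ (EtOver.bc hi.1).obj E => k.hom.left.left) hσ1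
    exact ⟨fun a b h => by
      have := h =≫ (EtOver.bcMap hi.1 fP).hom.left.left
      simpa [e] using this⟩
  have : IsOpenImmersion σ.hom.left.left := IsOpenImmersion.of_flat_of_mono _
  -- the open part of the graph
  let cP := (hi.1.snd EP.obj.hom).left
  have : IsClosedImmersion cP := hi.2 _ _ _ (hi.1.isPullback EP.obj.hom)
  let O : P.left.Opens := ⟨(cP '' (Set.range σ.hom.left.left)ᶜ)ᶜ,
    (cP.isClosedEmbedding.isClosedMap _ σ.hom.left.left.isOpenEmbedding.isOpen_range.isClosed_compl).isOpen_compl⟩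
  let PO : Over S := Over.mk (O.ι ≫ P.hom)
  let ιO : PO ⟶ P := Over.homMk O.ι rfl
  have hOe : RepWith @Etale ((yon S).map ιO ≫ EP.obj.hom) :=
    (RepWith _).comp_mem _ _ ((repWith_yon_map_iff _ ιO).2 (inferInstanceAs (Etale O.ι))) hPe
  let EO : EtOver X := EtOver.mk _ hOe
  let fO : EO ⟶ EP := EtOver.homMk ιO rfl
  let bO := (EtOver.bcMap hi.1 fO).hom.left.left
  have sqO : IsPullback bO (hi.1.snd EO.obj.hom).left cP O.ι := EtOver.isPullback_bcMap_left hi.1 fO
  have hrange : Set.range bO ⊆ Set.range σ.hom.left.left := by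
    rintro _ ⟨t, rfl⟩
    by_contra ht
    have h1 : cP (bO t) ∈ (O : Set P.left) := by
      have e0 := congr($(sqO.w) t)
      simp only [Scheme.Hom.comp_apply] at e0
      change cP (bO t) ∈ (O : Set P.left)
      exact e0.symm ▸ ((hi.1.snd EO.obj.hom).left t).2
    exact h1 ⟨_, ht, rfl⟩
  let r : ((EtOver.bcObj hi.1 EO).obj.left).left ⟶ W.left := IsOpenImmersion.lift σ.hom.left.left bO hrange
  have hr : r ≫ σ.hom.left.left = bO := IsOpenImmersion.lift_fac _ _ _
  let rO : (EtOver.bcObj hi.1 EO).obj.left ⟶ W := Over.homMk r (by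
    refine (congrArg (fun f => r ≫ f) (Over.w σ.hom.left).symm).trans ?_
    rw [← Category.assoc, hr]
    exact Over.w (EtOver.bcMap hi.1 fO).hom.left)
  have hrO : rO ≫ σ.hom.left = (EtOver.bcMap hi.1 fO).hom.left := Over.OverMorphism.ext hr
  let rE : (EtOver.bc hi.1).obj EO ⟶ (EtOver.bc hi.1).obj E :=
    EtOver.homMk rO (by
      rw [← EtOver.w σ, ← Functor.map_comp_assoc, hrO]
      exact EtOver.w _)
  have hrE : rE ≫ σ = (EtOver.bc hi.1).map fO := EtOver.hom_ext _ _ hrO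
  have e1 : (EtOver.bc hi.1).map (fO ≫ fP) = rE := by
    rw [Functor.map_comp, ← hrE, Category.assoc, hσ1, Category.comp_id]
  have e2 : (EtOver.bc hi.1).map (fO ≫ fP') = rE ≫ g := by
    rw [Functor.map_comp, ← hrE, Category.assoc, hσ2]
  refine ⟨_, (EtOver.bc hi.1).map (fO ≫ fP), Sieve.image_mem_functorPushforward _ _ ⟨fO ≫ fP', by rw [e2, e1]⟩, ?_⟩
  rw [e1]
  change y ∈ Set.range r
  have hy : σ.hom.left.left y ∈ Set.range bO := by
    have hO : cP (σ.hom.left.left y) ∈ O := by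
      rintro ⟨t, ht, e⟩
      exact ht ⟨y, (cP.isClosedEmbedding.injective e).symm⟩
    obtain ⟨t, ht, -⟩ := Scheme.Pullback.exists_preimage_pullback (f := cP) (g := O.ι) (σ.hom.left.left y)
      ⟨_, hO⟩ rfl
    exact ⟨sqO.isoPullback.inv t, ((Scheme.Hom.comp_apply _ _ _).symm.trans congr($(sqO.isoPullback_inv_fst) t)).trans ht⟩
  obtain ⟨t, ht⟩ := hy
  exact ⟨t, σ.hom.left.left.isOpenEmbedding.injective (((Scheme.Hom.comp_apply r σ.hom.left.left t).symm.trans congr($hr t)).trans ht)⟩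

end Groth.Agent.AlgSp.ClosedEt
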