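import Groth.Agent.AlgSp.ClosedEt

/-!
# Modules on a closed subspace

The direct image of modules along a closed immersion is fully faithful.
-/

universe v u

open CategoryTheory CategoryTheory.Limits AlgebraicGeometry Opposite

set_option backward.isDefEq.respectTransparency false
set_option autoImplicit false

namespace Groth.Agent.AlgSp.ClosedMod

section General

universe v₁ v₂ u₁ u₂ w

variable {C : Type u₁} [Category.{v₁} C] {D : Type u₂} [Category.{v₂} D]
  {J : GrothendieckTopology C} {K : GrothendieckTopology D} {F : C ⥤ D} [F.IsContinuous J K]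
  {O : Sheaf J RingCat.{w}} {R : Sheaf K RingCat.{w}}
  (φ : O ⟶ (F.sheafPushforwardContinuous RingCat.{w} J K).obj R)

theorem faithful_pushforward [(F.sheafPushforwardContinuous AddCommGrpCat.{v} J K).Faithful] :
    (SheafOfModules.pushforward.{v} φ).Faithful :=
  ⟨fun {M N} f g h => (SheafOfModules.toSheaf R).map_injective
    ((F.sheafPushforwardContinuous AddCommGrpCat.{v} J K).map_injective
      (congrArg (fun k => (SheafOfModules.toSheaf O).map k) h))⟩

/-- Pushforward of modules along a cover dense locally full functor and a locally surjective map of rings is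
full. -/
theorem full_pushforward [(F.sheafPushforwardContinuous AddCommGrpCat.{v} J K).Full]
    (hS : ∀ d : D, ∃ T ∈ K d, ∀ (e : D) (f : e ⟶ d), T f → ∃ (c : C) (l : e ⟶ F.obj c) (g : F.obj c ⟶ d),
      l ≫ g = f ∧ Function.Surjective (φ.hom.app (op c)).hom) :
    (SheafOfModules.pushforward.{v} φ).Full := by
  refine ⟨fun {M N} h => ?_⟩
  obtain ⟨k, hk⟩ := (F.sheafPushforwardContinuous AddCommGrpCat.{v} J K).map_surjective
    (X := (SheafOfModules.toSheaf R).obj M) (Y := (SheafOfModules.toSheaf R).obj N)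
    ((SheafOfModules.toSheaf O).map h)
  let k' : M.val.presheaf ⟶ N.val.presheaf := k.hom
  let ku : ∀ U : Dᵒᵖ, M.val.obj U → N.val.obj U := fun U m => k'.app U m
  have hkh : ∀ (c : C) (m : M.val.obj (op (F.obj c))), ku (op (F.obj c)) m = h.val.app (op c) m := fun c m =>
    congrArg (fun a : (F.sheafPushforwardContinuous AddCommGrpCat.{v} J K).obj ((SheafOfModules.toSheaf R).obj M) ⟶
      (F.sheafPushforwardContinuous AddCommGrpCat.{v} J K).obj ((SheafOfModules.toSheaf R).obj N) =>
      a.hom.app (op c) m) hk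
  have hlin : ∀ (U : Dᵒᵖ) (r : R.obj.obj U) (m : M.val.obj U), ku U (r • m) = r • ku U m := by
    intro U r m
    obtain ⟨T, hT, hTs⟩ := hS U.unop
    refine Presheaf.IsSheaf.isSeparated N.isSheaf U.unop T hT _ _ fun e f hf => ?_
    obtain ⟨c, l, g, rfl, hs⟩ := hTs e f hf
    obtain ⟨s, hs⟩ := hs (R.obj.map g.op r)
    have e1 : ∀ m' : M.val.obj (op (F.obj c)),
        ku (op (F.obj c)) (R.obj.map g.op r • m') = R.obj.map g.op r • ku (op (F.obj c)) m' := by
      intro m'
      rw [hkh, hkh, ← hs]
      exact (h.val.app (op c)).hom.map_smul s m'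
    have hn : ∀ m' : M.val.obj U, N.val.map g.op (ku U m') = ku (op (F.obj c)) (M.val.map g.op m') := fun m' =>
      (congr($(k'.naturality g.op) m')).symm
    have e2 : N.val.map g.op (ku U (r • m)) = N.val.map g.op (r • ku U m) := by
      rw [hn]
      refine (congrArg (ku (op (F.obj c))) (M.val.map_smul g.op r m)).trans ?_
      exact (e1 _).trans ((congrArg (fun y => R.obj.map g.op r • y) (hn m).symm).trans
        (N.val.map_smul g.op r (ku U m)).symm)
    change N.val.presheaf.map (g.op ≫ l.op) (ku U (r • m)) = N.val.presheaf.map (g.op ≫ l.op) (r • ku U m)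
    rw [Functor.map_comp]
    exact congrArg (N.val.presheaf.map l.op) e2
  exact ⟨⟨PresheafOfModules.homMk k' hlin⟩, (SheafOfModules.toSheaf O).map_injective hk⟩

end General

open _root_.AlgSp

variable {S : Scheme.{u}} {Z X : Sp S} {i : Z ⟶ X}

/-- Functions on the site of a closed subspace come locally from the ambient space. -/
theorem exists_surjective_cover (hX : IsAlgSpace X) (hi : RepWith @IsClosedImmersion i) (d : EtOver Z) :
    ∃ T ∈ etTop Z d, ∀ (e : EtOver Z) (f : e ⟶ d), T f →
      ∃ (c : EtOver X) (l : e ⟶ (EtOver.bc hi.1).obj c) (g : (EtOver.bc hi.1).obj c ⟶ d),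
        l ≫ g = f ∧ Function.Surjective ((bcRingHom hi.1).hom.app (op c)).hom := by
  let T : Sieve d :=
    { arrows := fun e f => ∃ (c : EtOver X) (l : e ⟶ (EtOver.bc hi.1).obj c) (g : (EtOver.bc hi.1).obj c ⟶ d),
        l ≫ g = f ∧ IsAffine c.obj.left.left
      downward_closed := by
        rintro e e' f ⟨c, l, g, rfl, hc⟩ j
        exact ⟨c, j ≫ l, g, Category.assoc _ _ _, hc⟩ }
  refine ⟨T, ?_, fun e f ⟨c, l, g, hf, hc⟩ => ⟨c, l, g, hf, ?_⟩⟩
  · rw [Groth.Agent.AlgSpD.mem_etTop_iff]
    intro y
    obtain ⟨e, f, ⟨⟨c, l, g, hlg⟩⟩, t, ht⟩ := (Groth.Agent.AlgSpD.mem_etTop_iff _).1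
      ((ClosedEt.isCoverDense_bc hX hi).is_cover d) y
    let p : c.obj.left.left := (hi.1.snd c.obj.hom).left (l.hom.left.left t)
    obtain ⟨_, ⟨W, hW : IsAffineOpen W, rfl⟩, hmem, -⟩ :=
      c.obj.left.left.isBasis_affineOpens.exists_subset_of_mem_open (Set.mem_univ p) isOpen_univ
    let cO : Over S := Over.mk (Scheme.Opens.ι W ≫ c.obj.left.hom)
    let ιW : cO ⟶ c.obj.left := Over.homMk (Scheme.Opens.ι W) rfl
    have hWe : RepWith @Etale ((yon S).map ιW ≫ c.obj.hom) :=
      (RepWith _).comp_mem _ _ ((repWith_yon_map_iff _ ιW).2 (inferInstanceAs (Etale (Scheme.Opens.ι W)))) c.property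
    let cW : EtOver X := EtOver.mk _ hWe
    let j : cW ⟶ c := EtOver.homMk ιW rfl
    have sq : IsPullback (EtOver.bcMap hi.1 j).hom.left.left (hi.1.snd cW.obj.hom).left
        (hi.1.snd c.obj.hom).left (Scheme.Opens.ι W) := EtOver.isPullback_bcMap_left hi.1 j
    obtain ⟨q, hq, -⟩ := Scheme.Pullback.exists_preimage_pullback (f := (hi.1.snd c.obj.hom).left)
      (g := Scheme.Opens.ι W) (l.hom.left.left t) ⟨p, hmem⟩ rfl
    refine ⟨_, (EtOver.bc hi.1).map j ≫ g, ⟨cW, 𝟙 _, _, Category.id_comp _, hW⟩, sq.isoPullback.inv q, ?_⟩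
    change g.hom.left.left ((EtOver.bcMap hi.1 j).hom.left.left (sq.isoPullback.inv q)) = y
    have e : (EtOver.bcMap hi.1 j).hom.left.left (sq.isoPullback.inv q) = l.hom.left.left t :=
      ((Scheme.Hom.comp_apply _ _ _).symm.trans congr($(sq.isoPullback_inv_fst) q)).trans hq
    rw [e]
    have := congr(($hlg).hom.left.left t)
    exact this.trans ht
  · have : IsClosedImmersion (hi.1.snd c.obj.hom).left := hi.2 _ _ _ (hi.1.isPullback c.obj.hom)
    have hsurj := (IsClosedImmersion.isAffine_surjective_of_isAffine (hi.1.snd c.obj.hom).left).2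
    rintro ⟨r⟩
    obtain ⟨s, hs⟩ := hsurj r
    exact ⟨ULift.up s, congrArg ULift.up hs⟩

/-- The direct image of modules along a closed immersion is full. -/
theorem full_pushModEt (hX : IsAlgSpace X) (hi : RepWith @IsClosedImmersion i) : (pushModEt hi.1).Full :=
  haveI := ClosedEt.isCoverDense_bc hX hi
  haveI := ClosedEt.isLocallyFull_bc hX hi
  full_pushforward (bcRingHom hi.1) (exists_surjective_cover hX hi)

/-- The direct image of modules along a closed immersion is faithful. -/
theorem faithful_pushModEt (hX : IsAlgSpace X) (hi : RepWith @IsClosedImmersion i) : (pushModEt hi.1).Faithful :=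
  haveI := ClosedEt.isCoverDense_bc hX hi
  haveI := ClosedEt.isLocallyFull_bc hX hi
  faithful_pushforward (bcRingHom hi.1)

end Groth.Agent.AlgSp.ClosedMod
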