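import Groth.Agent.AlgSp.ClosedEt
import Groth.Agent.AlgSpD.StalkPoint

/-!
# Stalks of direct images along closed immersions
-/

universe u

open CategoryTheory CategoryTheory.Limits AlgebraicGeometry Opposite

set_option backward.isDefEq.respectTransparency false
set_option backward.isDefEq.respectTransparency.types false
set_option autoImplicit false

namespace Groth.Agent.AlgSp.ClosedStalk

open _root_.AlgSp

variable {S : Scheme.{u}} {Z X : _root_.AlgSp.Space S} (i : Z ⟶ X) (hi : RepWith @IsClosedImmersion i.hom)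
  (z : FieldPt Z.obj)

/-- The base change of an etale neighbourhood of an image point. -/
noncomputable def nbhd : EtNbhd (z.map i.hom) ⥤ EtNbhd z where
  obj N := ⟨(EtOver.bc hi.1).obj N.1,
    ⟨hi.1.lift z.toHom N.2.1 ((N.2.2.trans (FieldPt.toHom_map i.hom z)).symm), hi.1.lift_fst _ _ _⟩⟩
  map {N N'} f := CategoryOfElements.homMk _ _ ((EtOver.bc hi.1).map f.val) (Subtype.ext (by
    refine hi.1.hom_ext ?_ ?_
    · change (yon S).map (_ ≫ (EtOver.bcMap hi.1 f.val).hom.left) ≫ _ = _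
      rw [Functor.map_comp, Category.assoc, EtOver.map_bcMap_fst]
      exact (hi.1.lift_fst _ _ _).trans (hi.1.lift_fst _ _ _).symm
    · change (_ ≫ (EtOver.bcMap hi.1 f.val).hom.left) ≫ _ = _
      rw [Category.assoc, EtOver.bcMap_snd, ← Category.assoc]
      refine (congrArg (fun k => k ≫ f.val.hom.left) (hi.1.lift_snd _ _ _)).trans ?_
      exact (congrArg Subtype.val f.property).trans (hi.1.lift_snd _ _ _).symm))
  map_id N := CategoryOfElements.ext _ _ _ ((EtOver.bc hi.1).map_id _)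
  map_comp f g := CategoryOfElements.ext _ _ _ ((EtOver.bc hi.1).map_comp _ _)

variable (hz : z.IsGeometric)
include hz

/-- A neighbourhood of the point that lifts to a base change comes from a neighbourhood of the image. -/
theorem exists_nbhd_hom {d : EtNbhd z} {c : EtOver X.obj} (g : (EtOver.bc hi.1).obj c ⟶ d.1)
    (v : (FieldPt.liftsTo z).obj ((EtOver.bc hi.1).obj c)) (hv : (FieldPt.liftsTo z).map g v = d.2) :
    ∃ (u' : (FieldPt.liftsTo (z.map i.hom)).obj c) (m : (nbhd i hi z).obj ⟨c, u'⟩ ⟶ d), m.val = g := by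
  have hw : (yon S).map (v.1 ≫ hi.1.snd c.obj.hom) ≫ c.obj.hom = (z.map i.hom).toHom := by
    rw [FieldPt.toHom_map, Functor.map_comp, Category.assoc, ← hi.1.w, ← Category.assoc]
    exact congrArg (fun k => k ≫ i.hom) v.2
  refine ⟨⟨v.1 ≫ hi.1.snd c.obj.hom, hw⟩, CategoryOfElements.homMk _ _ g ?_, rfl⟩
  refine Eq.trans ?_ hv
  congr 1
  refine Subtype.ext (hi.1.hom_ext ?_ ?_)
  · exact (hi.1.lift_fst _ _ _).trans v.2.symm
  · exact hi.1.lift_snd _ _ _

theorem initial_nbhd : (nbhd i hi z).Initial := by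
  have := Groth.Agent.AlgSpD.etNbhd_isCofiltered X (z.map i.hom) hz
  have hd := ClosedEt.isCoverDense_bc X.property hi
  have hf := ClosedEt.isLocallyFull_bc X.property hi
  refine Functor.initial_of_exists_of_isCofiltered _ (fun d => ?_) (fun {d N} s s' => ?_)
  · obtain ⟨e, f, ⟨⟨c, l, g, hlg⟩⟩, t, ht⟩ := (Groth.Agent.AlgSpD.mem_etTop_iff _).1
      (hd.is_cover d.1) (d.2.1.left (IsLocalRing.closedPoint z.K))
    obtain ⟨v, hv⟩ := Groth.Agent.AlgSpD.exists_lift_of_mem_range Z z hz f d.2 t ht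
    obtain ⟨u', m, -⟩ := exists_nbhd_hom i hi z hz g ((FieldPt.liftsTo z).map l v)
      (by rw [← Functor.map_comp_apply, hlg, hv])
    exact ⟨⟨c, u'⟩, ⟨m⟩⟩
  · have := Groth.Agent.AlgSpD.etNbhd_isCofiltered Z z hz
    let k := IsCofiltered.eq s s'
    let h : k ⟶ (nbhd i hi z).obj N := IsCofiltered.eqHom s s'
    have hh : h ≫ s = h ≫ s' := IsCofiltered.eq_condition s s'
    obtain ⟨e, f, ⟨⟨c, l, g, hlg⟩⟩, t, ht⟩ := (Groth.Agent.AlgSpD.mem_etTop_iff _).1
      (hd.is_cover k.1) (k.2.1.left (IsLocalRing.closedPoint z.K))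
    obtain ⟨v, hv⟩ := Groth.Agent.AlgSpD.exists_lift_of_mem_range Z z hz f k.2 t ht
    let v₁ := (FieldPt.liftsTo z).map l v
    have hv₁ : (FieldPt.liftsTo z).map g v₁ = k.2 := by rw [← Functor.map_comp_apply, hlg, hv]
    obtain ⟨e', f', hf', t', ht'⟩ := (Groth.Agent.AlgSpD.mem_etTop_iff _).1
      (hf.functorPushforward_imageSieve_mem (g ≫ h.val)) (v₁.1.left (IsLocalRing.closedPoint z.K))
    obtain ⟨v', hv'⟩ := Groth.Agent.AlgSpD.exists_lift_of_mem_range Z z hz f' v₁ t' ht'
    obtain ⟨c', j, l', ⟨a, ha⟩, hf'⟩ := hf'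
    let w := (FieldPt.liftsTo z).map l' v'
    have hw : (FieldPt.liftsTo z).map ((EtOver.bc hi.1).map j ≫ g) w = k.2 := by
      rw [← Functor.map_comp_apply, ← Category.assoc, ← hf', Functor.map_comp_apply, hv', hv₁]
    obtain ⟨u', m, hm⟩ := exists_nbhd_hom i hi z hz (d := k) _ w hw
    have e : (EtOver.bc hi.1).map a = (m ≫ h).val := by
      rw [ha, CategoryOfElements.comp_val, hm, Category.assoc]
    have ea : (FieldPt.liftsTo (z.map i.hom)).map a u' = N.2 := by
      have e1 : ((FieldPt.liftsTo z).map ((EtOver.bc hi.1).map a) ((nbhd i hi z).obj ⟨c', u'⟩).2).1 ≫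
          hi.1.snd N.1.obj.hom = ((nbhd i hi z).obj N).2.1 ≫ hi.1.snd N.1.obj.hom := by
        rw [e]
        exact congrArg (fun q : (FieldPt.liftsTo z).obj ((EtOver.bc hi.1).obj N.1) => q.1 ≫ hi.1.snd N.1.obj.hom)
          (m ≫ h).property
      refine Subtype.ext (Eq.trans ?_ (e1.trans (hi.1.lift_snd _ _ _)))
      change u'.1 ≫ a.hom.left = (_ ≫ (EtOver.bcMap hi.1 a).hom.left) ≫ hi.1.snd N.1.obj.hom
      rw [Category.assoc, EtOver.bcMap_snd, ← Category.assoc]
      exact congrArg (fun q => q ≫ a.hom.left) (hi.1.lift_snd _ _ _).symm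
    refine ⟨⟨c', u'⟩, CategoryOfElements.homMk ⟨c', u'⟩ N a ea, ?_⟩
    have et : (nbhd i hi z).map (CategoryOfElements.homMk ⟨c', u'⟩ N a ea) = m ≫ h :=
      CategoryOfElements.ext _ _ _ e
    rw [et, Category.assoc, Category.assoc, hh]

/-- The stalk of a direct image along a closed immersion at an image point. -/
theorem exists_stalk_equiv (F : EtSh Z.obj (Type (u + 1))) :
    ∃ φ : stalkEt (z.map i.hom) ((pushEt hi.1 (Type (u + 1))).obj F) ≃ stalkEt z F,
      ∀ (N : EtNbhd (z.map i.hom)) (s : F.obj.obj (op ((EtOver.bc hi.1).obj N.1))),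
        φ (stalkEtι (z.map i.hom) ((pushEt hi.1 (Type (u + 1))).obj F) N s) =
          stalkEtι z F ((nbhd i hi z).obj N) s := by
  have := initial_nbhd i hi z hz
  let e := Functor.Final.colimitIso (nbhd i hi z).op (stalkEtDiagram z F)
  refine ⟨e.toEquiv, fun N s => ?_⟩
  exact congr($(Functor.Final.ι_colimitIso_hom (nbhd i hi z).op (stalkEtDiagram z F) (op N)) s)

end Groth.Agent.AlgSp.ClosedStalk
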