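import Groth.Agent.AlgSpB.RedInduced
import Groth.Agent.AlgSp.CartierDesc
import Groth.Agent.AlgSp.Space
import Mathlib.CategoryTheory.Sites.RegularEpi

/-!
# Closed subspaces of algebraic spaces and ideals on an atlas
-/

universe u

open CategoryTheory CategoryTheory.Limits AlgebraicGeometry Opposite

set_option backward.isDefEq.respectTransparency false
set_option backward.isDefEq.respectTransparency.types false
set_option autoImplicit false

namespace Groth.Agent.AlgSp.ClosedSub

open _root_.AlgSp
open Groth.Agent.AlgSp.CartierDesc (subOver subι exists_ideal comap_eq)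
open Groth.Agent.AlgSpB (locSurj_of_lifts isIso_of_mono_of_locSurj)

variable {S : Scheme.{u}}

/-- Equal inverse image ideals give isomorphic inverse images of the closed subscheme. -/
theorem exists_iso_of_comap_eq {X Y : Scheme.{u}} (I : Y.IdealSheafData) (t s : X ⟶ Y)
    (h : I.comap t = I.comap s) :
    ∃ e : pullback t I.subschemeι ≅ pullback s I.subschemeι,
      e.hom ≫ pullback.fst s I.subschemeι = pullback.fst t I.subschemeι := by
  obtain ⟨e, he⟩ : ∃ e : (I.comap t).subscheme ≅ (I.comap s).subscheme,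
      e.hom ≫ (I.comap s).subschemeι = (I.comap t).subschemeι := by
    rw [h]; exact ⟨Iso.refl _, Category.id_comp _⟩
  refine ⟨(I.comapIso t).symm ≪≫ e ≪≫ I.comapIso s, ?_⟩
  rw [Iso.trans_hom, Iso.trans_hom, Category.assoc, Category.assoc, Scheme.IdealSheafData.comapIso_hom_fst, he,
    Iso.symm_hom, Scheme.IdealSheafData.comapIso_inv_subschemeι]

/-- An ideal on an atlas whose two inverse images agree defines a closed subspace. -/
theorem exists_closed {F : Sp S} {U R : Over S} {p : (yon S).obj U ⟶ F} (hp : RepWith @Etale p)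
    (hps : RepWith @Surjective p) {t s : R ⟶ U} (sq : IsPullback ((yon S).map t) ((yon S).map s) p p)
    (I : U.left.IdealSheafData) (hI : I.comap t.left = I.comap s.left) :
    ∃ (Z : Sp S) (i : Z ⟶ F) (fst : (yon S).obj (subOver U I) ⟶ Z),
      IsAlgSpace Z ∧ RepWith @IsClosedImmersion i ∧ IsPullback fst ((yon S).map (subι U I)) i p := by
  have hls := Groth.Agent.AlgSp.isLocallySurjective_of_etale_surjective p hp hps
  have het : Etale t.left := hp.2 _ _ _ sq.flip
  have hes : Etale s.left := hp.2 _ _ _ sq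
  let ZU : Over S := subOver U I
  let ι : ZU ⟶ U := subι U I
  have hι : IsClosedImmersion ι.left := inferInstanceAs (IsClosedImmersion I.subschemeι)
  have : Mono ι := Over.mono_of_mono_left ι
  obtain ⟨e, he⟩ : ∃ e : pullback t.left ι.left ≅ pullback s.left ι.left,
      e.hom ≫ pullback.fst s.left ι.left = pullback.fst t.left ι.left :=
    exists_iso_of_comap_eq I t.left s.left hI
  let RZ : Over S := Over.mk (pullback.fst t.left ι.left ≫ R.hom)
  let r : RZ ⟶ R := Over.homMk (pullback.fst t.left ι.left)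
  let a : RZ ⟶ ZU := Over.homMk (pullback.snd t.left ι.left) (by
    change pullback.snd t.left ι.left ≫ ι.left ≫ U.hom = pullback.fst t.left ι.left ≫ R.hom
    rw [← pullback.condition_assoc, Over.w t])
  let b : RZ ⟶ ZU := Over.homMk (e.hom ≫ pullback.snd s.left ι.left) (by
    change (e.hom ≫ pullback.snd s.left ι.left) ≫ ι.left ≫ U.hom = pullback.fst t.left ι.left ≫ R.hom
    rw [Category.assoc, ← pullback.condition_assoc, Over.w s, reassoc_of% he])
  have hsqa : IsPullback r a t ι :=
    IsPullback.of_map (Over.forget S) (Over.OverMorphism.ext pullback.condition)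
      (IsPullback.of_hasPullback t.left ι.left)
  have hrb : r ≫ s = b ≫ ι := Over.OverMorphism.ext (by
    change pullback.fst t.left ι.left ≫ s.left = (e.hom ≫ pullback.snd s.left ι.left) ≫ ι.left
    rw [Category.assoc, ← pullback.condition, reassoc_of% he])
  have hb : Etale b.left := inferInstanceAs (Etale (e.hom ≫ pullback.snd s.left ι.left))
  -- the image sheaf
  let q : (yon S).obj ZU ⟶ F := (yon S).map ι ≫ p
  let eZ := Sheaf.toImage q
  let i := Sheaf.imageι q
  have hfac : eZ ≫ i = q := Sheaf.toImage_ι q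
  have : Sheaf.IsLocallySurjective eZ := (Sheaf.isLocallySurjective_iff_epi _).2 inferInstance
  have : Mono ((yon S).map ι) := inferInstance
  have hw : (yon S).map a ≫ q = (yon S).map b ≫ q := by
    simp only [q, ← Category.assoc, ← Functor.map_comp, ← hsqa.w, ← hrb]
    rw [Functor.map_comp, Functor.map_comp, Category.assoc, Category.assoc, sq.w]
  have hwZ : (yon S).map a ≫ eZ = (yon S).map b ≫ eZ := by
    rw [← cancel_mono i, Category.assoc, Category.assoc, hfac]; exact hw
  have key : ∀ {Q : Sp S} (x : Q ⟶ (yon S).obj ZU) (l : Q ⟶ (yon S).obj R),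
      l ≫ (yon S).map t = x ≫ (yon S).map ι → ∃ m : Q ⟶ (yon S).obj RZ,
        m ≫ (yon S).map a = x ∧ m ≫ (yon S).map b ≫ (yon S).map ι = l ≫ (yon S).map s := by
    intro Q x l hl
    refine ⟨(hsqa.map (yon S)).lift l x hl, IsPullback.lift_snd _ _ _ _, ?_⟩
    rw [← Functor.map_comp, ← hrb, Functor.map_comp, IsPullback.lift_fst_assoc]
  have hkp : IsPullback ((yon S).map a) ((yon S).map b) eZ eZ := by
    have hex : ∀ c : PullbackCone eZ eZ, ∃ m : c.pt ⟶ (yon S).obj RZ,
        m ≫ (yon S).map a = c.fst ∧ m ≫ (yon S).map b = c.snd := by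
      intro c
      have hc : (c.fst ≫ (yon S).map ι) ≫ p = (c.snd ≫ (yon S).map ι) ≫ p := by
        have := congrArg (fun k => k ≫ i) c.condition
        simpa only [Category.assoc, hfac, q] using this
      obtain ⟨m, h1, h2⟩ := key c.fst (sq.lift _ _ hc) (sq.lift_fst _ _ hc)
      refine ⟨m, h1, (cancel_mono ((yon S).map ι)).1 ?_⟩
      rw [Category.assoc, h2, sq.lift_snd]
    choose m hm using hex
    refine IsPullback.of_isLimit' ⟨hwZ⟩ (PullbackCone.IsLimit.mk _ m (fun c => (hm c).1) (fun c => (hm c).2)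
      fun c m' h1 h2 => ?_)
    apply (hsqa.map (yon S)).hom_ext
    · apply sq.hom_ext
      · rw [Category.assoc, Category.assoc, ← (yon S).map_comp r t, hsqa.w, Functor.map_comp,
          reassoc_of% h1, reassoc_of% (hm c).1]
      · rw [Category.assoc, Category.assoc, ← (yon S).map_comp r s, hrb, Functor.map_comp,
          reassoc_of% h2, reassoc_of% (hm c).2]
    · rw [h1, (hm c).1]
  obtain ⟨hZ, -, -⟩ := Groth.Agent.AlgSp.isAlgSpace_of_kernelPair eZ hkp hb
  -- the pullback along the atlas
  let c := pullback.lift (f := i) (g := p) eZ ((yon S).map ι) hfac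
  have : Mono (c ≫ pullback.snd i p) := by rw [pullback.lift_snd]; infer_instance
  have : Mono c := mono_of_mono c (pullback.snd i p)
  have : Sheaf.IsLocallySurjective c := locSurj_of_lifts c fun T g => by
    obtain ⟨Cov, hCov, hk⟩ := Groth.Agent.AlgSp.exists_cover_lift eZ (g ≫ pullback.fst i p)
    refine ⟨Cov, hCov, fun W k hWk => ?_⟩
    obtain ⟨x, hx⟩ := hk k hWk
    let y := (yon S).map (Over.homMk k rfl : Over.mk (k ≫ T.hom) ⟶ T) ≫ g ≫ pullback.snd i p
    have hxy : (x ≫ (yon S).map ι) ≫ p = y ≫ p := by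
      rw [Category.assoc, show (yon S).map ι ≫ p = eZ ≫ i from hfac.symm, reassoc_of% hx]
      simp only [y, Category.assoc, pullback.condition]
    obtain ⟨m, -, h2⟩ := key x (sq.lift _ _ hxy) (sq.lift_fst _ _ hxy)
    rw [sq.lift_snd] at h2
    refine ⟨m ≫ (yon S).map b, pullback.hom_ext ?_ ?_⟩
    · rw [← cancel_mono i]
      simp only [Category.assoc, c, pullback.lift_fst, pullback.condition, hfac, q]
      rw [reassoc_of% h2]
      simp only [y, Category.assoc]
    · simp only [Category.assoc, c, pullback.lift_snd]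
      exact h2
  have : IsIso c := isIso_of_mono_of_locSurj c
  have sqc : IsPullback eZ ((yon S).map ι) i p :=
    IsPullback.of_iso_pullback ⟨hfac⟩ (asIso c) (pullback.lift_fst _ _ _) (pullback.lift_snd _ _ _)
  have hi : RepWith @IsClosedImmersion i :=
    Groth.Agent.AlgSp.repWith_isClosedImmersion_of_baseChange i p sqc ((repWith_yon_map_iff _ _).2 hι)
  exact ⟨_, i, eZ, hZ, hi, sqc⟩

/-- The ideal of a closed subspace on an atlas has equal inverse images. -/
theorem comap_eq_comap {F Z : Sp S} {i : Z ⟶ F} (hi : RepWith @IsClosedImmersion i) {U R : Over S}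
    {p : (yon S).obj U ⟶ F} {t s : R ⟶ U} (w : (yon S).map t ≫ p = (yon S).map s ≫ p)
    {I : U.left.IdealSheafData} {fst : (yon S).obj (subOver U I) ⟶ Z}
    (sq : IsPullback fst ((yon S).map (subι U I)) i p) : I.comap t.left = I.comap s.left := by
  obtain ⟨J, fJ, hJ⟩ := exists_ideal hi ((yon S).map t ≫ p)
  rw [comap_eq t sq hJ]
  rw [w] at hJ
  exact (comap_eq s sq hJ).symm

/-- A scheme over an atlas factors through a closed subspace iff the ideal is in its kernel. -/
theorem exists_factor_yon_iff {F Z : Sp S} {i : Z ⟶ F} {U : Over S} {p : (yon S).obj U ⟶ F}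
    {I : U.left.IdealSheafData} {fst : (yon S).obj (subOver U I) ⟶ Z}
    (sq : IsPullback fst ((yon S).map (subι U I)) i p) {T : Over S} (m : T ⟶ U) :
    (∃ y : (yon S).obj T ⟶ Z, y ≫ i = (yon S).map m ≫ p) ↔ I ≤ m.left.ker := by
  constructor
  · rintro ⟨y, hy⟩
    obtain ⟨l, hl⟩ := (yon S).map_surjective (sq.lift y ((yon S).map m) hy)
    have hlm : l ≫ subι U I = m := (yon S).map_injective (by rw [Functor.map_comp, hl, sq.lift_snd])
    rw [← hlm]
    change I ≤ (l.left ≫ I.subschemeι).ker
    exact I.ker_subschemeι.ge.trans (Scheme.Hom.le_ker_comp _ _)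
  · intro h
    let l : T ⟶ subOver U I := Over.homMk (m.left.toImage ≫ Scheme.IdealSheafData.inclusion h) (by
      change (m.left.toImage ≫ Scheme.IdealSheafData.inclusion h) ≫ I.subschemeι ≫ U.hom = T.hom
      rw [Category.assoc, Scheme.IdealSheafData.inclusion_subschemeι_assoc, Scheme.Hom.toImage_imageι_assoc,
        Over.w m])
    have hl : l ≫ subι U I = m := Over.OverMorphism.ext (by
      change (m.left.toImage ≫ Scheme.IdealSheafData.inclusion h) ≫ I.subschemeι = m.left
      rw [Category.assoc, Scheme.IdealSheafData.inclusion_subschemeι, Scheme.Hom.toImage_imageι])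
    refine ⟨(yon S).map l ≫ fst, ?_⟩
    rw [Category.assoc, sq.w, ← Category.assoc, ← Functor.map_comp, hl]

/-- Factorisation through a closed subspace can be checked on a covering. -/
theorem exists_factor_of_epi {F Z X Q : Sp S} {i : Z ⟶ F} [Mono i] (f : X ⟶ F) (a : Q ⟶ X) [Epi a]
    (y : Q ⟶ Z) (h : y ≫ i = a ≫ f) : ∃ k : X ⟶ Z, k ≫ i = f := by
  have : StrongEpi a := strongEpi_of_epi a
  have sq : CommSq y a i f := ⟨h⟩
  exact ⟨sq.lift, sq.fac_right⟩

/-- A morphism of spaces factors through a closed subspace iff the ideal is in the kernel of a chart lift. -/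
theorem exists_factor_iff {F Z X : Sp S} {i : Z ⟶ F} (hi : RepWith @IsClosedImmersion i) {U : Over S}
    {p : (yon S).obj U ⟶ F} {I : U.left.IdealSheafData} {fst : (yon S).obj (subOver U I) ⟶ Z}
    (sq : IsPullback fst ((yon S).map (subι U I)) i p) (f : X ⟶ F) {W : Over S} (a : (yon S).obj W ⟶ X)
    (ha : RepWith @Etale a) (has : RepWith @Surjective a) (m : W ⟶ U)
    (w : a ≫ f = (yon S).map m ≫ p) :
    (∃ k : X ⟶ Z, k ≫ i = f) ↔ I ≤ m.left.ker := by
  rw [← exists_factor_yon_iff sq m]
  constructor
  · rintro ⟨k, hk⟩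
    exact ⟨a ≫ k, by rw [Category.assoc, hk, w]⟩
  · rintro ⟨y, hy⟩
    have := Groth.Agent.AlgSpB.mono_of_isClosedImmersion hi
    have := Groth.Agent.AlgSp.isLocallySurjective_of_etale_surjective a ha has
    have : Epi a := (Sheaf.isLocallySurjective_iff_epi _).1 inferInstance
    exact exists_factor_of_epi f a y (hy.trans w.symm)

/-- Inclusion of closed subspaces is reverse inclusion of ideals. -/
theorem exists_le_iff {F Z Z' : Sp S} {i : Z ⟶ F} {i' : Z' ⟶ F} (hi' : RepWith @IsClosedImmersion i')
    {U : Over S} {p : (yon S).obj U ⟶ F} (hp : RepWith @Etale p) (hps : RepWith @Surjective p)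
    {I : U.left.IdealSheafData} {fst : (yon S).obj (subOver U I) ⟶ Z}
    (sq : IsPullback fst ((yon S).map (subι U I)) i p)
    {I' : U.left.IdealSheafData} {fst' : (yon S).obj (subOver U I') ⟶ Z'}
    (sq' : IsPullback fst' ((yon S).map (subι U I')) i' p) :
    (∃ k : Z ⟶ Z', k ≫ i' = i) ↔ I' ≤ I := by
  rw [exists_factor_iff hi' sq' i fst (MorphismProperty.of_isPullback sq.flip hp)
    (MorphismProperty.of_isPullback sq.flip hps) (subι U I) sq.w]
  change I' ≤ I.subschemeι.ker ↔ _
  rw [Scheme.IdealSheafData.ker_subschemeι]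

end Groth.Agent.AlgSp.ClosedSub
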