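import Groth.Agent.AlgSp.DescentSepLqf
import Groth.Agent.Topos.Sheaf

/-!
# Coproducts of sheaves on the fppf site
-/

universe u

open CategoryTheory CategoryTheory.Limits AlgebraicGeometry Opposite

set_option backward.isDefEq.respectTransparency.types false

namespace Groth.Agent.AlgSp

variable {S : Scheme.{u}} {ι : Type u} {F : ι → AlgSp.Sp S}

/-- The cofan reindexed by a lifted type. -/
abbrev ulCofan (c : Cofan F) : Cofan (fun k : ULift.{u + 1} ι => F k.down) :=
  Cofan.mk c.pt fun k => c.inj k.down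

/-- The reindexed cofan is a colimit. -/
noncomputable def ulCofanIsColimit {c : Cofan F} (hc : IsColimit c) : IsColimit (ulCofan c) :=
  mkCofanColimit _ (fun s => Cofan.IsColimit.desc hc fun i => s.inj ⟨i⟩) (fun s k => by simp [ulCofan])
    (fun s m h => Cofan.IsColimit.hom_ext hc _ _ fun i => by simpa [ulCofan] using h ⟨i⟩)

/-- Sections of a coproduct come from the summands locally. -/
theorem exists_cover_lift_cofan {c : Cofan F} (hc : IsColimit c) {T : Over S}
    (g : (AlgSp.yon S).obj T ⟶ c.pt) :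
    ∃ R ∈ Scheme.fppfPrecoverage T.left, ∀ ⦃W : Scheme.{u}⦄ (k : W ⟶ T.left), R k →
      ∃ (i : ι) (h : (AlgSp.yon S).obj (Over.mk (k ≫ T.hom)) ⟶ F i),
        h ≫ c.inj i = (AlgSp.yon S).map (Over.homMk k rfl : Over.mk (k ≫ T.hom) ⟶ T) ≫ g := by
  let X := fun k : ULift.{u + 1} ι => F k.down
  let P := Topos.Presheaf.sigmaObj fun k => (X k).obj
  let hσ := (Topos.Sheaf.isUniversalColimit_sigmaCofan (AlgSp.J S) X).isColimit
  let e := hσ.coconePointUniqueUpToIso (ulCofanIsColimit hc)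
  have he : ∀ k, (Topos.Sheaf.sigmaCofan (AlgSp.J S) X).inj k ≫ e.hom = c.inj k.down := fun k =>
    IsColimit.comp_coconePointUniqueUpToIso_hom hσ (ulCofanIsColimit hc) ⟨k⟩
  obtain ⟨R, hR, h⟩ := exists_cover_of_mem (U := T)
    (T := Presheaf.imageSieve (toSheafify (AlgSp.J S) P) (yEquiv (g ≫ e.inv)))
    (Presheaf.imageSieve_mem (J := AlgSp.J S) (toSheafify (AlgSp.J S) P) (yEquiv (g ≫ e.inv)))
  refine ⟨R, hR, fun W k hk => ?_⟩
  obtain ⟨⟨⟨i⟩, y⟩, hy⟩ := h k hk
  refine ⟨i, yEquiv.symm y, ?_⟩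
  rw [← he ⟨i⟩, ← Category.assoc, ← Iso.eq_comp_inv, Category.assoc]
  apply yEquiv.injective
  rw [yEquiv_comp, Equiv.apply_symm_apply, yEquiv_map]
  refine Eq.trans ?_ hy
  let f : (X ⟨i⟩).obj ⟶ P := (Topos.Presheaf.sigmaCofan fun k => (X k).obj).inj ⟨i⟩
  have h1 : (inv ((sheafificationAdjunction (AlgSp.J S) (Type (u + 1))).counit.app (X ⟨i⟩))).hom =
      toSheafify (AlgSp.J S) (X ⟨i⟩).obj := by
    have := (sheafificationAdjunction (AlgSp.J S) (Type (u + 1))).right_triangle_components (X ⟨i⟩)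
    have h2 : (inv ((sheafificationAdjunction (AlgSp.J S) (Type (u + 1))).counit.app (X ⟨i⟩))) =
        ⟨toSheafify (AlgSp.J S) (X ⟨i⟩).obj⟩ := by
      apply IsIso.inv_eq_of_inv_hom_id
      exact Sheaf.hom_ext this
    exact congrArg (fun k => k.hom) h2
  change ((inv ((sheafificationAdjunction (AlgSp.J S) (Type (u + 1))).counit.app (X ⟨i⟩))).hom ≫
    ((presheafToSheaf (AlgSp.J S) (Type (u + 1))).map f).hom).app _ y = _
  rw [h1]
  exact congrArg (fun φ : (X ⟨i⟩).obj ⟶ sheafify (AlgSp.J S) P => φ.app _ y)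
    (toSheafify_naturality (AlgSp.J S) f).symm

theorem cofan_inj_mono {c : Cofan F} (hc : IsColimit c) (i : ι) : Mono (c.inj i) :=
  have := Topos.Sheaf.coproductDisjoint (AlgSp.J S) fun k : ULift.{u + 1} ι => F k.down
  Mono.of_coproductDisjoint (ulCofanIsColimit hc) ⟨i⟩

/-- Distinct summands do not meet. -/
theorem isEmpty_of_cofan {c : Cofan F} (hc : IsColimit c) {T : Over S} {i j : ι} (hij : i ≠ j)
    (a : (AlgSp.yon S).obj T ⟶ F i) (b : (AlgSp.yon S).obj T ⟶ F j) (h : a ≫ c.inj i = b ≫ c.inj j) :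
    IsEmpty T.left := by
  have := Topos.Sheaf.coproductDisjoint (AlgSp.J S) fun k : ULift.{u + 1} ι => F k.down
  have hI : IsInitial (pullback (c.inj i) (c.inj j)) :=
    IsInitial.ofCoproductDisjointOfIsColimitOfIsLimit (X := fun k : ULift.{u + 1} ι => F k.down)
      (i := ⟨i⟩) (j := ⟨j⟩) (fun h => hij (congrArg ULift.down h)) (ulCofanIsColimit hc)
      (pullback.isLimit (c.inj i) (c.inj j))
  let E : Over S := Over.mk (Scheme.emptyTo S)
  obtain ⟨k, -⟩ := (AlgSp.yon S).map_surjective (pullback.lift a b h ≫ hI.to ((AlgSp.yon S).obj E))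
  exact ⟨fun t => isEmptyElim (α := (∅ : Scheme.{u})) (k.left t)⟩

/-- There is exactly one map out of an empty scheme. -/
theorem exists_hom_of_isEmpty {G : AlgSp.Sp S} {T : Over S} (h : IsEmpty T.left) :
    ∃ l : (AlgSp.yon S).obj T ⟶ G, ∀ l', l' = l := by
  obtain ⟨l, -⟩ := InfGlue.exists_glue (T := T) (U := fun x : PEmpty.{u + 1} => x.elim) (F := G) (fun x => x.elim)
    (fun x => x.elim) (fun t => h.elim t) (fun x => x.elim) (fun x => x.elim)
  exact ⟨l, fun l' => InfGlue.hom_ext_cover (ι := PEmpty.{u + 1}) (U := fun x => x.elim) (fun x => x.elim)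
    (fun x => x.elim) (fun t => h.elim t) _ _ (fun x => x.elim)⟩

/-- A map to a coproduct decomposes the source into open and closed pieces. -/
theorem exists_open_decomp {c : Cofan F} (hc : IsColimit c) {T : Over S} (g : (AlgSp.yon S).obj T ⟶ c.pt) :
    ∃ O : ι → T.left.Opens, (∀ i j t, t ∈ O i → t ∈ O j → i = j) ∧ (∀ t, ∃ i, t ∈ O i) ∧
      ∀ i, ∃ l : (AlgSp.yon S).obj (openOver T (O i)) ⟶ F i,
        IsPullback l ((AlgSp.yon S).map (openι T (O i))) (c.inj i) g := by
  obtain ⟨R, hR, hl⟩ := exists_cover_lift_cofan hc g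
  obtain ⟨κ, X, k, rfl⟩ := R.exists_eq_ofArrows
  obtain ⟨hs, hk⟩ := (Scheme.ofArrows_mem_precoverage_iff _).1 hR
  choose σ h hh using fun a => hl (k a) (Presieve.ofArrows.mk a)
  -- the pieces
  have hkey : ∀ {j : ι} {W : Over S} (x : W ⟶ T) (b : (AlgSp.yon S).obj W ⟶ F j),
      b ≫ c.inj j = (AlgSp.yon S).map x ≫ g → ∀ (w : W.left) (a : κ), x.left w ∈ Set.range (k a) → σ a = j := by
    rintro j W x b hb w a ⟨v, hv⟩
    by_contra hne
    obtain ⟨z, -, -⟩ := Scheme.Pullback.exists_preimage_pullback (f := k a) (g := x.left) v w hv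
    let Z : Over S := Over.mk (pullback.snd (k a) x.left ≫ W.hom)
    let z₁ : Z ⟶ Over.mk (k a ≫ T.hom) := Over.homMk (pullback.fst (k a) x.left) (by
      change pullback.fst (k a) x.left ≫ k a ≫ T.hom = pullback.snd (k a) x.left ≫ W.hom
      rw [pullback.condition_assoc, Over.w x])
    let z₂ : Z ⟶ W := Over.homMk (pullback.snd (k a) x.left) rfl
    have hz : z₁ ≫ (Over.homMk (k a) rfl : Over.mk (k a ≫ T.hom) ⟶ T) = z₂ ≫ x :=
      Over.OverMorphism.ext pullback.condition
    exact (isEmpty_of_cofan hc hne ((AlgSp.yon S).map z₁ ≫ h a) ((AlgSp.yon S).map z₂ ≫ b) (by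
      rw [Category.assoc, hh, Category.assoc, hb, ← Functor.map_comp_assoc, hz, Functor.map_comp_assoc])).false z
  have hopen : ∀ a, IsOpen (Set.range (k a)) := fun a => by
    have : Flat (k a) := (hk a).1
    have : LocallyOfFinitePresentation (k a) := (hk a).2
    exact (k a).isOpenMap.isOpen_range
  let O : ι → T.left.Opens := fun i => ⟨⋃ (a : κ) (_ : σ a = i), Set.range (k a),
    isOpen_iUnion fun a => isOpen_iUnion fun _ => hopen a⟩
  have hO : ∀ (i : ι) t, t ∈ O i ↔ ∃ a, σ a = i ∧ t ∈ Set.range (k a) := fun i t => by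
    change t ∈ ⋃ (a : κ) (_ : σ a = i), Set.range (k a) ↔ _
    simp only [Set.mem_iUnion, exists_prop]
  have hdis : ∀ i j t, t ∈ O i → t ∈ O j → i = j := by
    intro i j t hi hj
    obtain ⟨a, rfl, ha⟩ := (hO i t).1 hi
    obtain ⟨b, rfl, v, rfl⟩ := (hO j t).1 hj
    exact hkey (Over.homMk (k b) rfl : Over.mk (k b ≫ T.hom) ⟶ T) (h b) (hh b) v a ha
  refine ⟨O, hdis, fun t => ?_, fun i => ?_⟩
  · obtain ⟨a, v, rfl⟩ := hs t
    exact ⟨σ a, (hO _ _).2 ⟨a, rfl, v, rfl⟩⟩
  have := cofan_inj_mono hc i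
  -- the lift on the piece
  let P := pullback (c.inj i) ((AlgSp.yon S).map (openι T (O i)) ≫ g)
  let π : P ⟶ (AlgSp.yon S).obj (openOver T (O i)) := pullback.snd _ _
  have hsurj : Sheaf.IsLocallySurjective π := by
    refine ⟨fun {W} s => ?_⟩
    let x : (AlgSp.yon S).obj W ⟶ (AlgSp.yon S).obj (openOver T (O i)) := yEquiv.symm s
    obtain ⟨x₀, hx₀⟩ := (AlgSp.yon S).map_surjective x
    obtain ⟨R', hR', hl'⟩ := exists_cover_lift_cofan hc ((AlgSp.yon S).map (x₀ ≫ openι T (O i)) ≫ g)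
    refine mem_of_cover hR' fun W' k' hk' => ?_
    obtain ⟨j, b, hb⟩ := hl' k' hk'
    let q : Over.mk (k' ≫ W.hom) ⟶ W := Over.homMk k' rfl
    obtain ⟨b', hb'⟩ : ∃ b' : (AlgSp.yon S).obj (Over.mk (k' ≫ W.hom)) ⟶ F i,
        b' ≫ c.inj i = (AlgSp.yon S).map q ≫ (AlgSp.yon S).map (x₀ ≫ openι T (O i)) ≫ g := by
      rcases isEmpty_or_nonempty W' with he | hne
      · obtain ⟨l₀, -⟩ := exists_hom_of_isEmpty (G := F i) (T := Over.mk (k' ≫ W.hom)) he
        obtain ⟨l₁, hl₁⟩ := exists_hom_of_isEmpty (G := c.pt) (T := Over.mk (k' ≫ W.hom)) he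
        exact ⟨l₀, (hl₁ _).trans (hl₁ _).symm⟩
      · obtain ⟨w⟩ := hne
        obtain ⟨a, ha, v, hv⟩ := (hO i _).1 (x₀.left (k' w)).2
        obtain rfl : σ a = j := hkey (q ≫ x₀ ≫ openι T (O i)) b
          (by rw [hb, ← Functor.map_comp_assoc]) w a ⟨v, hv⟩
        obtain rfl := ha
        exact ⟨b, hb⟩
    refine ⟨yEquiv (pullback.lift b' ((AlgSp.yon S).map (q ≫ x₀))
      (by rw [hb', Functor.map_comp, Functor.map_comp, Category.assoc, Category.assoc])), ?_⟩
    change π.hom.app _ _ = _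
    rw [← yEquiv_comp, pullback.lift_snd, Functor.map_comp, yEquiv_map, hx₀, Equiv.apply_symm_apply]
  have : Epi π := Sheaf.epi_of_isLocallySurjective π
  have : IsIso π := isIso_of_mono_of_epi π
  let l := inv π ≫ pullback.fst _ _
  have hl : l ≫ c.inj i = (AlgSp.yon S).map (openι T (O i)) ≫ g := by
    simp [l, π, Category.assoc, pullback.condition]
  refine ⟨l, ?_⟩
  let θ := pullback.lift (f := c.inj i) (g := g) l ((AlgSp.yon S).map (openι T (O i))) hl
  have : IsIso θ := by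
    refine isIso_of_yon θ fun W x => ?_
    obtain ⟨β, hβ⟩ := (AlgSp.yon S).map_surjective (x ≫ pullback.snd _ _)
    have hmem : ∀ w, β.left w ∈ O i := fun w => by
      obtain ⟨a, v, hv⟩ := hs (β.left w)
      exact (hO i _).2 ⟨a, hkey β (x ≫ pullback.fst _ _)
        (by rw [hβ, Category.assoc, Category.assoc, pullback.condition]) w a ⟨v, hv⟩, v, hv⟩
    let y : W ⟶ openOver T (O i) := Over.homMk (IsOpenImmersion.lift (O i).ι β.left
      (by rw [Scheme.Opens.range_ι]; exact Set.range_subset_iff.2 hmem)) (by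
      change _ ≫ (O i).ι ≫ T.hom = _
      rw [IsOpenImmersion.lift_fac_assoc, Over.w β])
    have hy : y ≫ openι T (O i) = β := Over.OverMorphism.ext (IsOpenImmersion.lift_fac _ _ _)
    have hm : Mono (pullback.snd (c.inj i) g) := inferInstance
    refine ⟨y, ?_, fun y' hy' => ?_⟩
    · beta_reduce
      rw [← cancel_mono (pullback.snd (c.inj i) g), Category.assoc, pullback.lift_snd, ← Functor.map_comp, hy, hβ]
    · have : Mono (openι T (O i)) :=
        (Over.forget S).mono_of_mono_map (inferInstanceAs (Mono (O i).ι))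
      rw [← cancel_mono (openι T (O i)), hy]
      apply (AlgSp.yon S).map_injective
      rw [hβ, ← hy', Category.assoc, pullback.lift_snd, Functor.map_comp]
  exact IsPullback.of_iso_pullback ⟨hl⟩ (asIso θ) (pullback.lift_fst _ _ _) (pullback.lift_snd _ _ _)

/-- The coprojections of a coproduct of sheaves are open and closed immersions. -/
theorem repWith_cofan_inj {c : Cofan F} (hc : IsColimit c) (i : ι) :
    AlgSp.RepWith (@IsOpenImmersion ⊓ @IsClosedImmersion) (c.inj i) := by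
  refine MorphismProperty.relative.of_exists fun T g => ?_
  obtain ⟨O, hdis, hcov, hpb⟩ := exists_open_decomp hc g
  obtain ⟨l, hl⟩ := hpb i
  refine ⟨openOver T (O i), l, openι T (O i), hl, inferInstanceAs (IsOpenImmersion (O i).ι), ?_⟩
  change IsClosedImmersion (O i).ι
  refine IsClosedImmersion.of_isPreimmersion _ ?_
  change IsClosed (Set.range (O i).ι)
  rw [Scheme.Opens.range_ι, ← isOpen_compl_iff]
  have : ((O i : Set T.left))ᶜ = ⋃ (j : ι) (_ : j ≠ i), (O j : Set T.left) := by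
    ext t
    simp only [Set.mem_compl_iff, Set.mem_iUnion, exists_prop, SetLike.mem_coe]
    exact ⟨fun h => (hcov t).imp fun j hj => ⟨fun e => h (e ▸ hj), hj⟩,
      fun ⟨j, hne, hj⟩ h => hne (hdis j i t hj h)⟩
  rw [this]
  exact isOpen_iUnion fun j => isOpen_iUnion fun _ => (O j).isOpen

end Groth.Agent.AlgSp
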