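import Groth.Agent.AlgSp.DescentSepLqf
import Groth.Agent.AlgSp.InfGlue
import Mathlib.AlgebraicGeometry.Limits

/-!
# Maps out of disjoint unions of schemes
-/

universe u

open CategoryTheory CategoryTheory.Limits AlgebraicGeometry Opposite

set_option backward.isDefEq.respectTransparency.types false

namespace Groth.Agent.AlgSp

variable {S : Scheme.{u}}

/-- A representable locally surjective map is surjective. -/
theorem repWith_surjective_of_isLocallySurjective {F G : AlgSp.Sp S} (a : F ⟶ G) (ha : AlgSp.Representable a)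
    [Sheaf.IsLocallySurjective a] : AlgSp.RepWith @Surjective a := by
  refine ⟨ha, fun U V g fst snd sq => ⟨fun x => ?_⟩⟩
  obtain ⟨R, hR, hl⟩ := exists_cover_lift a g
  obtain ⟨ι, X, k, rfl⟩ := R.exists_eq_ofArrows
  obtain ⟨hs, -⟩ := (Scheme.ofArrows_mem_precoverage_iff _).1 hR
  obtain ⟨i, w, rfl⟩ := hs x
  obtain ⟨h, hh⟩ := hl (k i) (Presieve.ofArrows.mk i)
  obtain ⟨m, hm⟩ := (AlgSp.yon S).map_surjective (sq.lift h _ hh)
  have e : m ≫ snd = (Over.homMk (k i) rfl : Over.mk (k i ≫ U.hom) ⟶ U) :=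
    (AlgSp.yon S).map_injective (by rw [Functor.map_comp, hm, sq.lift_snd])
  exact ⟨m.left w, congrArg (fun q : Over.mk (k i ≫ U.hom) ⟶ U => q.left w) e⟩

/-- A map out of a disjoint union of schemes which is representable with `P` on each piece is representable with
`P`, for `P` local on the source. -/
theorem repWith_of_disjoint_cover {P : MorphismProperty Scheme.{u}} [P.IsStableUnderBaseChange]
    [IsZariskiLocalAtSource P] {ι : Type u} {U : Over S} {Ui : ι → Over S} (e : ∀ i, Ui i ⟶ U)
    (he : ∀ i, IsOpenImmersion (e i).left) (hcov : ∀ x, ∃ i, x ∈ Set.range (e i).left)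
    (hdis : ∀ i j x, x ∈ Set.range (e i).left → x ∈ Set.range (e j).left → i = j)
    {G : AlgSp.Sp S} (a : (AlgSp.yon S).obj U ⟶ G)
    (h : ∀ i, AlgSp.RepWith P ((AlgSp.yon S).map (e i) ≫ a)) : AlgSp.RepWith P a := by
  refine MorphismProperty.relative.of_exists fun T g => ?_
  let V : ι → Over S := fun i => (h i).1.pullback g
  let v : ∀ i, V i ⟶ T := fun i => (h i).1.snd g
  let fi : ∀ i, (AlgSp.yon S).obj (V i) ⟶ (AlgSp.yon S).obj (Ui i) := fun i => (h i).1.fst g
  have hv : ∀ i, IsPullback (fi i) ((AlgSp.yon S).map (v i)) ((AlgSp.yon S).map (e i) ≫ a) g :=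
    fun i => (h i).1.isPullback g
  choose ci hci using fun i => (AlgSp.yon S).map_surjective (fi i)
  let Y : ι → Scheme.{u} := fun i => (V i).left
  let W : Over S := Over.mk (Sigma.desc fun i => (V i).hom : (∐ Y) ⟶ S)
  let ε : ∀ i, V i ⟶ W := fun i => Over.homMk (Sigma.ι Y i) (Sigma.ι_desc _ _)
  let w : W ⟶ U := Over.homMk (Sigma.desc fun i => (ci i).left ≫ (e i).left) (by
    apply Sigma.hom_ext
    intro i
    simp [W, Y])
  let q : W ⟶ T := Over.homMk (Sigma.desc fun i => (v i).left) (by
    apply Sigma.hom_ext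
    intro i
    simp [W, Y])
  have hw : ∀ i, ε i ≫ w = ci i ≫ e i := fun i => Over.OverMorphism.ext (Sigma.ι_desc _ _)
  have hq : ∀ i, ε i ≫ q = v i := fun i => Over.OverMorphism.ext (Sigma.ι_desc _ _)
  have hεo : ∀ i, IsOpenImmersion (ε i).left := fun i => (sigmaOpenCover Y).map_prop i
  have hεc : ∀ x : W.left, ∃ i, x ∈ Set.range (ε i).left := fun x => ⟨_, (sigmaOpenCover Y).covers x⟩
  have hwq : (AlgSp.yon S).map w ≫ a = (AlgSp.yon S).map q ≫ g := by
    refine InfGlue.hom_ext_cover (T := W) (U := V) ε (fun i => have := hεo i; inferInstance) hεc _ _ fun i => ?_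
    rw [← Functor.map_comp_assoc, ← Functor.map_comp_assoc, hw, hq, Functor.map_comp, Category.assoc, hci]
    exact (hv i).w
  let θ := pullback.lift (f := a) (g := g) ((AlgSp.yon S).map w) ((AlgSp.yon S).map q) hwq
  have : IsIso θ := by
    refine isIso_of_yon θ fun Z x => ?_
    obtain ⟨α, hα⟩ := (AlgSp.yon S).map_surjective (x ≫ pullback.fst a g)
    obtain ⟨β, hβ⟩ := (AlgSp.yon S).map_surjective (x ≫ pullback.snd a g)
    have hαβ : (AlgSp.yon S).map α ≫ a = (AlgSp.yon S).map β ≫ g := by
      rw [hα, hβ, Category.assoc, Category.assoc, pullback.condition]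
    let O : ι → Z.left.Opens := fun i => α.left ⁻¹ᵁ (have := he i; (e i).left.opensRange)
    let Z' : ι → Over S := fun i => openOver Z (O i)
    let ζ : ∀ i, Z' i ⟶ Z := fun i => openι Z (O i)
    have hζo : ∀ i, Etale (ζ i).left := fun i => inferInstanceAs (Etale (O i).ι)
    have hζc : ∀ z, ∃ i, z ∈ Set.range (ζ i).left := fun z => by
      obtain ⟨i, hi⟩ := hcov (α.left z)
      exact ⟨i, ⟨⟨z, hi⟩, rfl⟩⟩
    let αi : ∀ i, Z' i ⟶ Ui i := fun i => have := he i; Over.homMk
      (IsOpenImmersion.lift (e i).left ((O i).ι ≫ α.left) (by rintro _ ⟨z, rfl⟩; exact z.2)) (by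
        change _ ≫ (Ui i).hom = (O i).ι ≫ Z.hom
        rw [← Over.w (e i), IsOpenImmersion.lift_fac_assoc, Category.assoc, Over.w α])
    have hαi : ∀ i, αi i ≫ e i = ζ i ≫ α := fun i => by
      have := he i
      exact Over.OverMorphism.ext (IsOpenImmersion.lift_fac _ _ _)
    have hex : ∀ i, ∃ m : Z' i ⟶ V i, m ≫ ci i = αi i ∧ m ≫ v i = ζ i ≫ β := fun i => by
      obtain ⟨m, h1, h2⟩ := (hv i).exists_lift ((AlgSp.yon S).map (αi i)) ((AlgSp.yon S).map (ζ i ≫ β))
        (by rw [← Functor.map_comp_assoc, hαi, Functor.map_comp_assoc, hαβ, Functor.map_comp, Category.assoc])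
      obtain ⟨m, rfl⟩ := (AlgSp.yon S).map_surjective m
      exact ⟨m, (AlgSp.yon S).map_injective (by rw [Functor.map_comp, hci, h1]),
        (AlgSp.yon S).map_injective (by rw [Functor.map_comp, h2])⟩
    choose m hm₁ hm₂ using hex
    -- uniqueness on each piece
    have huni : ∀ i (y : Z' i ⟶ W), y ≫ w = ζ i ≫ α → y ≫ q = ζ i ≫ β → y = m i ≫ ε i := by
      intro i y h1 h2
      have := hεo i
      have hrange : Set.range y.left ⊆ Set.range (ε i).left := by
        rintro _ ⟨z, rfl⟩
        obtain ⟨j, u, hu⟩ := hεc (y.left z)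
        suffices j = i by subst this; exact ⟨u, hu⟩
        refine hdis j i (w.left (y.left z)) ⟨(ci j).left u, ?_⟩ ?_
        · rw [← hu]
          exact congrArg (fun k : V j ⟶ U => k.left u) (hw j).symm
        · rw [show w.left (y.left z) = α.left ((ζ i).left z) from congrArg (fun k : Z' i ⟶ U => k.left z) h1]
          exact z.2
      let y₀ : Z' i ⟶ V i := Over.homMk (IsOpenImmersion.lift (ε i).left y.left hrange) (by
        rw [← Over.w (ε i), IsOpenImmersion.lift_fac_assoc, Over.w y])
      have hy₀ : y₀ ≫ ε i = y := Over.OverMorphism.ext (IsOpenImmersion.lift_fac _ _ _)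
      have : Mono (e i) := (Over.forget S).mono_of_mono_map (have := he i; inferInstanceAs (Mono (e i).left))
      suffices y₀ = m i by rw [← this, hy₀]
      apply (AlgSp.yon S).map_injective
      refine (hv i).hom_ext ?_ ?_
      · rw [← hci, ← Functor.map_comp, ← Functor.map_comp]
        congr 1
        rw [← cancel_mono (e i), Category.assoc, ← hw, reassoc_of% hy₀, h1, hm₁, hαi]
      · rw [← Functor.map_comp, ← Functor.map_comp]
        congr 1
        rw [← hq, reassoc_of% hy₀, h2, hq, hm₂]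
    obtain ⟨y, hy⟩ := InfGlue.exists_glue (T := Z) (U := Z') ζ hζo hζc
      (fun i => (AlgSp.yon S).map (m i ≫ ε i)) fun i j Z'' p p' hpp => by
        rcases eq_or_ne i j with rfl | hne
        · have : Mono (ζ i) := (Over.forget S).mono_of_mono_map (inferInstanceAs (Mono (O i).ι))
          rw [(cancel_mono (ζ i)).1 hpp]
        · refine InfGlue.hom_ext_cover (ι := PEmpty.{u + 1}) (U := fun x => x.elim) (fun x => x.elim)
            (fun x => x.elim) (fun t => ?_) _ _ (fun x => x.elim)
          exact absurd (hdis i j (α.left ((ζ i).left (p.left t))) (p.left t).2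
            (by rw [show (ζ i).left (p.left t) = (ζ j).left (p'.left t) from
              congrArg (fun k : Z'' ⟶ Z => k.left t) hpp]; exact (p'.left t).2)) hne
    obtain ⟨y, rfl⟩ := (AlgSp.yon S).map_surjective y
    have hy : ∀ i, ζ i ≫ y = m i ≫ ε i := fun i => (AlgSp.yon S).map_injective (by rw [Functor.map_comp, hy])
    have hy₁ : y ≫ w = α := by
      apply (AlgSp.yon S).map_injective
      refine InfGlue.hom_ext_cover (T := Z) (U := Z') ζ hζo hζc _ _ fun i => ?_
      rw [← Functor.map_comp, ← Functor.map_comp, reassoc_of% (hy i), hw, reassoc_of% (hm₁ i), hαi]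
    have hy₂ : y ≫ q = β := by
      apply (AlgSp.yon S).map_injective
      refine InfGlue.hom_ext_cover (T := Z) (U := Z') ζ hζo hζc _ _ fun i => ?_
      rw [← Functor.map_comp, ← Functor.map_comp, reassoc_of% (hy i), hq, hm₂]
    refine ⟨y, ?_, fun y' hy' => ?_⟩
    · apply pullback.hom_ext
      · simp only [θ, Category.assoc, pullback.lift_fst, ← Functor.map_comp, hy₁, hα]
      · simp only [θ, Category.assoc, pullback.lift_snd, ← Functor.map_comp, hy₂, hβ]
    · have h1 : y' ≫ w = α := (AlgSp.yon S).map_injective (by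
        rw [hα, ← hy', Category.assoc, pullback.lift_fst, Functor.map_comp])
      have h2 : y' ≫ q = β := (AlgSp.yon S).map_injective (by
        rw [hβ, ← hy', Category.assoc, pullback.lift_snd, Functor.map_comp])
      apply (AlgSp.yon S).map_injective
      refine InfGlue.hom_ext_cover (T := Z) (U := Z') ζ hζo hζc _ _ fun i => ?_
      rw [← Functor.map_comp, ← Functor.map_comp, hy,
        huni i (ζ i ≫ y') (by rw [Category.assoc, h1]) (by rw [Category.assoc, h2])]
  refine ⟨W, (AlgSp.yon S).map w, q,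
    IsPullback.of_iso_pullback ⟨hwq⟩ (asIso θ) (pullback.lift_fst _ _ _) (pullback.lift_snd _ _ _), ?_⟩
  change P (Sigma.desc fun i => (v i).left)
  exact IsZariskiLocalAtSource.sigmaDesc fun i => (h i).2 g (fi i) (v i) (hv i)

/-- A sheaf with a jointly epimorphic family of etale maps from algebraic spaces is an algebraic space. -/
theorem isAlgSpace_of_etale_epi_family {G : AlgSp.Sp S} {ι : Type u} {F : ι → AlgSp.Sp S} (f : ∀ i, F i ⟶ G)
    (halg : ∀ i, AlgSp.IsAlgSpace (F i)) (hf : ∀ i, AlgSp.RepWith @Etale (f i))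
    (hepi : ∀ (Q : AlgSp.Sp S) (a b : G ⟶ Q), (∀ i, f i ≫ a = f i ≫ b) → a = b) :
    AlgSp.IsAlgSpace G := by
  choose U p hpe hps using fun i => (halg i).atlas
  let Y : ι → Scheme.{u} := fun i => (U i).left
  let W : Over S := Over.mk (Sigma.desc fun i => (U i).hom : (∐ Y) ⟶ S)
  let ε : ∀ i, U i ⟶ W := fun i => Over.homMk (Sigma.ι Y i) (Sigma.ι_desc _ _)
  have hεo : ∀ i, IsOpenImmersion (ε i).left := fun i => (sigmaOpenCover Y).map_prop i
  have hεc : ∀ x : W.left, ∃ i, x ∈ Set.range (ε i).left := fun x => ⟨_, (sigmaOpenCover Y).covers x⟩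
  have hεd : ∀ i j x, x ∈ Set.range (ε i).left → x ∈ Set.range (ε j).left → i = j := by
    rintro i j x ⟨a, ha⟩ ⟨b, hb⟩
    by_contra hne
    obtain ⟨z, -, -⟩ := Scheme.Pullback.exists_preimage_pullback (f := Sigma.ι Y i) (g := Sigma.ι Y j) a b
      (ha.trans hb.symm)
    exact (isEmpty_pullback_sigmaι_of_ne Y hne).elim z
  obtain ⟨q, hq⟩ := InfGlue.exists_glue (T := W) (U := U) ε (fun i => have := hεo i; inferInstance) hεc
    (fun i => p i ≫ f i) fun i j Z a b hab => by
      rcases eq_or_ne i j with rfl | hne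
      · have : Mono (ε i) := (Over.forget S).mono_of_mono_map (have := hεo i; inferInstanceAs (Mono (ε i).left))
        rw [(cancel_mono (ε i)).1 hab]
      · refine InfGlue.hom_ext_cover (ι := PEmpty.{u + 1}) (U := fun x => x.elim) (fun x => x.elim)
          (fun x => x.elim) (fun t => ?_) _ _ (fun x => x.elim)
        exact absurd (hεd i j ((ε i).left (a.left t)) ⟨_, rfl⟩
          ⟨b.left t, (congrArg (fun k : Z ⟶ W => k.left t) hab).symm⟩) hne
  have he : AlgSp.RepWith @Etale q := repWith_of_disjoint_cover ε hεo hεc hεd q fun i => by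
    rw [hq]; exact (AlgSp.RepWith _).comp_mem _ _ (hpe i) (hf i)
  have : Sheaf.IsLocallySurjective q := (Sheaf.isLocallySurjective_iff_epi q).2 ⟨fun a b hab => hepi _ a b fun i => by
    have := isLocallySurjective_of_etale_surjective (p i) (hpe i) (hps i)
    have : Epi (p i) := Sheaf.epi_of_isLocallySurjective _
    rw [← cancel_epi (p i), ← Category.assoc, ← Category.assoc, ← hq, Category.assoc, Category.assoc, hab]⟩
  exact isAlgSpace_of_etale_surjective q he (repWith_surjective_of_isLocallySurjective q he.1)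

end Groth.Agent.AlgSp
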