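import Groth.Agent.FlatMisc.GenericFree
import Mathlib.RingTheory.Flat.Basic
import Mathlib.RingTheory.Flat.Stability
import Mathlib.RingTheory.Extension.Presentation.Core
import Mathlib.RingTheory.Noetherian.Basic
import Mathlib.Algebra.Module.LocalizedModule.Basic
import Mathlib.LinearAlgebra.TensorProduct.RightExactness

/-!
# Schematic density and flat finitely presented algebras
-/

universe u

open TensorProduct

namespace Groth.Agent.AlgSp.DenseAlg

variable {A₀ : Type u} [CommRing A₀] {B₀ : Type u} [CommRing B₀] [Algebra A₀ B₀]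

section Coord

variable {J : Ideal A₀} [J.IsPrime]

/-- Generic coordinates of a finite type algebra over an integral quotient. -/
theorem exists_coord [Algebra.FiniteType A₀ B₀] (J : Ideal A₀) [J.IsPrime] :
    ∃ (f : A₀) (ι : Type u) (v : ι → B₀), f ∉ J ∧
      (∀ c : ι →₀ A₀, Finsupp.linearCombination A₀ v c ∈ J.map (algebraMap A₀ B₀) → ∀ i, f * c i ∈ J) ∧
      ∀ b : B₀, ∃ (k : ℕ) (c : ι →₀ A₀),
        f ^ k • b - Finsupp.linearCombination A₀ v c ∈ J.map (algebraMap A₀ B₀) := by
  let R := A₀ ⧸ J
  let B₁ := B₀ ⧸ J.map (algebraMap A₀ B₀)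
  have : Algebra.FiniteType A₀ B₁ := .of_surjective (Ideal.Quotient.mkₐ A₀ _) Ideal.Quotient.mk_surjective
  have : Algebra.FiniteType R B₁ := Algebra.FiniteType.of_restrictScalars_finiteType A₀ R B₁
  obtain ⟨f, -, hf, w, v, hrel, hgen⟩ : ∃ f : R, (1 : R) ∣ f ∧ f ≠ 0 ∧
      FlatMisc.GenericFree.FreeAt f B₁ := by
    exact FlatMisc.GenericFree.genFree B₁ B₁ 1 one_ne_zero
  obtain ⟨f₀, rfl⟩ := Ideal.Quotient.mk_surjective f
  choose v₀ hv₀ using fun i => Ideal.Quotient.mk_surjective (v i)
  have key : ∀ c : w →₀ A₀, Ideal.Quotient.mk (J.map (algebraMap A₀ B₀)) (Finsupp.linearCombination A₀ v₀ c) =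
      Finsupp.linearCombination R v (c.mapRange (Ideal.Quotient.mk J) (map_zero _)) := by
    intro c
    induction c using Finsupp.induction_linear with
    | zero => simp
    | add a b ha hb =>
      rw [map_add, map_add, ha, hb, Finsupp.mapRange_add (fun _ _ => map_add _ _ _), map_add]
    | single i a =>
      rw [Finsupp.mapRange_single, Finsupp.linearCombination_single, Finsupp.linearCombination_single, ← hv₀ i]
      rfl
  refine ⟨f₀, w, v₀, fun h => hf (Ideal.Quotient.eq_zero_iff_mem.2 h), fun c hc i => ?_, fun b => ?_⟩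
  · rw [← Ideal.Quotient.eq_zero_iff_mem, key] at hc
    have := DFunLike.congr_fun (hrel _ hc) i
    rw [← Ideal.Quotient.eq_zero_iff_mem, map_mul]
    simpa using this
  · obtain ⟨k, hk⟩ := hgen (Ideal.Quotient.mk _ b)
    rw [← Finsupp.range_linearCombination] at hk
    obtain ⟨c, hc⟩ := hk
    obtain ⟨c₀, rfl⟩ : ∃ c₀ : w →₀ A₀, c₀.mapRange (Ideal.Quotient.mk J) (map_zero _) = c :=
      Finsupp.mapRange_surjective _ (map_zero _) Ideal.Quotient.mk_surjective c
    refine ⟨k, c₀, Ideal.Quotient.eq.1 ?_⟩
    rw [key, hc, ← map_pow]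
    rfl

omit [J.IsPrime] in
/-- The coordinate functional. -/
theorem exists_coord_map {f : A₀} {ι : Type u} {v : ι → B₀}
    (hrel : ∀ c : ι →₀ A₀, Finsupp.linearCombination A₀ v c ∈ J.map (algebraMap A₀ B₀) → ∀ i, f * c i ∈ J)
    (hgen : ∀ b : B₀, ∃ (k : ℕ) (c : ι →₀ A₀),
      f ^ k • b - Finsupp.linearCombination A₀ v c ∈ J.map (algebraMap A₀ B₀))
    {M : Type u} [AddCommGroup M] [Module A₀ M] (hJ : ∀ a ∈ J, ∀ m : M, a • m = 0) (i : ι) :
    ∃ θ : B₀ ⊗[A₀] M →ₗ[A₀] LocalizedModule (Submonoid.powers f) M,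
      ∀ (b : B₀) (k : ℕ) (c : ι →₀ A₀),
        f ^ k • b - Finsupp.linearCombination A₀ v c ∈ J.map (algebraMap A₀ B₀) →
        ∀ m, f ^ k • θ (b ⊗ₜ m) = LocalizedModule.mkLinearMap (Submonoid.powers f) M (c i • m) := by
  let L := LocalizedModule.mkLinearMap (Submonoid.powers f) M
  choose K C hC using hgen
  have hu : ∀ n : ℕ, IsUnit (algebraMap A₀ (Module.End A₀ (LocalizedModule (Submonoid.powers f) M)) (f ^ n)) :=
    fun n => IsLocalizedModule.map_units L (⟨f ^ n, n, rfl⟩ : Submonoid.powers f)
  have hinj : ∀ (n : ℕ) (y z : LocalizedModule (Submonoid.powers f) M), f ^ n • y = f ^ n • z → y = z :=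
    fun n y z h => ((Module.End.isUnit_iff _).1 (hu n)).1 h
  have hsur : ∀ (n : ℕ) (y : LocalizedModule (Submonoid.powers f) M), ∃ z, f ^ n • z = y := fun n y =>
    ((Module.End.isUnit_iff _).1 (hu n)).2 y
  choose val hval using fun (b : B₀) (m : M) => hsur (K b) (L (C b i • m))
  have hwell : ∀ (b : B₀) (k : ℕ) (c : ι →₀ A₀),
      f ^ k • b - Finsupp.linearCombination A₀ v c ∈ J.map (algebraMap A₀ B₀) →
      ∀ m, f ^ k • val b m = L (c i • m) := by
    intro b k c hc m
    refine hinj (K b + 1) _ _ ?_
    have h1 : Finsupp.linearCombination A₀ v (f ^ K b • c - f ^ k • C b) ∈ J.map (algebraMap A₀ B₀) := by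
      have h0 := Ideal.sub_mem _ (Submodule.smul_of_tower_mem _ (f ^ k) (hC b)) (Submodule.smul_of_tower_mem _ (f ^ K b) hc)
      rw [smul_sub, smul_sub, smul_comm (f ^ k) (f ^ K b) b, sub_sub_sub_cancel_left] at h0
      rwa [map_sub, map_smul, map_smul]
    have h2 := hJ _ (hrel _ h1 i) m
    simp only [Finsupp.coe_sub, Pi.sub_apply, Finsupp.coe_smul, Pi.smul_apply, smul_eq_mul, mul_sub, sub_smul,
      sub_eq_zero] at h2
    rw [← map_smul L, smul_comm, pow_succ', mul_smul, hval, ← map_smul L, ← map_smul L, ← mul_smul, ← mul_smul,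
      ← mul_smul]
    refine congrArg L (Eq.trans ?_ (h2.symm.trans ?_)) <;> congr 1 <;> ring
  refine ⟨TensorProduct.lift (LinearMap.mk₂ A₀ val ?_ ?_ ?_ ?_), fun b k c hc m => ?_⟩
  · intro b b' m
    refine hinj (K b + K b') _ _ ?_
    rw [hwell (b + b') (K b + K b') (f ^ K b' • C b + f ^ K b • C b') ?_ m, smul_add,
      hwell b (K b + K b') (f ^ K b' • C b) ?_ m, hwell b' (K b + K b') (f ^ K b • C b') ?_ m,
      Finsupp.add_apply, add_smul, map_add]
    · have := Submodule.smul_of_tower_mem _ (f ^ K b) (hC b')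
      rwa [smul_sub, ← mul_smul, ← pow_add, ← map_smul] at this
    · have := Submodule.smul_of_tower_mem _ (f ^ K b') (hC b)
      rwa [smul_sub, ← mul_smul, ← pow_add, add_comm (K b') (K b), ← map_smul] at this
    · have := Ideal.add_mem _ (Submodule.smul_of_tower_mem _ (f ^ K b') (hC b))
        (Submodule.smul_of_tower_mem _ (f ^ K b) (hC b'))
      rw [smul_sub, smul_sub, ← mul_smul, ← mul_smul, ← pow_add, ← pow_add, add_comm (K b') (K b),
        sub_add_sub_comm, ← smul_add, ← map_smul, ← map_smul, ← map_add] at this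
      exact this
  · intro a b m
    refine hinj (K b) _ _ ?_
    rw [hwell (a • b) (K b) (a • C b) (by rw [smul_comm, map_smul, ← smul_sub]; exact Submodule.smul_of_tower_mem _ a (hC b)) m,
      smul_comm, hval, Finsupp.smul_apply, smul_eq_mul, mul_smul, map_smul]
  · intro b m m'
    refine hinj (K b) _ _ ?_
    rw [smul_add, hval, hval, hval, smul_add, map_add]
  · intro a b m
    refine hinj (K b) _ _ ?_
    rw [smul_comm (f ^ K b) a, hval, hval, smul_comm, map_smul]
  · rw [TensorProduct.lift.tmul, LinearMap.mk₂_apply]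
    exact hwell b k c hc m

end Coord

/-- Injectivity into localisations is inherited after a flat finite type base change. -/
theorem smul_dense [IsNoetherianRing A₀] [Algebra.FiniteType A₀ B₀] {A : Type u} [CommRing A] [Algebra A₀ A]
    {κ : Type*} (g : κ → A) (J : Ideal A₀) :
    ∀ (M : Type u) [AddCommGroup M] [Module A M] [Module A₀ M] [IsScalarTower A₀ A M],
      (∀ N : Submodule A M, Function.Injective ((N.subtype.restrictScalars A₀).lTensor B₀)) →
      (∀ (f : A₀) (m : M), (∀ k, ∃ e : ℕ, f ^ e • g k ^ e • m = 0) → ∃ e : ℕ, f ^ e • m = 0) →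
      (∀ a ∈ J, ∀ m : M, a • m = 0) →
      ∀ x : B₀ ⊗[A₀] M, (∀ k, ∃ e : ℕ, ((LinearMap.lsmul A M (g k ^ e)).restrictScalars A₀).lTensor B₀ x = 0) →
        x = 0 := by
  induction J using (IsWellFounded.wf (r := (· > · : Ideal A₀ → Ideal A₀ → Prop))).induction with
  | h J ih =>
    intro M _ _ _ _ hfl hH hJ x hx
    -- submodules killed by a larger ideal
    have hsub : ∀ (N : Submodule A M) (I : Ideal A₀), J < I → (∀ a ∈ I, ∀ m ∈ N, a • m = 0) →
        ∀ y : B₀ ⊗[A₀] N, (∀ k, ∃ e : ℕ, ((LinearMap.lsmul A M (g k ^ e)).restrictScalars A₀).lTensor B₀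
          ((N.subtype.restrictScalars A₀).lTensor B₀ y) = 0) → y = 0 := by
      intro N I hI hIN y hy
      refine ih I hI N ?_ ?_ (fun a ha m => Subtype.ext (hIN a ha m m.2)) y fun k => ?_
      · intro N' y' z' h
        have e : ∀ z : B₀ ⊗[A₀] N', (N.subtype.restrictScalars A₀).lTensor B₀ ((N'.subtype.restrictScalars A₀).lTensor B₀ z) =
            ((N'.map N.subtype).subtype.restrictScalars A₀).lTensor B₀
              (((Submodule.equivMapOfInjective N.subtype N.injective_subtype N').toLinearMap.restrictScalars A₀).lTensor B₀ z) := by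
          intro z
          simp only [← LinearMap.lTensor_comp_apply]
          rfl
        have h' := congrArg ((N.subtype.restrictScalars A₀).lTensor B₀) h
        rw [e, e] at h'
        exact (LinearEquiv.lTensor B₀ ((Submodule.equivMapOfInjective N.subtype N.injective_subtype N').restrictScalars A₀)).injective
          (hfl _ h')
      · intro f m hm
        obtain ⟨e, he⟩ := hH f m fun k => (hm k).imp fun e he => congrArg Subtype.val he
        exact ⟨e, Subtype.ext he⟩
      · obtain ⟨e, he⟩ := hy k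
        refine ⟨e, hfl N ?_⟩
        rw [map_zero, ← he, ← LinearMap.lTensor_comp_apply, ← LinearMap.lTensor_comp_apply]
        rfl
    by_cases htop : J = ⊤
    · have : Subsingleton M := ⟨fun a b => by
        rw [← one_smul A₀ a, ← one_smul A₀ b, hJ 1 (htop ▸ trivial), hJ 1 (htop ▸ trivial)]⟩
      exact Subsingleton.elim _ _
    -- killed elements of `B₀ ⊗ M`
    have hker : ∀ c : A₀, c ∉ J → c • x = 0 → x = 0 := by
      intro c hc hcx
      let l : M →ₗ[A] M := algebraMap A₀ (Module.End A M) c
      let q : M →ₗ[A₀] (LinearMap.range l) := l.rangeRestrict.restrictScalars A₀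
      have hex : Function.Exact ((LinearMap.ker l).subtype.restrictScalars A₀) q := by
        intro m
        rw [Set.mem_range]
        constructor
        · exact fun h => ⟨⟨m, congrArg Subtype.val h⟩, rfl⟩
        · rintro ⟨⟨m, hm⟩, rfl⟩; exact Subtype.ext hm
      have hq0 : q.lTensor B₀ x = 0 := by
        apply hfl (LinearMap.range l)
        rw [map_zero, ← LinearMap.lTensor_comp_apply]
        refine Eq.trans ?_ hcx
        have hz : ∀ z : B₀ ⊗[A₀] M, (LinearMap.lsmul A₀ M c).lTensor B₀ z = c • z := by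
          intro z
          induction z with
          | zero => simp
          | tmul b m => simp [TensorProduct.tmul_smul]
          | add a b ha hb => rw [map_add, ha, hb, smul_add]
        exact hz x
      obtain ⟨y, hy⟩ := (lTensor_exact B₀ hex (LinearMap.surjective_rangeRestrict l) x).1 hq0
      rw [← hy, hsub (LinearMap.ker l) (J ⊔ Ideal.span {c}) (by
        refine lt_of_le_of_ne le_sup_left fun e => hc ?_
        rw [e]; exact Ideal.mem_sup_right (Ideal.mem_span_singleton_self c)) (fun a ha m hm => by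
        obtain ⟨a₁, h₁, a₂, h₂, rfl⟩ := Submodule.mem_sup.1 ha
        obtain ⟨d, rfl⟩ := Ideal.mem_span_singleton'.1 h₂
        have hm' : c • m = 0 := hm
        rw [add_smul, hJ a₁ h₁ m, mul_smul, hm', smul_zero, add_zero]) y
        fun k => (hx k).imp fun e he => by rw [hy]; exact he, map_zero]
    by_cases hp : J.IsPrime
    swap
    · obtain ⟨a, ha, b, hb, hab⟩ := Ideal.not_isPrime_iff.1 hp |>.resolve_left htop
      refine hker a ha ?_
      -- the image of multiplication by `a` is killed by `b`
      let l : M →ₗ[A] M := algebraMap A₀ (Module.End A M) a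
      let q : M →ₗ[A₀] (LinearMap.range l) := l.rangeRestrict.restrictScalars A₀
      have e : ∀ z : B₀ ⊗[A₀] M, ((LinearMap.range l).subtype.restrictScalars A₀).lTensor B₀ (q.lTensor B₀ z) = a • z := by
        intro z
        induction z with
        | zero => simp
        | tmul c m => simp [q, l, TensorProduct.tmul_smul]
        | add z z' hz hz' => rw [map_add, map_add, hz, hz', smul_add]
      rw [← e, hsub (LinearMap.range l) (J ⊔ Ideal.span {b}) (by
        refine lt_of_le_of_ne le_sup_left fun e => hb ?_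
        rw [e]; exact Ideal.mem_sup_right (Ideal.mem_span_singleton_self b)) (fun c hc m hm => by
        obtain ⟨c₁, h₁, c₂, h₂, rfl⟩ := Submodule.mem_sup.1 hc
        obtain ⟨d, rfl⟩ := Ideal.mem_span_singleton'.1 h₂
        obtain ⟨n, rfl⟩ := hm
        have : (d * b) • (l n) = (d * (a * b)) • n := by
          rw [show l n = a • n from rfl, ← mul_smul]
          congr 1
          ring
        rw [add_smul, hJ c₁ h₁, this, mul_smul, hJ _ hab, smul_zero, add_zero]) (q.lTensor B₀ x) (fun k => (hx k).imp fun n hn => by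
          rw [e, map_smul, hn, smul_zero]), map_zero]
    obtain ⟨f, ι, v, hf, hrel, hgen⟩ := exists_coord (B₀ := B₀) J
    choose θ hθ using fun i => exists_coord_map (M := M) hrel hgen hJ i
    let L := LocalizedModule.mkLinearMap (Submonoid.powers f) M
    -- write `f ^ K • x` in coordinates
    obtain ⟨K, n, hn⟩ : ∃ (K : ℕ) (n : ι →₀ M), f ^ K • x = n.sum fun i m => v i ⊗ₜ[A₀] m := by
      clear hker hx
      induction x with
      | zero => exact ⟨0, 0, by simp⟩
      | tmul b m =>
        obtain ⟨k, c, hc⟩ := hgen b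
        refine ⟨k, c.mapRange (· • m) (zero_smul _ _), ?_⟩
        have h0 : ∀ z ∈ J.map (algebraMap A₀ B₀), z ⊗ₜ[A₀] m = 0 := by
          intro z hz
          have hz' : z ∈ J • (⊤ : Submodule A₀ B₀) := by rw [Ideal.smul_top_eq_map]; exact hz
          clear hz
          refine Submodule.smul_induction_on (p := fun z => z ⊗ₜ[A₀] m = 0) hz' (fun a ha w _ => ?_) (fun a b ha hb => ?_)
          · rw [TensorProduct.smul_tmul, hJ a ha, TensorProduct.tmul_zero]
          · rw [TensorProduct.add_tmul, ha, hb, add_zero]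
        rw [TensorProduct.smul_tmul', eq_of_sub_eq_zero ((TensorProduct.sub_tmul _ _ _).symm.trans (h0 _ hc)),
          Finsupp.linearCombination_apply, Finsupp.sum_mapRange_index (fun _ => TensorProduct.tmul_zero _ _),
          Finsupp.sum, Finsupp.sum, TensorProduct.sum_tmul]
        simp only [TensorProduct.smul_tmul]
      | add x y hx' hy' =>
        obtain ⟨k, n, hn⟩ := hx'
        obtain ⟨k', n', hn'⟩ := hy'
        refine ⟨k + k', f ^ k' • n + f ^ k • n', ?_⟩
        rw [smul_add, Finsupp.sum_add_index' (fun _ => TensorProduct.tmul_zero _ _) (fun _ _ _ => TensorProduct.tmul_add _ _ _),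
          Finsupp.sum_smul_index' (fun _ => TensorProduct.tmul_zero _ _),
          Finsupp.sum_smul_index' (fun _ => TensorProduct.tmul_zero _ _)]
        simp only [TensorProduct.tmul_smul, ← Finsupp.smul_sum, ← hn, ← hn', ← mul_smul, ← pow_add]
        rw [add_comm k' k]
    classical
    have hval : ∀ i j m, θ i (v j ⊗ₜ m) = L ((if i = j then 1 else 0 : A₀) • m) := fun i j m => by
      have h := hθ i (v j) 0 (Finsupp.single j 1) (by simp) m
      rw [pow_zero, one_smul, Finsupp.single_apply] at h
      rw [h]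
      congr 2
      simp [eq_comm]
    have hn0 : ∀ i, ∃ e : ℕ, f ^ e • n i = 0 := by
      intro i
      refine hH f (n i) fun k => ?_
      obtain ⟨e, he⟩ := hx k
      have h1 : θ i (((LinearMap.lsmul A M (g k ^ e)).restrictScalars A₀).lTensor B₀ (f ^ K • x)) = 0 := by
        rw [map_smul, he, smul_zero, map_zero]
      rw [hn, Finsupp.sum, map_sum, map_sum] at h1
      simp only [LinearMap.lTensor_tmul, hval] at h1
      rw [← map_sum, Finset.sum_eq_single i (fun j _ hj => by simp [Ne.symm hj]) (fun hi => by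
        simp [Finsupp.notMem_support_iff.1 hi])] at h1
      obtain ⟨⟨_, l, rfl⟩, hl⟩ := (IsLocalizedModule.eq_zero_iff (Submonoid.powers f) L).1 h1
      refine ⟨e + l, ?_⟩
      simp only [if_true, one_smul, Submonoid.smul_def, LinearMap.coe_restrictScalars, LinearMap.lsmul_apply] at hl
      rw [pow_add, pow_add, mul_smul, mul_comm, mul_smul, smul_comm (f ^ l) (g k ^ l), hl, smul_zero, smul_zero]
    choose E hE using hn0
    refine hker (f ^ (n.support.sup E + K)) (fun h => hf (hp.mem_of_pow_mem _ h)) ?_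
    rw [pow_add, mul_smul, hn, Finsupp.smul_sum]
    refine Finset.sum_eq_zero fun i hi => ?_
    beta_reduce
    rw [← TensorProduct.tmul_smul]
    obtain ⟨d, hd⟩ := Nat.exists_eq_add_of_le (Finset.le_sup (f := E) hi)
    rw [hd, add_comm, pow_add, mul_smul, hE, smul_zero, TensorProduct.tmul_zero]

/-- For a flat finitely presented algebra, elements vanishing on a schematically dense family of basic opens
vanish. -/
theorem eq_zero_of_dense {A : Type u} [CommRing A] {B : Type u} [CommRing B] [Algebra A B] [Module.Flat A B]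
    [Algebra.FinitePresentation A B] {κ : Type*} (g : κ → A)
    (hg : ∀ (f m : A), (∀ k, ∃ e : ℕ, f ^ e * g k ^ e * m = 0) → ∃ e : ℕ, f ^ e * m = 0)
    (x : B) (hx : ∀ k, ∃ e : ℕ, algebraMap A B (g k) ^ e * x = 0) : x = 0 := by
  let P := Algebra.Presentation.ofFinitePresentation A B
  let B₀ := P.ModelOfHasCoeffs P.Core
  have : IsNoetherianRing P.Core := Algebra.FiniteType.isNoetherianRing ℤ P.Core
  let e : A ⊗[P.Core] B₀ ≃ₐ[A] B := P.tensorModelOfHasCoeffsEquiv P.Core
  have : Module.Flat A (A ⊗[P.Core] B₀) := Module.Flat.of_linearEquiv e.toLinearEquiv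
  have key := smul_dense (B₀ := B₀) g (⊥ : Ideal P.Core) A ?_ ?_ (fun a ha m => by simp [(Submodule.mem_bot _).1 ha])
    (TensorProduct.comm P.Core A B₀ (e.symm x)) fun k => ?_
  · exact e.symm.injective (((TensorProduct.comm P.Core A B₀).injective (key.trans (map_zero _).symm)).trans (map_zero _).symm)
  · intro N
    let e₁ := TensorProduct.AlgebraTensorModule.cancelBaseChange P.Core A A N B₀
    have h := Module.Flat.rTensor_preserves_injective_linearMap (M := A ⊗[P.Core] B₀) N.subtype N.injective_subtype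
    have e₂ : ∀ z : N ⊗[P.Core] B₀, TensorProduct.AlgebraTensorModule.cancelBaseChange P.Core A A A B₀
        (N.subtype.rTensor (A ⊗[P.Core] B₀) (e₁.symm z)) = (N.subtype.restrictScalars P.Core).rTensor B₀ z := by
      intro z
      induction z with
      | zero => simp
      | tmul m b => simp [e₁]
      | add z z' hz hz' => simp only [map_add, hz, hz']
    have h' : Function.Injective ((N.subtype.restrictScalars P.Core).rTensor B₀) := by
      intro z z' hzz
      rw [← e₂, ← e₂] at hzz
      exact e₁.symm.injective (h ((LinearEquiv.injective _) hzz))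
    exact (LinearMap.lTensor_inj_iff_rTensor_inj B₀ _).2 h'
  · intro f m hm
    obtain ⟨d, hd⟩ := hg (algebraMap P.Core A f) m fun k => (hm k).imp fun d hd => by
      rwa [Algebra.smul_def, map_pow, smul_eq_mul, ← mul_assoc] at hd
    exact ⟨d, by rwa [Algebra.smul_def, map_pow]⟩
  · obtain ⟨d, hd⟩ := hx k
    refine ⟨d, ?_⟩
    have hcomm : ∀ z : A ⊗[P.Core] B₀, ((LinearMap.lsmul A A (g k ^ d)).restrictScalars P.Core).lTensor B₀
        (TensorProduct.comm P.Core A B₀ z) = TensorProduct.comm P.Core A B₀ ((g k ^ d) • z) := by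
      intro z
      induction z with
      | zero => simp
      | tmul a b => simp [TensorProduct.smul_tmul']
      | add z z' hz hz' => simp only [map_add, smul_add, hz, hz']
    rw [hcomm, ← map_smul, Algebra.smul_def, map_pow, hd, map_zero, map_zero]

end Groth.Agent.AlgSp.DenseAlg
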