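import Groth.Agent.AlgSp.FiniteChart
import Groth.Agent.AlgSp.QfPoint
import Groth.Agent.S2081
import Groth.Agent.S9682

/-!
# Finiteness over a dense open of a quasi-compact space, generic points over generic points
-/

universe u

open CategoryTheory CategoryTheory.Limits AlgebraicGeometry Opposite Topology

set_option backward.isDefEq.respectTransparency.types false

namespace Groth.Agent.AlgSp

variable {S : Scheme.{u}}

/-- A quasi-compact space locally of finite type over an affine scheme with finitely many components is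
finite over a dense open when generic points correspond to generic points. -/
theorem exists_dense_open_finite {B : Over S} [IsAffine B.left]
    (hgB : {v : ↥B.left | closure {v} ∈ irreducibleComponents (B.left : Type u)}.Finite)
    {P1 : AlgSp.Sp S} (hP1 : AlgSp.IsAlgSpace P1) [CompactSpace (AlgSp.Points P1)]
    (s : P1 ⟶ (AlgSp.yon S).obj B) (hl : AlgSp.LocP @LocallyOfFiniteType s)
    (hkey : ∀ {A : Over S} (α : (AlgSp.yon S).obj A ⟶ P1) (k : A ⟶ B),
      AlgSp.RepWith @Etale α → α ≫ s = (AlgSp.yon S).map k → ∀ z : ↥A.left,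
      (closure {z} ∈ irreducibleComponents (A.left : Type u) ↔
        closure {k.left z} ∈ irreducibleComponents (B.left : Type u))) :
    ∃ O : B.left.Opens, Dense (O : Set ↥B.left) ∧ AlgSp.IsFiniteMor (pullback.snd s
      ((AlgSp.yon S).map (Over.homMk O.ι rfl : Over.mk (O.ι ≫ B.hom) ⟶ B))) := by
  have hcB := finite_irreducibleComponents_of_generic hgB
  obtain ⟨A, c, hc, hcs⟩ := hP1.atlas
  obtain ⟨U, g, hU, ha, has⟩ := Groth.Agent.AlgSpB.exists_affine_chart_of_compactSpace hc hcs
  generalize (AlgSp.yon S).map g ≫ c = a at ha has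
  obtain ⟨h, hh⟩ := (AlgSp.yon S).map_surjective (a ≫ s)
  have : LocallyOfFiniteType h.left := hl a (𝟙 _) h ha (AlgSp.repWith_id _ _) (by rw [hh, Category.comp_id])
  have : QuasiCompact h.left := (quasiCompact_iff_compactSpace h.left).2 inferInstance
  have : IsAffineHom h.left := isAffineHom_of_isAffine _
  have hgU := hkey a h ha hh.symm
  have hfU : {u : ↥U.left | closure {u} ∈ irreducibleComponents (U.left : Type u)}.Finite := by
    refine (hgB.biUnion fun v hv => (finite_qfAt_preimage h.left v)).subset fun u hu =>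
      Set.mem_iUnion₂.2 ⟨h.left u, (hgU u).1 hu, rfl, ?_⟩
    exact (Groth.Agent.S9682.result h.left _ ((hgU u).1 hu)).1.1
      (fun u' e => (hgU u').2 (by rw [show h.left u' = h.left u from e]; exact (hgU u).1 hu)) u rfl
  obtain ⟨O1, hO1, hfin1⟩ := Groth.Agent.S2081.result h.left
    (finite_irreducibleComponents_of_generic hfU) hcB hgU
  obtain ⟨R, t, q, sR⟩ := Groth.Agent.AlgSpB.exists_pullback_yon (hP1.representable_from_yon a) a
  have hha : a ≫ s = (AlgSp.yon S).map h := hh.symm
  have hw : t ≫ h = q ≫ h := (AlgSp.yon S).map_injective (by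
    rw [Functor.map_comp, Functor.map_comp, ← hha, ← Category.assoc, sR.w, Category.assoc])
  have hwl : t.left ≫ h.left = q.left ≫ h.left := congrArg (fun m : R ⟶ B => m.left) hw
  have hlm : Mono (pullback.lift t.left q.left hwl : R.left ⟶ pullback h.left h.left) := by
    have hm : Mono (pullback.lift t q hw : R ⟶ pullback h h) := ⟨fun g1 g2 e => by
      apply (AlgSp.yon S).map_injective
      apply sR.hom_ext
      · simpa only [← Functor.map_comp, Category.assoc, pullback.lift_fst] using
          congrArg (fun m => (AlgSp.yon S).map (m ≫ pullback.fst h h)) e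
      · simpa only [← Functor.map_comp, Category.assoc, pullback.lift_snd] using
          congrArg (fun m => (AlgSp.yon S).map (m ≫ pullback.snd h h)) e⟩
    have eQ := Groth.Agent.AlgSpB.isPullback_map_left (IsPullback.of_hasPullback h h)
    have e : (pullback.lift t q hw : R ⟶ pullback h h).left ≫ eQ.isoPullback.hom =
        pullback.lift t.left q.left hwl := by
      apply pullback.hom_ext
      · rw [Category.assoc, IsPullback.isoPullback_hom_fst, ← Over.comp_left, pullback.lift_fst, pullback.lift_fst]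
      · rw [Category.assoc, IsPullback.isoPullback_hom_snd, ← Over.comp_left, pullback.lift_snd, pullback.lift_snd]
    rw [← e]
    infer_instance
  have : Etale t.left := ha.2 _ _ _ sR.flip
  let l : R.left ⟶ pullback h.left h.left := pullback.lift t.left q.left hwl
  let r := t.left ≫ h.left
  have hlr : l ≫ pullback.fst h.left h.left ≫ h.left = r := pullback.lift_fst_assoc ..
  have : Mono l := hlm
  have : IsSeparated r := by rw [← hlr]; infer_instance
  have : LocallyOfFiniteType r := inferInstanceAs (LocallyOfFiniteType (t.left ≫ h.left))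
  have hgR : ∀ z, closure {z} ∈ irreducibleComponents (R.left : Type u) ↔
      closure {r z} ∈ irreducibleComponents (B.left : Type u) := fun z =>
    hkey ((AlgSp.yon S).map t ≫ a) (t ≫ h) ((AlgSp.RepWith _).comp_mem _ _
      ((AlgSp.repWith_yon_map_iff _ _).2 ‹Etale t.left›) ha)
      (by rw [Category.assoc, hha, Functor.map_comp]) z
  have hfR : {z : ↥R.left | closure {z} ∈ irreducibleComponents (R.left : Type u)}.Finite := by
    refine (hgB.biUnion fun v hv => (?_ : (r ⁻¹' {v}).Finite)).subset fun z hz =>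
      Set.mem_iUnion₂.2 ⟨r z, (hgR z).1 hz, rfl⟩
    have hvO := generic_mem_of_dense O1 hO1 hv hcB
    refine ((finite_fibre_pullback h.left v O1 hvO hfin1).preimage l.injective.injOn).subset
      fun z hz => ?_
    show (pullback.fst h.left h.left ≫ h.left) (l z) = v
    rw [← Scheme.Hom.comp_apply, hlr]
    exact hz
  choose WR hWR hzWR using fun z : ↥R.left => (⟨_,
    (exists_isAffineOpen_mem_and_subset (x := z) (U := (⊤ : R.left.Opens)) trivial).choose_spec.1,
    (exists_isAffineOpen_mem_and_subset (x := z) (U := (⊤ : R.left.Opens)) trivial).choose_spec.2.1⟩ :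
      ∃ W : R.left.Opens, IsAffineOpen W ∧ z ∈ W)
  let R0 : R.left.Opens := ⟨⋃ z ∈ {z : ↥R.left | closure {z} ∈ irreducibleComponents (R.left : Type u)},
    (WR z : Set ↥R.left), isOpen_biUnion fun z _ => (WR z).2⟩
  have hR0c : IsCompact (R0 : Set ↥R.left) := hfR.isCompact_biUnion fun z _ => (hWR z).isCompact
  have : CompactSpace ↥R0.toScheme := isCompact_iff_compactSpace.1 hR0c
  have : QuasiCompact (R0.ι ≫ r) := (quasiCompact_iff_compactSpace (R0.ι ≫ r)).2 inferInstance
  have hR0gen : ∀ z : ↥R.left, closure {z} ∈ irreducibleComponents (R.left : Type u) → z ∈ R0 :=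
    fun z hz => Set.mem_iUnion₂.2 ⟨z, hz, hzWR z⟩
  obtain ⟨O2, hO2, hfin2⟩ := Groth.Agent.S2081.result (R0.ι ≫ r)
    (finite_irreducibleComponents_of_generic
      ((hfR.preimage R0.ι.isOpenEmbedding.injective.injOn).subset fun z hz =>
        (generic_open_iff R0.ι z).1 hz)) hcB
    (fun z => by rw [generic_open_iff R0.ι z, hgR]; rfl)
  refine ⟨O1 ⊓ O2, hO1.inter_of_isOpen_left hO2 O1.2, ?_⟩
  refine isFiniteMor_restrict hP1 s ha has hha sR (O1 ⊓ O2)
    (isFinite_of_restrict_le h.left (O1 ⊓ O2) (h.left ∣_ (O1 ⊓ O2)) _ O1 inf_le_left hfin1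
      (isPullback_morphismRestrict _ _).flip) ?_
  show IsFinite (r ∣_ (O1 ⊓ O2))
  refine isFinite_of_generic_open (R0.ι ∣_ (r ⁻¹ᵁ (O1 ⊓ O2))) (r ∣_ (O1 ⊓ O2)) ?_ ?_
  · have h0 := isFinite_of_restrict_le (R0.ι ≫ r) (O1 ⊓ O2) ((R0.ι ≫ r) ∣_ (O1 ⊓ O2))
      ((R0.ι ≫ r) ⁻¹ᵁ (O1 ⊓ O2)).ι O2 inf_le_right hfin2
      (isPullback_morphismRestrict (R0.ι ≫ r) (O1 ⊓ O2)).flip
    rw [morphismRestrict_comp] at h0
    exact h0
  · intro z hz
    have h1 := hR0gen _ ((generic_open_iff (r ⁻¹ᵁ (O1 ⊓ O2)).ι z).1 hz)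
    obtain ⟨w, hw, -⟩ := Scheme.exists_preimage_of_isPullback (isPullback_morphismRestrict R0.ι (r ⁻¹ᵁ (O1 ⊓ O2)))
      z (⟨_, h1⟩ : ↥R0.toScheme) rfl
    exact ⟨w, hw⟩

end Groth.Agent.AlgSp
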