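import Groth.Agent.AlgSp.DenseAlg
import Groth.Prelude.Def_CInt
import Mathlib.AlgebraicGeometry.Morphisms.Flat
import Mathlib.AlgebraicGeometry.Morphisms.FinitePresentation
import Mathlib.AlgebraicGeometry.Morphisms.QuasiCompact

/-!
# Schematically dense opens and flat morphisms
-/

set_option backward.isDefEq.respectTransparency.types false

universe u

open CategoryTheory Opposite AlgebraicGeometry TopologicalSpace

namespace Groth.Agent.AlgSp.DenseFlat

variable {X Y : Scheme.{u}}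

/-- Restriction of sections, written with an explicit inequality. -/
theorem res_trans {U V W : X.Opens} (h₁ : V ≤ U) (h₂ : W ≤ V) (s : Γ(X, U)) :
    X.presheaf.map (homOfLE h₂).op (X.presheaf.map (homOfLE h₁).op s) =
      X.presheaf.map (homOfLE (h₂.trans h₁)).op s := by
  rw [← CategoryTheory.comp_apply, ← Functor.map_comp]
  rfl

/-- A section whose restriction to a larger open vanishes vanishes on the smaller one. -/
theorem res_eq_zero_mono {U V W : X.Opens} (h₁ : V ≤ U) (h₂ : W ≤ V) (s : Γ(X, U))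
    (h : X.presheaf.map (homOfLE h₁).op s = 0) : X.presheaf.map (homOfLE (h₂.trans h₁)).op s = 0 := by
  rw [← res_trans h₁ h₂, h, map_zero]

/-- A section which vanishes locally vanishes. -/
theorem eq_zero_of_locally {U : X.Opens} (s : Γ(X, U))
    (h : ∀ x : X, x ∈ U → ∃ (W : X.Opens) (hW : W ≤ U), x ∈ W ∧ X.presheaf.map (homOfLE hW).op s = 0) : s = 0 := by
  choose W hW hxW hs using fun x : U => h x.1 x.2
  refine TopCat.Sheaf.eq_of_locally_eq' X.sheaf W U (fun i => homOfLE (hW i)) (fun x hx => ?_) s 0 fun i => ?_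
  · exact Opens.mem_iSup.2 ⟨⟨x, hx⟩, hxW ⟨x, hx⟩⟩
  · exact (hs i).trans (map_zero _).symm

theorem res_basicOpen_eq_zero {U : X.Opens} (hU : IsAffineOpen U) (x f : Γ(X, U)) (e : ℕ) (h : f ^ e * x = 0) :
    X.presheaf.map (homOfLE (X.basicOpen_le f)).op x = 0 := by
  have := hU.isLocalization_basicOpen f
  exact (IsLocalization.map_eq_zero_iff (Submonoid.powers f) Γ(X, X.basicOpen f) x).2 ⟨⟨_, e, rfl⟩, h⟩

/-- The key affine step. -/
theorem res_eq_zero_of_affine (f : X ⟶ Y) [Flat f] [LocallyOfFinitePresentation f] (V : Y.Opens)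
    (hV : CInt.IsSchematicallyDense V) {U : Y.Opens} (hU : IsAffineOpen U) {Ω : X.Opens} (hΩ : IsAffineOpen Ω)
    (e : Ω ≤ f ⁻¹ᵁ U) (s : Γ(X, Ω))
    (hs : X.presheaf.map (homOfLE (inf_le_left : Ω ⊓ f ⁻¹ᵁ V ≤ Ω)).op s = 0) : s = 0 := by
  algebraize [(f.appLE U Ω e).hom]
  have hflat : (f.appLE U Ω e).hom.Flat := HasRingHomProperty.appLE @Flat f inferInstance ⟨U, hU⟩ ⟨Ω, hΩ⟩ e
  have : Module.Flat Γ(Y, U) Γ(X, Ω) := hflat
  have : Algebra.FinitePresentation Γ(Y, U) Γ(X, Ω) := f.finitePresentation_appLE hU hΩ e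
  refine DenseAlg.eq_zero_of_dense (fun k : {g : Γ(Y, U) // Y.basicOpen g ≤ V} => k.1) ?_ s fun k => ?_
  · intro a m hm
    refine exists_pow_mul_eq_zero_of_res_basicOpen_eq_zero_of_isAffineOpen Y hU m a ?_
    refine hV (Y.basicOpen a) ?_
    rw [map_zero]
    refine eq_zero_of_locally _ fun y hy => ?_
    obtain ⟨g, hg, hyg⟩ := hU.exists_basicOpen_le (V := V) ⟨y, hy.2⟩ (Y.basicOpen_le a hy.1)
    obtain ⟨d, hd⟩ := hm ⟨g, hg⟩
    have hle : Y.basicOpen (a * g) ≤ Y.basicOpen a ⊓ V := by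
      rw [Scheme.basicOpen_mul]; exact inf_le_inf_left _ hg
    refine ⟨Y.basicOpen (a * g), hle, by rw [Scheme.basicOpen_mul]; exact ⟨hy.1, hyg⟩, ?_⟩
    have h0 := res_basicOpen_eq_zero hU m (a * g) d (by rw [mul_pow]; exact hd)
    rw [TopCat.Presheaf.restrictOpen, TopCat.Presheaf.restrict, res_trans, res_trans]
    exact h0
  · have hle : X.basicOpen (f.appLE U Ω e k.1) ≤ Ω ⊓ f ⁻¹ᵁ V :=
      le_inf (X.basicOpen_le _) (by
        rw [Scheme.basicOpen_appLE]
        exact inf_le_right.trans (f.preimage_mono k.2))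
    have h0 := res_eq_zero_mono inf_le_left hle s hs
    obtain ⟨n, hn⟩ := exists_pow_mul_eq_zero_of_res_basicOpen_eq_zero_of_isAffineOpen X hΩ s
      (f.appLE U Ω e k.1) h0
    exact ⟨n, hn⟩

/-- The preimage of a schematically dense open under a flat morphism locally of finite presentation is
schematically dense. -/
theorem preimage (f : X ⟶ Y) [Flat f] [LocallyOfFinitePresentation f] (V : Y.Opens)
    (hV : CInt.IsSchematicallyDense V) : CInt.IsSchematicallyDense (f ⁻¹ᵁ V) := by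
  intro W
  rw [injective_iff_map_eq_zero]
  intro s hs
  refine eq_zero_of_locally s fun x hx => ?_
  obtain ⟨_, ⟨U, hU, rfl⟩, hxU, -⟩ :=
    Y.isBasis_affineOpens.exists_subset_of_mem_open (Set.mem_univ (f x)) isOpen_univ
  obtain ⟨_, ⟨Ω, hΩ, rfl⟩, hxΩ, hle⟩ :=
    X.isBasis_affineOpens.exists_subset_of_mem_open (show x ∈ W ⊓ f ⁻¹ᵁ U from ⟨hx, hxU⟩) (W ⊓ f ⁻¹ᵁ U).2
  have hΩW : Ω ≤ W := fun y hy => (hle hy).1
  refine ⟨Ω, hΩW, hxΩ, res_eq_zero_of_affine f V hV hU hΩ (fun y hy => (hle hy).2) _ ?_⟩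
  have := res_eq_zero_mono inf_le_left (show Ω ⊓ f ⁻¹ᵁ V ≤ W ⊓ f ⁻¹ᵁ V from inf_le_inf_right _ hΩW) s hs
  rw [res_trans]
  exact this

/-- Sections inject along flat surjective morphisms. -/
theorem app_injective (f : X ⟶ Y) [Flat f] [Surjective f] (U : Y.Opens) : Function.Injective (f.app U) := by
  rw [injective_iff_map_eq_zero]
  intro s hs
  refine TopCat.Presheaf.section_ext Y.sheaf U s 0 fun y hy => ?_
  obtain ⟨x, rfl⟩ := f.surjective y
  have hinj : Function.Injective (f.stalkMap x) := by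
    algebraize [(f.stalkMap x).hom]
    have : Module.FaithfullyFlat (Y.presheaf.stalk (f x)) (X.presheaf.stalk x) :=
      @Module.FaithfullyFlat.of_flat_of_isLocalHom _ _ _ _ _ _ _ (Flat.stalkMap f x) (f.toLRSHom.prop x)
    exact ‹RingHom.FaithfullyFlat _›.injective
  apply hinj
  change f.stalkMap x (Y.presheaf.germ U _ hy s) = f.stalkMap x (Y.presheaf.germ U _ hy 0)
  rw [Scheme.Hom.germ_stalkMap_apply, Scheme.Hom.germ_stalkMap_apply, hs, map_zero, map_zero, map_zero]

/-- Schematic density descends along flat surjective morphisms. -/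
theorem of_preimage (f : X ⟶ Y) [Flat f] [Surjective f] (V : Y.Opens)
    (hV : CInt.IsSchematicallyDense (f ⁻¹ᵁ V)) : CInt.IsSchematicallyDense V := by
  intro W
  rw [injective_iff_map_eq_zero]
  intro s hs
  apply app_injective f W
  rw [map_zero]
  refine hV (f ⁻¹ᵁ W) ?_
  rw [map_zero]
  have e := congr($(f.naturality (homOfLE (inf_le_left : W ⊓ V ≤ W)).op) s)
  simp only [CategoryTheory.comp_apply] at e
  rw [hs, map_zero] at e
  exact e.symm

end Groth.Agent.AlgSp.DenseFlat
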