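import Groth.Agent.AlgSp.DescentAlg
import Groth.Agent.AlgSp.Quot
import Groth.Agent.AlgSp.Basic
import Mathlib.AlgebraicGeometry.Pullbacks
import Mathlib.AlgebraicGeometry.Morphisms.Flat
import Mathlib.AlgebraicGeometry.Morphisms.FinitePresentation

/-!
# Effective fppf descent of affine schemes, in sheaf form
-/

universe u

open CategoryTheory CategoryTheory.Limits AlgebraicGeometry Opposite
open scoped TensorProduct

set_option backward.isDefEq.respectTransparency.types false

namespace Groth.Agent.AlgSp

variable {S : Scheme.{u}}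

theorem specMap_algHom_comp {A C D : Type u} [CommRing A] [CommRing C] [CommRing D] [Algebra A C] [Algebra A D]
    (f : C →ₐ[A] D) : Spec.map (CommRingCat.ofHom f.toRingHom) ≫ Spec.map (CommRingCat.ofHom (algebraMap A C)) =
      Spec.map (CommRingCat.ofHom (algebraMap A D)) := by
  rw [← Spec.map_comp]
  congr 1
  ext x
  exact f.commutes x

theorem isPullback_tensor (A B C : Type u) [CommRing A] [CommRing B] [CommRing C] [Algebra A B] [Algebra A C] :
    IsPullback (Spec.map (CommRingCat.ofHom (Algebra.TensorProduct.includeLeftRingHom : B →+* B ⊗[A] C)))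
      (Spec.map (CommRingCat.ofHom (Algebra.TensorProduct.includeRight (R := A) (A := B) (B := C)).toRingHom))
      (Spec.map (CommRingCat.ofHom (algebraMap A B))) (Spec.map (CommRingCat.ofHom (algebraMap A C))) :=
  IsPullback.of_iso (IsPullback.of_hasPullback _ _) (pullbackSpecIso A B C) (Iso.refl _) (Iso.refl _) (Iso.refl _)
    ((Category.comp_id _).trans (pullbackSpecIso_hom_fst A B C).symm)
    ((Category.comp_id _).trans (pullbackSpecIso_hom_snd A B C).symm)
    ((Category.comp_id _).trans (Category.id_comp _).symm) ((Category.comp_id _).trans (Category.id_comp _).symm)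

theorem exists_iso_of_fppf_spec {A A' B' : Type u} [CommRing A] [CommRing A'] [CommRing B'] [Algebra A A']
    [Algebra A B'] [Algebra A' B'] [IsScalarTower A A' B'] [Module.Flat A A']
    (str : Spec (CommRingCat.of A) ⟶ S) {F : AlgSp.Sp S}
    (a : F ⟶ (AlgSp.yon S).obj (Over.mk str))
    {V W : Over S} (hV : V = Over.mk (Spec.map (CommRingCat.ofHom (algebraMap A A')) ≫ str))
    (hW : W = Over.mk (Spec.map (CommRingCat.ofHom (algebraMap A B')) ≫ str))
    (p : V ⟶ Over.mk str) (w : W ⟶ V)
    (hp : p.left = eqToHom (by rw [hV]; rfl) ≫ Spec.map (CommRingCat.ofHom (algebraMap A A')))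
    (hw : w.left = eqToHom (by rw [hW]; rfl) ≫ Spec.map (CommRingCat.ofHom (algebraMap A' B')) ≫
      eqToHom (by rw [hV]; rfl))
    [Surjective p.left] [LocallyOfFinitePresentation p.left]
    (π : (AlgSp.yon S).obj W ⟶ F)
    (sq : IsPullback π ((AlgSp.yon S).map w) a ((AlgSp.yon S).map p)) :
    ∃ W₀ : Over S, IsAffine W₀.left ∧ Nonempty ((AlgSp.yon S).obj W₀ ≅ F) := by
  subst hV hW
  simp only [eqToHom_refl, Category.id_comp, Category.comp_id] at hp hw
  let T2 : Over S := Over.mk (Spec.map (CommRingCat.ofHom (algebraMap A (A' ⊗[A] B'))) ≫ str)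
  have wv : Spec.map (CommRingCat.ofHom (Algebra.TensorProduct.includeLeftRingHom : A' →+* A' ⊗[A] B')) ≫
      Spec.map (CommRingCat.ofHom (algebraMap A A')) =
      Spec.map (CommRingCat.ofHom (algebraMap A (A' ⊗[A] B'))) :=
    specMap_algHom_comp (Algebra.TensorProduct.includeLeft (S := A) (A := A') (B := B'))
  have ws := specMap_algHom_comp (Algebra.TensorProduct.includeRight (R := A) (A := A') (B := B'))
  let v : T2 ⟶ Over.mk (Spec.map (CommRingCat.ofHom (algebraMap A A')) ≫ str) :=
    Over.homMk (Spec.map (CommRingCat.ofHom Algebra.TensorProduct.includeLeftRingHom)) (by change _ ≫ _ ≫ str = _ ≫ str; rw [reassoc_of% wv])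
  let s : T2 ⟶ Over.mk (Spec.map (CommRingCat.ofHom (algebraMap A B')) ≫ str) :=
    Over.homMk (Spec.map (CommRingCat.ofHom Algebra.TensorProduct.includeRight.toRingHom)) (by change _ ≫ _ ≫ str = _ ≫ str; rw [reassoc_of% ws])
  have hwp : (w ≫ p).left = Spec.map (CommRingCat.ofHom (algebraMap A B')) := by
    rw [Over.comp_left, hw, hp, ← Spec.map_comp, ← CommRingCat.ofHom_comp,
      ← IsScalarTower.algebraMap_eq A A' B']
  have hvs : IsPullback v s p (w ≫ p) := by
    refine IsPullback.of_map (Over.forget S) (Over.OverMorphism.ext ?_) ?_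
    · rw [Over.comp_left, Over.comp_left, hwp, hp]; exact wv.trans ws.symm
    · change IsPullback v.left s.left p.left (w ≫ p).left
      rw [hwp, hp]
      exact isPullback_tensor A A' B'
  have h2 : ((AlgSp.yon S).map s ≫ π) ≫ a = (AlgSp.yon S).map v ≫ (AlgSp.yon S).map p := by
    rw [Category.assoc, sq.w, ← Functor.map_comp, ← Functor.map_comp, ← Functor.map_comp, hvs.w]
  obtain ⟨t, ht⟩ := (AlgSp.yon S).map_surjective (sq.lift _ _ h2)
  have htπ : (AlgSp.yon S).map t ≫ π = (AlgSp.yon S).map s ≫ π := by rw [ht, sq.lift_fst]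
  have htw : t ≫ w = v := (AlgSp.yon S).map_injective (by rw [Functor.map_comp, ht, sq.lift_snd])
  obtain ⟨θ₀, hθ₀⟩ := Spec.map_surjective
    (show Spec (CommRingCat.of (A' ⊗[A] B')) ⟶ Spec (CommRingCat.of B') from t.left)
  have htw' : Spec.map θ₀ ≫ Spec.map (CommRingCat.ofHom (algebraMap A' B')) = v.left := by
    rw [← htw, Over.comp_left, hθ₀, hw]
  have hθ : ∀ a : A', θ₀.hom (algebraMap A' B' a) = a ⊗ₜ 1 := by
    intro a
    rw [← Spec.map_comp] at htw'
    exact RingHom.congr_fun (congrArg CommRingCat.Hom.hom (Spec.map_injective htw')) a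
  let θ : B' →ₐ[A] A' ⊗[A] B' :=
    { θ₀.hom with
      commutes' := fun r => by
        change θ₀.hom (algebraMap A B' r) = _
        rw [IsScalarTower.algebraMap_apply A A' B', hθ]
        rfl }
  have sθ : Spec.map (CommRingCat.ofHom θ.toRingHom) = t.left := hθ₀
  let ι : B' →ₐ[A] A' ⊗[A] B' := Algebra.TensorProduct.includeRight
  -- unit
  let μ : A' ⊗[A] B' →ₐ[A] B' :=
    Algebra.TensorProduct.lift (IsScalarTower.toAlgHom A A' B') (AlgHom.id A B') (fun _ _ => Commute.all _ _)
  let mk' {C : Type u} [CommRing C] [Algebra A C] : Over S :=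
    Over.mk (Spec.map (CommRingCat.ofHom (algebraMap A C)) ≫ str)
  let sp {C D : Type u} [CommRing C] [Algebra A C] [CommRing D] [Algebra A D] (f : C →ₐ[A] D) :
      mk' (C := D) ⟶ mk' (C := C) :=
    Over.homMk (Spec.map (CommRingCat.ofHom f.toRingHom)) (by
      change Spec.map _ ≫ Spec.map _ ≫ str = Spec.map _ ≫ str
      rw [reassoc_of% specMap_algHom_comp f])
  have sp_comp {C D E : Type u} [CommRing C] [Algebra A C] [CommRing D] [Algebra A D] [CommRing E] [Algebra A E]
      (f : C →ₐ[A] D) (g : D →ₐ[A] E) : sp g ≫ sp f = sp (g.comp f) := by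
    ext
    change Spec.map _ ≫ Spec.map _ = Spec.map _
    rw [← Spec.map_comp]
    rfl
  have et : t = sp θ := Over.OverMorphism.ext sθ.symm
  have es : s = sp ι := rfl
  have ew : w = sp (IsScalarTower.toAlgHom A A' B') := Over.OverMorphism.ext hw
  have ev : v = sp (Algebra.TensorProduct.includeLeft : A' →ₐ[A] A' ⊗[A] B') := rfl
  have ext_W : ∀ {T : Over S} (x y : T ⟶ mk' (C := B')), (AlgSp.yon S).map x ≫ π = (AlgSp.yon S).map y ≫ π →
      x ≫ w = y ≫ w → x = y := fun x y h1 h2 => (AlgSp.yon S).map_injective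
    (sq.hom_ext h1 (by rw [← Functor.map_comp, ← Functor.map_comp, h2]))
  have hunit : μ.comp θ = AlgHom.id A B' := by
    have hd : sp μ ≫ t = 𝟙 _ := by
      refine ext_W _ _ ?_ ?_
      · have : sp μ ≫ s = 𝟙 _ := by
          rw [es, sp_comp]
          ext
          change Spec.map _ = 𝟙 _
          rw [show μ.comp ι = AlgHom.id A B' from AlgHom.ext fun b => by simp [μ, ι]]
          exact Spec.map_id _
        rw [Functor.map_comp, Category.assoc, htπ, ← Category.assoc, ← Functor.map_comp, this]
      · rw [Category.assoc, htw, Category.id_comp, ev, sp_comp, ew]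
        congr 1
        exact AlgHom.ext fun b => by simp [μ]
    rw [et, sp_comp] at hd
    have := Spec.map_injective ((congrArg (fun k => k.left) hd).trans (Spec.map_id _).symm)
    exact AlgHom.ext fun b => RingHom.congr_fun (congrArg CommRingCat.Hom.hom this) b
  have hcocycle : (Algebra.TensorProduct.map (AlgHom.id A A') θ).comp θ =
      (Algebra.TensorProduct.map (AlgHom.id A A') ι).comp θ := by
    have hd : sp (Algebra.TensorProduct.map (AlgHom.id A A') θ) ≫ t =
        sp (Algebra.TensorProduct.map (AlgHom.id A A') ι) ≫ t := by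
      refine ext_W _ _ ?_ ?_
      · simp only [Functor.map_comp, Category.assoc, htπ]
        rw [← Functor.map_comp_assoc, ← Functor.map_comp_assoc, es, sp_comp, sp_comp,
          show (Algebra.TensorProduct.map (AlgHom.id A A') θ).comp ι =
            (Algebra.TensorProduct.includeRight (A := A')).comp θ from AlgHom.ext fun b => by simp [ι],
          show (Algebra.TensorProduct.map (AlgHom.id A A') ι).comp ι =
            (Algebra.TensorProduct.includeRight (A := A')).comp ι from AlgHom.ext fun b => by simp [ι],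
          ← sp_comp, ← sp_comp, ← es, ← et, Functor.map_comp_assoc, Functor.map_comp_assoc, htπ]
      · rw [Category.assoc, Category.assoc, htw, ev, sp_comp, sp_comp]
        congr 1
        exact AlgHom.ext fun b => by simp
    rw [et, sp_comp, sp_comp] at hd
    have := Spec.map_injective (congrArg (fun k => k.left) hd)
    exact AlgHom.ext fun b => RingHom.congr_fun (congrArg CommRingCat.Hom.hom this) b
  -- the descended algebra
  let B := AlgHom.equalizer θ ι
  have hbij := bijective_lift_equalizer θ hθ (AlgHom.congr_fun hunit) (AlgHom.congr_fun hcocycle)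
  let e := AlgEquiv.ofBijective _ hbij
  let q : mk' (C := B') ⟶ mk' (C := B) := sp B.val
  let u₀ : mk' (C := B) ⟶ Over.mk str := Over.homMk (Spec.map (CommRingCat.ofHom (algebraMap A B))) rfl
  have hsq₀ : IsPullback w q p u₀ := by
    refine IsPullback.of_map (Over.forget S) (Over.OverMorphism.ext ?_) ?_
    · rw [Over.comp_left, Over.comp_left, hw, hp, ← Spec.map_comp, ← CommRingCat.ofHom_comp,
        ← IsScalarTower.algebraMap_eq A A' B']
      exact (specMap_algHom_comp B.val).symm
    · change IsPullback w.left q.left p.left u₀.left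
      rw [hw, hp]
      refine IsPullback.of_iso (isPullback_tensor A A' B) (Scheme.Spec.mapIso e.toRingEquiv.toCommRingCatIso.symm.op)
        (Iso.refl _) (Iso.refl _) (Iso.refl _) ?_ ?_ (by simp) (by simp [u₀])
      · simp only [Iso.refl_hom, Category.comp_id, Functor.mapIso_hom, Iso.op_hom]
        change Spec.map _ = Spec.map _ ≫ Spec.map _
        rw [← Spec.map_comp]
        congr 1
        ext a
        change a ⊗ₜ 1 = e.symm (algebraMap A' B' a)
        rw [AlgEquiv.eq_symm_apply]
        simp [e]
      · simp only [Iso.refl_hom, Category.comp_id, Functor.mapIso_hom, Iso.op_hom]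
        change Spec.map _ = Spec.map _ ≫ Spec.map _
        rw [← Spec.map_comp]
        congr 1
        ext b
        change 1 ⊗ₜ b = e.symm (b : B')
        rw [AlgEquiv.eq_symm_apply]
        simp [e]
  have hflat : Flat p.left := by
    rw [hp, HasRingHomProperty.Spec_iff (P := @Flat)]
    exact RingHom.flat_algebraMap_iff.2 ‹_›
  have hyp : ∀ (P : MorphismProperty Scheme.{u}) [P.IsStableUnderBaseChange], P p.left →
      AlgSp.RepWith P π ∧ AlgSp.RepWith P ((AlgSp.yon S).map q) := fun P _ h =>
    ⟨MorphismProperty.of_isPullback sq.flip ((AlgSp.repWith_yon_map_iff P p).2 h),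
      (AlgSp.repWith_yon_map_iff P q).2 (P.of_isPullback (hsq₀.map (Over.forget S)) h)⟩
  have h1 := hyp @Flat hflat
  have h2' := hyp @LocallyOfFinitePresentation inferInstance
  have h3 := hyp @Surjective inferInstance
  have := isLocallySurjective_of_repWith π h1.1 h2'.1 h3.1
  have := isLocallySurjective_of_repWith ((AlgSp.yon S).map q) h1.2 h2'.2 h3.2
  have hq_eq : t ≫ q = s ≫ q := by
    rw [et, es, sp_comp, sp_comp]
    congr 1
    exact AlgHom.ext fun b => b.2
  have k1 : IsPullback ((AlgSp.yon S).map t) ((AlgSp.yon S).map s) π π := by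
    refine IsPullback.of_right ?_ htπ sq.flip
    rw [← Functor.map_comp, htw, sq.w, ← Functor.map_comp]
    exact hvs.map (AlgSp.yon S)
  have k2 : IsPullback t s q q := by
    refine IsPullback.of_right ?_ hq_eq hsq₀
    rw [htw, ← hsq₀.w]
    exact hvs
  obtain ⟨c1⟩ := isColimit_of_isPullback π k1
  obtain ⟨c2⟩ := isColimit_of_isPullback ((AlgSp.yon S).map q) (k2.map (AlgSp.yon S))
  exact ⟨mk' (C := B), inferInstanceAs (IsAffine (Spec _)), ⟨c2.coconePointUniqueUpToIso c1⟩⟩

end Groth.Agent.AlgSp

namespace Groth.Agent.AlgSp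

variable {S : Scheme.{u}}

/-- fppf descent of affine schemes: a sheaf over an affine scheme which becomes an affine scheme after
a surjective flat lfp affine base change is an affine scheme. -/
theorem exists_iso_of_fppf_affine {U V W : Over S} [IsAffine U.left] [IsAffine V.left] [IsAffine W.left]
    (p : V ⟶ U) [Flat p.left] [Surjective p.left] [LocallyOfFinitePresentation p.left]
    {F : AlgSp.Sp S} (a : F ⟶ (AlgSp.yon S).obj U) (π : (AlgSp.yon S).obj W ⟶ F) (w : W ⟶ V)
    (sq : IsPullback π ((AlgSp.yon S).map w) a ((AlgSp.yon S).map p)) :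
    ∃ W₀ : Over S, IsAffine W₀.left ∧ Nonempty ((AlgSp.yon S).obj W₀ ≅ F) := by
  let A := Γ(U.left, ⊤)
  let A' := Γ(V.left, ⊤)
  let B' := Γ(W.left, ⊤)
  let _ : Algebra A A' := p.left.appTop.hom.toAlgebra
  let _ : Algebra A' B' := w.left.appTop.hom.toAlgebra
  let _ : Algebra A B' := (w.left.appTop.hom.comp p.left.appTop.hom).toAlgebra
  have : IsScalarTower A A' B' := IsScalarTower.of_algebraMap_eq fun _ => rfl
  let str := U.left.isoSpec.inv ≫ U.hom
  have np : Spec.map (CommRingCat.ofHom (algebraMap A A')) ≫ U.left.isoSpec.inv = V.left.isoSpec.inv ≫ p.left :=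
    Scheme.isoSpec_inv_naturality p.left
  have nwp : Spec.map (CommRingCat.ofHom (algebraMap A B')) ≫ U.left.isoSpec.inv =
      W.left.isoSpec.inv ≫ w.left ≫ p.left :=
    (show Spec.map (w ≫ p).left.appTop ≫ _ = _ from Scheme.isoSpec_inv_naturality (w ≫ p).left).trans (by simp)
  let U' : Over S := Over.mk str
  let V' : Over S := Over.mk (Spec.map (CommRingCat.ofHom (algebraMap A A')) ≫ str)
  let W' : Over S := Over.mk (Spec.map (CommRingCat.ofHom (algebraMap A B')) ≫ str)
  let eU : U' ≅ U := Over.isoMk U.left.isoSpec.symm rfl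
  let eV : V' ≅ V := Over.isoMk V.left.isoSpec.symm (by
    change V.left.isoSpec.inv ≫ V.hom = _ ≫ U.left.isoSpec.inv ≫ U.hom
    rw [reassoc_of% np, Over.w p])
  let eW : W' ≅ W := Over.isoMk W.left.isoSpec.symm (by
    change W.left.isoSpec.inv ≫ W.hom = _ ≫ U.left.isoSpec.inv ≫ U.hom
    rw [reassoc_of% nwp, Over.w p, Over.w w])
  let p' := eV.hom ≫ p ≫ eU.inv
  let w' := eW.hom ≫ w ≫ eV.inv
  have hp : p'.left = Spec.map (CommRingCat.ofHom (algebraMap A A')) := by
    change V.left.isoSpec.inv ≫ p.left ≫ U.left.isoSpec.hom = _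
    rw [← reassoc_of% np]; simp
  have hw : w'.left = Spec.map (CommRingCat.ofHom (algebraMap A' B')) := by
    change W.left.isoSpec.inv ≫ w.left ≫ V.left.isoSpec.hom = _
    rw [← Scheme.isoSpec_inv_naturality_assoc w.left]
    exact (congrArg (_ ≫ ·) V.left.isoSpec.inv_hom_id).trans (Category.comp_id _)
  have hflat : Flat p'.left :=
    ((MorphismProperty.cancel_left_of_respectsIso @Flat _ _).trans
      (MorphismProperty.cancel_right_of_respectsIso @Flat _ _)).2 ‹_›
  have : Surjective p'.left :=
    ((MorphismProperty.cancel_left_of_respectsIso @Surjective _ _).trans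
      (MorphismProperty.cancel_right_of_respectsIso @Surjective _ _)).2 ‹_›
  have : LocallyOfFinitePresentation p'.left :=
    ((MorphismProperty.cancel_left_of_respectsIso @LocallyOfFinitePresentation _ _).trans
      (MorphismProperty.cancel_right_of_respectsIso @LocallyOfFinitePresentation _ _)).2 ‹_›
  have : Module.Flat A A' := by
    rw [hp, HasRingHomProperty.Spec_iff (P := @Flat)] at hflat
    exact RingHom.flat_algebraMap_iff.1 hflat
  refine exists_iso_of_fppf_spec str (a ≫ (AlgSp.yon S).map eU.inv) (V := V') (W := W') rfl rfl p' w'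
    (by simp [hp]) (by simp [hw]) ((AlgSp.yon S).map eW.hom ≫ π) ?_
  exact IsPullback.of_iso sq ((AlgSp.yon S).mapIso eW.symm) (Iso.refl F) ((AlgSp.yon S).mapIso eV.symm)
    ((AlgSp.yon S).mapIso eU.symm) (by simp) (by simp [w']) (by simp) (by simp [p'])

end Groth.Agent.AlgSp
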