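import Mathlib.RingTheory.Flat.Equalizer
import Mathlib.RingTheory.TensorProduct.Basic

/-!
# Descent of algebras along flat ring maps
-/

universe u

open TensorProduct

namespace Groth.Agent.AlgSp

variable {A A' B' : Type u} [CommRing A] [CommRing A'] [CommRing B'] [Algebra A A'] [Algebra A B']
  [Algebra A' B'] [IsScalarTower A A' B']

/-- A descent datum `θ` on the algebra `B'` along a flat `A → A'` is effective: `A' ⊗ eq(θ, ι) ≅ B'`. -/
theorem bijective_lift_equalizer [Module.Flat A A'] (θ : B' →ₐ[A] A' ⊗[A] B')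
    (hθ : ∀ a : A', θ (algebraMap A' B' a) = a ⊗ₜ 1)
    (hunit : ∀ b, Algebra.TensorProduct.lift (IsScalarTower.toAlgHom A A' B') (AlgHom.id A B')
      (fun _ _ => Commute.all _ _) (θ b) = b)
    (hcocycle : ∀ b, Algebra.TensorProduct.map (AlgHom.id A A') θ (θ b) =
      Algebra.TensorProduct.map (AlgHom.id A A') Algebra.TensorProduct.includeRight (θ b)) :
    Function.Bijective (Algebra.TensorProduct.lift (IsScalarTower.toAlgHom A A' B')
      (AlgHom.equalizer θ Algebra.TensorProduct.includeRight).val (fun _ _ => Commute.all _ _) :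
        A' ⊗[A] AlgHom.equalizer θ Algebra.TensorProduct.includeRight →ₐ[A] B') := by
  let ι : B' →ₐ[A] A' ⊗[A] B' := Algebra.TensorProduct.includeRight
  let μ : A' ⊗[A] B' →ₐ[A] B' :=
    Algebra.TensorProduct.lift (IsScalarTower.toAlgHom A A' B') (AlgHom.id A B') (fun _ _ => Commute.all _ _)
  let m : A' ⊗[A] (A' ⊗[A] B') →ₐ[A] A' ⊗[A] B' :=
    Algebra.TensorProduct.lift Algebra.TensorProduct.includeLeft (AlgHom.id A _) (fun _ _ => Commute.all _ _)
  let j : A' ⊗[A] AlgHom.equalizer θ ι →ₐ[A] A' ⊗[A] B' :=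
    Algebra.TensorProduct.map (AlgHom.id A A') (AlgHom.equalizer θ ι).val
  have hj : Function.Injective j := Module.Flat.lTensor_preserves_injective_linearMap (M := A')
    (AlgHom.equalizer θ ι).val.toLinearMap Subtype.val_injective
  have h1 : m.comp (Algebra.TensorProduct.map (AlgHom.id A A') θ) = θ.comp μ := by
    apply Algebra.TensorProduct.ext'
    intro a b
    simp [m, μ, hθ]
  have h2 : m.comp (Algebra.TensorProduct.map (AlgHom.id A A') ι) = AlgHom.id A _ := by
    apply Algebra.TensorProduct.ext'
    intro a b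
    simp [m, ι]
  have hμj : μ.comp j = Algebra.TensorProduct.lift (IsScalarTower.toAlgHom A A' B')
      (AlgHom.equalizer θ ι).val (fun _ _ => Commute.all _ _) := by
    apply Algebra.TensorProduct.ext'
    intro a b
    simp [μ, j]
  change Function.Bijective (Algebra.TensorProduct.lift (IsScalarTower.toAlgHom A A' B')
      (AlgHom.equalizer θ ι).val (fun _ _ => Commute.all _ _))
  rw [← hμj]
  have hfix : ∀ x, θ (μ (j x)) = j x := by
    intro x
    have h3 : (Algebra.TensorProduct.map (AlgHom.id A A') θ).comp j =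
        (Algebra.TensorProduct.map (AlgHom.id A A') ι).comp j := by
      apply Algebra.TensorProduct.ext'
      intro a b
      simp only [j, AlgHom.comp_apply, Algebra.TensorProduct.map_tmul, AlgHom.coe_id, id_eq,
        Subalgebra.coe_val]
      rw [show θ (b : B') = ι b from b.2]
    have h4 := congrArg m (AlgHom.congr_fun h3 x)
    rw [AlgHom.comp_apply, AlgHom.comp_apply] at h4
    rw [← AlgHom.comp_apply m, h1, ← AlgHom.comp_apply m, h2] at h4
    exact h4
  refine ⟨fun x y hxy => hj ?_, fun b => ?_⟩
  · rw [← hfix x, ← hfix y]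
    exact congrArg θ hxy
  · obtain ⟨y, hy⟩ := (AlgHom.tensorEqualizerEquiv A A' θ ι).surjective ⟨θ b, hcocycle b⟩
    have hy' : j y = θ b := by
      have := congrArg Subtype.val hy
      rw [AlgHom.tensorEqualizerEquiv_apply, AlgHom.coe_tensorEqualizer] at this
      exact this
    exact ⟨y, show μ (j y) = b by rw [hy']; exact hunit b⟩

end Groth.Agent.AlgSp
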