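import Groth.Agent.AlgSp.DescentRep
import Groth.Agent.AlgSp.Quot
import Groth.Agent.AlgSp.DescentLqf
import Groth.Prelude.Def_Desc

/-!
# Effective descent data give representability of sheaves
-/

universe u

open CategoryTheory CategoryTheory.Limits AlgebraicGeometry Opposite

set_option backward.isDefEq.respectTransparency.types false

namespace Groth.Agent.AlgSp

variable {S : Scheme.{u}} {U V W : Over S} {p : V ⟶ U} {F : AlgSp.Sp S} {a₀ : F ⟶ (AlgSp.yon S).obj U}
  {π : (AlgSp.yon S).obj W ⟶ F} {w : W ⟶ V}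

/-- Transport of a point of `W` along two points of `V` with the same image in `U`. -/
theorem exists_transport (sq : IsPullback π ((AlgSp.yon S).map w) a₀ ((AlgSp.yon S).map p)) {T : Scheme.{u}}
    (x₀ x₁ : T ⟶ V.left) (h : x₀ ≫ p.left = x₁ ≫ p.left) (v : Desc.Lifts (Over.mk w.left) x₀) :
    ∃ v' : Desc.Lifts (Over.mk w.left) x₁, ∀ (A : Over S) (hA : A.left = T) (a b : A ⟶ W),
      a.left = eqToHom hA ≫ v.1 → b.left = eqToHom hA ≫ v'.1 →
      (AlgSp.yon S).map a ≫ π = (AlgSp.yon S).map b ≫ π := by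
  have e : x₁ ≫ V.hom = x₀ ≫ V.hom := by rw [← Over.w p, ← reassoc_of% h]
  have hv : v.1 ≫ w.left = x₀ := v.2
  let A : Over S := Over.mk (x₀ ≫ V.hom)
  let a : A ⟶ W := Over.homMk v.1 (by
    change v.1 ≫ W.hom = x₀ ≫ V.hom
    rw [← Over.w w, reassoc_of% hv])
  let b₁ : A ⟶ V := Over.homMk x₁ e
  obtain ⟨l, hl1, hl2⟩ := sq.exists_lift ((AlgSp.yon S).map a ≫ π) ((AlgSp.yon S).map b₁) (by
    rw [Category.assoc, sq.w, ← Functor.map_comp, ← Functor.map_comp, ← Functor.map_comp]
    congr 1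
    ext
    change v.1 ≫ w.left ≫ p.left = x₁ ≫ p.left
    rw [reassoc_of% hv, h])
  obtain ⟨l, rfl⟩ := (AlgSp.yon S).map_surjective l
  have hl2 : l ≫ w = b₁ := (AlgSp.yon S).map_injective (by rw [Functor.map_comp, hl2])
  refine ⟨⟨l.left, congrArg (fun k : A ⟶ V => k.left) hl2⟩, fun A' hA' a' b' ha hb => ?_⟩
  subst hA'
  rw [eqToHom_refl, Category.id_comp] at ha hb
  let c : A' ⟶ A := Over.homMk (𝟙 _) (by
    change 𝟙 _ ≫ x₀ ≫ V.hom = A'.hom
    rw [Category.id_comp, ← hv, Category.assoc, Over.w w, ← ha, Over.w a'])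
  have ea : a' = c ≫ a := Over.OverMorphism.ext (by rw [ha]; exact (Category.id_comp _).symm)
  have eb : b' = c ≫ l := Over.OverMorphism.ext (by rw [hb]; exact (Category.id_comp _).symm)
  rw [ea, eb, Functor.map_comp_assoc, Functor.map_comp_assoc, hl1]

/-- A transported point is determined by having the same image in the sheaf. -/
theorem transport_unique (sq : IsPullback π ((AlgSp.yon S).map w) a₀ ((AlgSp.yon S).map p)) {A : Over S}
    (b b' : A ⟶ W) (h : (AlgSp.yon S).map b ≫ π = (AlgSp.yon S).map b' ≫ π) (hw : b.left ≫ w.left = b'.left ≫ w.left) :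
    b = b' := by
  apply (AlgSp.yon S).map_injective
  refine sq.hom_ext h ?_
  rw [← Functor.map_comp, ← Functor.map_comp]
  congr 1
  exact Over.OverMorphism.ext hw

/-- The transported point. -/
noncomputable def transport (sq : IsPullback π ((AlgSp.yon S).map w) a₀ ((AlgSp.yon S).map p)) {T : Scheme.{u}}
    (x₀ x₁ : T ⟶ V.left) (h : x₀ ≫ p.left = x₁ ≫ p.left) (v : Desc.Lifts (Over.mk w.left) x₀) :
    Desc.Lifts (Over.mk w.left) x₁ :=
  (exists_transport sq x₀ x₁ h v).choose

theorem transport_eq (sq : IsPullback π ((AlgSp.yon S).map w) a₀ ((AlgSp.yon S).map p)) {T : Scheme.{u}}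
    (x₀ x₁ : T ⟶ V.left) (h : x₀ ≫ p.left = x₁ ≫ p.left) (v : Desc.Lifts (Over.mk w.left) x₀)
    (v' : Desc.Lifts (Over.mk w.left) x₁) {A : Over S} (hA : A.left = T) (a b : A ⟶ W)
    (ha : a.left = eqToHom hA ≫ v.1) (hb : b.left = eqToHom hA ≫ v'.1)
    (hab : (AlgSp.yon S).map a ≫ π = (AlgSp.yon S).map b ≫ π) : transport sq x₀ x₁ h v = v' := by
  subst hA
  rw [eqToHom_refl, Category.id_comp] at ha hb
  have hv : v.1 ≫ w.left = x₀ := v.2
  have hx₁ : x₁ ≫ V.hom = A.hom := by
    rw [← Over.w p, ← reassoc_of% h, Over.w p, ← hv, Category.assoc, Over.w w, ← ha, Over.w a]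
  let b' : A ⟶ W := Over.homMk (transport sq x₀ x₁ h v).1 (by
    have e : (transport sq x₀ x₁ h v).1 ≫ w.left = x₁ := (transport sq x₀ x₁ h v).2
    rw [← Over.w w, reassoc_of% e, hx₁])
  have h1 := (exists_transport sq x₀ x₁ h v).choose_spec A rfl a b' (by simp [ha])
    (by rw [eqToHom_refl, Category.id_comp]; rfl)
  have h2 := transport_unique sq b' b (h1.symm.trans hab)
    ((transport sq x₀ x₁ h v).2.trans (by rw [hb]; exact v'.2.symm))
  exact Subtype.ext ((congrArg (fun k : A ⟶ W => k.left) h2).trans hb)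

/-- Points seen as morphisms over `S`. -/
theorem exists_pt (sq : IsPullback π ((AlgSp.yon S).map w) a₀ ((AlgSp.yon S).map p)) {T : Scheme.{u}}
    (x₀ x₁ : T ⟶ V.left) (h : x₀ ≫ p.left = x₁ ≫ p.left) (v : Desc.Lifts (Over.mk w.left) x₀) :
    ∃ a b : Over.mk (x₀ ≫ V.hom) ⟶ W, a.left = v.1 ∧ b.left = (transport sq x₀ x₁ h v).1 ∧
      (AlgSp.yon S).map a ≫ π = (AlgSp.yon S).map b ≫ π := by
  have hv : v.1 ≫ w.left = x₀ := v.2
  have e : (transport sq x₀ x₁ h v).1 ≫ w.left = x₁ := (transport sq x₀ x₁ h v).2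
  let a : Over.mk (x₀ ≫ V.hom) ⟶ W := Over.homMk v.1 (by
    change v.1 ≫ W.hom = x₀ ≫ V.hom
    rw [← Over.w w, reassoc_of% hv])
  let b : Over.mk (x₀ ≫ V.hom) ⟶ W := Over.homMk (transport sq x₀ x₁ h v).1 (by
    change _ = x₀ ≫ V.hom
    rw [← Over.w w, reassoc_of% e, ← Over.w p, ← reassoc_of% h])
  exact ⟨a, b, rfl, rfl, (exists_transport sq x₀ x₁ h v).choose_spec _ rfl a b (by simp [a])
    (by simp [b]; rfl)⟩

/-- The descent datum of a sheaf which becomes a scheme after base change. -/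
noncomputable def sheafDD (sq : IsPullback π ((AlgSp.yon S).map w) a₀ ((AlgSp.yon S).map p)) :
    Desc.SchDD p.left where
  obj := Over.mk w.left
  φ T x₀ x₁ h :=
    { toFun := transport sq x₀ x₁ h
      invFun := transport sq x₁ x₀ h.symm
      left_inv := fun v => by
        obtain ⟨a, b, ha, hb, hab⟩ := exists_pt sq x₀ x₁ h v
        exact transport_eq sq _ _ _ _ _ rfl b a (by simp [hb]) (by simp [ha]) hab.symm
      right_inv := fun v => by
        obtain ⟨a, b, ha, hb, hab⟩ := exists_pt sq x₁ x₀ h.symm v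
        exact transport_eq sq _ _ _ _ _ rfl b a (by simp [hb]) (by simp [ha]) hab.symm }
  φ_natural T T' k x₀ x₁ h h' v v' hv' := by
    obtain ⟨a, b, ha, hb, hab⟩ := exists_pt sq x₀ x₁ h v
    let q : Over.mk (k ≫ x₀ ≫ V.hom) ⟶ Over.mk (x₀ ≫ V.hom) := Over.homMk k rfl
    let v'' : Desc.Lifts (Over.mk w.left) (k ≫ x₁) :=
      ⟨k ≫ (transport sq x₀ x₁ h v).1, by rw [Category.assoc, (transport sq x₀ x₁ h v).2]⟩
    change (transport sq _ _ h' v').1 = v''.1
    rw [transport_eq sq _ _ h' v' v'' rfl (q ≫ a) (q ≫ b) (by simp [q, ha, hv']) (by simp [q, hb, v''])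
      (by rw [Functor.map_comp_assoc, Functor.map_comp_assoc, hab])]
  φ_self T x v := by
    obtain ⟨a, b, ha, hb, hab⟩ := exists_pt sq x x rfl v
    change transport sq x x rfl v = v
    exact transport_eq sq _ _ _ _ _ rfl a a (by simp [ha]) (by simp [ha]) rfl
  φ_comp T x₀ x₁ x₂ h₀₁ h₁₂ v := by
    obtain ⟨a, b, ha, hb, hab⟩ := exists_pt sq x₀ x₁ h₀₁ v
    obtain ⟨a', b', ha', hb', hab'⟩ := exists_pt sq x₀ x₂ (h₀₁.trans h₁₂) v
    obtain rfl : a = a' := Over.OverMorphism.ext (ha.trans ha'.symm)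
    change transport sq x₁ x₂ h₁₂ (transport sq x₀ x₁ h₀₁ v) = transport sq x₀ x₂ (h₀₁.trans h₁₂) v
    exact transport_eq sq _ _ _ _ _ rfl b b' (by simp [hb]) (by simp [hb']) (hab.symm.trans hab')

/-- If the descent datum of a sheaf is effective then the sheaf is a scheme. -/
theorem exists_iso_of_effective_datum [Flat p.left] [Surjective p.left] [LocallyOfFinitePresentation p.left]
    (sq : IsPullback π ((AlgSp.yon S).map w) a₀ ((AlgSp.yon S).map p))
    (heff : (Desc.toDD p.left).essImage (sheafDD sq)) :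
    ∃ W₀ : Over S, Nonempty ((AlgSp.yon S).obj W₀ ≅ F) := by
  obtain ⟨X, ⟨e⟩⟩ := heff
  let W₀ : Over S := Over.mk (X.hom ≫ U.hom)
  let P : Over S := Over.mk (pullback.fst p.left X.hom ≫ V.hom)
  let w₀ : P ⟶ W₀ := Over.homMk (pullback.snd p.left X.hom) (by
    change _ ≫ X.hom ≫ U.hom = pullback.fst p.left X.hom ≫ V.hom
    rw [← pullback.condition_assoc, Over.w p])
  let eh : pullback p.left X.hom ⟶ W.left := e.hom.hom.left
  let ei : W.left ⟶ pullback p.left X.hom := e.inv.hom.left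
  have hew : eh ≫ w.left = pullback.fst p.left X.hom := Over.w e.hom.hom
  have hiw : ei ≫ pullback.fst p.left X.hom = w.left := Over.w e.inv.hom
  let ε : P ⟶ W := Over.homMk eh (by
    change eh ≫ W.hom = pullback.fst p.left X.hom ≫ V.hom
    rw [← Over.w w, reassoc_of% hew])
  let ε' : W ⟶ P := Over.homMk ei (by
    change ei ≫ pullback.fst p.left X.hom ≫ V.hom = W.hom
    rw [reassoc_of% hiw, Over.w w])
  have hεε' : ε ≫ ε' = 𝟙 P := Over.OverMorphism.ext
    (congrArg (fun k : (Desc.toDD p.left).obj X ⟶ (Desc.toDD p.left).obj X => k.hom.left) e.hom_inv_id)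
  have hε'ε : ε' ≫ ε = 𝟙 W := Over.OverMorphism.ext
    (congrArg (fun k : sheafDD sq ⟶ sheafDD sq => k.hom.left) e.inv_hom_id)
  -- compatibility
  have key : ∀ {T : Over S} (a b : T ⟶ P), (a ≫ w₀ = b ≫ w₀) →
      (AlgSp.yon S).map (a ≫ ε) ≫ π = (AlgSp.yon S).map (b ≫ ε) ≫ π := by
    intro T a b hab
    have hab' : a.left ≫ pullback.snd p.left X.hom = b.left ≫ pullback.snd p.left X.hom :=
      congrArg (fun k : T ⟶ W₀ => k.left) hab
    have hx : (a.left ≫ pullback.fst p.left X.hom) ≫ p.left = (b.left ≫ pullback.fst p.left X.hom) ≫ p.left := by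
      rw [Category.assoc, pullback.condition, ← Category.assoc, hab', Category.assoc, ← pullback.condition,
        Category.assoc]
    let v : Desc.Lifts ((Desc.toDD p.left).obj X).obj (a.left ≫ pullback.fst p.left X.hom) := ⟨a.left, rfl⟩
    let u : Desc.Lifts (sheafDD sq).obj (a.left ≫ pullback.fst p.left X.hom) :=
      ⟨a.left ≫ eh, by
        change (a.left ≫ eh) ≫ w.left = _
        rw [Category.assoc, hew]⟩
    have hc := e.hom.comm _ (b.left ≫ pullback.fst p.left X.hom) hx v u rfl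
    change (transport sq _ _ hx u).1 = _ at hc
    have hb : (((Desc.toDD p.left).obj X).φ _ _ hx v).1 = b.left := by
      apply pullback.hom_ext
      · exact pullback.lift_fst _ _ _
      · exact (pullback.lift_snd _ _ _).trans hab'
    rw [hb] at hc
    obtain ⟨a', b', ha', hb', h'⟩ := exists_pt sq _ _ hx u
    let c : T ⟶ Over.mk ((a.left ≫ pullback.fst p.left X.hom) ≫ V.hom) := Over.homMk (𝟙 _) (by
      change 𝟙 _ ≫ (a.left ≫ pullback.fst p.left X.hom) ≫ V.hom = T.hom
      rw [Category.id_comp, Category.assoc]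
      exact Over.w a)
    have e1 : a ≫ ε = c ≫ a' := Over.OverMorphism.ext (by simp [c, ha', u, ε]; rfl)
    have e2 : b ≫ ε = c ≫ b' := Over.OverMorphism.ext (by simp [c, hb', hc, ε]; rfl)
    rw [e1, e2, Functor.map_comp_assoc, Functor.map_comp_assoc, h']
  -- both maps are quotient maps
  have := isLocallySurjective_baseChange_fppf p sq
  have hP : ∀ (Q : MorphismProperty Scheme.{u}) [Q.IsStableUnderBaseChange], Q p.left →
      AlgSp.RepWith Q ((AlgSp.yon S).map w₀) := fun Q _ h =>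
    (AlgSp.repWith_yon_map_iff Q w₀).2 (Q.of_isPullback (IsPullback.of_hasPullback p.left X.hom) h)
  have := isLocallySurjective_of_repWith _ (hP @Flat inferInstance) (hP @LocallyOfFinitePresentation inferInstance)
    (hP @Surjective inferInstance)
  obtain ⟨c₀⟩ := isColimit_of_isPullback ((AlgSp.yon S).map w₀) (IsPullback.of_hasPullback _ _)
  obtain ⟨c₁⟩ := isColimit_of_isPullback π (IsPullback.of_hasPullback _ _)
  obtain ⟨f, hf⟩ : ∃ f : (AlgSp.yon S).obj W₀ ⟶ F, (AlgSp.yon S).map w₀ ≫ f = (AlgSp.yon S).map ε ≫ π := by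
    refine ⟨Cofork.IsColimit.desc c₀ ((AlgSp.yon S).map ε ≫ π) (hom_ext_yon fun T x => ?_),
      Cofork.IsColimit.π_desc' c₀ _ _⟩
    obtain ⟨a, ha⟩ := (AlgSp.yon S).map_surjective (x ≫ pullback.fst ((AlgSp.yon S).map w₀) ((AlgSp.yon S).map w₀))
    obtain ⟨b, hb⟩ := (AlgSp.yon S).map_surjective (x ≫ pullback.snd ((AlgSp.yon S).map w₀) ((AlgSp.yon S).map w₀))
    rw [← Category.assoc, ← ha, ← Functor.map_comp_assoc, key a b ((AlgSp.yon S).map_injective (by
      rw [Functor.map_comp, Functor.map_comp, ha, hb, Category.assoc, Category.assoc, pullback.condition])),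
      Functor.map_comp_assoc, hb, Category.assoc]
  obtain ⟨f', hf'⟩ : ∃ f' : F ⟶ (AlgSp.yon S).obj W₀, π ≫ f' = (AlgSp.yon S).map (ε' ≫ w₀) := by
    refine ⟨Cofork.IsColimit.desc c₁ ((AlgSp.yon S).map (ε' ≫ w₀)) (hom_ext_yon fun T x => ?_),
      Cofork.IsColimit.π_desc' c₁ _ _⟩
    obtain ⟨a, ha⟩ := (AlgSp.yon S).map_surjective (x ≫ pullback.fst π π)
    obtain ⟨b, hb⟩ := (AlgSp.yon S).map_surjective (x ≫ pullback.snd π π)
    rw [← Category.assoc, ← Category.assoc, ← ha, ← hb, ← Functor.map_comp, ← Functor.map_comp]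
    congr 1
    -- the image in `W₀` is determined by the point of `F`
    have hw : a.left ≫ w.left ≫ p.left = b.left ≫ w.left ≫ p.left := by
      have e0 : (AlgSp.yon S).map a ≫ π = (AlgSp.yon S).map b ≫ π := by
        rw [ha, hb, Category.assoc, Category.assoc, pullback.condition]
      have := congrArg (· ≫ a₀) e0
      simp only [Category.assoc, sq.w, ← Functor.map_comp] at this
      exact congrArg (fun k : T ⟶ U => k.left) ((AlgSp.yon S).map_injective this)
    let b₁ : T ⟶ P := Over.homMk (pullback.lift (b.left ≫ w.left) (a.left ≫ ei ≫ pullback.snd p.left X.hom)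
      (by rw [Category.assoc, Category.assoc, Category.assoc, ← pullback.condition, ← hw, reassoc_of% hiw])) (by
        change pullback.lift _ _ _ ≫ pullback.fst p.left X.hom ≫ V.hom = T.hom
        rw [pullback.lift_fst_assoc, Category.assoc, Over.w w, Over.w b])
    have h1 : b₁ ≫ w₀ = (a ≫ ε') ≫ w₀ := Over.OverMorphism.ext (by
      simp [b₁, w₀, ε', P, W₀]
      exact pullback.lift_snd _ _ _)
    have h2 := key _ _ h1
    rw [Category.assoc, hε'ε, Category.comp_id] at h2
    have h3 : b₁ ≫ ε = b := transport_unique sq _ _ (by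
        rw [h2, ha, hb, Category.assoc, Category.assoc, pullback.condition]) (by
      change (pullback.lift _ _ _ ≫ eh) ≫ w.left = b.left ≫ w.left
      rw [Category.assoc, hew, pullback.lift_fst])
    rw [← Category.assoc, ← h1, ← h3, Category.assoc, ← Category.assoc ε ε', hεε', Category.id_comp]
  have : Epi π := Sheaf.epi_of_isLocallySurjective π
  have : Epi ((AlgSp.yon S).map w₀) := Sheaf.epi_of_isLocallySurjective _
  exact ⟨W₀, ⟨⟨f, f', by
    rw [← cancel_epi ((AlgSp.yon S).map w₀), reassoc_of% hf, hf', ← Functor.map_comp, reassoc_of% hεε',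
      Category.comp_id], by
    rw [← cancel_epi π, reassoc_of% hf', Functor.map_comp_assoc, hf, ← Functor.map_comp_assoc, hε'ε,
      CategoryTheory.Functor.map_id, Category.id_comp, Category.comp_id]⟩⟩⟩

end Groth.Agent.AlgSp
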