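import Groth.Agent.AlgSp.DescentRep
import Mathlib.AlgebraicGeometry.QuasiAffine
import Mathlib.AlgebraicGeometry.Morphisms.Flat

/-!
# Global sections and flat base change, as used for descending quasi-affine schemes
-/

universe u

open CategoryTheory CategoryTheory.Limits AlgebraicGeometry Opposite
open scoped TensorProduct

set_option backward.isDefEq.respectTransparency.types false

namespace Groth.Agent.AlgSp

/-- If `c : X ⟶ Y` induces an isomorphism on global sections with `Y` affine, maps to affine schemes from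
`Y` and from `X` agree. -/
theorem hull_hom_ext {X Y Z : Scheme.{u}} [IsAffine Y] [IsAffine Z] (c : X ⟶ Y) [IsIso c.appTop]
    {f g : Y ⟶ Z} (h : c ≫ f = c ≫ g) : f = g := by
  refine ext_of_isAffine ?_
  have := congrArg Scheme.Hom.appTop h
  rwa [Scheme.Hom.comp_appTop, Scheme.Hom.comp_appTop, cancel_mono] at this

theorem hull_lift {X Y Z : Scheme.{u}} [IsAffine Y] [IsAffine Z] (c : X ⟶ Y) [IsIso c.appTop]
    (f : X ⟶ Z) : ∃ g : Y ⟶ Z, c ≫ g = f := by
  refine ⟨Y.isoSpec.hom ≫ Spec.map (f.appTop ≫ inv c.appTop) ≫ Z.isoSpec.inv, ?_⟩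
  rw [Scheme.isoSpec_hom, Scheme.toSpecΓ_naturality_assoc, ← Spec.map_comp_assoc, Category.assoc,
    IsIso.inv_hom_id, Category.comp_id, ← Scheme.toSpecΓ_naturality_assoc, ← Scheme.isoSpec_hom,
    Iso.hom_inv_id, Category.comp_id]

/-- Flat base change: global sections of the base change of a hull are the base-changed ring. -/
theorem isIso_appTop_of_flat {X Y X' Y' : Scheme.{u}} [IsAffine Y] [IsAffine Y'] [CompactSpace X]
    [QuasiSeparatedSpace X] (c : X ⟶ Y) [IsIso c.appTop] (q : Y' ⟶ Y) [Flat q] {g : X' ⟶ X} {c' : X' ⟶ Y'}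
    (H : IsPullback g c' c q) : IsIso c'.appTop := by
  have hiso := isIso_pushoutSection_of_isQuasiSeparated_of_flat_right H
    (US := ⊤) (UT := ⊤) (UX := ⊤) (UY := ⊤) (by simp) (by simp) (by simp)
    (isAffineOpen_top _) (isAffineOpen_top _) isCompact_univ
    (isQuasiSeparated_univ_iff.2 inferInstance)
  have hpo := (isIso_pushoutSection_iff ..).1 hiso
  have e : ∀ {A B : Scheme.{u}} (f : A ⟶ B) (h : (⊤ : A.Opens) ≤ f ⁻¹ᵁ ⊤),
      f.appLE ⊤ ⊤ h = f.appTop := fun {A B} f h => by simp [Scheme.Hom.appLE, Scheme.Hom.appTop]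
  simp only [e] at hpo
  exact hpo.isIso_inr_of_isIso

/-- The output of descending an algebra: an affine scheme whose base change is the given one. -/
theorem exists_descended {A A' B' : Type u} [CommRing A] [CommRing A'] [CommRing B'] [Algebra A A']
    [Algebra A B'] [Algebra A' B'] [IsScalarTower A A' B'] [Module.Flat A A']
    (θ : B' →ₐ[A] A' ⊗[A] B') (hθ : ∀ a : A', θ (algebraMap A' B' a) = a ⊗ₜ 1)
    (hunit : ∀ b, Algebra.TensorProduct.lift (IsScalarTower.toAlgHom A A' B') (AlgHom.id A B')
      (fun _ _ => Commute.all _ _) (θ b) = b)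
    (hcocycle : ∀ b, Algebra.TensorProduct.map (AlgHom.id A A') θ (θ b) =
      Algebra.TensorProduct.map (AlgHom.id A A') Algebra.TensorProduct.includeRight (θ b)) :
    ∃ B : Subalgebra A B',
      IsPullback (Spec.map (CommRingCat.ofHom (algebraMap A' B'))) (Spec.map (CommRingCat.ofHom B.val.toRingHom))
        (Spec.map (CommRingCat.ofHom (algebraMap A A'))) (Spec.map (CommRingCat.ofHom (algebraMap A B))) ∧
      Spec.map (CommRingCat.ofHom θ.toRingHom) ≫ Spec.map (CommRingCat.ofHom B.val.toRingHom) =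
        Spec.map (CommRingCat.ofHom (Algebra.TensorProduct.includeRight (R := A) (A := A')).toRingHom) ≫
          Spec.map (CommRingCat.ofHom B.val.toRingHom) := by
  let ι : B' →ₐ[A] A' ⊗[A] B' := Algebra.TensorProduct.includeRight
  let B := AlgHom.equalizer θ ι
  let e := AlgEquiv.ofBijective _ (bijective_lift_equalizer θ hθ hunit hcocycle)
  refine ⟨B, ?_, ?_⟩
  · refine IsPullback.of_iso (isPullback_tensor A A' B)
      (Scheme.Spec.mapIso e.toRingEquiv.toCommRingCatIso.symm.op) (Iso.refl _) (Iso.refl _) (Iso.refl _)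
      ?_ ?_ (by simp) (by simp)
    · simp only [Iso.refl_hom, Category.comp_id, Functor.mapIso_hom, Iso.op_hom]
      change Spec.map _ = Spec.map _ ≫ Spec.map _
      rw [← Spec.map_comp]
      congr 1
      ext a
      change a ⊗ₜ 1 = e.symm (algebraMap A' B' a)
      rw [AlgEquiv.eq_symm_apply]
      simp [e]
    · simp only [Iso.refl_hom, Category.comp_id, Functor.mapIso_hom, Iso.op_hom]
      change Spec.map _ = Spec.map _ ≫ Spec.map _
      rw [← Spec.map_comp]
      congr 1
      ext b
      change 1 ⊗ₜ b = e.symm (b : B')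
      rw [AlgEquiv.eq_symm_apply]
      simp [e]
  · rw [← Spec.map_comp, ← Spec.map_comp]
    congr 1
    ext b
    exact b.2

end Groth.Agent.AlgSp
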