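import Groth.Agent.AlgSp.DescentRep
import Groth.Agent.FpqcDesc.Props
import Mathlib.AlgebraicGeometry.Morphisms.Immersion

/-!
# Descent of immersions
-/

universe u

open CategoryTheory CategoryTheory.Limits AlgebraicGeometry Opposite

set_option backward.isDefEq.respectTransparency.types false

namespace Groth.Agent.AlgSp

/-- Images of locally closed subsets under quotient open maps: the coborder commutes with preimages. -/
theorem preimage_coborder {X Y : Type*} [TopologicalSpace X] [TopologicalSpace Y] {f : X → Y}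
    (hf : Continuous f) (ho : IsOpenMap f) (s : Set Y) : f ⁻¹' coborder s = coborder (f ⁻¹' s) := by
  rw [coborder_eq_union_closure_compl, coborder_eq_union_closure_compl, Set.preimage_union, Set.preimage_compl,
    ho.preimage_closure_eq_closure_preimage hf]

/-- For a surjective open map `p`, a saturated locally closed set has open coborder downstairs. -/
theorem isOpen_coborder_of_preimage {X Y : Type*} [TopologicalSpace X] [TopologicalSpace Y] {p : X → Y}
    (hc : Continuous p) (ho : IsOpenMap p) (hs : Function.Surjective p) {A : Set Y} {B : Set X}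
    (hB : p ⁻¹' A = B) (hBl : IsLocallyClosed B) : IsOpen (coborder A) := by
  rw [← (ho.isQuotientMap hc hs).isOpen_preimage, preimage_coborder hc ho, hB]
  exact hBl.isOpen_coborder

/-- Immersions descend along surjective flat lfp morphisms of schemes. -/
instance descendsAlong_isImmersion : MorphismProperty.DescendsAlong @IsImmersion.{u}
    (@Surjective ⊓ @Flat ⊓ @LocallyOfFinitePresentation) := by
  refine MorphismProperty.DescendsAlong.mk' fun {X Y Z} f g _ hf hg => ?_
  obtain ⟨⟨hs, hfl⟩, hlfp⟩ := hf
  have hA : f ⁻¹' Set.range g = Set.range (pullback.fst f g) := by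
    ext x
    constructor
    · rintro ⟨y, hy⟩
      obtain ⟨z, hz, -⟩ := Scheme.Pullback.exists_preimage_pullback (f := f) (g := g) x y hy.symm
      exact ⟨z, hz⟩
    · rintro ⟨z, rfl⟩
      exact ⟨pullback.snd f g z, by rw [← Scheme.Hom.comp_apply, ← pullback.condition, Scheme.Hom.comp_apply]⟩
  let O : Z.Opens := ⟨coborder (Set.range g), isOpen_coborder_of_preimage f.continuous f.isOpenMap hs.surj hA
    (pullback.fst f g).isLocallyClosed_range⟩
  let g₀ : Y ⟶ O := IsOpenImmersion.lift O.ι g (by rw [Scheme.Opens.range_ι]; exact subset_coborder)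
  have hg₀ : g₀ ≫ O.ι = g := IsOpenImmersion.lift_fac _ _ _
  suffices IsClosedImmersion g₀ by rw [← hg₀]; infer_instance
  let f₀ := f ∣_ O
  have hpf : Flat f₀ := inferInstance
  have hpl : LocallyOfFinitePresentation f₀ := inferInstance
  have hps : Surjective f₀ := IsZariskiLocalAtTarget.restrict hs O
  have sqA : IsPullback (f ⁻¹ᵁ O).ι f₀ f O.ι := (isPullback_morphismRestrict f O).flip
  -- the base change of `g₀`
  have sqB := IsPullback.of_hasPullback f₀ g₀
  have sqC : IsPullback (pullback.fst f₀ g₀ ≫ (f ⁻¹ᵁ O).ι) (pullback.snd f₀ g₀) f g := by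
    rw [← hg₀]
    exact sqB.paste_horiz sqA |>.flip |>.flip
  have himm : IsImmersion (pullback.fst f₀ g₀ ≫ (f ⁻¹ᵁ O).ι) := by
    rw [← sqC.isoPullback_hom_fst]
    exact (MorphismProperty.cancel_left_of_respectsIso @IsImmersion _ _).2 hg
  have : IsPreimmersion (pullback.fst f₀ g₀) := IsPreimmersion.of_comp _ (f ⁻¹ᵁ O).ι
  have hr : Set.range (pullback.fst f₀ g₀) = (f ⁻¹ᵁ O).ι ⁻¹' Set.range (pullback.fst f g) := by
    ext x
    constructor
    · rintro ⟨z, rfl⟩
      exact ⟨sqC.isoPullback.hom z, by rw [← Scheme.Hom.comp_apply, sqC.isoPullback_hom_fst]; rfl⟩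
    · rintro ⟨z, hz⟩
      refine ⟨sqC.isoPullback.inv z, (f ⁻¹ᵁ O).ι.injective ?_⟩
      rw [← Scheme.Hom.comp_apply, ← Scheme.Hom.comp_apply, sqC.isoPullback_inv_fst, hz]
  have hci : IsClosedImmersion (pullback.fst f₀ g₀) := by
    refine .of_isPreimmersion _ ?_
    rw [hr]
    convert! isClosed_preimage_val_coborder (s := Set.range (pullback.fst f g)) |>.preimage
      (f := fun x : (f ⁻¹ᵁ O).toScheme => (⟨x.1, show x.1 ∈ coborder (Set.range (pullback.fst f g)) by
        rw [← hA, ← preimage_coborder f.continuous f.isOpenMap]; exact x.2⟩ :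
        ↥(coborder (Set.range (pullback.fst f g)))))
      (Continuous.subtype_mk continuous_subtype_val _) using 1
  have := FpqcDesc.descendsAlong_isClosedImmersion.{u}
  exact MorphismProperty.of_pullback_fst_of_descendsAlong (P := @IsClosedImmersion)
    (Q := @Surjective ⊓ @Flat ⊓ @LocallyOfFinitePresentation) (f := f₀) ⟨⟨hps, hpf⟩, hpl⟩ hci

end Groth.Agent.AlgSp

namespace Groth.Agent.AlgSp

instance : MorphismProperty.IsLocalAtTarget @IsImmersion Scheme.fppfPrecoverage.{u} :=
  isLocalAtTarget_fppf _

variable {S : Scheme.{u}}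

/-- For a monomorphism to a scheme which becomes representable over a cover, the range upstairs is saturated. -/
theorem mem_range_of_eq {U V W : Over S} {p : V ⟶ U} {F : AlgSp.Sp S} {a₀ : F ⟶ (AlgSp.yon S).obj U}
    {π : (AlgSp.yon S).obj W ⟶ F} {w : W ⟶ V}
    (s : IsPullback π ((AlgSp.yon S).map w) a₀ ((AlgSp.yon S).map p)) {v v' : V.left}
    (hv : v ∈ Set.range w.left) (e : p.left v = p.left v') : v' ∈ Set.range w.left := by
  obtain ⟨x, rfl⟩ := hv
  obtain ⟨z, hz1, hz2⟩ := Scheme.Pullback.exists_preimage_pullback (f := (w ≫ p).left) (g := p.left) x v'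
    (by rw [Over.comp_left, Scheme.Hom.comp_apply]; exact e)
  let T : Over S := Over.mk (pullback.fst (w ≫ p).left p.left ≫ W.hom)
  let q1 : T ⟶ W := Over.homMk (pullback.fst (w ≫ p).left p.left) rfl
  let q2 : T ⟶ V := Over.homMk (pullback.snd (w ≫ p).left p.left) (by
    change pullback.snd (w ≫ p).left p.left ≫ V.hom = pullback.fst (w ≫ p).left p.left ≫ W.hom
    rw [← Over.w p, ← Category.assoc, ← pullback.condition, Category.assoc, Over.w (w ≫ p)])
  have h12 : q1 ≫ w ≫ p = q2 ≫ p := Over.OverMorphism.ext pullback.condition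
  have h : ((AlgSp.yon S).map q1 ≫ π) ≫ a₀ = (AlgSp.yon S).map q2 ≫ (AlgSp.yon S).map p := by
    rw [Category.assoc, s.w, ← Functor.map_comp, ← Functor.map_comp, ← Functor.map_comp, h12]
  obtain ⟨l, hl⟩ := (AlgSp.yon S).map_surjective (s.lift _ _ h)
  have hlw : l ≫ w = q2 := (AlgSp.yon S).map_injective (by rw [Functor.map_comp, hl, s.lift_snd])
  refine ⟨l.left z, ?_⟩
  rw [← Scheme.Hom.comp_apply, ← Over.comp_left, hlw]
  exact hz2

/-- Immersions satisfy effective descent. -/
theorem repWith_isImmersion_of_baseChange {F G H Q : AlgSp.Sp S} (a : F ⟶ G) (b : H ⟶ G)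
    [Sheaf.IsLocallySurjective b] {b' : Q ⟶ F} {a' : Q ⟶ H} (sq : IsPullback b' a' a b)
    (h : AlgSp.RepWith @IsImmersion a') : AlgSp.RepWith @IsImmersion a :=
  repWith_of_effective @IsImmersion a b sq h fun {U V W} _ _ p _ _ _ {F'} a₀ π w s hw => by
    have : IsImmersion w.left := hw
    let A : Set U.left := p.left '' Set.range w.left
    have hA : p.left ⁻¹' A = Set.range w.left := by
      ext v
      exact ⟨fun ⟨v₀, hv₀, e⟩ => mem_range_of_eq s hv₀ e, fun hv => ⟨v, hv, rfl⟩⟩
    let O : U.left.Opens := ⟨coborder A, isOpen_coborder_of_preimage p.left.continuous p.left.isOpenMap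
      p.left.surjective hA w.left.isLocallyClosed_range⟩
    let OV : V.left.Opens := p.left ⁻¹ᵁ O
    have hOV : (OV : Set V.left) = coborder (Set.range w.left) := by
      change p.left ⁻¹' coborder A = _
      rw [preimage_coborder p.left.continuous p.left.isOpenMap, hA]
    let pO : openOver V OV ⟶ openOver U O := Over.homMk (p.left ∣_ O) (by
      change (p.left ∣_ O) ≫ O.ι ≫ U.hom = OV.ι ≫ V.hom
      rw [morphismRestrict_ι_assoc, Over.w p])
    have sqO : IsPullback pO (openι V OV) (openι U O) p :=
      IsPullback.of_map (Over.forget S) (Over.OverMorphism.ext (morphismRestrict_ι _ _))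
        (isPullback_morphismRestrict p.left O)
    let w' : W ⟶ openOver V OV := Over.homMk (IsOpenImmersion.lift OV.ι w.left
        (by rw [Scheme.Opens.range_ι, hOV]; exact subset_coborder)) (by
      change _ ≫ OV.ι ≫ V.hom = W.hom
      rw [IsOpenImmersion.lift_fac_assoc, Over.w w])
    have hw' : w' ≫ openι V OV = w := Over.OverMorphism.ext (IsOpenImmersion.lift_fac _ _ _)
    have : Mono (openι V OV) := (Over.forget S).mono_of_mono_map (inferInstanceAs (Mono OV.ι))
    have : Mono (openι U O) := (Over.forget S).mono_of_mono_map (inferInstanceAs (Mono O.ι))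
    have hci : IsClosedImmersion w'.left := by
      have : IsPreimmersion (w'.left ≫ OV.ι) := by
        rw [show w'.left ≫ OV.ι = w.left from IsOpenImmersion.lift_fac _ _ _]; infer_instance
      have : IsPreimmersion w'.left := IsPreimmersion.of_comp _ OV.ι
      refine .of_isPreimmersion _ ?_
      have hr : Set.range w'.left = OV.ι ⁻¹' Set.range w.left := by
        rw [show (w.left : W.left → V.left) = OV.ι ∘ w'.left from funext fun x =>
          congr($(IsOpenImmersion.lift_fac OV.ι w.left _) x).symm, Set.range_comp,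
          Set.preimage_image_eq _ OV.ι.injective]
      rw [hr]
      exact isClosed_preimage_val_coborder (s := Set.range w.left) |>.preimage
        (f := fun x : OV.toScheme => (⟨x.1, hOV ▸ x.2⟩ : ↥(coborder (Set.range w.left))))
        (Continuous.subtype_mk continuous_subtype_val _)
    -- `F'` factors through `O`
    have sP := IsPullback.of_hasPullback a₀ ((AlgSp.yon S).map (openι U O))
    obtain ⟨π', hπ1, hπ2⟩ := sP.exists_lift π ((AlgSp.yon S).map (w' ≫ pO)) (by
      rw [s.w, ← Functor.map_comp, ← Functor.map_comp, Category.assoc, sqO.w, ← Category.assoc, hw'])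
    have hloc : Sheaf.IsLocallySurjective π := by
      have hrep : ∀ (P : MorphismProperty Scheme.{u}) [P.IsStableUnderBaseChange], P p.left → AlgSp.RepWith P π :=
        fun P _ hP => MorphismProperty.of_isPullback s.flip ((AlgSp.repWith_yon_map_iff P p).2 hP)
      exact isLocallySurjective_of_repWith π (hrep @Flat inferInstance)
        (hrep @LocallyOfFinitePresentation inferInstance) (hrep @Surjective inferInstance)
    have : Epi π := Sheaf.epi_of_isLocallySurjective π
    have : Epi (pullback.fst a₀ ((AlgSp.yon S).map (openι U O))) := epi_of_epi_fac hπ1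
    have : Balanced (AlgSp.Sp S) := inferInstance
    have : IsIso (pullback.fst a₀ ((AlgSp.yon S).map (openι U O))) := isIso_of_mono_of_epi _
    -- descend the closed immersion
    have sW : IsPullback π' ((AlgSp.yon S).map w') (pullback.snd a₀ ((AlgSp.yon S).map (openι U O)))
        ((AlgSp.yon S).map pO) := by
      refine IsPullback.of_right ?_ (by rw [hπ2, Functor.map_comp]) sP
      rw [hπ1]
      -- the outer square: restrict the given one along `O`
      have : Mono ((AlgSp.yon S).map (openι V OV)) := inferInstance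
      refine IsPullback.of_isLimit' ⟨?_⟩ (PullbackCone.IsLimit.mk _ (fun c => s.lift c.fst
        (c.snd ≫ (AlgSp.yon S).map (openι V OV)) ?_) (fun c => s.lift_fst ..) (fun c => ?_) (fun c m h1 h2 => ?_))
      · rw [s.w, ← Functor.map_comp, ← Functor.map_comp, ← Functor.map_comp, sqO.w, ← hw', Category.assoc]
      · simp only [Category.assoc, c.condition, ← Functor.map_comp, sqO.w]
      · simp only [← cancel_mono ((AlgSp.yon S).map (openι V OV)), Category.assoc, ← Functor.map_comp, hw', s.lift_snd]
      · refine s.hom_ext (h1.trans (s.lift_fst ..).symm) ?_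
        rw [s.lift_snd, ← hw', Functor.map_comp, reassoc_of% h2]
    have hloc' : Sheaf.IsLocallySurjective ((AlgSp.yon S).map pO) :=
      isLocallySurjective_of_repWith _ ((AlgSp.repWith_yon_map_iff _ pO).2 (inferInstanceAs (Flat (p.left ∣_ O))))
        ((AlgSp.repWith_yon_map_iff _ pO).2 (inferInstanceAs (LocallyOfFinitePresentation (p.left ∣_ O))))
        ((AlgSp.repWith_yon_map_iff _ pO).2 (IsZariskiLocalAtTarget.restrict (inferInstance : Surjective p.left) O))
    have hr := repWith_isAffineHom_of_baseChange _ ((AlgSp.yon S).map pO) sW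
      ((AlgSp.repWith_yon_map_iff _ w').2 (inferInstanceAs (IsAffineHom w'.left)))
    obtain ⟨W₀, w₀, fst, sW₀⟩ := hr.1 (𝟙 _)
    have : IsIso fst := by
      rw [← sW₀.isoIsPullback_hom_fst _ _ (IsPullback.of_horiz_isIso
        (show CommSq (𝟙 _) (pullback.snd a₀ ((AlgSp.yon S).map (openι U O))) (pullback.snd a₀ _) (𝟙 _) from ⟨by simp⟩))]
      infer_instance
    exact ⟨W₀, ⟨asIso fst ≪≫ asIso (pullback.fst a₀ ((AlgSp.yon S).map (openι U O)))⟩⟩

end Groth.Agent.AlgSp
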