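import Groth.Agent.AlgSp.DescentHull

/-!
# Effective descent of quasi-affine schemes
-/

universe u

open CategoryTheory CategoryTheory.Limits AlgebraicGeometry Opposite
open scoped TensorProduct

set_option backward.isDefEq.respectTransparency.types false

namespace Groth.Agent.AlgSp

variable {S : Scheme.{u}}

/-- The base change of a hull along `p`. -/
theorem exists_hull_baseChange {U V X X' : Over S} {p : V ⟶ U}
    [Flat p.left] {A' C : Type u} [CommRing A'] [CommRing C] {A : Type u} [CommRing A] [Algebra A A'] [Algebra A C]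
    (iU : U.left ≅ Spec (CommRingCat.of A)) (iV : V.left ≅ Spec (CommRingCat.of A'))
    (hp : iV.hom ≫ Spec.map (CommRingCat.ofHom (algebraMap A A')) = p.left ≫ iU.hom)
    [CompactSpace X.left] [QuasiSeparatedSpace X.left]
    (f : X ⟶ U) (c : X.left ⟶ Spec (CommRingCat.of C)) [IsIso c.appTop]
    (hc : c ≫ Spec.map (CommRingCat.ofHom (algebraMap A C)) = f.left ≫ iU.hom)
    {v : X' ⟶ V} {s : X' ⟶ X} (sq : IsPullback v s p f) :
    ∃ c' : X'.left ⟶ Spec (CommRingCat.of (A' ⊗[A] C)),
      c' ≫ Spec.map (CommRingCat.ofHom Algebra.TensorProduct.includeLeftRingHom) = v.left ≫ iV.hom ∧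
      c' ≫ Spec.map (CommRingCat.ofHom (Algebra.TensorProduct.includeRight (R := A) (A := A') (B := C)).toRingHom) =
        s.left ≫ c ∧ IsIso c'.appTop := by
  have sT := isPullback_tensor A A' C
  have sqL : IsPullback v.left s.left p.left f.left := sq.map (Over.forget S)
  have w : (v.left ≫ iV.hom) ≫ Spec.map (CommRingCat.ofHom (algebraMap A A')) =
      (s.left ≫ c) ≫ Spec.map (CommRingCat.ofHom (algebraMap A C)) := by
    rw [Category.assoc, hp, Category.assoc, hc, reassoc_of% sqL.w]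
  refine ⟨sT.lift _ _ w, sT.lift_fst .., sT.lift_snd .., ?_⟩
  have outer : IsPullback (v.left ≫ iV.hom) s.left (Spec.map (CommRingCat.ofHom (algebraMap A A')))
      (c ≫ Spec.map (CommRingCat.ofHom (algebraMap A C))) :=
    IsPullback.of_iso sqL (Iso.refl _) iV (Iso.refl _) iU (by simp) (by simp) (by simp [hp]) (by simp [hc])
  have sq' : IsPullback (sT.lift _ _ w) s.left
      (Spec.map (CommRingCat.ofHom (Algebra.TensorProduct.includeRight (R := A) (A := A') (B := C)).toRingHom)) c := by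
    refine IsPullback.of_right ?_ (sT.lift_snd _ _ w) sT
    rw [sT.lift_fst]
    exact outer
  have : Flat (Spec.map (CommRingCat.ofHom (algebraMap A A'))) := by
    rw [← MorphismProperty.cancel_left_of_respectsIso @Flat iV.hom, hp,
      MorphismProperty.cancel_right_of_respectsIso @Flat]
    infer_instance
  have : Flat (Spec.map (CommRingCat.ofHom (Algebra.TensorProduct.includeRight (R := A) (A := A') (B := C)).toRingHom)) :=
    MorphismProperty.of_isPullback (P := @Flat) sT this
  exact isIso_appTop_of_flat c _ sq'.flip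

section

variable {A A' B' : Type u} [CommRing A] [CommRing A'] [CommRing B'] [Algebra A A'] [Algebra A B']
  [Algebra A' B'] [IsScalarTower A A' B']
  {U V W X : Over S} {p : V ⟶ U} {w : W ⟶ V} {v : X ⟶ V} {s t : X ⟶ W}
  (iV : V.left ≅ Spec (CommRingCat.of A')) (j : W.left ⟶ Spec (CommRingCat.of B'))
  (hj : j ≫ Spec.map (CommRingCat.ofHom (algebraMap A' B')) = w.left ≫ iV.hom)
  (c2 : X.left ⟶ Spec (CommRingCat.of (A' ⊗[A] B')))
  (hL : c2 ≫ Spec.map (CommRingCat.ofHom Algebra.TensorProduct.includeLeftRingHom) = v.left ≫ iV.hom)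
  (hR : c2 ≫ Spec.map (CommRingCat.ofHom (Algebra.TensorProduct.includeRight (R := A) (A := A') (B := B')).toRingHom) =
    s.left ≫ j)

include hj hL in
/-- The descent datum on global sections. -/
theorem exists_theta [IsIso c2.appTop] (htw : t ≫ w = v) :
    ∃ θ : B' →ₐ[A] A' ⊗[A] B', (∀ a : A', θ (algebraMap A' B' a) = a ⊗ₜ 1) ∧
      c2 ≫ Spec.map (CommRingCat.ofHom θ.toRingHom) = t.left ≫ j := by
  obtain ⟨tb, htb⟩ := hull_lift c2 (t.left ≫ j)
  obtain ⟨θ₀, rfl⟩ := Spec.map_surjective tb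
  have h1 : Spec.map θ₀ ≫ Spec.map (CommRingCat.ofHom (algebraMap A' B')) =
      Spec.map (CommRingCat.ofHom (Algebra.TensorProduct.includeLeftRingHom : A' →+* A' ⊗[A] B')) := by
    refine hull_hom_ext c2 ?_
    rw [reassoc_of% htb, hj, hL, ← htw, Over.comp_left, Category.assoc]
  rw [← Spec.map_comp] at h1
  have hθ : ∀ a : A', θ₀.hom (algebraMap A' B' a) = a ⊗ₜ 1 := fun a =>
    RingHom.congr_fun (congrArg CommRingCat.Hom.hom (Spec.map_injective h1)) a
  refine ⟨{ θ₀.hom with
      commutes' := fun r => by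
        change θ₀.hom (algebraMap A B' r) = _
        rw [IsScalarTower.algebraMap_apply A A' B', hθ]
        rfl }, hθ, htb⟩

include hj hL hR in
/-- The unit condition. -/
theorem theta_unit [IsIso j.appTop] (θ : B' →ₐ[A] A' ⊗[A] B')
    (htb : c2 ≫ Spec.map (CommRingCat.ofHom θ.toRingHom) = t.left ≫ j)
    (d : W ⟶ X) (hdv : d ≫ v = w) (hds : d ≫ s = 𝟙 W) (hdt : d ≫ t = 𝟙 W) :
    (Algebra.TensorProduct.lift (IsScalarTower.toAlgHom A A' B') (AlgHom.id A B')
      (fun _ _ => Commute.all _ _)).comp θ = AlgHom.id A B' := by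
  let μ : A' ⊗[A] B' →ₐ[A] B' :=
    Algebra.TensorProduct.lift (IsScalarTower.toAlgHom A A' B') (AlgHom.id A B') (fun _ _ => Commute.all _ _)
  have hdc : j ≫ Spec.map (CommRingCat.ofHom μ.toRingHom) = d.left ≫ c2 := by
    apply (isPullback_tensor A A' B').hom_ext
    · rw [Category.assoc, Category.assoc, hL, ← Spec.map_comp, ← Over.comp_left_assoc, hdv, ← hj]
      congr 2
      ext a
      simp [μ]
    · rw [Category.assoc, Category.assoc, hR, ← Spec.map_comp, ← Over.comp_left_assoc, hds, Over.id_left,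
        Category.id_comp]
      conv_rhs => rw [← Category.comp_id j, ← Spec.map_id]
      congr 2
      ext a
      simp [μ]
  have key : Spec.map (CommRingCat.ofHom μ.toRingHom) ≫ Spec.map (CommRingCat.ofHom θ.toRingHom) = 𝟙 _ := by
    refine hull_hom_ext j ?_
    rw [reassoc_of% hdc, htb, ← Over.comp_left_assoc, hdt, Over.id_left, Category.id_comp, Category.comp_id]
  rw [← Spec.map_comp, ← Spec.map_id] at key
  exact AlgHom.ext fun b => RingHom.congr_fun (congrArg CommRingCat.Hom.hom (Spec.map_injective key)) b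

include hL hR in
/-- The cocycle condition. -/
theorem theta_cocycle (θ : B' →ₐ[A] A' ⊗[A] B')
    (htb : c2 ≫ Spec.map (CommRingCat.ofHom θ.toRingHom) = t.left ≫ j)
    {X3 : Over S} {v3 : X3 ⟶ V} {s3 g1 g2 : X3 ⟶ X}
    (c3 : X3.left ⟶ Spec (CommRingCat.of (A' ⊗[A] (A' ⊗[A] B')))) [IsIso c3.appTop]
    (h3L : c3 ≫ Spec.map (CommRingCat.ofHom Algebra.TensorProduct.includeLeftRingHom) = v3.left ≫ iV.hom)
    (h3R : c3 ≫ Spec.map (CommRingCat.ofHom
      (Algebra.TensorProduct.includeRight (R := A) (A := A') (B := A' ⊗[A] B')).toRingHom) = s3.left ≫ c2)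
    (hg1v : g1 ≫ v = v3) (hg1s : g1 ≫ s = s3 ≫ t) (hg2v : g2 ≫ v = v3) (hg2s : g2 ≫ s = s3 ≫ s)
    (hgg : g1 ≫ t = g2 ≫ t) :
    (Algebra.TensorProduct.map (AlgHom.id A A') θ).comp θ =
      (Algebra.TensorProduct.map (AlgHom.id A A') Algebra.TensorProduct.includeRight).comp θ := by
  have hg : ∀ (φ : B' →ₐ[A] A' ⊗[A] B') (x : X ⟶ W) (g : X3 ⟶ X), g ≫ v = v3 → g ≫ s = s3 ≫ x →
      c2 ≫ Spec.map (CommRingCat.ofHom φ.toRingHom) = x.left ≫ j →
      c3 ≫ Spec.map (CommRingCat.ofHom (Algebra.TensorProduct.map (AlgHom.id A A') φ).toRingHom) = g.left ≫ c2 := by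
    intro φ x g hgv hgs hφ
    apply (isPullback_tensor A A' B').hom_ext
    · rw [Category.assoc, Category.assoc, hL, ← Spec.map_comp, ← Over.comp_left_assoc, hgv, ← h3L]
      congr 2
      ext a
      simp
    · rw [Category.assoc, Category.assoc, hR, ← Spec.map_comp, ← Over.comp_left_assoc, hgs, Over.comp_left,
        Category.assoc, ← hφ, ← reassoc_of% h3R, ← Spec.map_comp]
      congr 2
      try (ext a; simp)
  have key : Spec.map (CommRingCat.ofHom (Algebra.TensorProduct.map (AlgHom.id A A') θ).toRingHom) ≫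
      Spec.map (CommRingCat.ofHom θ.toRingHom) =
      Spec.map (CommRingCat.ofHom (Algebra.TensorProduct.map (AlgHom.id A A')
        (Algebra.TensorProduct.includeRight : B' →ₐ[A] A' ⊗[A] B')).toRingHom) ≫
        Spec.map (CommRingCat.ofHom θ.toRingHom) := by
    refine hull_hom_ext c3 ?_
    rw [reassoc_of% hg θ t g1 hg1v hg1s htb,
      reassoc_of% hg Algebra.TensorProduct.includeRight s g2 hg2v hg2s hR, htb,
      ← Over.comp_left_assoc, ← Over.comp_left_assoc]
    exact congrArg (fun k => k.left ≫ j) hgg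
  rw [← Spec.map_comp, ← Spec.map_comp] at key
  exact AlgHom.ext fun b => RingHom.congr_fun (congrArg CommRingCat.Hom.hom (Spec.map_injective key)) b

end

/-- fppf descent of a scheme with an affine hull. -/
theorem exists_iso_of_hull {A A' B' : Type u} [CommRing A] [CommRing A'] [CommRing B'] [Algebra A A']
    [Algebra A B'] [Algebra A' B'] [IsScalarTower A A' B'] {U V W : Over S} (p : V ⟶ U) [Flat p.left]
    [Surjective p.left] [LocallyOfFinitePresentation p.left] [QuasiCompact p.left] [QuasiSeparated p.left]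
    (iU : U.left ≅ Spec (CommRingCat.of A)) (iV : V.left ≅ Spec (CommRingCat.of A'))
    (hp : iV.hom ≫ Spec.map (CommRingCat.ofHom (algebraMap A A')) = p.left ≫ iU.hom)
    {F : AlgSp.Sp S} (a : F ⟶ (AlgSp.yon S).obj U) (π : (AlgSp.yon S).obj W ⟶ F) (w : W ⟶ V)
    (sq : IsPullback π ((AlgSp.yon S).map w) a ((AlgSp.yon S).map p))
    [CompactSpace W.left] [QuasiSeparatedSpace W.left]
    (j : W.left ⟶ Spec (CommRingCat.of B')) [IsIso j.appTop] [IsOpenImmersion j]
    (hj : j ≫ Spec.map (CommRingCat.ofHom (algebraMap A' B')) = w.left ≫ iV.hom) :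
    ∃ W₀ : Over S, W₀.left.IsQuasiAffine ∧ Nonempty ((AlgSp.yon S).obj W₀ ≅ F) := by
  let pA := Spec.map (CommRingCat.ofHom (algebraMap A A'))
  have hjA : j ≫ Spec.map (CommRingCat.ofHom (algebraMap A B')) = (w ≫ p).left ≫ iU.hom := by
    rw [IsScalarTower.algebraMap_eq A A' B', CommRingCat.ofHom_comp, Spec.map_comp, reassoc_of% hj,
      Over.comp_left, Category.assoc, ← hp]
  have : Module.Flat A A' := by
    have : Flat pA := by
      rw [← MorphismProperty.cancel_left_of_respectsIso @Flat iV.hom, hp,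
        MorphismProperty.cancel_right_of_respectsIso @Flat]
      infer_instance
    rw [HasRingHomProperty.Spec_iff (P := @Flat)] at this
    exact RingHom.flat_algebraMap_iff.1 this
  have h2 := IsPullback.of_hasPullback p (w ≫ p)
  generalize pullback.fst p (w ≫ p) = v, pullback.snd p (w ≫ p) = s at h2
  revert v s
  generalize pullback p (w ≫ p) = X
  intro v s h2
  obtain ⟨c2, hL, hR, hc2i⟩ := exists_hull_baseChange iU iV hp (w ≫ p) j hjA h2
  have h2' : ((AlgSp.yon S).map s ≫ π) ≫ a = (AlgSp.yon S).map v ≫ (AlgSp.yon S).map p := by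
    rw [Category.assoc, sq.w, ← Functor.map_comp, ← Functor.map_comp, ← Functor.map_comp, h2.w]
  obtain ⟨t, ht⟩ := (AlgSp.yon S).map_surjective (sq.lift _ _ h2')
  have htπ : (AlgSp.yon S).map t ≫ π = (AlgSp.yon S).map s ≫ π := by rw [ht, sq.lift_fst]
  have htw : t ≫ w = v := (AlgSp.yon S).map_injective (by rw [Functor.map_comp, ht, sq.lift_snd])
  obtain ⟨θ, hθ, htb⟩ := exists_theta iV j hj c2 hL (t := t) htw
  obtain ⟨d, hdv, hds⟩ := h2.exists_lift w (𝟙 W) (by simp)
  have hdt : d ≫ t = 𝟙 W := (AlgSp.yon S).map_injective (sq.hom_ext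
    (by rw [Functor.map_comp, Category.assoc, htπ, ← Category.assoc, ← Functor.map_comp, hds])
    (by rw [← Functor.map_comp, Category.assoc, htw, hdv, ← Functor.map_comp, Category.id_comp]))
  have hunit := theta_unit iV j hj c2 hL hR θ htb d hdv hds hdt
  have hcocycle : (Algebra.TensorProduct.map (AlgHom.id A A') θ).comp θ =
      (Algebra.TensorProduct.map (AlgHom.id A A') Algebra.TensorProduct.includeRight).comp θ := by
    have : QuasiCompact s.left := MorphismProperty.of_isPullback (h2.map (Over.forget S))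
      (inferInstanceAs (QuasiCompact p.left))
    have : QuasiSeparated s.left := MorphismProperty.of_isPullback (h2.map (Over.forget S))
      (inferInstanceAs (QuasiSeparated p.left))
    have : CompactSpace X.left := QuasiCompact.compactSpace_of_compactSpace s.left
    have : QuasiSeparatedSpace X.left := quasiSeparatedSpace_of_quasiSeparated s.left
    have hc2A : c2 ≫ Spec.map (CommRingCat.ofHom (algebraMap A (A' ⊗[A] B'))) = (v ≫ p).left ≫ iU.hom := by
      rw [← specMap_algHom_comp (Algebra.TensorProduct.includeLeft (S := A) (A := A') (B := B'))]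
      change c2 ≫ Spec.map (CommRingCat.ofHom Algebra.TensorProduct.includeLeftRingHom) ≫ pA = _
      rw [reassoc_of% hL, hp, Over.comp_left, Category.assoc]
    obtain ⟨c3, h3L, h3R, hc3i⟩ := exists_hull_baseChange iU iV hp (v ≫ p) c2 hc2A
      (IsPullback.of_hasPullback p (v ≫ p))
    obtain ⟨g1, hg1v, hg1s⟩ := h2.exists_lift (pullback.fst p (v ≫ p)) (pullback.snd p (v ≫ p) ≫ t)
      (by rw [Category.assoc, reassoc_of% htw, pullback.condition])
    obtain ⟨g2, hg2v, hg2s⟩ := h2.exists_lift (pullback.fst p (v ≫ p)) (pullback.snd p (v ≫ p) ≫ s)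
      (by rw [Category.assoc, ← h2.w, pullback.condition])
    refine theta_cocycle iV j c2 hL hR θ htb c3 h3L h3R hg1v hg1s hg2v hg2s ?_
    refine (AlgSp.yon S).map_injective (sq.hom_ext ?_ ?_)
    · simp only [Functor.map_comp, Category.assoc, htπ]
      rw [← Functor.map_comp_assoc, ← Functor.map_comp_assoc, hg1s, hg2s, Functor.map_comp_assoc,
        Functor.map_comp_assoc, htπ]
    · rw [← Functor.map_comp, ← Functor.map_comp, Category.assoc, Category.assoc, htw, hg1v, hg2v]
  obtain ⟨B, hB, hBeq⟩ := exists_descended θ hθ (AlgHom.congr_fun hunit) (AlgHom.congr_fun hcocycle)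
  let H₀ : Over S := Over.mk (Spec.map (CommRingCat.ofHom (algebraMap A B)) ≫ iU.inv ≫ U.hom)
  let H : Over S := Over.mk (Spec.map (CommRingCat.ofHom B.val.toRingHom) ≫ H₀.hom)
  let qH : H ⟶ H₀ := Over.homMk (Spec.map (CommRingCat.ofHom B.val.toRingHom)) rfl
  let u₀ : H₀ ⟶ U := Over.homMk (Spec.map (CommRingCat.ofHom (algebraMap A B)) ≫ iU.inv)
    (Category.assoc _ _ _)
  have hB' : IsPullback (Spec.map (CommRingCat.ofHom (algebraMap A' B')) ≫ iV.inv) qH.left p.left u₀.left :=
    IsPullback.of_iso hB (Iso.refl _) iV.symm (Iso.refl _) iU.symm (by simp) (by simp [qH])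
      (by rw [Iso.symm_hom, Iso.symm_hom, Iso.comp_inv_eq, Category.assoc, ← hp, Iso.inv_hom_id_assoc])
      (by simp [u₀])
  let wH : H ⟶ V := Over.homMk (Spec.map (CommRingCat.ofHom (algebraMap A' B')) ≫ iV.inv) (by
    change _ = qH.left ≫ H₀.hom
    rw [← Over.w p, ← Over.w u₀, ← reassoc_of% hB'.w, Category.assoc])
  have hsqH : IsPullback wH qH p u₀ := IsPullback.of_map (Over.forget S) (Over.OverMorphism.ext hB'.w) hB'
  let jH : W ⟶ H := Over.homMk j (by
    rw [← Over.w wH]
    change j ≫ (Spec.map _ ≫ iV.inv) ≫ V.hom = W.hom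
    rw [Category.assoc, reassoc_of% hj, Iso.hom_inv_id_assoc, Over.w w])
  have hjw : jH ≫ wH = w := by
    ext
    change j ≫ (Spec.map _ ≫ iV.inv) = w.left
    rw [← Category.assoc, hj, Category.assoc, Iso.hom_inv_id, Category.comp_id]
  have htq : t ≫ jH ≫ qH = s ≫ jH ≫ qH := by
    ext
    change t.left ≫ j ≫ qH.left = s.left ≫ j ≫ qH.left
    rw [← reassoc_of% htb, ← reassoc_of% hR]
    exact congrArg (c2 ≫ ·) hBeq
  have hrep : ∀ (P : MorphismProperty Scheme.{u}) [P.IsStableUnderBaseChange], P p.left →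
      AlgSp.RepWith P π ∧ AlgSp.RepWith P ((AlgSp.yon S).map qH) := fun P _ h =>
    ⟨MorphismProperty.of_isPullback sq.flip ((AlgSp.repWith_yon_map_iff P p).2 h),
      (AlgSp.repWith_yon_map_iff P qH).2 (P.of_isPullback hB' h)⟩
  have e1 := hrep @Flat inferInstance
  have e2 := hrep @LocallyOfFinitePresentation inferInstance
  have e3 := hrep @Surjective inferInstance
  have := isLocallySurjective_of_repWith π e1.1 e2.1 e3.1
  have := isLocallySurjective_of_repWith ((AlgSp.yon S).map qH) e1.2 e2.2 e3.2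
  have k1 : IsPullback ((AlgSp.yon S).map t) ((AlgSp.yon S).map s) π π := by
    refine IsPullback.of_right ?_ htπ sq.flip
    rw [← Functor.map_comp, htw, sq.w, ← Functor.map_comp]
    exact h2.map (AlgSp.yon S)
  obtain ⟨c1⟩ := isColimit_of_isPullback π k1
  obtain ⟨φ, hφ⟩ : ∃ φ : F ⟶ (AlgSp.yon S).obj H₀, π ≫ φ = (AlgSp.yon S).map (jH ≫ qH) :=
    ⟨Cofork.IsColimit.desc c1 _ (by rw [← Functor.map_comp, ← Functor.map_comp, htq]),
      Cofork.IsColimit.π_desc' c1 _ _⟩
  have : Epi π := Sheaf.epi_of_isLocallySurjective π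
  have hφa : φ ≫ (AlgSp.yon S).map u₀ = a := by
    rw [← cancel_epi π, reassoc_of% hφ, sq.w, ← Functor.map_comp, ← Functor.map_comp, Category.assoc,
      ← hsqH.w, ← hjw, Category.assoc]
  have sqφ : IsPullback π ((AlgSp.yon S).map jH) φ ((AlgSp.yon S).map qH) := by
    refine (IsPullback.of_right ?_ ?_ (hsqH.map (AlgSp.yon S)).flip.flip).flip
    · rw [← Functor.map_comp, hjw, hφa]
      exact sq.flip
    · rw [← Functor.map_comp, hφ]
  have hopen := repWith_isOpenImmersion_of_baseChange φ ((AlgSp.yon S).map qH) sqφ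
    ((AlgSp.repWith_yon_map_iff _ jH).2 (inferInstanceAs (IsOpenImmersion j)))
  obtain ⟨W₀, w₀, fst, sW⟩ := hopen.1 (𝟙 _)
  have : IsIso fst := by
    rw [← sW.isoIsPullback_hom_fst _ _ (IsPullback.of_horiz_isIso
      (show CommSq (𝟙 _) φ φ (𝟙 _) from ⟨by simp⟩))]
    infer_instance
  refine ⟨W₀, ?_, ⟨asIso fst⟩⟩
  have : IsOpenImmersion w₀.left := hopen.2 _ _ _ sW
  obtain ⟨q, hq⟩ := (AlgSp.yon S).map_surjective (π ≫ inv fst)
  have hqs : Surjective q.left := by
    rw [← AlgSp.repWith_yon_map_iff @Surjective, hq, MorphismProperty.cancel_right_of_respectsIso (AlgSp.RepWith _)]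
    exact e3.1
  have : CompactSpace W₀.left := ⟨by
    rw [← Set.image_univ_of_surjective hqs.surj]
    exact isCompact_univ.image q.left.continuous⟩
  have : IsAffine H₀.left := inferInstanceAs (IsAffine (Spec _))
  exact Scheme.IsQuasiAffine.of_isImmersion w₀.left

/-- fppf descent of quasi-affine schemes: a sheaf over an affine scheme which becomes a quasi-affine scheme
after a surjective flat lfp affine base change is a quasi-affine scheme. -/
theorem exists_iso_of_fppf_quasiAffine' {U V W : Over S} [IsAffine U.left] [IsAffine V.left]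
    [W.left.IsQuasiAffine] (p : V ⟶ U) [Flat p.left] [Surjective p.left] [LocallyOfFinitePresentation p.left]
    {F : AlgSp.Sp S} (a : F ⟶ (AlgSp.yon S).obj U) (π : (AlgSp.yon S).obj W ⟶ F) (w : W ⟶ V)
    (sq : IsPullback π ((AlgSp.yon S).map w) a ((AlgSp.yon S).map p)) :
    ∃ W₀ : Over S, W₀.left.IsQuasiAffine ∧ Nonempty ((AlgSp.yon S).obj W₀ ≅ F) := by
  let _ : Algebra Γ(U.left, ⊤) Γ(V.left, ⊤) := p.left.appTop.hom.toAlgebra
  let _ : Algebra Γ(V.left, ⊤) Γ(W.left, ⊤) := w.left.appTop.hom.toAlgebra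
  let _ : Algebra Γ(U.left, ⊤) Γ(W.left, ⊤) := (w.left.appTop.hom.comp p.left.appTop.hom).toAlgebra
  have : IsScalarTower Γ(U.left, ⊤) Γ(V.left, ⊤) Γ(W.left, ⊤) := IsScalarTower.of_algebraMap_eq fun _ => rfl
  have : IsIso W.left.toSpecΓ.appTop := by
    rw [Scheme.toSpecΓ_appTop]
    infer_instance
  exact exists_iso_of_hull p U.left.isoSpec V.left.isoSpec (Scheme.toSpecΓ_naturality p.left).symm a π w sq
    W.left.toSpecΓ (Scheme.toSpecΓ_naturality w.left).symm

/-- fppf descent of quasi-affine schemes. -/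
theorem exists_iso_of_fppf_quasiAffine {U V W : Over S} [IsAffine U.left] [IsAffine V.left]
    [W.left.IsQuasiAffine] (p : V ⟶ U) [Flat p.left] [Surjective p.left] [LocallyOfFinitePresentation p.left]
    {F : AlgSp.Sp S} (a : F ⟶ (AlgSp.yon S).obj U) (π : (AlgSp.yon S).obj W ⟶ F) (w : W ⟶ V)
    (sq : IsPullback π ((AlgSp.yon S).map w) a ((AlgSp.yon S).map p)) :
    ∃ W₀ : Over S, Nonempty ((AlgSp.yon S).obj W₀ ≅ F) :=
  (exists_iso_of_fppf_quasiAffine' p a π w sq).imp fun _ h => h.2

end Groth.Agent.AlgSp
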