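import Groth.Agent.AlgSp.DescentAffine
import Groth.Agent.AlgSp.DescentGlue
import Groth.Agent.AlgSp.FppfLocal2
import Groth.Agent.AlgSp.PointsMor
import Mathlib.AlgebraicGeometry.Morphisms.AffineAnd

/-!
# Representability descends along locally surjective base change: affine morphisms and open immersions
-/

universe u

open CategoryTheory CategoryTheory.Limits AlgebraicGeometry Opposite

set_option backward.isDefEq.respectTransparency.types false

namespace Groth.Agent.AlgSp

variable {S : Scheme.{u}}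

/-- Over an affine scheme a locally surjective map lifts after one affine fppf covering. -/
theorem exists_affine_lift_fppf {H G : AlgSp.Sp S} (b : H ⟶ G) [Sheaf.IsLocallySurjective b] {U : Over S}
    [IsAffine U.left] (g : (AlgSp.yon S).obj U ⟶ G) :
    ∃ (V : Over S) (p : V ⟶ U) (l : (AlgSp.yon S).obj V ⟶ H), IsAffine V.left ∧ Flat p.left ∧
      Surjective p.left ∧ LocallyOfFinitePresentation p.left ∧ l ≫ b = (AlgSp.yon S).map p ≫ g := by
  obtain ⟨R, hR, hl⟩ := exists_cover_lift b g
  obtain ⟨ι, X, c, rfl⟩ := R.exists_eq_ofArrows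
  obtain ⟨hs, hc⟩ := (Scheme.ofArrows_mem_precoverage_iff _).1 hR
  choose l hl using fun i => hl (c i) (Presieve.ofArrows.mk i)
  have hloc : ∀ x : U.left, ∃ (i : ι) (A : (X i).Opens), IsAffineOpen A ∧ x ∈ c i '' (A : Set (X i)) := by
    intro x
    obtain ⟨i, w, rfl⟩ := hs x
    obtain ⟨A, hA, hw, -⟩ := exists_isAffineOpen_mem_and_subset (x := w) (U := ⊤) trivial
    exact ⟨i, A, hA, w, hw, rfl⟩
  choose i A hA hx using hloc
  have hopen : ∀ x, IsOpen (c (i x) '' (A x : Set (X (i x)))) := fun x => by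
    have : Flat (c (i x)) := (hc (i x)).1
    have : LocallyOfFinitePresentation (c (i x)) := (hc (i x)).2
    exact (c (i x)).isOpenMap _ (A x).isOpen
  obtain ⟨s, hsU⟩ := isCompact_univ.elim_finite_subcover _ hopen
    (fun x _ => Set.mem_iUnion.2 ⟨x, hx x⟩)
  let Y : s → Scheme.{u} := fun j => (A j.1).toScheme
  have : ∀ j, IsAffine (Y j) := fun j => hA j.1
  have : Finite s := Finite.of_fintype _
  let d : (∐ Y) ⟶ U.left := Sigma.desc fun j => (A j.1).ι ≫ c (i j.1)
  have hd : ∀ j, Sigma.ι Y j ≫ d = (A j.1).ι ≫ c (i j.1) := fun j => Sigma.ι_desc _ _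
  let V : Over S := Over.mk (d ≫ U.hom)
  let p : V ⟶ U := Over.homMk d rfl
  let Z : s → Over S := fun j => Over.mk ((A j.1).ι ≫ c (i j.1) ≫ U.hom)
  let e : ∀ j, Z j ⟶ V := fun j => Over.homMk (Sigma.ι Y j) (by
    change Sigma.ι Y j ≫ d ≫ U.hom = _
    rw [reassoc_of% (hd j)]; rfl)
  let r : ∀ j, Z j ⟶ Over.mk (c (i j.1) ≫ U.hom) := fun j => Over.homMk (A j.1).ι rfl
  have hcov : ∀ v : V.left, ∃ j, v ∈ Set.range (e j).left := fun v =>
    ⟨_, (sigmaOpenCover Y).covers v⟩
  have hem : ∀ j, IsOpenImmersion (e j).left := fun j => (sigmaOpenCover Y).map_prop j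
  obtain ⟨lV, hlV⟩ := InfGlue.exists_glue (T := V) (U := Z) e (fun j => have := hem j; inferInstance) hcov
    (fun j => (AlgSp.yon S).map (r j) ≫ l (i j.1)) fun j k T a a' haa => by
      by_cases hjk : j = k
      · subst hjk
        have : Mono (e j) := (Over.forget S).mono_of_mono_map (have := hem j; inferInstanceAs (Mono (e j).left))
        rw [(cancel_mono (e j)).1 haa]
      · refine InfGlue.hom_ext_cover (ι := PEmpty.{u + 1}) (U := fun x => x.elim) (fun x => x.elim)
          (fun x => x.elim) (fun t => ?_) _ _ (fun x => x.elim)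
        have := isEmpty_pullback_sigmaι_of_ne Y hjk
        exact this.elim ((pullback.lift a.left a'.left (congrArg (fun k => k.left) haa) :
          T.left ⟶ pullback (Sigma.ι Y j) (Sigma.ι Y k)) t)
  refine ⟨V, p, lV, inferInstanceAs (IsAffine (∐ Y)), ?_, ?_, ?_, ?_⟩
  · exact IsZariskiLocalAtSource.sigmaDesc fun j => have := (hc (i j.1)).1; inferInstanceAs (Flat (_ ≫ _))
  · refine ⟨fun x => ?_⟩
    obtain ⟨x₀, hx₀, w, hw, e'⟩ := Set.mem_iUnion₂.1 (hsU (Set.mem_univ x))
    refine ⟨Sigma.ι Y ⟨x₀, hx₀⟩ ⟨w, hw⟩, ?_⟩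
    change d _ = x
    rw [← Scheme.Hom.comp_apply, hd]
    exact e'
  · exact IsZariskiLocalAtSource.sigmaDesc fun j => have := (hc (i j.1)).2; inferInstanceAs (LocallyOfFinitePresentation (_ ≫ _))
  · refine InfGlue.hom_ext_cover (T := V) (U := Z) e (fun j => have := hem j; inferInstance) hcov _ _ fun j => ?_
    rw [reassoc_of% (hlV j), hl, ← Functor.map_comp_assoc, ← Functor.map_comp_assoc]
    congr 2
    exact Over.OverMorphism.ext (hd j).symm

/-- Effective descent over affine schemes gives descent of representability. -/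
theorem repWith_of_effective (P : MorphismProperty Scheme.{u}) [P.IsStableUnderBaseChange]
    [P.IsLocalAtTarget Scheme.fppfPrecoverage]
    {F G H Q : AlgSp.Sp S} (a : F ⟶ G) (b : H ⟶ G) [Sheaf.IsLocallySurjective b]
    {b' : Q ⟶ F} {a' : Q ⟶ H} (sq : IsPullback b' a' a b) (h : AlgSp.RepWith P a')
    (heff : ∀ {U V W : Over S} [IsAffine U.left] [IsAffine V.left] (p : V ⟶ U) [Flat p.left]
      [Surjective p.left] [LocallyOfFinitePresentation p.left] {F' : AlgSp.Sp S}
      (a₀ : F' ⟶ (AlgSp.yon S).obj U) (π : (AlgSp.yon S).obj W ⟶ F') (w : W ⟶ V),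
      IsPullback π ((AlgSp.yon S).map w) a₀ ((AlgSp.yon S).map p) → P w.left →
      ∃ W₀ : Over S, Nonempty ((AlgSp.yon S).obj W₀ ≅ F')) :
    AlgSp.RepWith P a := by
  have hrep : AlgSp.Representable a := by
    intro U g
    obtain ⟨X, ⟨e⟩⟩ := exists_iso_of_affineOpens (pullback.snd a g) fun V₀ => by
      have : IsAffine (openOver U V₀.1).left := V₀.2
      obtain ⟨V, p, l, hV, hpf, hps, hpl, hl⟩ := exists_affine_lift_fppf b ((AlgSp.yon S).map (openι U V₀.1) ≫ g)
      have s0 := IsPullback.of_hasPullback (pullback.snd a g) ((AlgSp.yon S).map (openι U V₀.1))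
      have s1 := s0.paste_horiz (IsPullback.of_hasPullback a g)
      have s2 := (IsPullback.of_hasPullback (pullback.snd (pullback.snd a g) ((AlgSp.yon S).map (openι U V₀.1)))
        ((AlgSp.yon S).map p))
      have s3 := s2.paste_horiz s1
      rw [← hl] at s3
      obtain ⟨c, hc1, hc2⟩ := sq.exists_lift _ _ (s3.w.trans (Category.assoc _ _ _).symm)
      have s4 : IsPullback c (pullback.snd (pullback.snd (pullback.snd a g) ((AlgSp.yon S).map (openι U V₀.1)))
          ((AlgSp.yon S).map p)) a' l := IsPullback.of_right (by rw [hc1]; exact s3) hc2 sq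
      obtain ⟨W, w, fst, s5⟩ := h.1 l
      let e := s5.isoIsPullback _ _ s4
      have he : e.hom ≫ pullback.snd (pullback.snd (pullback.snd a g) ((AlgSp.yon S).map (openι U V₀.1)))
          ((AlgSp.yon S).map p) = (AlgSp.yon S).map w := IsPullback.isoIsPullback_hom_snd _ _ _ _
      obtain ⟨W₀, ⟨e₀⟩⟩ := heff p (pullback.snd (pullback.snd a g) ((AlgSp.yon S).map (openι U V₀.1)))
        (e.hom ≫ pullback.fst _ _) w
        (IsPullback.of_iso s2 e.symm (Iso.refl _) (Iso.refl _) (Iso.refl _) (by simp) (by simp [← he])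
          (by simp) (by simp)) (h.2 l fst w s5)
      obtain ⟨w₀, hw₀⟩ := (AlgSp.yon S).map_surjective (e₀.hom ≫ pullback.snd (pullback.snd a g) ((AlgSp.yon S).map (openι U V₀.1)))
      exact ⟨W₀, e₀.hom ≫ pullback.fst _ _, w₀, IsPullback.of_iso s0 e₀.symm (Iso.refl _) (Iso.refl _)
        (Iso.refl _) (by simp) (by simp [hw₀]) (by simp) (by simp)⟩
    obtain ⟨x, hx⟩ := (AlgSp.yon S).map_surjective (e.hom ≫ pullback.snd a g)
    exact ⟨X, x, e.hom ≫ pullback.fst a g, IsPullback.of_iso (IsPullback.of_hasPullback a g) e.symm (Iso.refl _)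
      (Iso.refl _) (Iso.refl _) (by simp) (by simp [hx]) (by simp) (by simp)⟩
  exact repWith_of_isPullback_of_isLocallySurjective a hrep b _ _ sq P h

/-- Affine morphisms satisfy effective descent. -/
theorem repWith_isAffineHom_of_baseChange {F G H Q : AlgSp.Sp S} (a : F ⟶ G) (b : H ⟶ G)
    [Sheaf.IsLocallySurjective b] {b' : Q ⟶ F} {a' : Q ⟶ H} (sq : IsPullback b' a' a b)
    (h : AlgSp.RepWith @IsAffineHom a') : AlgSp.RepWith @IsAffineHom a :=
  repWith_of_effective @IsAffineHom a b sq h fun {U V W} _ _ p _ _ _ {F'} a₀ π w s hw => by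
    have : IsAffine W.left := isAffine_of_isAffineHom w.left
    obtain ⟨W₀, -, e⟩ := exists_iso_of_fppf_affine p a₀ π w s
    exact ⟨W₀, e⟩

/-- Open immersions satisfy effective descent. -/
theorem repWith_isOpenImmersion_of_baseChange {F G H Q : AlgSp.Sp S} (a : F ⟶ G) (b : H ⟶ G)
    [Sheaf.IsLocallySurjective b] {b' : Q ⟶ F} {a' : Q ⟶ H} (sq : IsPullback b' a' a b)
    (h : AlgSp.RepWith @IsOpenImmersion a') : AlgSp.RepWith @IsOpenImmersion a :=
  repWith_of_effective @IsOpenImmersion a b sq h fun {U V W} _ _ p _ _ _ {F'} a₀ π w s hw => by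
    have := isLocallySurjective_of_repWith ((AlgSp.yon S).map p) ((AlgSp.repWith_yon_map_iff _ p).2 inferInstance)
      ((AlgSp.repWith_yon_map_iff _ p).2 inferInstance) ((AlgSp.repWith_yon_map_iff _ p).2 inferInstance)
    have : IsOpenImmersion w.left := hw
    have : Mono w := (Over.forget S).mono_of_mono_map (inferInstanceAs (Mono w.left))
    have : Mono a₀ := mono_of_isLocallySurjective_baseChange a₀ ((AlgSp.yon S).map p) s
    let f := w.left ≫ p.left
    let O : U.left.Opens := ⟨Set.range f, f.isOpenMap.isOpen_range⟩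
    let W₀ := openOver U O
    let q : W ⟶ W₀ := Over.homMk (IsOpenImmersion.lift O.ι f (by rw [Scheme.Opens.range_ι]; exact subset_rfl)) (by
      change _ ≫ O.ι ≫ U.hom = W.hom
      rw [IsOpenImmersion.lift_fac_assoc, Category.assoc, Over.w p, Over.w w])
    have hq : q ≫ openι U O = w ≫ p := Over.OverMorphism.ext (IsOpenImmersion.lift_fac _ _ _)
    have hqf : q.left ≫ O.ι = f := IsOpenImmersion.lift_fac _ _ _
    have hflat : Flat q.left := MorphismProperty.of_postcomp @Flat (W' := @IsOpenImmersion) q.left O.ι inferInstance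
      (by rw [hqf]; infer_instance)
    have hlfp : LocallyOfFinitePresentation q.left := MorphismProperty.of_postcomp @LocallyOfFinitePresentation
      (W' := @IsOpenImmersion) q.left O.ι inferInstance (by rw [hqf]; infer_instance)
    have hsurj : Surjective q.left := ⟨by
      rintro ⟨x, z, hz⟩
      exact ⟨z, Subtype.ext ((congr($hqf z)).trans hz)⟩⟩
    have hrep : ∀ (P : MorphismProperty Scheme.{u}) [P.IsStableUnderBaseChange], P p.left → AlgSp.RepWith P π :=
      fun P _ hP => MorphismProperty.of_isPullback s.flip ((AlgSp.repWith_yon_map_iff P p).2 hP)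
    have := isLocallySurjective_of_repWith π (hrep @Flat inferInstance)
      (hrep @LocallyOfFinitePresentation inferInstance) (hrep @Surjective inferInstance)
    have := isLocallySurjective_of_repWith ((AlgSp.yon S).map q) ((AlgSp.repWith_yon_map_iff _ q).2 hflat)
      ((AlgSp.repWith_yon_map_iff _ q).2 hlfp) ((AlgSp.repWith_yon_map_iff _ q).2 hsurj)
    have : Mono (openι U O) := (Over.forget S).mono_of_mono_map (inferInstanceAs (Mono O.ι))
    have k0 := (IsPullback.of_hasPullback q q).map (AlgSp.yon S)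
    have e : π ≫ a₀ = (AlgSp.yon S).map q ≫ (AlgSp.yon S).map (openι U O) := by
      rw [s.w, ← Functor.map_comp, ← Functor.map_comp, hq]
    have k1 : IsPullback ((AlgSp.yon S).map (pullback.fst q q)) ((AlgSp.yon S).map (pullback.snd q q)) π π := by
      refine IsPullback.of_isLimit' ⟨?_⟩ (PullbackCone.IsLimit.mk _ (fun c => k0.lift c.fst c.snd ?_) (fun c => ?_)
        (fun c => ?_) (fun c m h1 h2 => ?_))
      · rw [← cancel_mono a₀, Category.assoc, Category.assoc, e, reassoc_of% k0.w]
      · rw [← cancel_mono ((AlgSp.yon S).map (openι U O)), Category.assoc, Category.assoc, ← e,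
          reassoc_of% c.condition]
      · exact k0.lift_fst ..
      · exact k0.lift_snd ..
      · exact k0.hom_ext (h1.trans (k0.lift_fst ..).symm) (h2.trans (k0.lift_snd ..).symm)
    obtain ⟨c1⟩ := isColimit_of_isPullback π k1
    obtain ⟨c2⟩ := isColimit_of_isPullback ((AlgSp.yon S).map q) k0
    exact ⟨W₀, ⟨c2.coconePointUniqueUpToIso c1⟩⟩

end Groth.Agent.AlgSp
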