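import Groth.Agent.AlgSp.InfGlue
import Groth.Agent.AlgSp.Basic
import Groth.Agent.AlgSp.Coprod
import Groth.Agent.AlgSpB.Points
import Groth.Agent.AlgSp.DescentSepLqf
import Groth.Agent.AlgSpB.Open

/-!
# Sheaves that are disjoint unions of schemes
-/

universe u

open CategoryTheory CategoryTheory.Limits AlgebraicGeometry Opposite AlgSp

set_option backward.isDefEq.respectTransparency.types false

namespace Groth.Agent.AlgSp.EDPushGlue

variable {S : Scheme.{u}}

/-- Maps out of the empty scheme are equal. -/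
theorem hom_eq_of_isEmpty {F : Sp S} {T : Over S} (h : IsEmpty T.left) (a b : (yon S).obj T ⟶ F) : a = b :=
  InfGlue.hom_ext_cover (ι := PEmpty.{u + 1}) (U := fun x => x.elim) (fun x => x.elim) (fun x => x.elim)
    (fun t => h.elim t) a b (fun x => x.elim)

/-- A disjoint union of schemes over `S`. -/
theorem exists_sigma {ι : Type u} (X : ι → Over S) :
    ∃ (W : Over S) (e : ∀ i, X i ⟶ W), (∀ i, IsOpenImmersion (e i).left) ∧
      (∀ x, ∃ i, x ∈ Set.range (e i).left) ∧
      ∀ i j (T : Over S) (a : T ⟶ X i) (b : T ⟶ X j), i ≠ j → a ≫ e i = b ≫ e j → IsEmpty T.left := by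
  let Y : ι → Scheme.{u} := fun i => (X i).left
  let W : Over S := Over.mk (Sigma.desc fun i => (X i).hom : (∐ Y) ⟶ S)
  let e : ∀ i, X i ⟶ W := fun i => Over.homMk (Sigma.ι Y i) (Sigma.ι_desc _ i)
  refine ⟨W, e, fun i => (sigmaOpenCover Y).map_prop i, fun x => ⟨_, (sigmaOpenCover Y).covers x⟩,
    fun i j T a b hij hab => ⟨fun t => ?_⟩⟩
  have := isEmpty_pullback_sigmaι_of_ne Y hij
  exact this.elim ((pullback.lift a.left b.left (congrArg (fun k => k.left) hab) :
    T.left ⟶ pullback (Sigma.ι Y i) (Sigma.ι Y j)) t)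

/-- A sheaf covered epimorphically by pairwise disjoint monomorphisms from schemes is their disjoint union. -/
theorem exists_iso_of_disjoint {ι : Type u} {F : Sp S} (X : ι → Over S) (π : ∀ i, (yon S).obj (X i) ⟶ F)
    (hmono : ∀ i (T : Over S) (a b : T ⟶ X i), (yon S).map a ≫ π i = (yon S).map b ≫ π i → a = b)
    (hdis : ∀ i j (T : Over S) (a : T ⟶ X i) (b : T ⟶ X j), i ≠ j →
      (yon S).map a ≫ π i = (yon S).map b ≫ π j → IsEmpty T.left)
    (hepi : ∀ (Q : Sp S) (m m' : F ⟶ Q), (∀ i, π i ≫ m = π i ≫ m') → m = m') :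
    ∃ (W : Over S) (e : ∀ i, X i ⟶ W) (Φ : (yon S).obj W ≅ F), (∀ i, IsOpenImmersion (e i).left) ∧
      (∀ x, ∃ i, x ∈ Set.range (e i).left) ∧ ∀ i, (yon S).map (e i) ≫ Φ.hom = π i := by
  obtain ⟨W, e, he, hcov, hd⟩ := exists_sigma X
  have het : ∀ i, Etale (e i).left := fun i => have := he i; inferInstance
  have hem : ∀ i, Mono (e i) := fun i => (Over.forget S).mono_of_mono_map
    (have := he i; inferInstanceAs (Mono (e i).left))
  obtain ⟨Φ, hΦ⟩ := InfGlue.exists_glue e het hcov π fun i j Z a b hab => by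
    rcases eq_or_ne i j with rfl | hij
    · have := hem i
      rw [(cancel_mono (e i)).1 hab]
    · exact hom_eq_of_isEmpty (hd i j Z a b hij hab) _ _
  have : Mono Φ := Groth.Agent.AlgSp.mono_of_yon Φ fun T z z' h => by
    obtain ⟨z, rfl⟩ := (yon S).map_surjective z
    obtain ⟨z', rfl⟩ := (yon S).map_surjective z'
    let P : ι × ι → Over S := fun k => pullback (pullback.fst z (e k.1) ≫ z') (e k.2)
    let g : ∀ k, P k ⟶ T := fun k => pullback.fst _ _ ≫ pullback.fst z (e k.1)
    have ho : ∀ k, IsOpenImmersion (g k).left := fun k => by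
      have h1 : IsOpenImmersion (pullback.fst z (e k.1)).left :=
        MorphismProperty.of_isPullback (P := @IsOpenImmersion)
          ((IsPullback.of_hasPullback z (e k.1)).map (Over.forget S)).flip (he k.1)
      have h2 : IsOpenImmersion (pullback.fst (pullback.fst z (e k.1) ≫ z') (e k.2)).left :=
        MorphismProperty.of_isPullback (P := @IsOpenImmersion)
          ((IsPullback.of_hasPullback (pullback.fst z (e k.1) ≫ z') (e k.2)).map (Over.forget S)).flip (he k.2)
      exact inferInstanceAs (IsOpenImmersion ((pullback.fst _ _ : P k ⟶ _).left ≫ (pullback.fst z (e k.1)).left))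
    refine InfGlue.hom_ext_cover g (fun k => have := ho k; inferInstance) (fun x => ?_) _ _ fun k => ?_
    · obtain ⟨i, y, hy⟩ := hcov (z.left x)
      obtain ⟨q, hq, -⟩ := Scheme.exists_preimage_of_isPullback
        ((IsPullback.of_hasPullback z (e i)).map (Over.forget S)) x y hy.symm
      obtain ⟨j, y', hy'⟩ := hcov (z'.left x)
      obtain ⟨r, hr, -⟩ := Scheme.exists_preimage_of_isPullback
        ((IsPullback.of_hasPullback (pullback.fst z (e i) ≫ z') (e j)).map (Over.forget S)) q y'
        ((congrArg z'.left hq).trans hy'.symm)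
      exact ⟨(i, j), r, (congrArg (pullback.fst z (e i)).left hr).trans hq⟩
    · let a : P k ⟶ X k.1 := pullback.fst _ _ ≫ pullback.snd z (e k.1)
      let b : P k ⟶ X k.2 := pullback.snd _ _
      have ha : g k ≫ z = a ≫ e k.1 := by simp only [g, a, Category.assoc, pullback.condition]
      have hb : g k ≫ z' = b ≫ e k.2 := by
        simp only [g, b, Category.assoc]; exact pullback.condition
      rw [← Functor.map_comp, ← Functor.map_comp, ha, hb]
      have hab : (yon S).map a ≫ π k.1 = (yon S).map b ≫ π k.2 := by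
        rw [← hΦ, ← hΦ, ← Functor.map_comp_assoc, ← Functor.map_comp_assoc, ← ha, ← hb, (yon S).map_comp_assoc (g k) z,
          (yon S).map_comp_assoc (g k) z', h]
      obtain ⟨i, j⟩ := k
      rcases eq_or_ne i j with rfl | hij
      · rw [hmono i _ a b hab]
      · exact hom_eq_of_isEmpty (hdis i j _ a b hij hab) _ _
  have : Epi Φ := ⟨fun {Q} m m' h => hepi Q m m' fun i => by rw [← hΦ, Category.assoc, Category.assoc, h]⟩
  have : IsIso Φ := isIso_of_mono_of_epi Φ
  exact ⟨W, e, asIso Φ, he, hcov, hΦ⟩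

/-- The kernel pair of a map from a disjoint union of schemes is assembled from the pairwise fibre products. -/
theorem exists_kernelPair {ι : Type u} {G : Sp S} {X : ι → Over S} {W : Over S} (e : ∀ i, X i ⟶ W)
    (he : ∀ i, IsOpenImmersion (e i).left) (hcov : ∀ x, ∃ i, x ∈ Set.range (e i).left)
    (hd : ∀ i j (T : Over S) (a : T ⟶ X i) (b : T ⟶ X j), i ≠ j → a ≫ e i = b ≫ e j → IsEmpty T.left)
    (q : (yon S).obj W ⟶ G) (P : ι × ι → Over S) (t : ∀ k, P k ⟶ X k.1) (s : ∀ k, P k ⟶ X k.2)
    (hP : ∀ k, IsPullback ((yon S).map (t k)) ((yon S).map (s k)) ((yon S).map (e k.1) ≫ q)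
      ((yon S).map (e k.2) ≫ q)) (hs : ∀ k, Etale (s k).left) :
    ∃ (R : Over S) (t' s' : R ⟶ W), IsPullback ((yon S).map t') ((yon S).map s') q q ∧ Etale s'.left := by
  have hem : ∀ i, Mono (e i) := fun i => (Over.forget S).mono_of_mono_map
    (have := he i; inferInstanceAs (Mono (e i).left))
  let π : ∀ k, (yon S).obj (P k) ⟶ pullback q q := fun k =>
    pullback.lift ((yon S).map (t k ≫ e k.1)) ((yon S).map (s k ≫ e k.2))
      (by rw [Functor.map_comp, Functor.map_comp, Category.assoc, Category.assoc]; exact (hP k).w)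
  have hcomp : ∀ {k T} (a : T ⟶ P k) {k'} (b : T ⟶ P k'), (yon S).map a ≫ π k = (yon S).map b ≫ π k' →
      (a ≫ t k) ≫ e k.1 = (b ≫ t k') ≫ e k'.1 ∧ (a ≫ s k) ≫ e k.2 = (b ≫ s k') ≫ e k'.2 := by
    intro k T a k' b h
    have h1 := congrArg (· ≫ pullback.fst q q) h
    have h2 := congrArg (· ≫ pullback.snd q q) h
    simp only [π, Category.assoc, pullback.lift_fst, pullback.lift_snd, ← Functor.map_comp] at h1 h2
    exact ⟨by simpa only [Category.assoc] using (yon S).map_injective h1,
      by simpa only [Category.assoc] using (yon S).map_injective h2⟩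
  obtain ⟨R, ρ, Φ, hρ, hρc, hΦ⟩ := exists_iso_of_disjoint P π
    (fun k T a b h => by
      obtain ⟨h1, h2⟩ := hcomp a b h
      have := hem k.1
      have := hem k.2
      apply (yon S).map_injective
      refine (hP k).hom_ext ?_ ?_ <;> rw [← Functor.map_comp, ← Functor.map_comp]
      · rw [(cancel_mono (e k.1)).1 h1]
      · rw [(cancel_mono (e k.2)).1 h2])
    (fun k k' T a b hk h => by
      obtain ⟨h1, h2⟩ := hcomp a b h
      by_cases hk₁ : k.1 = k'.1
      · exact hd _ _ T _ _ (fun hk₂ => hk (Prod.ext hk₁ hk₂)) h2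
      · exact hd _ _ T _ _ hk₁ h1)
    (fun Q m m' h => AlgSp.hom_ext_yon fun T z => by
      obtain ⟨x, hx⟩ := (yon S).map_surjective (z ≫ pullback.fst q q)
      obtain ⟨y, hy⟩ := (yon S).map_surjective (z ≫ pullback.snd q q)
      let O : ι × ι → Over S := fun k => pullback (pullback.fst x (e k.1) ≫ y) (e k.2)
      let g : ∀ k, O k ⟶ T := fun k => pullback.fst _ _ ≫ pullback.fst x (e k.1)
      have ho : ∀ k, IsOpenImmersion (g k).left := fun k => by
        have h1 : IsOpenImmersion (pullback.fst x (e k.1)).left :=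
          MorphismProperty.of_isPullback (P := @IsOpenImmersion)
            ((IsPullback.of_hasPullback x (e k.1)).map (Over.forget S)).flip (he k.1)
        have h2 : IsOpenImmersion (pullback.fst (pullback.fst x (e k.1) ≫ y) (e k.2)).left :=
          MorphismProperty.of_isPullback (P := @IsOpenImmersion)
            ((IsPullback.of_hasPullback (pullback.fst x (e k.1) ≫ y) (e k.2)).map (Over.forget S)).flip (he k.2)
        exact inferInstanceAs (IsOpenImmersion ((pullback.fst _ _ : O k ⟶ _).left ≫ (pullback.fst x (e k.1)).left))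
      refine InfGlue.hom_ext_cover g (fun k => have := ho k; inferInstance) (fun w => ?_) _ _ fun k => ?_
      · obtain ⟨i, v, hv⟩ := hcov (x.left w)
        obtain ⟨r, hr, -⟩ := Scheme.exists_preimage_of_isPullback
          ((IsPullback.of_hasPullback x (e i)).map (Over.forget S)) w v hv.symm
        obtain ⟨j, v', hv'⟩ := hcov (y.left w)
        obtain ⟨r', hr', -⟩ := Scheme.exists_preimage_of_isPullback
          ((IsPullback.of_hasPullback (pullback.fst x (e i) ≫ y) (e j)).map (Over.forget S)) r v'
          ((congrArg y.left hr).trans hv'.symm)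
        exact ⟨(i, j), r', (congrArg (pullback.fst x (e i)).left hr').trans hr⟩
      · let a : O k ⟶ X k.1 := pullback.fst _ _ ≫ pullback.snd x (e k.1)
        let b : O k ⟶ X k.2 := pullback.snd _ _
        have ha : g k ≫ x = a ≫ e k.1 := by simp only [g, a, Category.assoc, pullback.condition]
        have hb : g k ≫ y = b ≫ e k.2 := by simp only [g, b, Category.assoc]; exact pullback.condition
        have w' : (yon S).map a ≫ (yon S).map (e k.1) ≫ q = (yon S).map b ≫ (yon S).map (e k.2) ≫ q := by
          rw [← Functor.map_comp_assoc, ← Functor.map_comp_assoc, ← ha, ← hb, (yon S).map_comp_assoc (g k) x,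
            (yon S).map_comp_assoc (g k) y, hx, hy, Category.assoc, Category.assoc, pullback.condition]
        have hz : (yon S).map (g k) ≫ z = (hP k).lift _ _ w' ≫ π k := by
          apply pullback.hom_ext <;> simp only [π, Category.assoc, pullback.lift_fst, pullback.lift_snd, ← hx, ← hy,
            Functor.map_comp]
          · rw [(hP k).lift_fst_assoc, ← Functor.map_comp, ← Functor.map_comp, ha]
          · rw [(hP k).lift_snd_assoc, ← Functor.map_comp, ← Functor.map_comp, hb]
        rw [← Category.assoc, ← Category.assoc, hz, Category.assoc, Category.assoc, h k])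
  obtain ⟨t', ht'⟩ := (yon S).map_surjective (Φ.hom ≫ pullback.fst q q)
  obtain ⟨s', hs'⟩ := (yon S).map_surjective (Φ.hom ≫ pullback.snd q q)
  refine ⟨R, t', s', IsPullback.of_iso (IsPullback.of_hasPullback q q) Φ.symm (Iso.refl _) (Iso.refl _) (Iso.refl _)
    (by simp [ht']) (by simp [hs']) (by simp) (by simp), ?_⟩
  let 𝒱 : R.left.OpenCover :=
    Scheme.Cover.mkOfCovers (ι × ι) (fun k => (P k).left) (fun k => (ρ k).left)
      (fun x => by obtain ⟨k, y, hy⟩ := hρc x; exact ⟨k, y, hy⟩) hρ
  refine IsZariskiLocalAtSource.of_openCover (P := @Etale) 𝒱 fun k => ?_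
  have e' : ρ k ≫ s' = s k ≫ e k.2 := (yon S).map_injective (by
    rw [Functor.map_comp, hs', ← Category.assoc, hΦ]; exact pullback.lift_snd _ _ _)
  change Etale ((ρ k).left ≫ s'.left)
  rw [← Over.comp_left, e', Over.comp_left]
  have := hs k
  have := he k.2
  infer_instance

end Groth.Agent.AlgSp.EDPushGlue
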