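import Groth.Agent.AlgSp.InfEtale

/-!
Lifting along first order thickenings of algebraic spaces, and descent of maps along etale surjections.
-/

universe u

open CategoryTheory CategoryTheory.Limits AlgebraicGeometry Opposite AlgSp

namespace Groth.Agent.AlgSp.InfSpace

open InfGlue

variable {S : Scheme.{u}}

/-- Two maps out of a sheaf agreeing after a representable etale surjection are equal. -/
theorem hom_ext_cover_sp {T' T X : Sp S} {p : T ⟶ T'} (hp : RepWith @Etale p) (hs : RepWith @Surjective p)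
    {l l' : T' ⟶ X} (h : p ≫ l = p ≫ l') : l = l' := by
  have : Sheaf.IsLocallySurjective p := AlgSp.isLocallySurjective_of_etale_surjective p hp hs
  exact (cancel_epi p).1 h

/-- A map on a representable etale cover which is compatible on overlaps descends. -/
theorem exists_desc {T' T X : Sp S} {p : T ⟶ T'} (hp : RepWith @Etale p) (hs : RepWith @Surjective p)
    (m : T ⟶ X)
    (h : ∀ (Z : Over S) (a b : (yon S).obj Z ⟶ T), a ≫ p = b ≫ p → a ≫ m = b ≫ m) :
    ∃ l : T' ⟶ X, p ≫ l = m := by
  have key : ∀ (U : Over S) (s : (yon S).obj U ⟶ T'), ∃ n : (yon S).obj U ⟶ X,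
      ∀ (Z : Over S) (g : Z ⟶ U) (a : (yon S).obj Z ⟶ T), a ≫ p = (yon S).map g ≫ s →
        a ≫ m = (yon S).map g ≫ n := by
    intro U s
    let q := hp.1.snd s
    have hq : Etale q.left := hp.2 _ _ _ (hp.1.isPullback s)
    have hq' : Surjective q.left := hs.2 _ _ _ (hp.1.isPullback s)
    obtain ⟨n, hn⟩ := exists_glue (fun _ : PUnit.{1} => q) (fun _ => hq)
      (fun x => ⟨⟨⟩, q.left.surjective x⟩) (fun _ => hp.1.fst s ≫ m) fun _ _ Z a b w => by
        simp only [← Category.assoc]
        refine h Z _ _ ?_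
        simp only [Category.assoc, (hp.1.isPullback s).w]
        rw [← Category.assoc, ← Category.assoc, ← Functor.map_comp, ← Functor.map_comp]
        exact congr((yon S).map $w ≫ s)
    refine ⟨n, fun Z g a ha => ?_⟩
    have e := hp.1.lift_fst (g := s) a g ha
    rw [← e, Category.assoc, ← hn ⟨⟩, ← Category.assoc, ← Functor.map_comp]
    simp [q]
  choose n hn using key
  let lh : T'.obj ⟶ X.obj :=
    { app := fun U => TypeCat.ofHom fun s => AlgSp.yEquiv (n U.unop (AlgSp.yEquiv.symm s))
      naturality := fun U U' g => by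
        ext s
        change AlgSp.yEquiv (n U'.unop (AlgSp.yEquiv.symm (T'.obj.map g s))) =
          X.obj.map g.unop.op (AlgSp.yEquiv (n U.unop (AlgSp.yEquiv.symm s)))
        rw [← AlgSp.yEquiv_map]
        congr 1
        have hs' : AlgSp.yEquiv.symm (T'.obj.map g s) = (yon S).map g.unop ≫ AlgSp.yEquiv.symm s := by
          rw [Equiv.symm_apply_eq, AlgSp.yEquiv_map, Equiv.apply_symm_apply]
          rfl
        rw [hs']
        let s₀ := (yon S).map g.unop ≫ AlgSp.yEquiv.symm s
        refine hom_ext_cover (fun _ : PUnit.{1} => hp.1.snd s₀) (fun _ => hp.2 _ _ _ (hp.1.isPullback s₀))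
          (fun x => ⟨⟨⟩, (hs.2 _ _ _ (hp.1.isPullback s₀)).surj x⟩) _ _ fun _ => ?_
        rw [← hn _ s₀ _ (hp.1.snd s₀) (hp.1.fst s₀) (hp.1.isPullback s₀).w,
          hn _ (AlgSp.yEquiv.symm s) _ (hp.1.snd s₀ ≫ g.unop) (hp.1.fst s₀)
            (by rw [(hp.1.isPullback s₀).w, Functor.map_comp, Category.assoc]),
          Functor.map_comp, Category.assoc] }
  let l : T' ⟶ X := ⟨lh⟩
  refine ⟨l, AlgSp.hom_ext_yon fun Z a => ?_⟩
  apply AlgSp.yEquiv.injective
  rw [← Category.assoc, AlgSp.yEquiv_comp]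
  change AlgSp.yEquiv (n Z (AlgSp.yEquiv.symm (AlgSp.yEquiv (a ≫ p)))) = _
  rw [Equiv.symm_apply_apply, hn Z (a ≫ p) Z (𝟙 Z) a (by simp)]
  simp

/-- If `Spec (A ⧸ I) ⟶ Spec A` has square zero kernel ideal sheaf then `I` has square zero. -/
theorem sq_eq_bot_of_ker_sq {A : Type u} [CommRing A] (I : Ideal A)
    (h : (Spec.map (CommRingCat.ofHom (Ideal.Quotient.mk I))).ker *
      (Spec.map (CommRingCat.ofHom (Ideal.Quotient.mk I))).ker = ⊥) : I ^ 2 = ⊥ := by
  rw [Scheme.ker_of_isAffine] at h
  have h' := congrArg (Scheme.IdealSheafData.equivOfIsAffine (X := Spec (CommRingCat.of A))) h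
  rw [map_mul] at h'
  change Scheme.IdealSheafData.equivOfIsAffine (Scheme.IdealSheafData.equivOfIsAffine.symm (RingHom.ker _)) *
    Scheme.IdealSheafData.equivOfIsAffine (Scheme.IdealSheafData.equivOfIsAffine.symm (RingHom.ker _)) = _ at h'
  rw [OrderRingIso.apply_symm_apply] at h'
  replace h' := h'.trans (Scheme.IdealSheafData.equivOfIsAffine (X := Spec (CommRingCat.of A))).toOrderIso.map_bot
  let e := (Scheme.ΓSpecIso (CommRingCat.of A)).commRingCatIsoToRingEquiv
  have hk : RingHom.ker ((Spec.map (CommRingCat.ofHom (Ideal.Quotient.mk I))).appTop).hom = I.comap e.toRingHom := by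
    ext x
    have hx := congr($(Scheme.ΓSpecIso_naturality (CommRingCat.ofHom (Ideal.Quotient.mk I))).hom x)
    rw [Ideal.mem_comap, RingHom.mem_ker, ← Ideal.Quotient.eq_zero_iff_mem]
    change _ ↔ Ideal.Quotient.mk I (e x) = 0
    rw [show Ideal.Quotient.mk I (e x) = _ from hx.symm]
    exact (map_eq_zero_iff _ (Scheme.ΓSpecIso (CommRingCat.of (A ⧸ I))).commRingCatIsoToRingEquiv.injective).symm
  rw [hk, ← pow_two] at h'
  have := congrArg (Ideal.map e.toRingHom) h'
  rw [Ideal.map_pow, Ideal.map_comap_of_surjective e.toRingHom e.surjective, Ideal.map_bot] at this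
  exact this

/-- The pullback of a first order thickening to an affine scheme etale over the target is `Spec (A ⧸ I)`. -/
theorem exists_sqZero_chart {T T' : Sp S} {j : T ⟶ T'} (hj : IsFOThickMor j) {A : Type u} [CommRing A]
    (str : Spec (CommRingCat.of A) ⟶ S) (y : (yon S).obj (Over.mk str) ⟶ T') (hy : RepWith @Etale y) :
    ∃ (I : Ideal A) (_ : I ^ 2 = ⊥)
      (k : (yon S).obj (Over.mk (Spec.map (CommRingCat.ofHom (Ideal.Quotient.mk I)) ≫ str)) ⟶ T),
      IsPullback k ((yon S).map (Over.homMk (Spec.map (CommRingCat.ofHom (Ideal.Quotient.mk I))) rfl :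
        Over.mk (Spec.map (CommRingCat.ofHom (Ideal.Quotient.mk I)) ≫ str) ⟶ Over.mk str)) j y := by
  let s := hj.1.1.snd y
  have hs : IsClosedImmersion s.left := (hj.1.2 _ _ _ (hj.1.1.isPullback y)).1
  have hsq : sqZero s.left := hj.2 y _ _ (inferInstanceAs (IsAffine (Spec (CommRingCat.of A)))) hy
    (hj.1.1.isPullback y)
  obtain ⟨I, e, he⟩ := IsClosedImmersion.Spec_iff.1 hs
  let e' : hj.1.1.pullback y ≅ Over.mk (Spec.map (CommRingCat.ofHom (Ideal.Quotient.mk I)) ≫ str) :=
    Over.isoMk e (by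
      change e.hom ≫ Spec.map _ ≫ str = _
      rw [← Category.assoc, ← he]
      exact Over.w s)
  have he' : e'.hom ≫ (Over.homMk (Spec.map (CommRingCat.ofHom (Ideal.Quotient.mk I))) rfl :
      Over.mk (Spec.map (CommRingCat.ofHom (Ideal.Quotient.mk I)) ≫ str) ⟶ Over.mk str) = s :=
    Over.OverMorphism.ext he.symm
  refine ⟨I, sq_eq_bot_of_ker_sq I ?_, (yon S).map e'.inv ≫ hj.1.1.fst y, ?_⟩
  · unfold sqZero at hsq
    rw [he, Scheme.Hom.ker_comp_of_isIso] at hsq
    exact hsq
  · refine (hj.1.1.isPullback y).of_iso ((yon S).mapIso e') (Iso.refl _) (Iso.refl _) (Iso.refl _) ?_ ?_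
      (by simp) (by simp)
    · simp [← Category.assoc, ← Functor.map_comp]
    · simp only [Functor.mapIso_hom, Iso.refl_hom, Category.comp_id]
      rw [← Functor.map_comp, he']

/-- Every point of a scheme over `S` lies in the image of an affine scheme etale over it. -/
theorem exists_affine_etale (W : Over S) (x : ↥W.left) :
    ∃ (A : CommRingCat.{u}) (str : Spec A ⟶ S) (g : Over.mk str ⟶ W),
      Etale g.left ∧ x ∈ Set.range g.left := by
  obtain ⟨i, z, hz⟩ := W.left.affineOpenCover.openCover.exists_eq x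
  have h : IsOpenImmersion (W.left.affineOpenCover.f i) := W.left.affineOpenCover.map_prop i
  refine ⟨_, W.left.affineOpenCover.f i ≫ W.hom, Over.homMk (W.left.affineOpenCover.f i) rfl, ?_, z, hz⟩
  exact inferInstanceAs (Etale (W.left.affineOpenCover.f i))

/-- Maps out of a scheme agreeing on all affine schemes etale over it are equal. -/
theorem hom_ext_affine {W : Over S} {X : Sp S} {l l' : (yon S).obj W ⟶ X}
    (h : ∀ (A : CommRingCat.{u}) (str : Spec A ⟶ S) (g : Over.mk str ⟶ W), Etale g.left →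
      (yon S).map g ≫ l = (yon S).map g ≫ l') : l = l' := by
  choose A str g he hx using exists_affine_etale W
  exact hom_ext_cover g he (fun x => ⟨x, hx x⟩) l l' fun x => h _ _ _ (he x)

variable {T T' X Y : Sp S} {j : T ⟶ T'} (hj : IsFOThickMor j) {f : X ⟶ Y}

include hj in
/-- Uniqueness of lifts along first order thickenings of algebraic spaces. -/
theorem eq_of_formallyUnramified (hT' : IsAlgSpace T') (hf : IsFormallyUnramifiedMor f)
    {l l' : T' ⟶ X} (h₁ : j ≫ l = j ≫ l') (h₂ : l ≫ f = l' ≫ f) : l = l' := by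
  obtain ⟨V, p, hp, hs⟩ := hT'.atlas
  refine hom_ext_cover_sp hp hs (hom_ext_affine fun A str g hg => ?_)
  have hy : RepWith @Etale ((yon S).map g ≫ p) :=
    (repWith_isMultiplicative _).comp_mem _ _ ((repWith_yon_map_iff _ _).2 hg) hp
  obtain ⟨I, hI, k, sqk⟩ := exists_sqZero_chart hj str _ hy
  let sq : InfSq f :=
    ⟨A, I, hI, str, k ≫ j ≫ l, ((yon S).map g ≫ p) ≫ l ≫ f, by
      simp only [Category.assoc, sqk.w_assoc]⟩
  rw [← Category.assoc, ← Category.assoc]
  refine hf sq _ _ ?_ (Category.assoc _ _ _) ?_ ((Category.assoc _ _ _).trans (by rw [← h₂]))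
  · exact (Category.assoc _ _ _).symm.trans ((congrArg (· ≫ l) sqk.w.symm).trans (Category.assoc _ _ _))
  · exact ((Category.assoc _ _ _).symm.trans ((congrArg (· ≫ l') sqk.w.symm).trans
      ((Category.assoc _ _ _).trans (by rw [← h₁])))).trans rfl

include hj in
/-- Existence of lifts along first order thickenings of algebraic spaces for a formally etale morphism. -/
theorem exists_lift_of_formallyEtale (hT' : IsAlgSpace T') (hf : IsFormallyEtaleMor f)
    (a : T ⟶ X) (b : T' ⟶ Y) (w : a ≫ f = j ≫ b) :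
    ∃ l : T' ⟶ X, j ≫ l = a ∧ l ≫ f = b := by
  have hu : IsFormallyUnramifiedMor f := fun sq l l' h₁ h₂ h₃ h₄ => (hf sq).unique ⟨h₁, h₂⟩ ⟨h₃, h₄⟩
  have K : ∀ (A : Type u) [CommRing A] (str : Spec (CommRingCat.of A) ⟶ S)
      (y : (yon S).obj (Over.mk str) ⟶ T'), RepWith @Etale y →
      ∃! l : (yon S).obj (Over.mk str) ⟶ X, l ≫ f = y ≫ b ∧
        ∀ (Z : Over S) (g : Z ⟶ Over.mk str) (t : (yon S).obj Z ⟶ T),
          t ≫ j = (yon S).map g ≫ y → (yon S).map g ≫ l = t ≫ a := by
    intro A _ str y hy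
    obtain ⟨I, hI, k, sqk⟩ := exists_sqZero_chart hj str y hy
    let sq : InfSq f := ⟨A, I, hI, str, k ≫ a, y ≫ b, by rw [Category.assoc, w, sqk.w_assoc]⟩
    obtain ⟨l, ⟨h₁, h₂⟩, hl⟩ := hf sq
    refine ⟨l, ⟨h₂, fun Z g t ht => ?_⟩, fun l' hl' => hl l' ⟨hl'.2 _ _ k sqk.w, hl'.1⟩⟩
    have e := congrArg (sqk.lift t ((yon S).map g) ht ≫ ·) h₁
    change _ = sqk.lift t ((yon S).map g) ht ≫ k ≫ a at e
    rw [sqk.lift_fst_assoc] at e
    rw [← e]
    exact (sqk.lift_snd_assoc _ _ ht l).symm
  choose L hL hLu using fun A inst str y hy => @K A inst str y hy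
  have compat : ∀ (A B : Type u) [CommRing A] [CommRing B] (str : Spec (CommRingCat.of A) ⟶ S)
      (str' : Spec (CommRingCat.of B) ⟶ S) (y : (yon S).obj (Over.mk str) ⟶ T')
      (hy : RepWith @Etale y) (g : Over.mk str' ⟶ Over.mk str) (hg : RepWith @Etale ((yon S).map g ≫ y)),
      (yon S).map g ≫ L A inferInstance str y hy = L B inferInstance str' ((yon S).map g ≫ y) hg := by
    intro A B _ _ str str' y hy g hg
    refine hLu B _ str' _ hg _ ⟨?_, fun Z g' t ht => ?_⟩
    · rw [Category.assoc, (hL A _ str y hy).1, Category.assoc]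
    · rw [← Category.assoc, ← Functor.map_comp]
      exact (hL A _ str y hy).2 Z _ t (by rw [ht, Functor.map_comp, Category.assoc])
  have glue : ∀ (W : Over S) (q : (yon S).obj W ⟶ T'), RepWith @Etale q →
      ∃ m : (yon S).obj W ⟶ X, m ≫ f = q ≫ b ∧ ∀ (A : Type u) [CommRing A]
        (str : Spec (CommRingCat.of A) ⟶ S) (g : Over.mk str ⟶ W) (hg : RepWith @Etale ((yon S).map g ≫ q)),
        Etale g.left → (yon S).map g ≫ m = L A inferInstance str ((yon S).map g ≫ q) hg := by
    intro W q hq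
    let ι := Σ' (R : CommRingCat.{u}) (str : Spec R ⟶ S) (g : Over.mk str ⟶ W), PLift (Etale g.left)
    let U : ι → Over S := fun i => Over.mk i.2.1
    have he : ∀ i : ι, Etale (i.2.2.1).left := fun i => i.2.2.2.down
    have hyi : ∀ i : ι, RepWith @Etale ((yon S).map i.2.2.1 ≫ q) := fun i =>
      (repWith_isMultiplicative _).comp_mem _ _ ((repWith_yon_map_iff _ _).2 (he i)) hq
    have hcov : ∀ x, ∃ i : ι, x ∈ Set.range (i.2.2.1).left := fun x => by
      obtain ⟨A, str, g, he, hx⟩ := exists_affine_etale W x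
      exact ⟨⟨A, str, g, ⟨he⟩⟩, hx⟩
    obtain ⟨m, hm⟩ := exists_glue (U := U) (fun i => i.2.2.1) he hcov
      (fun i => L i.1 inferInstance i.2.1 ((yon S).map i.2.2.1 ≫ q) (hyi i)) (by
      intro i i' Z za zb hz
      let P := pullback i.2.2.1 i'.2.2.1
      let fst : P ⟶ U i := pullback.fst _ _
      let snd : P ⟶ U i' := pullback.snd _ _
      have hP := (IsPullback.of_hasPullback i.2.2.1 i'.2.2.1).map (Over.forget S)
      have := he i
      have := he i'
      have hfst : Etale fst.left := MorphismProperty.of_isPullback (P := @Etale) hP.flip (he i')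
      have hsnd : Etale snd.left := MorphismProperty.of_isPullback (P := @Etale) hP (he i)
      suffices (yon S).map fst ≫ L i.1 inferInstance i.2.1 ((yon S).map i.2.2.1 ≫ q) (hyi i) =
          (yon S).map snd ≫ L i'.1 inferInstance i'.2.1 ((yon S).map i'.2.2.1 ≫ q) (hyi i') by
        rw [← pullback.lift_fst za zb hz, Functor.map_comp, Category.assoc, this, ← Category.assoc,
          ← Functor.map_comp, pullback.lift_snd]
      refine hom_ext_affine fun C strC c hc => ?_
      · have h1 : Etale (c ≫ fst).left := inferInstanceAs (Etale (c.left ≫ fst.left))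
        have h2 : Etale (c ≫ snd).left := inferInstanceAs (Etale (c.left ≫ snd.left))
        rw [← Category.assoc, ← Category.assoc, ← Functor.map_comp, ← Functor.map_comp]
        have hy₁ := (repWith_isMultiplicative _).comp_mem _ _ ((repWith_yon_map_iff _ _).2 h1) (hyi i)
        have hy₂ := (repWith_isMultiplicative _).comp_mem _ _ ((repWith_yon_map_iff _ _).2 h2) (hyi i')
        refine (compat i.1 C i.2.1 strC _ (hyi i) (c ≫ fst) hy₁).trans
          (Eq.trans ?_ (compat i'.1 C i'.2.1 strC _ (hyi i') (c ≫ snd) hy₂).symm)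
        congr 1
        simp only [← Category.assoc, ← Functor.map_comp]
        congr 2
        simp only [Category.assoc]
        exact congrArg (c ≫ ·) pullback.condition)
    refine ⟨m, hom_ext_cover _ he hcov _ _ fun i => ?_, fun A _ str g hg hge => ?_⟩
    · erw [← Category.assoc, hm i, (hL _ _ _ _ (hyi i)).1, Category.assoc]
    · exact hm ⟨CommRingCat.of A, str, g, ⟨hge⟩⟩
  obtain ⟨V, p, hp, hs⟩ := hT'.atlas
  obtain ⟨m, hm₁, hm₂⟩ := glue V p hp
  obtain ⟨l, hl⟩ := exists_desc hp hs m fun Z u v huv => by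
    let R := hp.1.pullback p
    let r₁ : R ⟶ V := hp.1.fst' p
    let r₂ : R ⟶ V := hp.1.snd p
    have hr : (yon S).map r₁ ≫ p = (yon S).map r₂ ≫ p := by
      rw [Functor.relativelyRepresentable.map_fst']; exact (hp.1.isPullback p).w
    have hr₂ : Etale r₂.left := hp.2 _ _ _ (hp.1.isPullback p)
    have hr₁ : Etale r₁.left := by
      refine hp.2 p ((yon S).map r₂) r₁ ?_
      have := (hp.1.isPullback p).flip
      rwa [← Functor.relativelyRepresentable.map_fst'] at this
    suffices e : (yon S).map r₁ ≫ m = (yon S).map r₂ ≫ m by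
      obtain ⟨u, rfl⟩ := (yon S).map_surjective u
      obtain ⟨v, rfl⟩ := (yon S).map_surjective v
      rw [← Functor.relativelyRepresentable.lift'_fst hp.1 (g := p) u v huv, Functor.map_comp, Category.assoc,
        e, ← Category.assoc, ← Functor.map_comp, Functor.relativelyRepresentable.lift'_snd]
    refine hom_ext_affine fun C strC c hc => ?_
    · have h1 : Etale (c ≫ r₁).left := inferInstanceAs (Etale (c.left ≫ r₁.left))
      have h2 : Etale (c ≫ r₂).left := inferInstanceAs (Etale (c.left ≫ r₂.left))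
      rw [← Category.assoc, ← Category.assoc, ← Functor.map_comp, ← Functor.map_comp,
        hm₂ _ _ _ ((repWith_isMultiplicative _).comp_mem _ _ ((repWith_yon_map_iff _ _).2 h1) hp) h1,
        hm₂ _ _ _ ((repWith_isMultiplicative _).comp_mem _ _ ((repWith_yon_map_iff _ _).2 h2) hp) h2]
      congr 1
      simp only [Functor.map_comp, Category.assoc, hr]
  refine ⟨l, ?_, hom_ext_cover_sp hp hs (by rw [← Category.assoc, hl, hm₁])⟩
  let W := hj.1.1.pullback p
  let q : (yon S).obj W ⟶ T := hj.1.1.fst p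
  let s₀ : W ⟶ V := hj.1.1.snd p
  have sqW : IsPullback q ((yon S).map s₀) j p := hj.1.1.isPullback p
  refine hom_ext_cover_sp ((repWith_isStableUnderBaseChange _).of_isPullback sqW.flip hp)
    ((repWith_isStableUnderBaseChange _).of_isPullback sqW.flip hs) ?_
  rw [← Category.assoc, sqW.w, Category.assoc, hl]
  choose A str g he hx using exists_affine_etale V
  refine hom_ext_cover (fun x => pullback.fst s₀ (g x)) (fun x => ?_) (fun w => ?_) _ _ fun x => ?_
  · exact MorphismProperty.of_isPullback (P := @Etale)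
      ((IsPullback.of_hasPullback s₀ (g x)).map (Over.forget S)).flip (he x)
  · refine ⟨s₀.left w, ?_⟩
    obtain ⟨z, hz⟩ := hx (s₀.left w)
    obtain ⟨r, hr, -⟩ := Scheme.exists_preimage_of_isPullback
      ((IsPullback.of_hasPullback s₀ (g (s₀.left w))).map (Over.forget S)) w z hz.symm
    exact ⟨r, hr⟩
  · have hy : RepWith @Etale ((yon S).map (g x) ≫ p) :=
      (repWith_isMultiplicative _).comp_mem _ _ ((repWith_yon_map_iff _ _).2 (he x)) hp
    rw [← Category.assoc, ← Functor.map_comp, pullback.condition, Functor.map_comp, Category.assoc,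
      hm₂ (A x) (str x) (g x) hy (he x), (hL (A x) _ (str x) _ hy).2 _ (pullback.snd s₀ (g x))
        ((yon S).map (pullback.fst s₀ (g x)) ≫ q) (by
          rw [Category.assoc, sqW.w, ← Category.assoc, ← Functor.map_comp, pullback.condition,
            Functor.map_comp, Category.assoc]),
      Category.assoc]

/-- First order thickenings are stable under etale base change. -/
theorem isFOThickMor_of_etale_baseChange {Z Z' Y Y' : Sp S} {e : Z ⟶ Y} {iZ : Z ⟶ Z'} {iY : Y ⟶ Y'}
    {e' : Z' ⟶ Y'} (sq : IsPullback e iZ iY e') (he' : IsEtaleMor e') (h : IsFOThickMor iY) :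
    IsFOThickMor iZ :=
  ⟨(repWith_isStableUnderBaseChange _).of_isPullback sq h.1, fun _ _ b fst snd hV hb sqb =>
    h.2 (b ≫ e') (fst ≫ e) snd hV (he' b hb) (sqb.paste_horiz sq)⟩

end Groth.Agent.AlgSp.InfSpace
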