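import Groth.Agent.AlgSp.EDPushPiece
import Groth.Agent.AlgSp.InfSpace
import Groth.Agent.AlgSpB.RedInduced
import Groth.Agent.AlgSpCov.LocPBasic

/-!
# Pushouts of separated etale morphisms along open subspaces
-/

universe u

open CategoryTheory CategoryTheory.Limits AlgebraicGeometry Opposite AlgSp

set_option backward.isDefEq.respectTransparency.types false

namespace Groth.Agent.AlgSp.EDPushMain

open EDPushSheaf EDPushGlue

variable {S : Scheme.{u}}

/-- No test object maps to an open subspace and to a closed subspace with complementary images compatibly. -/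
theorem isEmpty_of_disjoint {U W Z : Sp S} {j : U ⟶ W} {i : Z ⟶ W}
    (h : Set.range (Points.map i) = (Set.range (Points.map j))ᶜ) {T : Over S} (s : (yon S).obj T ⟶ U)
    (t : (yon S).obj T ⟶ Z) (e : s ≫ j = t ≫ i) : IsEmpty T.left := ⟨fun w => by
  have h1 : Points.ofPt (s ≫ j) w ∈ Set.range (Points.map j) := ⟨_, Points.map_ofPt s j w⟩
  have h2 : Points.ofPt (t ≫ i) w ∈ Set.range (Points.map i) := ⟨_, Points.map_ofPt t i w⟩
  rw [h, ← e] at h2
  exact h2 h1⟩

/-- The pushout of a separated etale morphism along an open subspace is an algebraic space, with distinguished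
square. -/
theorem main {U V V' : Sp S} (hU : IsAlgSpace U) (hV : IsAlgSpace V) (jV : V' ⟶ V)
    (hjV : RepWith @IsOpenImmersion jV) (f' : V' ⟶ U) (hsep : IsSeparatedMor f') (het : IsEtaleMor f') :
    IsAlgSpace (glued jV f') ∧ IsPullback jV f' (inV jV f') (inU jV f') ∧
      IsElemDistSq (inU jV f') (inV jV f') := by
  have : Mono jV := AlgSpB.mono_of_isOpenImmersion hjV
  have hpo := EDPushSheaf.isPushout jV f'
  have sqW : IsPullback jV f' (inV jV f') (inU jV f') := Adhesive.isPullback_of_isPushout_of_mono_left hpo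
  have : Mono (inU jV f') := Adhesive.mono_of_isPushout_of_mono_left hpo
  obtain ⟨A, a, ha, has⟩ := hU.atlas
  obtain ⟨B, b, hb, hbs⟩ := hV.atlas
  obtain ⟨B₀, jb, b', sB⟩ := hjV.1 b
  have hjb : IsOpenImmersion jb.left := hjV.2 _ _ _ sB
  have hb' : RepWith @Etale b' := (repWith_isStableUnderBaseChange _).of_isPullback sB.flip hb
  have hbe : RepWith @Etale (b' ≫ f') := het b' hb'
  have sBW : IsPullback (b' ≫ f') ((yon S).map jb) (inU jV f') (b ≫ inV jV f') := sB.paste_horiz sqW.flip
  -- the cover
  let X : ULift.{u} Bool → Over S := fun i => bif i.down then A else B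
  obtain ⟨X₀, e, he, hcov, hd⟩ := exists_sigma X
  let π : ∀ i, (yon S).obj (X i) ⟶ glued jV f' := fun i => match i with
    | ⟨true⟩ => a ≫ inU jV f'
    | ⟨false⟩ => b ≫ inV jV f'
  have hem : ∀ i, Mono (e i) := fun i => (Over.forget S).mono_of_mono_map
    (have := he i; inferInstanceAs (Mono (e i).left))
  obtain ⟨q, hq⟩ := InfGlue.exists_glue e (fun i => have := he i; inferInstance) hcov π fun i j Z x y hxy => by
    rcases eq_or_ne i j with rfl | hij
    · have := hem i
      rw [(cancel_mono (e i)).1 hxy]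
    · exact hom_eq_of_isEmpty (hd i j Z x y hij hxy) _ _
  have hqA : (yon S).map (e ⟨true⟩) ≫ q = a ≫ inU jV f' := hq ⟨true⟩
  have hqB : (yon S).map (e ⟨false⟩) ≫ q = b ≫ inV jV f' := hq ⟨false⟩
  have : Epi q := ⟨fun {Q} m m' h => by
    refine hpo.hom_ext (InfSpace.hom_ext_cover_sp hb hbs ?_) (InfSpace.hom_ext_cover_sp ha has ?_)
    · rw [← Category.assoc, ← Category.assoc, ← hqB, Category.assoc, Category.assoc, h]
    · rw [← Category.assoc, ← Category.assoc, ← hqA, Category.assoc, Category.assoc, h]⟩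
  have hql : Sheaf.IsLocallySurjective q := (Sheaf.isLocallySurjective_iff_epi _).2 inferInstance
  have pieces : ∀ k : ULift.{u} Bool × ULift.{u} Bool, ∃ (P : Over S) (t : P ⟶ X k.1) (s : P ⟶ X k.2),
      IsPullback ((yon S).map t) ((yon S).map s) ((yon S).map (e k.1) ≫ q) ((yon S).map (e k.2) ≫ q) ∧
        Etale s.left := by
    intro k
    obtain ⟨P₀, t₀, s₀, sP₀⟩ := AlgSpB.exists_pullback_yon ha.1 (b' ≫ f')
    have sAB : IsPullback ((yon S).map t₀) ((yon S).map (s₀ ≫ jb)) (a ≫ inU jV f') (b ≫ inV jV f') := by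
      rw [Functor.map_comp]
      exact sP₀.paste_vert sBW
    obtain ⟨⟨_ | _⟩, ⟨_ | _⟩⟩ := k
    · obtain ⟨R, t, s, sR, hs⟩ := EDPushPiece.exists_piece hjV hsep hb sB hbe
      exact ⟨R, t, s, by rw [hqB]; exact sR, hs⟩
    · refine ⟨P₀, s₀ ≫ jb, t₀, by rw [hqA, hqB]; exact sAB.flip, ?_⟩
      exact hbe.2 _ _ _ sP₀.flip
    · refine ⟨P₀, t₀, s₀ ≫ jb, by rw [hqA, hqB]; exact sAB, ?_⟩
      have : Etale s₀.left := ha.2 _ _ _ sP₀
      exact inferInstanceAs (Etale (s₀.left ≫ jb.left))
    · obtain ⟨R, t, s, sR⟩ := AlgSpB.exists_pullback_yon ha.1 a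
      refine ⟨R, t, s, ?_, ha.2 _ _ _ sR⟩
      rw [hqA]
      refine IsPullback.of_isLimit' ⟨by rw [← Category.assoc, sR.w, Category.assoc]⟩
        (PullbackCone.IsLimit.mk _ (fun c => sR.lift c.fst c.snd (by
          rw [← cancel_mono (inU jV f'), Category.assoc, Category.assoc, c.condition]))
          (fun c => sR.lift_fst _ _ _) (fun c => sR.lift_snd _ _ _)
          (fun c m h₁ h₂ => sR.hom_ext (h₁.trans (sR.lift_fst _ _ _).symm) (h₂.trans (sR.lift_snd _ _ _).symm)))
  choose P t s hP hs using pieces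
  obtain ⟨R, t', s', sR, hs'⟩ := exists_kernelPair e he hcov hd q P t s hP hs
  obtain ⟨hW, hqe, hqs⟩ := isAlgSpace_of_kernelPair q sR hs'
  have hj : RepWith @IsOpenImmersion (inU jV f') := by
    let Y : ULift.{u} Bool → Over S := fun i => bif i.down then A else B₀
    let ρ : ∀ i, (yon S).obj (Y i) ⟶ pullback (inU jV f') q := fun i => match i with
      | ⟨true⟩ => pullback.lift a ((yon S).map (e ⟨true⟩)) hqA.symm
      | ⟨false⟩ => pullback.lift (b' ≫ f') ((yon S).map (jb ≫ e ⟨false⟩)) (by
          rw [Functor.map_comp, Category.assoc ((yon S).map jb), hqB, sBW.w])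
    let g : ∀ i, Y i ⟶ X₀ := fun i => match i with
      | ⟨true⟩ => e ⟨true⟩
      | ⟨false⟩ => jb ≫ e ⟨false⟩
    have hρ : ∀ i, ρ i ≫ pullback.snd _ _ = (yon S).map (g i) := by
      rintro ⟨_ | _⟩ <;> exact pullback.lift_snd _ _ _
    have hgo : ∀ i, IsOpenImmersion (g i).left := by
      rintro ⟨_ | _⟩
      · have := he ⟨false⟩
        exact inferInstanceAs (IsOpenImmersion (jb.left ≫ (e ⟨false⟩).left))
      · exact he ⟨true⟩
    have cmp : ∀ {i j T} (x : T ⟶ Y i) (y : T ⟶ Y j), (yon S).map x ≫ ρ i = (yon S).map y ≫ ρ j →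
        x ≫ g i = y ≫ g j := fun x y h => by
      have h' := congrArg (· ≫ pullback.snd (inU jV f') q) h
      simp only [Category.assoc, hρ, ← Functor.map_comp] at h'
      exact (yon S).map_injective h'
    obtain ⟨O, o, Φ, ho, hoc, hΦ⟩ := exists_iso_of_disjoint Y ρ
      (fun i T x y h => by
        have : Mono (g i) := (Over.forget S).mono_of_mono_map (have := hgo i; inferInstanceAs (Mono (g i).left))
        exact (cancel_mono (g i)).1 (cmp x y h))
      (fun i j T x y hij h => by
        have h' := cmp x y h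
        obtain ⟨_ | _⟩ := i <;> obtain ⟨_ | _⟩ := j
        · exact absurd rfl hij
        · exact hd _ _ T _ _ (by simp) ((Category.assoc _ _ _).trans h')
        · exact hd _ _ T _ _ (by simp) (h'.trans (Category.assoc _ _ _).symm)
        · exact absurd rfl hij)
      (fun Q m m' h => AlgSp.hom_ext_yon fun T z => by
        obtain ⟨y, hy⟩ := (yon S).map_surjective (z ≫ pullback.snd (inU jV f') q)
        refine InfGlue.hom_ext_cover (fun i => pullback.fst y (e i)) (fun i => ?_) (fun w => ?_) _ _ fun i => ?_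
        · exact MorphismProperty.of_isPullback (P := @Etale)
            ((IsPullback.of_hasPullback y (e i)).map (Over.forget S)).flip (have := he i; inferInstanceAs (Etale (e i).left))
        · obtain ⟨i, v, hv⟩ := hcov (y.left w)
          obtain ⟨r, hr, -⟩ := Scheme.exists_preimage_of_isPullback
            ((IsPullback.of_hasPullback y (e i)).map (Over.forget S)) w v hv.symm
          exact ⟨i, r, hr⟩
        · let k := pullback.fst y (e i)
          let l := pullback.snd y (e i)
          have hk : (yon S).map k ≫ z ≫ pullback.snd (inU jV f') q = (yon S).map l ≫ (yon S).map (e i) := by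
            rw [← hy, ← Functor.map_comp, ← Functor.map_comp, pullback.condition]
          have hk₁ : ((yon S).map k ≫ z ≫ pullback.fst (inU jV f') q) ≫ inU jV f' = (yon S).map l ≫ π i := by
            rw [Category.assoc, Category.assoc, pullback.condition, reassoc_of% hk, hq]
          suffices ∃ (n : (yon S).obj _ ⟶ (yon S).obj (Y i)), (yon S).map k ≫ z = n ≫ ρ i by
            obtain ⟨n, hn⟩ := this
            change (yon S).map k ≫ z ≫ m = (yon S).map k ≫ z ≫ m'
            rw [reassoc_of% hn, reassoc_of% hn]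
            exact congrArg _ (h i)
          obtain ⟨_ | _⟩ := i
          · obtain ⟨n, hn₁, hn₂⟩ := sBW.exists_lift ((yon S).map k ≫ z ≫ pullback.fst (inU jV f') q)
              ((yon S).map l) hk₁
            refine ⟨n, ?_⟩
            apply pullback.hom_ext
            · rw [Category.assoc, Category.assoc, pullback.lift_fst, hn₁]
            · rw [Category.assoc, Category.assoc, pullback.lift_snd, hk, Functor.map_comp, reassoc_of% hn₂]
          · refine ⟨(yon S).map l, ?_⟩
            apply pullback.hom_ext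
            · rw [Category.assoc, Category.assoc, pullback.lift_fst, ← cancel_mono (inU jV f'), hk₁, Category.assoc]
            · rw [Category.assoc, Category.assoc, pullback.lift_snd, hk])
    obtain ⟨o', ho'⟩ := (yon S).map_surjective (Φ.hom ≫ pullback.snd (inU jV f') q)
    have : Mono o' := (yon S).mono_of_mono_map (by rw [ho']; infer_instance)
    have hm : Mono o'.left := inferInstance
    have hoe : Etale o'.left := by
      refine IsZariskiLocalAtSource.of_openCover (P := @Etale) (Scheme.Cover.mkOfCovers (ULift.{u} Bool)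
        (fun i => (Y i).left) (fun i => (o i).left) (fun x => by obtain ⟨i, y, hy⟩ := hoc x; exact ⟨i, y, hy⟩) ho) fun i => ?_
      change Etale ((o i).left ≫ o'.left)
      have : o i ≫ o' = g i := (yon S).map_injective (by rw [Functor.map_comp, ho', ← Category.assoc, hΦ, hρ])
      rw [← Over.comp_left, this]
      have := hgo i
      infer_instance
    refine repWith_isOpenImmersion_of_baseChange (inU jV f') q
      (IsPullback.of_iso (IsPullback.of_hasPullback (inU jV f') q) Φ.symm (Iso.refl _) (Iso.refl _) (Iso.refl _)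
        (fst' := Φ.hom ≫ pullback.fst _ _) (snd' := (yon S).map o') (f' := inU jV f') (g' := q)
        (by simp) (by simp [ho']) (by simp) (by simp)) ((repWith_yon_map_iff _ _).2 ?_)
    exact IsOpenImmersion.of_flat_of_mono _
  have hf : IsEtaleMor (inV jV f') :=
    (AlgSpCov.isEtaleMor_iff_locP_etale hV hW).2 (AlgSpCov.locP_of_one_chart AlgSpCov.etaleLocal_etale
      (fun _ _ _ h => h) hW hb hbs hqe hqB.symm (have := he ⟨false⟩; inferInstanceAs (Etale (e ⟨false⟩).left)))
  refine ⟨hW, sqW, hj, hf, ?_⟩
  obtain ⟨Z, i, -, hi⟩ := AlgSpB.exists_redInduced hW _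
    (AlgSpB.isOpen_range_of_isOpenImmersion hj).isClosed_compl
  refine ⟨Z, _, i, pullback.fst i (inV jV f'), pullback.snd i (inV jV f'), hi, IsPullback.of_hasPullback _ _, ?_⟩
  have hr := hi.2.1
  have : Mono (pullback.fst i (inV jV f')) := Groth.Agent.AlgSp.mono_of_yon _ fun T x y h => by
    refine pullback.hom_ext h ?_
    obtain ⟨Sv, hSv, hk⟩ := exists_sieve_of_eq jV f' (x ≫ pullback.snd i (inV jV f'))
      (y ≫ pullback.snd i (inV jV f'))
      (by rw [Category.assoc, Category.assoc, ← pullback.condition, reassoc_of% h])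
    refine AlgSpB.yon_hom_ext_of_mem hSv _ _ fun T' k hk' => ?_
    rcases hk k hk' with heq | ⟨x', y', hx, hy, hxy⟩
    · exact heq
    · refine hom_eq_of_isEmpty (isEmpty_of_disjoint hr (x' ≫ f') ((yon S).map k ≫ x ≫ pullback.fst i (inV jV f')) ?_) _ _
      rw [Category.assoc, ← hpo.w, reassoc_of% hx, ← pullback.condition]
      simp only [Category.assoc]
  have : Epi (pullback.fst i (inV jV f')) := ⟨fun {Q} m m' h => AlgSp.hom_ext_yon fun T z => by
    obtain ⟨Sv, hSv, hl⟩ := AlgSpB.exists_sieve_lift q (z ≫ i)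
    refine AlgSpB.yon_hom_ext_of_mem hSv _ _ fun T' k hk' => ?_
    obtain ⟨l, hl'⟩ := hl k hk'
    obtain ⟨l, rfl⟩ := (yon S).map_surjective l
    refine InfGlue.hom_ext_cover (fun x => pullback.fst l (e x)) (fun x => ?_) (fun w => ?_) _ _ fun x => ?_
    · exact MorphismProperty.of_isPullback (P := @Etale)
        ((IsPullback.of_hasPullback l (e x)).map (Over.forget S)).flip (have := he x; inferInstanceAs (Etale (e x).left))
    · obtain ⟨x, v, hv⟩ := hcov (l.left w)
      obtain ⟨r, hr', -⟩ := Scheme.exists_preimage_of_isPullback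
        ((IsPullback.of_hasPullback l (e x)).map (Over.forget S)) w v hv.symm
      exact ⟨x, r, hr'⟩
    · let g := pullback.fst l (e x)
      let n := pullback.snd l (e x)
      have hg : ((yon S).map g ≫ (yon S).map k ≫ z) ≫ i = (yon S).map n ≫ π x := by
        simp only [Category.assoc]
        rw [← hl', ← hq, ← Functor.map_comp_assoc, ← Functor.map_comp_assoc, pullback.condition]
      obtain ⟨_ | _⟩ := x
      · obtain ⟨p, hp, -⟩ := (IsPullback.of_hasPullback i (inV jV f')).exists_lift _ ((yon S).map n ≫ b)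
          (hg.trans (Category.assoc _ _ _).symm)
        change (yon S).map g ≫ (yon S).map k ≫ z ≫ m = (yon S).map g ≫ (yon S).map k ≫ z ≫ m'
        rw [← reassoc_of% hp, ← reassoc_of% hp, h]
      · exact hom_eq_of_isEmpty (isEmpty_of_disjoint hr ((yon S).map n ≫ a) ((yon S).map g ≫ (yon S).map k ≫ z)
          ((Category.assoc _ _ _).trans hg.symm)) _ _⟩
  exact isIso_of_mono_of_epi _

end Groth.Agent.AlgSp.EDPushMain
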