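import Groth.Agent.AlgSp.EDPushSheaf
import Groth.Agent.AlgSp.EDPushGlue
import Groth.Agent.AlgSpB.QuotRel
import Groth.Prelude.Def_AlgSpSub
import Mathlib.AlgebraicGeometry.Morphisms.FlatMono
import Mathlib.CategoryTheory.Limits.Shapes.Diagonal

/-!
# The fibre square of a pushout along an open subspace, on a chart
-/

universe u

open CategoryTheory CategoryTheory.Limits AlgebraicGeometry Opposite AlgSp

set_option backward.isDefEq.respectTransparency.types false

namespace Groth.Agent.AlgSp.EDPushPiece

open EDPushSheaf EDPushGlue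

variable {S : Scheme.{u}} {U V V' : Sp S} {jV : V' ⟶ V} {f' : V' ⟶ U}

/-- A representable closed immersion of sheaves gives a closed immersion of represented pullbacks. -/
theorem exists_diag_piece {B₀ P : Over S} {b' : (yon S).obj B₀ ⟶ V'} (hb' : Representable b')
    {t s : P ⟶ B₀} (sP : IsPullback ((yon S).map t) ((yon S).map s) (b' ≫ f') (b' ≫ f'))
    (hsep : IsSeparatedMor f') :
    ∃ (R₀ : Over S) (r₁ r₂ : R₀ ⟶ B₀) (d : R₀ ⟶ P), IsPullback ((yon S).map r₁) ((yon S).map r₂) b' b' ∧
      d ≫ t = r₁ ∧ d ≫ s = r₂ ∧ IsClosedImmersion d.left := by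
  obtain ⟨R₀, r₁, r₂, sR⟩ := AlgSpB.exists_pullback_yon hb' b'
  have sp := pullback_map_diagonal_isPullback b' b' f'
  let eR := sR.isoPullback
  let eP := sP.isoPullback
  obtain ⟨d, hd⟩ := (yon S).map_surjective (eR.hom ≫ pullback.map b' b' (b' ≫ f') (b' ≫ f') (𝟙 _) (𝟙 _) f'
    (Category.id_comp _).symm (Category.id_comp _).symm ≫ eP.inv)
  have hd' : (yon S).map d ≫ eP.hom = eR.hom ≫ pullback.map b' b' (b' ≫ f') (b' ≫ f') (𝟙 _) (𝟙 _) f'
      (Category.id_comp _).symm (Category.id_comp _).symm := by
    rw [hd]; simp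
  have sq := IsPullback.of_iso sp eR.symm (Iso.refl _) eP.symm (Iso.refl _)
    (fst' := eR.hom ≫ pullback.fst b' b' ≫ b') (snd' := (yon S).map d) (f' := pullback.diagonal f')
    (g' := eP.hom ≫ pullback.map _ _ f' f' b' b' (𝟙 _) (Category.comp_id _) (Category.comp_id _)) (by simp) (by simp [hd, eR, eP])
    (by simp) (by simp)
  have ht : d ≫ t = r₁ := (yon S).map_injective (by
    rw [Functor.map_comp, ← sP.isoPullback_hom_fst, ← Category.assoc, hd', Category.assoc, pullback.lift_fst,
      Category.comp_id, sR.isoPullback_hom_fst])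
  have hs : d ≫ s = r₂ := (yon S).map_injective (by
    rw [Functor.map_comp, ← sP.isoPullback_hom_snd, ← Category.assoc, hd', Category.assoc, pullback.lift_snd,
      Category.comp_id, sR.isoPullback_hom_snd])
  exact ⟨R₀, r₁, r₂, d, sR, ht, hs, hsep.2 _ _ d sq⟩

/-- The self fibre product over the pushout of an etale chart of the etale leg is a scheme, etale over the chart. -/
theorem exists_piece [Mono jV] (hjV : RepWith @IsOpenImmersion jV) (hsep : IsSeparatedMor f')
    {B : Over S} {b : (yon S).obj B ⟶ V} (hb : RepWith @Etale b) {B₀ : Over S} {jb : B₀ ⟶ B}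
    {b' : (yon S).obj B₀ ⟶ V'} (sB : IsPullback b' ((yon S).map jb) jV b) (hbe : RepWith @Etale (b' ≫ f')) :
    ∃ (R : Over S) (t s : R ⟶ B),
      IsPullback ((yon S).map t) ((yon S).map s) (b ≫ inV jV f') (b ≫ inV jV f') ∧ Etale s.left := by
  have hb' : RepWith @Etale b' := (repWith_isStableUnderBaseChange _).of_isPullback sB.flip hb
  have hjb : IsOpenImmersion jb.left := hjV.2 _ _ _ sB
  have : Mono jb := (Over.forget S).mono_of_mono_map (inferInstanceAs (Mono jb.left))
  obtain ⟨RB, tB, sB', sqB⟩ := AlgSpB.exists_pullback_yon hb.1 b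
  obtain ⟨P, tP, sP', sqP⟩ := AlgSpB.exists_pullback_yon hbe.1 (b' ≫ f')
  obtain ⟨R₀, r₁, r₂, d, sR₀, hd₁, hd₂, hdc⟩ := exists_diag_piece hb'.1 sqP hsep
  have hsP : Etale sP'.left := hbe.2 _ _ _ sqP
  have hr₂ : Etale r₂.left := hb'.2 _ _ _ sR₀
  have hde : Etale d.left := by
    have : Etale (d.left ≫ sP'.left) := by rw [← Over.comp_left, hd₂]; exact hr₂
    exact .of_comp d.left sP'.left
  have : IsClosedImmersion d.left := hdc
  have hdo : IsOpenImmersion d.left := IsOpenImmersion.of_flat_of_mono _
  let O : P.left.Opens := ⟨(Set.range d.left)ᶜ, d.left.isClosedEmbedding.isClosed_range.isOpen_compl⟩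
  let C : Over S := openOver P O
  let c : C ⟶ P := openι P O
  have hc : IsOpenImmersion c.left := inferInstanceAs (IsOpenImmersion O.ι)
  have : Mono c := (Over.forget S).mono_of_mono_map (inferInstanceAs (Mono c.left))
  let q := b ≫ inV jV f'
  have wW : b' ≫ f' ≫ inU jV f' = (yon S).map jb ≫ q := by
    rw [← (EDPushSheaf.isPushout jV f').w, sB.w_assoc]
  have wC : (yon S).map (c ≫ tP ≫ jb) ≫ q = (yon S).map (c ≫ sP' ≫ jb) ≫ q := by
    simp only [Functor.map_comp, Category.assoc, ← wW]
    rw [← Category.assoc b', ← Category.assoc ((yon S).map tP), sqP.w, Category.assoc]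
  let π₁ : (yon S).obj RB ⟶ pullback q q :=
    pullback.lift ((yon S).map tB) ((yon S).map sB') (by rw [← Category.assoc, sqB.w, Category.assoc])
  let π₂ : (yon S).obj C ⟶ pullback q q :=
    pullback.lift ((yon S).map (c ≫ tP ≫ jb)) ((yon S).map (c ≫ sP' ≫ jb)) wC
  let X : ULift.{u} Bool → Over S := fun i => bif i.down then RB else C
  let π : ∀ i, (yon S).obj (X i) ⟶ pullback q q := fun i => match i with
    | ⟨true⟩ => π₁
    | ⟨false⟩ => π₂
  have proj : ∀ {T : Over S} (x y : (yon S).obj T ⟶ pullback q q), x = y →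
      x ≫ pullback.fst q q = y ≫ pullback.fst q q ∧ x ≫ pullback.snd q q = y ≫ pullback.snd q q :=
    fun x y h => ⟨by rw [h], by rw [h]⟩
  have empty₁₂ : ∀ (T : Over S) (r : T ⟶ RB) (k : T ⟶ C),
      (yon S).map r ≫ π₁ = (yon S).map k ≫ π₂ → IsEmpty T.left := by
    intro T r k h
    obtain ⟨h1, h2⟩ := proj _ _ h
    simp only [π₁, π₂, Category.assoc, pullback.lift_fst, pullback.lift_snd, Functor.map_comp] at h1 h2
    have e : ((yon S).map (k ≫ c ≫ tP)) ≫ b' = (yon S).map (k ≫ c ≫ sP') ≫ b' := by
      rw [← cancel_mono jV]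
      simp only [Category.assoc, sB.w, Functor.map_comp, ← reassoc_of% h1, ← reassoc_of% h2, sqB.w]
    obtain ⟨r₀, e1, e2⟩ := sR₀.exists_lift _ _ e
    obtain ⟨r₀, rfl⟩ := (yon S).map_surjective r₀
    have ed : r₀ ≫ d = k ≫ c := (yon S).map_injective (sqP.hom_ext
      (by rw [← Functor.map_comp, ← Functor.map_comp, Category.assoc, hd₁, Category.assoc, Functor.map_comp, e1])
      (by rw [← Functor.map_comp, ← Functor.map_comp, Category.assoc, hd₂, Category.assoc, Functor.map_comp, e2]))
    refine ⟨fun w => ?_⟩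
    have hw : c.left (k.left w) = d.left (r₀.left w) := (congrArg (fun z : T ⟶ P => z.left w) ed).symm
    exact (k.left w).2 ⟨_, hw.symm⟩
  obtain ⟨R, e, Φ, he, hecov, hΦ⟩ := exists_iso_of_disjoint X π
    (fun i T x y h => by
      obtain ⟨h1, h2⟩ := proj _ _ h
      obtain ⟨_ | _⟩ := i
      · change T ⟶ C at x y
        simp only [π, π₂, Category.assoc, pullback.lift_fst, pullback.lift_snd, ← Functor.map_comp] at h1 h2
        have h1' := (yon S).map_injective h1
        have h2' := (yon S).map_injective h2
        simp only [← Category.assoc, cancel_mono] at h1' h2'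
        rw [← cancel_mono c]
        exact (yon S).map_injective (sqP.hom_ext
          (by rw [← Functor.map_comp, ← Functor.map_comp, h1']) (by rw [← Functor.map_comp, ← Functor.map_comp, h2']))
      · change T ⟶ RB at x y
        simp only [π, π₁, Category.assoc, pullback.lift_fst, pullback.lift_snd] at h1 h2
        exact (yon S).map_injective (sqB.hom_ext h1 h2))
    (fun i i' T x y hii' h => by
      obtain ⟨_ | _⟩ := i <;> obtain ⟨_ | _⟩ := i'
      · exact absurd rfl hii'
      · exact empty₁₂ T y x h.symm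
      · exact empty₁₂ T x y h
      · exact absurd rfl hii')
    (fun Q m m' h => AlgSp.hom_ext_yon fun T z => by
      have ez : ((z ≫ pullback.fst q q) ≫ b) ≫ inV jV f' = ((z ≫ pullback.snd q q) ≫ b) ≫ inV jV f' := by
        simp only [Category.assoc]
        exact congrArg (z ≫ ·) pullback.condition
      obtain ⟨Sv, hSv, hk⟩ := exists_sieve_of_eq jV f' _ _ ez
      refine AlgSpB.yon_hom_ext_of_mem hSv _ _ fun T' k hk' => ?_
      rcases hk k hk' with heq | ⟨x', y', hx, hy, hxy⟩
      · obtain ⟨l, hl₁, hl₂⟩ := sqB.exists_lift ((yon S).map k ≫ z ≫ pullback.fst q q)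
            ((yon S).map k ≫ z ≫ pullback.snd q q) (by simpa only [Category.assoc] using heq)
        have key : (yon S).map k ≫ z = l ≫ π₁ := by
          apply pullback.hom_ext <;> simp only [π₁, Category.assoc, pullback.lift_fst, pullback.lift_snd, hl₁, hl₂]
        rw [← Category.assoc, ← Category.assoc, key, Category.assoc, Category.assoc]
        exact congrArg _ (h ⟨true⟩)
      · obtain ⟨x₀, hx₁, hx₂⟩ := sB.exists_lift x' ((yon S).map k ≫ z ≫ pullback.fst q q)
          (by simpa only [Category.assoc] using hx)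
        obtain ⟨y₀, hy₁, hy₂⟩ := sB.exists_lift y' ((yon S).map k ≫ z ≫ pullback.snd q q)
          (by simpa only [Category.assoc] using hy)
        obtain ⟨p₀, hp₁, hp₂⟩ := sqP.exists_lift x₀ y₀ (by rw [reassoc_of% hx₁, reassoc_of% hy₁, hxy])
        obtain ⟨p, rfl⟩ := (yon S).map_surjective p₀
        refine InfGlue.hom_ext_cover (ι := Bool) (U := fun i => bif i then pullback p d else pullback p c)
          (fun i => match i with | true => pullback.fst p d | false => pullback.fst p c) ?_ ?_ _ _ ?_
        · rintro ⟨_ | _⟩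
          · exact MorphismProperty.of_isPullback (P := @Etale)
              ((IsPullback.of_hasPullback p c).map (Over.forget S)).flip (inferInstanceAs (Etale c.left))
          · exact MorphismProperty.of_isPullback (P := @Etale)
              ((IsPullback.of_hasPullback p d).map (Over.forget S)).flip hde
        · intro w
          by_cases hw : p.left w ∈ Set.range d.left
          · obtain ⟨v, hv⟩ := hw
            obtain ⟨r, hr, -⟩ := Scheme.exists_preimage_of_isPullback
              ((IsPullback.of_hasPullback p d).map (Over.forget S)) w v hv.symm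
            exact ⟨true, r, hr⟩
          · obtain ⟨r, hr, -⟩ := Scheme.exists_preimage_of_isPullback
              ((IsPullback.of_hasPullback p c).map (Over.forget S)) w ⟨p.left w, hw⟩ rfl
            exact ⟨false, r, hr⟩
        · have hzx : (yon S).map p ≫ (yon S).map tP ≫ (yon S).map jb = (yon S).map k ≫ z ≫ pullback.fst q q := by
            rw [reassoc_of% hp₁, hx₂]
          have hzy : (yon S).map p ≫ (yon S).map sP' ≫ (yon S).map jb = (yon S).map k ≫ z ≫ pullback.snd q q := by
            rw [reassoc_of% hp₂, hy₂]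
          rintro ⟨_ | _⟩
          · let g := pullback.fst p c
            have hg : g ≫ p = pullback.snd p c ≫ c := pullback.condition
            have key : (yon S).map g ≫ (yon S).map k ≫ z = (yon S).map (pullback.snd p c) ≫ π₂ := by
              apply pullback.hom_ext <;>
                simp only [π₂, Category.assoc, pullback.lift_fst, pullback.lift_snd, ← hzx, ← hzy,
                  ← Functor.map_comp, reassoc_of% hg]
            change (yon S).map g ≫ (yon S).map k ≫ z ≫ m = (yon S).map g ≫ (yon S).map k ≫ z ≫ m'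
            rw [reassoc_of% key, reassoc_of% key]
            exact congrArg _ (h ⟨false⟩)
          · let g := pullback.fst p d
            have hg : g ≫ p = pullback.snd p d ≫ d := pullback.condition
            have h1 : (yon S).map g ≫ (yon S).map k ≫ z ≫ pullback.fst q q =
                (yon S).map (pullback.snd p d) ≫ (yon S).map r₁ ≫ (yon S).map jb := by
              rw [← hzx]; simp only [← Functor.map_comp, reassoc_of% hg, ← hd₁, Category.assoc]
            have h2 : (yon S).map g ≫ (yon S).map k ≫ z ≫ pullback.snd q q =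
                (yon S).map (pullback.snd p d) ≫ (yon S).map r₂ ≫ (yon S).map jb := by
              rw [← hzy]; simp only [← Functor.map_comp, reassoc_of% hg, ← hd₂, Category.assoc]
            have e' : ((yon S).map g ≫ (yon S).map k ≫ z ≫ pullback.fst q q) ≫ b =
                ((yon S).map g ≫ (yon S).map k ≫ z ≫ pullback.snd q q) ≫ b := by
              rw [h1, h2]; simp only [Category.assoc, ← sB.w, reassoc_of% sR₀.w]
            obtain ⟨l, hl₁, hl₂⟩ := sqB.exists_lift _ _ e'
            have key : (yon S).map g ≫ (yon S).map k ≫ z = l ≫ π₁ := by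
              apply pullback.hom_ext <;> simp only [π₁, Category.assoc, pullback.lift_fst, pullback.lift_snd, hl₁, hl₂]
            change (yon S).map g ≫ (yon S).map k ≫ z ≫ m = (yon S).map g ≫ (yon S).map k ≫ z ≫ m'
            rw [reassoc_of% key, reassoc_of% key]
            exact congrArg _ (h ⟨true⟩))
  obtain ⟨t, ht⟩ := (yon S).map_surjective (Φ.hom ≫ pullback.fst q q)
  obtain ⟨s, hs⟩ := (yon S).map_surjective (Φ.hom ≫ pullback.snd q q)
  refine ⟨R, t, s, IsPullback.of_iso (IsPullback.of_hasPullback q q) Φ.symm (Iso.refl _) (Iso.refl _) (Iso.refl _)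
    (by simp [ht]) (by simp [hs]) (by simp [q]) (by simp [q]), ?_⟩
  let 𝒱 : R.left.OpenCover := Scheme.Cover.mkOfCovers (ULift.{u} Bool) (fun i => (X i).left) (fun i => (e i).left)
    (fun x => by obtain ⟨i, y, hy⟩ := hecov x; exact ⟨i, y, hy⟩) he
  refine IsZariskiLocalAtSource.of_openCover (P := @Etale) 𝒱 fun i => ?_
  change Etale ((e i).left ≫ s.left)
  have e' : (yon S).map (e i ≫ s) = π i ≫ pullback.snd q q := by
    rw [Functor.map_comp, hs, ← Category.assoc, hΦ]
  obtain ⟨_ | _⟩ := i
  · have : e ⟨false⟩ ≫ s = c ≫ sP' ≫ jb := (yon S).map_injective (by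
      rw [e']; exact pullback.lift_snd _ _ _)
    rw [← Over.comp_left, this, Over.comp_left, Over.comp_left]
    infer_instance
  · have : e ⟨true⟩ ≫ s = sB' := (yon S).map_injective (by rw [e']; exact pullback.lift_snd _ _ _)
    rw [← Over.comp_left, this]
    exact hb.2 _ _ _ sqB

end Groth.Agent.AlgSp.EDPushPiece
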