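import Groth.Agent.AlgSp.Basic
import Groth.Agent.AlgSpB.Open
import Groth.Prelude.Def_AlgSp3
import Mathlib.CategoryTheory.Sites.LeftExact
import Mathlib.CategoryTheory.Sites.LocallyBijective
import Mathlib.CategoryTheory.Limits.Types.Pushouts

/-!
# Pushouts of sheaves along monomorphisms: when two sections become equal
-/

universe u

open CategoryTheory CategoryTheory.Limits AlgebraicGeometry Opposite AlgSp

set_option backward.isDefEq.respectTransparency.types false

namespace Groth.Agent.AlgSp.EDPushSheaf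

/-- Two elements of one leg of a pushout of types along an injection with equal images. -/
theorem eq_or_exists_of_inl_eq {A B C D : Type u} {t : A ⟶ B} {l : A ⟶ C} {r : B ⟶ D} {b : C ⟶ D}
    (h : IsPushout t l r b) (ht : Function.Injective t) {x y : B} (e : r x = r y) :
    x = y ∨ ∃ s s' : A, t s = x ∧ t s' = y ∧ l s = l s' := by
  have : Mono t := (mono_iff_injective t).2 ht
  let φ := IsColimit.coconePointUniqueUpToIso h.isColimit (Types.Pushout.isColimitCocone t l)
  have hφ : r ≫ φ.hom = Types.Pushout.inl t l :=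
    IsColimit.comp_coconePointUniqueUpToIso_hom h.isColimit (Types.Pushout.isColimitCocone t l) WalkingSpan.left
  have e' : Types.Pushout.inl t l x = Types.Pushout.inl t l y := by
    rw [← hφ]
    exact congrArg φ.hom e
  have h' := (Types.Pushout.quot_mk_eq_iff t l (Sum.inl x) (Sum.inl y)).1 e'
  rcases h' with _ | ⟨a, b', hab⟩
  · exact Or.inl rfl
  · exact Or.inr ⟨_, _, rfl, rfl, hab⟩

variable {S : Scheme.{u}} {U V V' : Sp S} (jV : V' ⟶ V) (f' : V' ⟶ U)

/-- The pushout of presheaves. -/
noncomputable abbrev pre : (Over S)ᵒᵖ ⥤ Type (u + 1) := pushout jV.hom f'.hom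

/-- The pushout sheaf. -/
noncomputable abbrev glued : Sp S := (presheafToSheaf (J S) (Type (u + 1))).obj (pre jV f')

/-- The map of `V` to the pushout. -/
noncomputable abbrev inV : V ⟶ glued jV f' := ⟨pushout.inl jV.hom f'.hom ≫ toSheafify (J S) (pre jV f')⟩

/-- The map of `U` to the pushout. -/
noncomputable abbrev inU : U ⟶ glued jV f' := ⟨pushout.inr jV.hom f'.hom ≫ toSheafify (J S) (pre jV f')⟩

theorem isPushout : IsPushout jV f' (inV jV f') (inU jV f') := by
  have h := (IsPushout.of_hasPushout jV.hom f'.hom).map (presheafToSheaf (J S) (Type (u + 1)))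
  let e := fun F : Sp S => asIso ((sheafificationAdjunction (J S) (Type (u + 1))).counit.app F)
  have he : ∀ F : Sp S, toSheafify (J S) F.obj ≫ (e F).hom.hom = 𝟙 F.obj := fun F =>
    (sheafificationAdjunction (J S) (Type (u + 1))).right_triangle_components F
  refine h.of_iso (e V') (e V) (e U) (Iso.refl _) ?_ ?_ ?_ ?_
  · exact (sheafificationAdjunction (J S) (Type (u + 1))).counit.naturality jV
  · exact (sheafificationAdjunction (J S) (Type (u + 1))).counit.naturality f'
  · apply Sheaf.hom_ext
    apply sheafify_hom_ext _ _ _ (glued jV f').property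
    simp only [Iso.refl_hom, Category.comp_id]
    change toSheafify (J S) V.obj ≫ sheafifyMap (J S) (pushout.inl jV.hom f'.hom) =
      toSheafify (J S) V.obj ≫ (e V).hom.hom ≫ pushout.inl jV.hom f'.hom ≫ toSheafify (J S) (pre jV f')
    rw [← toSheafify_naturality, reassoc_of% (he V)]
  · apply Sheaf.hom_ext
    apply sheafify_hom_ext _ _ _ (glued jV f').property
    simp only [Iso.refl_hom, Category.comp_id]
    change toSheafify (J S) U.obj ≫ sheafifyMap (J S) (pushout.inr jV.hom f'.hom) =
      toSheafify (J S) U.obj ≫ (e U).hom.hom ≫ pushout.inr jV.hom f'.hom ≫ toSheafify (J S) (pre jV f')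
    rw [← toSheafify_naturality, reassoc_of% (he U)]

/-- Sections of `V` with equal images in the pushout are locally equal or locally in `V'` with equal images in `U`. -/
theorem exists_sieve_of_eq [Mono jV] {T : Over S} (x y : (yon S).obj T ⟶ V)
    (e : x ≫ inV jV f' = y ≫ inV jV f') :
    ∃ Sv ∈ J S T, ∀ ⦃T' : Over S⦄ (k : T' ⟶ T), Sv k → (yon S).map k ≫ x = (yon S).map k ≫ y ∨
      ∃ x' y' : (yon S).obj T' ⟶ V', x' ≫ jV = (yon S).map k ≫ x ∧ y' ≫ jV = (yon S).map k ≫ y ∧
        x' ≫ f' = y' ≫ f' := by
  have e' : (toSheafify (J S) (pre jV f')).app (op T) ((pushout.inl jV.hom f'.hom).app (op T) (yEquiv x)) =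
      (toSheafify (J S) (pre jV f')).app (op T) ((pushout.inl jV.hom f'.hom).app (op T) (yEquiv y)) := by
    have := congrArg yEquiv e
    rw [yEquiv_comp, yEquiv_comp] at this
    exact this
  refine ⟨_, Presheaf.equalizerSieve_mem (J S) (toSheafify (J S) (pre jV f')) _ _ e', fun T' k hk => ?_⟩
  have hm : ∀ z : (yon S).obj T ⟶ V, (pre jV f').map k.op ((pushout.inl jV.hom f'.hom).app (op T) (yEquiv z)) =
      (pushout.inl jV.hom f'.hom).app (op T') (yEquiv ((yon S).map k ≫ z)) := fun z => by
    rw [yEquiv_map]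
    exact (NatTrans.naturality_apply (pushout.inl jV.hom f'.hom) k.op (yEquiv z)).symm
  have hk' := hk
  change (pre jV f').map k.op _ = (pre jV f').map k.op _ at hk'
  rw [hm, hm] at hk'
  have hinj : Function.Injective (jV.hom.app (op T')) := fun a b h => by
    have : Mono jV := inferInstance
    apply yEquiv.symm.injective
    rw [← cancel_mono jV]
    apply yEquiv.injective
    rw [yEquiv_comp, yEquiv_comp, Equiv.apply_symm_apply, Equiv.apply_symm_apply]
    exact h
  rcases eq_or_exists_of_inl_eq ((IsPushout.of_hasPushout jV.hom f'.hom).map ((evaluation _ _).obj (op T')))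
    hinj hk' with h | ⟨s, s', h₁, h₂, h₃⟩
  · exact Or.inl (yEquiv.injective h)
  · refine Or.inr ⟨yEquiv.symm s, yEquiv.symm s', ?_, ?_, ?_⟩ <;> apply yEquiv.injective
    · rw [yEquiv_comp, Equiv.apply_symm_apply]; exact h₁
    · rw [yEquiv_comp, Equiv.apply_symm_apply]; exact h₂
    · rw [yEquiv_comp, yEquiv_comp, Equiv.apply_symm_apply, Equiv.apply_symm_apply]; exact h₃

end Groth.Agent.AlgSp.EDPushSheaf
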