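import Groth.Agent.AlgSp.ElemDist
import Groth.Agent.AlgSp.Diag
import Groth.Agent.AlgSp.Sep
import Groth.Agent.AlgSp.FppfLocal2
import Groth.Agent.AlgSp.ProperSub
import Groth.Agent.AlgSp.DescentRep
import Groth.Agent.AlgSpB.Open
import Mathlib.AlgebraicGeometry.Morphisms.Immersion

/-!
# Separation through an elementary distinguished square
-/

universe u

open CategoryTheory CategoryTheory.Limits AlgebraicGeometry Opposite AlgSp

set_option backward.isDefEq.respectTransparency.types false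

namespace Groth.Agent.AlgSp.EDSep

variable {S : Scheme.{u}}

/-- The legs of an elementary distinguished square are jointly surjective on points. -/
theorem points_jointly_surjective {U V X : Sp S} {j : U ⟶ X} {f : V ⟶ X} (h : IsElemDistSq j f)
    (x : Points X) : x ∈ Set.range (Points.map j) ∨ x ∈ Set.range (Points.map f) := by
  obtain ⟨-, -, T, P, i, p₁, p₂, ⟨-, hr, -⟩, hP, hiso⟩ := h
  by_cases hx : x ∈ Set.range (Points.map j)
  · exact Or.inl hx
  · refine Or.inr ?_
    obtain ⟨z, rfl⟩ : x ∈ Set.range (Points.map i) := hr ▸ hx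
    have : IsIso p₁ := hiso
    refine ⟨Points.map p₂ (Points.map (inv p₁) z), ?_⟩
    rw [← Points.map_comp, ← hP.w, Points.map_comp, ← Points.map_comp p₁ i, ← Points.map_comp,
      IsIso.inv_hom_id_assoc]

/-- The base change of the diagonal of `g` to `L ×_Y L'`. -/
noncomputable abbrev pieceMap {L L' X Y : Sp S} (l : L ⟶ X) (l' : L' ⟶ X) (g : X ⟶ Y) :
    pullback l l' ⟶ pullback (l ≫ g) (l' ≫ g) :=
  pullback.map l l' (l ≫ g) (l' ≫ g) (𝟙 _) (𝟙 _) g (Category.id_comp _).symm (Category.id_comp _).symm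

/-- A map which is, up to isomorphisms compatible with the projections, the piece map. -/
theorem repWith_pieceMap {P : MorphismProperty Scheme.{u}} [P.IsStableUnderBaseChange] {L L' X Y QX QY : Sp S}
    (l : L ⟶ X) (l' : L' ⟶ X) (g : X ⟶ Y) {a : QX ⟶ L} {b : QX ⟶ L'} (hX : IsPullback a b l l')
    {a' : QY ⟶ L} {b' : QY ⟶ L'} (hY : IsPullback a' b' (l ≫ g) (l' ≫ g)) (d : QX ⟶ QY) (h₁ : d ≫ a' = a)
    (h₂ : d ≫ b' = b) (hd : RepWith P d) : RepWith P (pieceMap l l' g) := by
  refine (repWith_isStableUnderBaseChange P).of_isPullback (IsPullback.of_horiz_isIso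
    (show CommSq hX.isoPullback.inv (pieceMap l l' g) d hY.isoPullback.inv from ⟨?_⟩)) hd
  apply hY.hom_ext <;> simp [pieceMap, pullback.map, h₁, h₂, pullback.lift_fst, pullback.lift_snd]

/-- A monomorphism followed by the diagonal gives a closed immersion piece. -/
theorem repWith_pieceMap_self {U X Y : Sp S} (j : U ⟶ X) [Mono j] (g : X ⟶ Y)
    (h : IsSeparatedMor (j ≫ g)) : RepWith @IsClosedImmersion (pieceMap j j g) :=
  repWith_pieceMap j j g (show IsPullback (𝟙 U) (𝟙 U) j j from IsKernelPair.id_of_mono j)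
    (IsPullback.of_hasPullback _ _) (pullback.diagonal (j ≫ g)) (pullback.diagonal_fst _) (pullback.diagonal_snd _) h

/-- Closedness on points upgrades the mixed piece to a closed immersion. -/
theorem repWith_closed_of_isClosedMor {PX PY U V X Y : Sp S} {j : U ⟶ X} {f : V ⟶ X} {g : X ⟶ Y}
    (hj : RepWith @IsOpenImmersion j) (hsep : IsSeparatedMor (j ≫ g)) {pX : PX ⟶ U} {qX : PX ⟶ V}
    (hPX : IsPullback pX qX j f) {pY : PY ⟶ U} {qY : PY ⟶ V} (hPY : IsPullback pY qY (j ≫ g) (f ≫ g))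
    (c : PX ⟶ PY) (hc : c ≫ qY = qX) (hcl : IsClosedMor c) : RepWith @IsClosedImmersion c := by
  have hqY : RepWith @IsClosedImmersion (pullback.diagonal qY) := repWith_diagonal_baseChange hPY hsep
  have hqX : RepWith @IsOpenImmersion qX := (repWith_isStableUnderBaseChange _).of_isPullback hPX hj
  have e : c = pullback.lift (𝟙 PX) c (by simp) ≫ pullback.snd (c ≫ qY) qY := by rw [pullback.lift_snd]
  have h1 : RepWith @IsImmersion (pullback.lift (𝟙 PX) c (by simp) : PX ⟶ pullback (c ≫ qY) qY) :=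
    repWith_mono (fun φ hφ => (have : IsClosedImmersion φ := hφ; inferInstance : IsImmersion φ))
      ((repWith_isStableUnderBaseChange _).of_isPullback (pullback_lift_diagonal_isPullback c qY) hqY)
  have h2 : RepWith @IsImmersion (pullback.snd (c ≫ qY) qY) :=
    (repWith_isStableUnderBaseChange _).of_isPullback (IsPullback.of_hasPullback _ _) (repWith_mono
      (fun φ hφ => (have : IsOpenImmersion φ := hφ; inferInstance : IsImmersion φ)) (hc ▸ hqX))
  have hi : RepWith @IsImmersion c := e ▸ (repWith_isMultiplicative _).comp_mem _ _ h1 h2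
  refine ⟨hi.1, fun T W y fst snd sq => ?_⟩
  have : IsImmersion snd.left := hi.2 y fst snd sq
  refine IsClosedImmersion.of_isPreimmersion snd.left ?_
  have hc' : IsClosed (Set.range (Points.map ((yon S).map snd))) := by
    rw [range_map_of_isPullback sq]
    exact hcl.isClosed_range.preimage (Points.continuous_map y)
  rw [Points.map_yon_map_eq] at hc'
  have hs : Set.range snd.left = Points.ofScheme T ⁻¹'
      Set.range (Points.ofScheme T ∘ snd.left ∘ Points.toScheme W) := by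
    rw [Set.range_comp, Set.range_comp, show Points.ofScheme T = ⇑(Points.schemeHomeo T) from rfl,
      Set.preimage_image_eq _ (Points.schemeHomeo T).injective]
    rw [Set.range_eq_univ.2 (fun w => ⟨Points.ofScheme W w, ?_⟩), Set.image_univ]
    exact (Points.schemeHomeo W).left_inv w
  rw [hs]
  exact hc'.preimage (Points.schemeHomeo T).continuous

/-- `g` is separated if its diagonal is a closed immersion on the four pieces. -/
theorem isSeparatedMor_of_pieces {ι : Type u} {X Y : Sp S} (hX : IsAlgSpace X) (g : X ⟶ Y) {L : ι → Sp S}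
    (hL : ∀ i, IsAlgSpace (L i)) (l : ∀ i, L i ⟶ X) (hl : ∀ i, IsEtaleMor (l i))
    (hs : ∀ x, ∃ i, x ∈ Set.range (Points.map (l i)))
    (h : ∀ i k, RepWith @IsClosedImmersion (pieceMap (l i) (l k) g)) : IsSeparatedMor g := by
  choose A a ha has using fun i => (hL i).atlas
  have hae : ∀ i, RepWith @Etale (a i ≫ l i) := fun i => hl i (a i) (ha i)
  have hcov : ∀ x, ∃ i t, Points.ofPt (a i ≫ l i) t = x := fun x => by
    obtain ⟨i, y, rfl⟩ := hs x
    obtain ⟨p, rfl⟩ := (repWith_surjective_iff (a i) (ha i).1).1 (has i) y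
    refine ⟨i, Points.toScheme _ p, ?_⟩
    rw [Points.ofPt_eq_map_ofScheme, ← Points.map_comp]
    exact congrArg _ ((Points.schemeHomeo (A i)).right_inv p)
  have hd := (diagonal_props hX g).1
  refine repWith_of_snd hd fun T z => ?_
  let x := z ≫ pullback.fst g g
  let y := z ≫ pullback.snd g g
  let T₁ : ι → Over S := fun i => (hae i).1.pullback x
  let g₁ : ∀ i, T₁ i ⟶ T := fun i => (hae i).1.snd x
  let y₁ : ∀ i, (yon S).obj (T₁ i) ⟶ X := fun i => (yon S).map (g₁ i) ≫ y
  let T₂ : ι × ι → Over S := fun k => (hae k.2).1.pullback (y₁ k.1)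
  let g₂ : ∀ k : ι × ι, T₂ k ⟶ T := fun k => (hae k.2).1.snd (y₁ k.1) ≫ g₁ k.1
  have he : ∀ k, Etale (g₂ k).left := fun k => by
    have h1 : Etale (g₁ k.1).left := (hae k.1).2 _ _ _ ((hae k.1).1.isPullback x)
    have h2 : Etale ((hae k.2).1.snd (y₁ k.1)).left := (hae k.2).2 _ _ _ ((hae k.2).1.isPullback (y₁ k.1))
    exact inferInstanceAs (Etale (((hae k.2).1.snd (y₁ k.1)).left ≫ (g₁ k.1).left))
  refine MorphismProperty.IsLocalAtTarget.of_forall_pullbackSnd (K := Scheme.fppfPrecoverage)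
    (R := Presieve.ofArrows (fun k => (T₂ k).left) fun k => (g₂ k).left)
    ((Scheme.ofArrows_mem_precoverage_iff _).2 ⟨fun t => ?_, fun k => by
      have := he k
      exact ⟨inferInstance, inferInstance⟩⟩) ?_
  · obtain ⟨i, p, hp⟩ := hcov (Points.ofPt x t)
    obtain ⟨t₁, -, ht₁⟩ := (AlgSpB.ofPt_eq_ofPt_iff' ((hae i).1.isPullback x) p t).1 hp
    obtain ⟨k, p', hp'⟩ := hcov (Points.ofPt (y₁ i) t₁)
    obtain ⟨t₂, -, ht₂⟩ := (AlgSpB.ofPt_eq_ofPt_iff' ((hae k).1.isPullback (y₁ i)) p' t₁).1 hp'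
    exact ⟨(i, k), t₂, by rw [← ht₁, ← ht₂]; rfl⟩
  rintro W - hWf ⟨k⟩
  let uu : (yon S).obj (T₂ k) ⟶ L k.1 :=
    ((yon S).map ((hae k.2).1.snd (y₁ k.1)) ≫ (hae k.1).1.fst x) ≫ a k.1
  let vv : (yon S).obj (T₂ k) ⟶ L k.2 := (hae k.2).1.fst (y₁ k.1) ≫ a k.2
  have hu : uu ≫ l k.1 = (yon S).map (g₂ k) ≫ x := by
    simp only [uu, g₂, Category.assoc, Functor.map_comp]
    rw [((hae k.1).1.isPullback x).w]
  have hv : vv ≫ l k.2 = (yon S).map (g₂ k) ≫ y := by
    simp only [vv, g₂, Category.assoc, Functor.map_comp]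
    exact ((hae k.2).1.isPullback (y₁ k.1)).w
  have hxy : x ≫ g = y ≫ g := by simp only [x, y, Category.assoc, pullback.condition]
  let w : (yon S).obj (T₂ k) ⟶ pullback (l k.1 ≫ g) (l k.2 ≫ g) :=
    pullback.lift uu vv (by rw [reassoc_of% hu, reassoc_of% hv, hxy])
  have hw : w ≫ pullback.map (l k.1 ≫ g) (l k.2 ≫ g) g g (l k.1) (l k.2) (𝟙 _) (Category.comp_id _)
      (Category.comp_id _) = (yon S).map (g₂ k) ≫ z := by
    apply pullback.hom_ext
    · simp only [w, pullback.map, Category.assoc, pullback.lift_fst, pullback.lift_fst_assoc, hu, x]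
    · simp only [w, pullback.map, Category.assoc, pullback.lift_snd, pullback.lift_snd_assoc, hv, y]
  obtain ⟨W₂, w₂, f₂, sq₂⟩ := (h k.1 k.2).1 w
  have hcl : IsClosedImmersion w₂.left := (h k.1 k.2).2 _ _ _ sq₂
  have sq₃ := sq₂.paste_horiz (pullback_map_diagonal_isPullback (l k.1) (l k.2) g)
  rw [hw] at sq₃
  have sq0 := ((IsPullback.of_hasPullback (hd.snd z) (g₂ k)).map (yon S)).paste_horiz (hd.isPullback z)
  let φ : (pullback (hd.snd z) (g₂ k)) ≅ W₂ :=
    (Functor.FullyFaithful.ofFullyFaithful (yon S)).preimageIso (sq0.isoIsPullback _ _ sq₃)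
  have hφ : φ.hom ≫ w₂ = pullback.snd _ _ := (yon S).map_injective (by
    rw [Functor.map_comp]
    simp [φ, -Functor.map_comp])
  have : IsClosedImmersion (pullback.snd (hd.snd z) (g₂ k)).left := by
    rw [← hφ, Over.comp_left]
    have : IsIso φ.hom.left := ((Over.forget S).mapIso φ).isIso_hom
    infer_instance
  rw [← IsPullback.isoIsPullback_hom_snd _ _ (IsPullback.of_hasPullback (hd.snd z).left (g₂ k).left)
    ((IsPullback.of_hasPullback (hd.snd z) (g₂ k)).map (Over.forget S))]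
  exact (MorphismProperty.cancel_left_of_respectsIso @IsClosedImmersion _ _).2 this

/-- Separation criterion for an elementary distinguished square. -/
theorem isSeparatedMor_of_elemDist {U V X Y PX PY QX QY : Sp S} (hU : IsAlgSpace U) (hV : IsAlgSpace V)
    (hX : IsAlgSpace X) (g : X ⟶ Y) (j : U ⟶ X) (f : V ⟶ X) (hsq : IsElemDistSq j f)
    (hsU : IsSeparatedMor (j ≫ g)) (pX : PX ⟶ U) (qX : PX ⟶ V) (hPX : IsPullback pX qX j f) (pY : PY ⟶ U)
    (qY : PY ⟶ V) (hPY : IsPullback pY qY (j ≫ g) (f ≫ g)) (c : PX ⟶ PY) (hc₁ : c ≫ pY = pX)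
    (hc₂ : c ≫ qY = qX) (hcl : IsClosedMor c) (rX₁ rX₂ : QX ⟶ V) (hQX : IsPullback rX₁ rX₂ f f)
    (rY₁ rY₂ : QY ⟶ V) (hQY : IsPullback rY₁ rY₂ (f ≫ g) (f ≫ g)) (d : QX ⟶ QY) (hd₁ : d ≫ rY₁ = rX₁)
    (hd₂ : d ≫ rY₂ = rX₂) (hdcl : RepWith @IsClosedImmersion d) : IsSeparatedMor g := by
  have : Mono j := AlgSpB.mono_of_isOpenImmersion hsq.1
  have hje : IsEtaleMor j := fun _ φ hφ => (repWith_isMultiplicative _).comp_mem _ _ hφ
    (repWith_mono (fun φ hφ => (have : IsOpenImmersion φ := hφ; inferInstance : Etale φ)) hsq.1)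
  have hc := repWith_closed_of_isClosedMor hsq.1 hsU hPX hPY c hc₂ hcl
  let L : ULift.{u} Bool → Sp S := fun i => bif i.down then U else V
  let l : ∀ i, L i ⟶ X := fun i => match i with
    | ⟨true⟩ => j
    | ⟨false⟩ => f
  refine isSeparatedMor_of_pieces hX g (L := L) (by rintro ⟨_ | _⟩ <;> assumption) l
    (by rintro ⟨_ | _⟩; exacts [hsq.2.1, hje]) (fun x => ?_) ?_
  · rcases points_jointly_surjective hsq x with h | h
    · exact ⟨⟨true⟩, h⟩
    · exact ⟨⟨false⟩, h⟩
  rintro ⟨_ | _⟩ ⟨_ | _⟩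
  · exact repWith_pieceMap f f g hQX hQY d hd₁ hd₂ hdcl
  · exact repWith_pieceMap f j g hPX.flip hPY.flip c hc₂ hc₁ hc
  · exact repWith_pieceMap j f g hPX hPY c hc₁ hc₂ hc
  · exact repWith_pieceMap_self j g hsU

end Groth.Agent.AlgSp.EDSep
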