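import Groth.Agent.AlgSp.InfSpace
import Groth.Agent.AlgSp.Basic
import Groth.Agent.AlgSpB.Points
import Groth.Prelude.Def_AlgSpSub

/-!
Elementary distinguished squares are pushouts; descent of maps along families of charts.
-/

universe u

open CategoryTheory CategoryTheory.Limits AlgebraicGeometry Opposite AlgSp

namespace Groth.Agent.AlgSp.ElemDist

open InfGlue InfSpace

variable {S : Scheme.{u}}

/-- Two maps out of a sheaf agreeing on a jointly surjective family of etale charts are equal. -/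
theorem hom_ext_fam {ι : Type*} {T' X : Sp S} {V : ι → Over S} {p : ∀ i, (yon S).obj (V i) ⟶ T'}
    (hp : ∀ i, RepWith @Etale (p i)) (hs : ∀ x, ∃ i t, Points.ofPt (p i) t = x) {l l' : T' ⟶ X}
    (h : ∀ i, p i ≫ l = p i ≫ l') : l = l' := by
  refine AlgSp.hom_ext_yon fun U s => ?_
  refine hom_ext_cover (fun i => (hp i).1.snd s) (fun i => (hp i).2 _ _ _ ((hp i).1.isPullback s))
    (fun x => ?_) _ _ fun i => ?_
  · obtain ⟨i, t, ht⟩ := hs (Points.ofPt s x)
    obtain ⟨w, -, hw⟩ := (AlgSpB.ofPt_eq_ofPt_iff' ((hp i).1.isPullback s) t x).1 ht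
    exact ⟨i, w, hw⟩
  · rw [← Category.assoc, ← Category.assoc, ← ((hp i).1.isPullback s).w, Category.assoc, Category.assoc, h i]

/-- Compatible maps on a jointly surjective family of etale charts descend. -/
theorem exists_desc_fam {ι : Type*} {T' X : Sp S} {V : ι → Over S} {p : ∀ i, (yon S).obj (V i) ⟶ T'}
    (hp : ∀ i, RepWith @Etale (p i)) (hs : ∀ x, ∃ i t, Points.ofPt (p i) t = x)
    (m : ∀ i, (yon S).obj (V i) ⟶ X)
    (h : ∀ i k (Z : Over S) (a : (yon S).obj Z ⟶ (yon S).obj (V i)) (b : (yon S).obj Z ⟶ (yon S).obj (V k)),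
      a ≫ p i = b ≫ p k → a ≫ m i = b ≫ m k) :
    ∃ l : T' ⟶ X, ∀ i, p i ≫ l = m i := by
  have hcov : ∀ (U : Over S) (s : (yon S).obj U ⟶ T') (x : ↥U.left),
      ∃ i, x ∈ Set.range ((hp i).1.snd s).left := fun U s x => by
    obtain ⟨i, t, ht⟩ := hs (Points.ofPt s x)
    obtain ⟨w, -, hw⟩ := (AlgSpB.ofPt_eq_ofPt_iff' ((hp i).1.isPullback s) t x).1 ht
    exact ⟨i, w, hw⟩
  have key : ∀ (U : Over S) (s : (yon S).obj U ⟶ T'), ∃ n : (yon S).obj U ⟶ X,
      ∀ (i : ι) (Z : Over S) (g : Z ⟶ U) (a : (yon S).obj Z ⟶ (yon S).obj (V i)), a ≫ p i = (yon S).map g ≫ s →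
        a ≫ m i = (yon S).map g ≫ n := by
    intro U s
    obtain ⟨n, hn⟩ := exists_glue (fun i => (hp i).1.snd s)
      (fun i => (hp i).2 _ _ _ ((hp i).1.isPullback s)) (hcov U s)
      (fun i => (hp i).1.fst s ≫ m i) fun i k Z a b w => by
        rw [← Category.assoc, ← Category.assoc]
        refine h i k Z _ _ ?_
        rw [Category.assoc, Category.assoc, ((hp i).1.isPullback s).w, ((hp k).1.isPullback s).w,
          ← Category.assoc, ← Category.assoc, ← Functor.map_comp, ← Functor.map_comp, w]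
    refine ⟨n, fun i Z g a ha => ?_⟩
    have e := (hp i).1.lift_fst (g := s) a g ha
    rw [← e, Category.assoc, ← hn i, ← Category.assoc, ← Functor.map_comp]
    simp
  choose n hn using key
  let lh : T'.obj ⟶ X.obj :=
    { app := fun U => TypeCat.ofHom fun s => AlgSp.yEquiv (n U.unop (AlgSp.yEquiv.symm s))
      naturality := fun U U' g => by
        ext s
        change AlgSp.yEquiv (n U'.unop (AlgSp.yEquiv.symm (T'.obj.map g s))) =
          X.obj.map g.unop.op (AlgSp.yEquiv (n U.unop (AlgSp.yEquiv.symm s)))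
        rw [← AlgSp.yEquiv_map]
        congr 1
        have hs' : AlgSp.yEquiv.symm (T'.obj.map g s) = (yon S).map g.unop ≫ AlgSp.yEquiv.symm s := by
          rw [Equiv.symm_apply_eq, AlgSp.yEquiv_map, Equiv.apply_symm_apply]
          rfl
        rw [hs']
        let s₀ := (yon S).map g.unop ≫ AlgSp.yEquiv.symm s
        refine hom_ext_cover (fun i => (hp i).1.snd s₀) (fun i => (hp i).2 _ _ _ ((hp i).1.isPullback s₀))
          (hcov _ s₀) _ _ fun i => ?_
        rw [← hn _ s₀ i _ ((hp i).1.snd s₀) ((hp i).1.fst s₀) ((hp i).1.isPullback s₀).w,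
          hn _ (AlgSp.yEquiv.symm s) i _ ((hp i).1.snd s₀ ≫ g.unop) ((hp i).1.fst s₀)
            (by rw [((hp i).1.isPullback s₀).w, Functor.map_comp, Category.assoc]),
          Functor.map_comp, Category.assoc] }
  refine ⟨⟨lh⟩, fun i => AlgSp.hom_ext_yon fun Z a => ?_⟩
  apply AlgSp.yEquiv.injective
  rw [← Category.assoc, AlgSp.yEquiv_comp]
  change AlgSp.yEquiv (n Z (AlgSp.yEquiv.symm (AlgSp.yEquiv (a ≫ p i)))) = _
  rw [Equiv.symm_apply_eq _ |>.2 rfl, hn Z (a ≫ p i) i Z (𝟙 Z) a (by simp)]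
  simp

/-- A map from a point to the ambient space whose image lies in a closed subspace factors through it. -/
theorem exists_factor_closed {T W : Sp S} {i : T ⟶ W} (hi : RepWith @IsClosedImmersion i) {K : Over S}
    [IsReduced K.left] [Subsingleton ↥K.left] (w : (yon S).obj K ⟶ W) (x : ↥K.left)
    (hx : Points.ofPt w x ∈ Set.range (Points.map i)) : ∃ t, t ≫ i = w := by
  obtain ⟨y, hy⟩ := hx
  obtain ⟨A, snd, fst, hsq⟩ := hi.1 w
  obtain ⟨p, -, -⟩ := AlgSpB.exists_of_isPullback hsq y (Points.ofScheme K x)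
    (by rw [hy, Points.map_ofPt, Category.id_comp])
  have : IsClosedImmersion snd.left := hi.2 _ _ _ hsq
  have : Surjective snd.left := ⟨fun z => ⟨Points.toScheme A p, Subsingleton.elim _ _⟩⟩
  have : IsIso ((Over.forget S).map snd) := isIso_of_isClosedImmersion_of_surjective snd.left
  have : IsIso snd := isIso_of_reflects_iso snd (Over.forget S)
  exact ⟨inv ((yon S).map snd) ≫ fst, by rw [Category.assoc, hsq.w, IsIso.inv_hom_id_assoc]⟩

/-- Elementary distinguished squares are pushouts among sheaves receiving maps from them. -/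
theorem existsUnique_desc {U V W P Z : Sp S} {j : U ⟶ W} {f : V ⟶ W} (hU : IsAlgSpace U) (hV : IsAlgSpace V)
    (hsq : IsElemDistSq j f) {p : P ⟶ U} {q : P ⟶ V} (hP : IsPullback p q j f) (a : U ⟶ Z) (b : V ⟶ Z)
    (w : p ≫ a = q ≫ b) : ∃! l : W ⟶ Z, j ≫ l = a ∧ f ≫ l = b := by
  obtain ⟨hj, hf, T, P', i, p₁, p₂, ⟨hi, hr, -⟩, hP', hiso⟩ := hsq
  have : IsIso p₁ := hiso
  have : Mono j := Groth.Agent.AlgSp.mono_of_repWith (P := @IsOpenImmersion)
    (fun g hg => have : IsOpenImmersion g := hg; inferInstance) j hj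
  have : Mono i := Groth.Agent.AlgSp.mono_of_repWith (P := @IsClosedImmersion)
    (fun g hg => have : IsClosedImmersion g := hg; inferInstance) i hi
  obtain ⟨A, a₁, ha, has⟩ := hU.atlas
  obtain ⟨B, b₁, hb, hbs⟩ := hV.atlas
  have hje : RepWith @Etale j := ⟨hj.1, fun _ _ g fst snd s =>
    have : IsOpenImmersion snd.left := hj.2 g fst snd s; inferInstanceAs (Etale snd.left)⟩
  have haj : RepWith @Etale (a₁ ≫ j) := (repWith_isMultiplicative _).comp_mem _ _ ha hje
  have hbf : RepWith @Etale (b₁ ≫ f) := hf b₁ hb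
  let C : Bool → Over S := fun k => bif k then A else B
  let c : ∀ k, (yon S).obj (C k) ⟶ W := fun k => match k with
    | true => a₁ ≫ j
    | false => b₁ ≫ f
  let m : ∀ k, (yon S).obj (C k) ⟶ Z := fun k => match k with
    | true => a₁ ≫ a
    | false => b₁ ≫ b
  have hc : ∀ k, RepWith @Etale (c k) := fun k => match k with
    | true => haj
    | false => hbf
  have hcs : ∀ x, ∃ k t, Points.ofPt (c k) t = x := by
    intro x
    by_cases hx : x ∈ Set.range (Points.map j)
    · obtain ⟨y, rfl⟩ := hx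
      obtain ⟨t, rfl⟩ := AlgSpB.surjective_ofPt has y
      exact ⟨true, t, (Points.map_ofPt a₁ j t).symm⟩
    · have hx' : x ∈ Set.range (Points.map i) := hr ▸ hx
      obtain ⟨y, rfl⟩ := hx'
      obtain ⟨t, ht⟩ := AlgSpB.surjective_ofPt hbs (Points.map p₂ (Points.map (inv p₁) y))
      refine ⟨false, t, ?_⟩
      change Points.ofPt (b₁ ≫ f) t = _
      rw [← Points.map_ofPt, ht, ← Points.map_comp, ← Points.map_comp, ← hP'.w, IsIso.inv_hom_id_assoc]
  have hab : ∀ (Y : Sp S) (u : Y ⟶ U) (v : Y ⟶ V), u ≫ j = v ≫ f → u ≫ a = v ≫ b := fun Y u v e => by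
    rw [← hP.lift_fst u v e, Category.assoc, w, hP.lift_snd_assoc]
  have hbb : ∀ (Y : Over S) (u v : (yon S).obj Y ⟶ (yon S).obj B), u ≫ b₁ ≫ f = v ≫ b₁ ≫ f →
      u ≫ b₁ ≫ b = v ≫ b₁ ≫ b := by
    intro Y u v huv
    let R := hbf.1.pullback (b₁ ≫ f)
    let r₁ : R ⟶ B := hbf.1.fst' (b₁ ≫ f)
    let r₂ : R ⟶ B := hbf.1.snd (b₁ ≫ f)
    have hr' : (yon S).map r₁ ≫ b₁ ≫ f = (yon S).map r₂ ≫ b₁ ≫ f := by
      rw [Functor.relativelyRepresentable.map_fst']; exact (hbf.1.isPullback (b₁ ≫ f)).w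
    suffices e : (yon S).map r₁ ≫ b₁ ≫ b = (yon S).map r₂ ≫ b₁ ≫ b by
      obtain ⟨u, rfl⟩ := (yon S).map_surjective u
      obtain ⟨v, rfl⟩ := (yon S).map_surjective v
      rw [← Functor.relativelyRepresentable.lift'_fst hbf.1 (g := b₁ ≫ f) u v huv, Functor.map_comp, Category.assoc,
        e, ← Category.assoc, ← Functor.map_comp, Functor.relativelyRepresentable.lift'_snd]
    let Q := hb.1.pullback b₁
    let q₁ : Q ⟶ B := hb.1.fst' b₁
    let q₂ : Q ⟶ B := hb.1.snd b₁
    have hq' : (yon S).map q₁ ≫ b₁ = (yon S).map q₂ ≫ b₁ := by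
      rw [Functor.relativelyRepresentable.map_fst']; exact (hb.1.isPullback b₁).w
    let g : Q ⟶ R := hbf.1.lift' (g := b₁ ≫ f) q₁ q₂ (by rw [reassoc_of% hq'])
    have hg₁ : g ≫ r₁ = q₁ := Functor.relativelyRepresentable.lift'_fst _ _ _ _
    have hg₂ : g ≫ r₂ = q₂ := Functor.relativelyRepresentable.lift'_snd _ _ _ _
    have : Etale r₂.left := hbf.2 _ _ _ (hbf.1.isPullback (b₁ ≫ f))
    have : Etale (g.left ≫ r₂.left) := by
      rw [← Over.comp_left, hg₂]
      exact hb.2 _ _ _ (hb.1.isPullback b₁)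
    have hge : Etale g.left := Etale.of_comp g.left r₂.left
    obtain ⟨O, o₂, o₁, hO⟩ := hj.1 ((yon S).map r₁ ≫ b₁ ≫ f)
    have ho₂ : IsOpenImmersion o₂.left := hj.2 _ _ _ hO
    let D : Bool → Over S := fun k => bif k then O else Q
    let d : ∀ k, D k ⟶ R := fun k => match k with
      | true => o₂
      | false => g
    refine hom_ext_cover d (fun k => match k with
      | true => inferInstanceAs (Etale o₂.left)
      | false => hge) (fun r => ?_) _ _ fun k => ?_
    · by_cases hx : Points.ofPt ((yon S).map r₁ ≫ b₁ ≫ f) r ∈ Set.range (Points.map j)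
      · obtain ⟨y, hy⟩ := hx
        obtain ⟨z, -, hz⟩ := AlgSpB.exists_of_isPullback hO y (Points.ofScheme R r)
          (by rw [hy, Points.map_ofPt, Category.id_comp])
        refine ⟨true, Points.toScheme O z, ?_⟩
        change o₂.left _ = r
        rw [← Points.toScheme_ofPt, Points.ofPt_eq_map_ofScheme, Points.ofScheme_toScheme, hz,
          Points.toScheme_ofScheme]
      · let κ : Over S := Over.mk (R.left.fromSpecResidueField r ≫ R.hom)
        let ι : κ ⟶ R := Over.homMk (R.left.fromSpecResidueField r) rfl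
        let x₀ : ↥κ.left := IsLocalRing.closedPoint _
        have hι : ι.left x₀ = r := Scheme.fromSpecResidueField_apply r x₀
        have : IsReduced κ.left := inferInstanceAs (IsReduced (Spec (R.left.residueField r)))
        have : Subsingleton ↥κ.left := inferInstanceAs (Subsingleton (PrimeSpectrum (R.left.residueField r)))
        obtain ⟨t, ht⟩ := exists_factor_closed hi ((yon S).map ι ≫ (yon S).map r₁ ≫ b₁ ≫ f) x₀ (by
          rw [AlgSpB.ofPt_map_comp, hι, hr]
          exact hx)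
        have eq : ∀ s : (yon S).obj κ ⟶ V, s ≫ f = t ≫ i → s = t ≫ inv p₁ ≫ p₂ := fun s hs => by
          have e := hP'.lift_fst t s hs.symm
          rw [← IsIso.eq_comp_inv] at e
          exact (hP'.lift_snd t s hs.symm).symm.trans ((congrArg (· ≫ p₂) e).trans (Category.assoc _ _ _))
        have e₁ := eq ((yon S).map ι ≫ (yon S).map r₁ ≫ b₁) (by rw [ht]; simp only [Category.assoc])
        have e₂ := eq ((yon S).map ι ≫ (yon S).map r₂ ≫ b₁)
          (by rw [ht, hr']; simp only [Category.assoc])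
        have e := e₁.trans e₂.symm
        let z : κ ⟶ Q := hb.1.lift' (g := b₁) (ι ≫ r₁) (ι ≫ r₂) (by
          rw [Functor.map_comp, Functor.map_comp, Category.assoc, Category.assoc]; exact e)
        have hz : z ≫ g = ι := by
          apply Functor.relativelyRepresentable.hom_ext' hbf.1
          · rw [Category.assoc, hg₁]; exact Functor.relativelyRepresentable.lift'_fst _ _ _ _
          · rw [Category.assoc, hg₂]; exact Functor.relativelyRepresentable.lift'_snd _ _ _ _
        exact ⟨false, z.left x₀, (congr(($hz).left x₀)).trans hι⟩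
    · cases k with
      | true =>
        change (yon S).map o₂ ≫ _ = (yon S).map o₂ ≫ _
        have h1 : o₁ ≫ a = ((yon S).map o₂ ≫ (yon S).map r₁ ≫ b₁) ≫ b :=
          hab _ o₁ _ (by rw [hO.w]; simp only [Category.assoc])
        have h2 : o₁ ≫ a = ((yon S).map o₂ ≫ (yon S).map r₂ ≫ b₁) ≫ b :=
          hab _ o₁ _ (by rw [hO.w, hr']; simp only [Category.assoc])
        simpa only [Category.assoc] using h1.symm.trans h2
      | false =>
        change (yon S).map g ≫ _ = (yon S).map g ≫ _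
        rw [← Category.assoc ((yon S).map g), ← Category.assoc ((yon S).map g), ← Functor.map_comp, ← Functor.map_comp,
          hg₁, hg₂, reassoc_of% hq']
  obtain ⟨l, hl⟩ := exists_desc_fam hc hcs m fun k k' Y u v e => by
    match k, k', u, v, e with
    | true, true, u, v, e =>
      change u ≫ a₁ ≫ j = v ≫ a₁ ≫ j at e
      change u ≫ a₁ ≫ a = v ≫ a₁ ≫ a
      rw [← Category.assoc, ← Category.assoc, cancel_mono] at e
      rw [← Category.assoc, ← Category.assoc, e]
    | true, false, u, v, e =>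
      simpa only [Category.assoc] using hab _ (u ≫ a₁) (v ≫ b₁) (by simpa only [Category.assoc] using e)
    | false, true, u, v, e =>
      simpa only [Category.assoc] using (hab _ (v ≫ a₁) (u ≫ b₁) (by simpa only [Category.assoc] using e.symm)).symm
    | false, false, u, v, e => exact hbb Y u v e
  have hl₁ : j ≫ l = a := hom_ext_cover_sp ha has ((Category.assoc _ _ _).symm.trans (hl true))
  have hl₂ : f ≫ l = b := hom_ext_cover_sp hb hbs ((Category.assoc _ _ _).symm.trans (hl false))
  refine ⟨l, ⟨hl₁, hl₂⟩, fun l' hl' => hom_ext_fam hc hcs fun k => ?_⟩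
  cases k with
  | true => exact (Category.assoc _ _ _).trans ((by rw [hl'.1, hl₁] : a₁ ≫ j ≫ l' = a₁ ≫ j ≫ l).trans (Category.assoc _ _ _).symm)
  | false => exact (Category.assoc _ _ _).trans ((by rw [hl'.2, hl₂] : b₁ ≫ f ≫ l' = b₁ ≫ f ≫ l).trans (Category.assoc _ _ _).symm)

end Groth.Agent.AlgSp.ElemDist
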