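import Groth.Agent.Goldman.Basic
import Groth.Agent.AlgSpCov.Listed
import Groth.Agent.AlgSpB.Open
import Groth.Agent.AlgSpB.Charts
import Groth.Agent.AlgSp.Space
import Mathlib.AlgebraicGeometry.Morphisms.FiniteType
import Mathlib.AlgebraicGeometry.ResidueField
import Mathlib.FieldTheory.IsAlgClosed.Basic

/-!
# Finite type points of algebraic spaces
-/

universe u

open CategoryTheory CategoryTheory.Limits AlgebraicGeometry

set_option backward.isDefEq.respectTransparency.types false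

namespace Groth.Agent.AlgSp.FTPoints

open _root_.AlgSp

/-- The image of a finite type morphism from the spectrum of a field is closed in some open. -/
theorem exists_open_isClosed {U : Scheme.{u}} {k : Type u} [Field k] (g : Spec (CommRingCat.of k) ⟶ U)
    [LocallyOfFiniteType g] (z : Spec (CommRingCat.of k)) :
    ∃ (O : U.Opens) (h : g z ∈ O), IsClosed ({⟨g z, h⟩} : Set O.toScheme) := by
  obtain ⟨_, ⟨W, hW, rfl⟩, hzW, -⟩ :=
    U.isBasis_affineOpens.exists_subset_of_mem_open (Set.mem_univ (g z)) isOpen_univ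
  have htop : (⊤ : (Spec (CommRingCat.of k)).Opens) ≤ g ⁻¹ᵁ W := fun z' _ => by
    rw [Subsingleton.elim z' z]; exact hzW
  have hft := g.finiteType_appLE hW (isAffineOpen_top _) htop
  let φ : Γ(U, W) →+* k := ((Scheme.ΓSpecIso (CommRingCat.of k)).hom.hom).comp (g.appLE W ⊤ htop).hom
  have hφ : φ.FiniteType :=
    (RingHom.FiniteType.of_surjective _ (ConcreteCategory.bijective_of_isIso (Scheme.ΓSpecIso (CommRingCat.of k)).hom).2).comp hft
  let R := Γ(U, W) ⧸ RingHom.ker φ
  algebraize [RingHom.kerLift φ]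
  have : (RingHom.ker φ).IsPrime := RingHom.ker_isPrime φ
  have : Algebra.FiniteType R k := by
    have h : ((RingHom.kerLift φ).comp (Ideal.Quotient.mk _)).FiniteType := by
      convert hφ using 1
      ext x
      exact RingHom.kerLift_mk φ x
    exact RingHom.FiniteType.of_comp_finiteType h
  obtain ⟨f, hf, hall⟩ := Goldman.exists_forall_mem_of_finiteType_field (B := R) k (RingHom.kerLift_injective φ) this
  obtain ⟨f₀, rfl⟩ := Ideal.Quotient.mk_surjective f
  have hf₀ : φ f₀ ≠ 0 := fun h => hf (Ideal.Quotient.eq_zero_iff_mem.2 h)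
  have hmem : g z ∈ U.basicOpen f₀ := by
    have h1 : (z : Spec (CommRingCat.of k)) ∈ (Spec (CommRingCat.of k)).basicOpen (g.appLE W ⊤ htop f₀) := by
      rw [basicOpen_eq_of_affine']
      exact (PrimeSpectrum.mem_basicOpen _ _).2 fun h => hf₀ ((Ideal.eq_bot_of_prime z.asIdeal).le h)
    rw [Scheme.basicOpen_appLE] at h1
    exact h1.2
  refine ⟨U.basicOpen f₀, hmem, ?_⟩
  rw [← closure_subset_iff_isClosed]
  rintro ⟨v, hv⟩ hv'
  have hsp : g z ⤳ v := (specializes_iff_mem_closure.2 hv').map continuous_subtype_val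
  have hvW : v ∈ W := U.basicOpen_le f₀ hv
  -- compare the primes
  let p₁ := hW.primeIdealOf ⟨v, hvW⟩
  have hkey : ∀ a : Γ(U, W), v ∈ U.basicOpen a ↔ a ∉ p₁.asIdeal := fun a => by
    have h1 : (p₁ ∈ hW.fromSpec ⁻¹ᵁ U.basicOpen a) ↔ a ∉ p₁.asIdeal := by
      rw [hW.fromSpec_preimage_basicOpen]; rfl
    change hW.fromSpec p₁ ∈ U.basicOpen a ↔ _ at h1
    rwa [hW.fromSpec_primeIdealOf] at h1
  have hz : ∀ a : Γ(U, W), g z ∈ U.basicOpen a → φ a ≠ 0 := fun a ha h0 => by
    have h1 : (z : Spec (CommRingCat.of k)) ∈ (Spec (CommRingCat.of k)).basicOpen (g.appLE W ⊤ htop a) := by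
      rw [Scheme.basicOpen_appLE]; exact ⟨trivial, ha⟩
    rw [basicOpen_eq_of_affine'] at h1
    exact (PrimeSpectrum.mem_basicOpen _ _).1 h1 (by
      change φ a ∈ z.asIdeal
      rw [h0]; exact zero_mem _)
  have hle : RingHom.ker φ ≤ p₁.asIdeal := fun a ha => of_not_not fun h =>
    hz a (hsp.mem_open (U.basicOpen a).2 ((hkey a).2 h)) ha
  have hP : (p₁.asIdeal.map (Ideal.Quotient.mk (RingHom.ker φ))).IsPrime :=
    Ideal.map_isPrime_of_surjective Ideal.Quotient.mk_surjective (by rwa [Ideal.mk_ker])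
  have hbot : p₁.asIdeal.map (Ideal.Quotient.mk (RingHom.ker φ)) = ⊥ := by
    by_contra hne
    have h1 := hall _ hP hne
    rw [← Ideal.mem_comap, Ideal.comap_map_mk hle] at h1
    exact (hkey f₀).1 hv h1
  have heq : p₁.asIdeal = RingHom.ker φ := by
    rw [← Ideal.comap_map_mk hle, hbot, ← RingHom.ker_eq_comap_bot, Ideal.mk_ker]
  let p₀ := hW.primeIdealOf ⟨g z, hzW⟩
  have hp₀ : ∀ a : Γ(U, W), g z ∈ U.basicOpen a ↔ a ∉ p₀.asIdeal := fun a => by
    have h1 : (p₀ ∈ hW.fromSpec ⁻¹ᵁ U.basicOpen a) ↔ a ∉ p₀.asIdeal := by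
      rw [hW.fromSpec_preimage_basicOpen]; rfl
    change hW.fromSpec p₀ ∈ U.basicOpen a ↔ _ at h1
    rwa [hW.fromSpec_primeIdealOf] at h1
  have hp : p₀ = p₁ := PrimeSpectrum.ext (le_antisymm
    (fun a ha => of_not_not fun h => ((hp₀ a).1 (hsp.mem_open (U.basicOpen a).2 ((hkey a).2 h))) ha)
    (fun a ha => of_not_not fun h => hz a ((hp₀ a).2 h) (heq.le ha)))
  have := congrArg hW.fromSpec hp
  rw [hW.fromSpec_primeIdealOf, hW.fromSpec_primeIdealOf] at this
  exact Subtype.ext this.symm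

variable {S : Scheme.{u}} {X : Sp S}

/-- A closed point of an etale chart is a finite type point. -/
theorem exists_ft_of_closed {U : Over S} (φ : (yon S).obj U ⟶ X) (hφ : RepWith @Etale φ) (u : ↥U.left)
    (hu : IsClosed ({u} : Set ↥U.left)) :
    ∃ (k : Type u) (_ : Field k) (str : Spec (CommRingCat.of k) ⟶ S) (ξ : (yon S).obj (Over.mk str) ⟶ X),
      LocP @LocallyOfFiniteType ξ ∧ Points.ofPt ξ (IsLocalRing.closedPoint k) = Points.ofPt φ u := by
  have : IsClosedImmersion (U.left.fromSpecResidueField u) :=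
    .of_isPreimmersion _ (by rw [Scheme.range_fromSpecResidueField]; exact hu)
  let ι : Over.mk (U.left.fromSpecResidueField u ≫ U.hom) ⟶ U := Over.homMk (U.left.fromSpecResidueField u) rfl
  refine ⟨U.left.residueField u, inferInstance, U.left.fromSpecResidueField u ≫ U.hom, (yon S).map ι ≫ φ,
    AlgSpCov.locP_of_repWith AlgSpCov.etaleLocal_locallyOfFiniteType
      (MorphismProperty.comp_mem (RepWith @LocallyOfFiniteType) _ _
        ((repWith_yon_map_iff _ ι).2 (inferInstanceAs (LocallyOfFiniteType (U.left.fromSpecResidueField u))))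
        (Groth.Agent.AlgSp.repWith_mono (P := @Etale) (Q := @LocallyOfFiniteType)
          (fun g hg => have : Etale g := hg; (inferInstance : LocallyOfFiniteType g)) hφ)), ?_⟩
  rw [Groth.Agent.AlgSpB.ofPt_map_comp]
  exact congrArg _ (Scheme.fromSpecResidueField_apply u _)

/-- A scheme has a point closed in an open around it, inside any nonempty locally closed subset. -/
theorem exists_closed_in_open {U : Scheme.{u}} {T : Set U} (hT : IsLocallyClosed T) (hne : T.Nonempty) :
    ∃ (O : U.Opens) (u : U) (h : u ∈ O), u ∈ T ∧ IsClosed ({⟨u, h⟩} : Set O.toScheme) := by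
  obtain ⟨O', C, hO', hC, rfl⟩ := hT
  obtain ⟨x, hxO, hxC⟩ := hne
  obtain ⟨_, ⟨(W : U.Opens), hW, rfl⟩, hxW, hWO⟩ := U.isBasis_affineOpens.exists_subset_of_mem_open hxO hO'
  have : CompactSpace (Scheme.Opens.toScheme W) := isCompact_iff_compactSpace.1 (IsAffineOpen.isCompact hW)
  have hC' : IsClosed {w : (Scheme.Opens.toScheme W : Scheme.{u}) | (w.1 : U) ∈ C} :=
    hC.preimage continuous_subtype_val
  obtain ⟨w, hw, hwc⟩ := hC'.exists_closed_singleton ⟨⟨x, hxW⟩, hxC⟩
  exact ⟨W, w.1, w.2, ⟨hWO w.2, hw⟩, hwc⟩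

/-- Nonempty locally closed subsets contain finite type points. -/
theorem exists_ft_of_locallyClosed (hX : IsAlgSpace X) (T : Set (Points X)) (hT : IsLocallyClosed T)
    (hne : T.Nonempty) :
    ∃ x ∈ T, (∃ (k : Type u) (_ : Field k) (str : Spec (CommRingCat.of k) ⟶ S)
      (ξ : (yon S).obj (Over.mk str) ⟶ X), LocP @LocallyOfFiniteType ξ ∧
        Points.ofPt ξ (IsLocalRing.closedPoint k) = x) := by
  obtain ⟨U, p, hp, hps⟩ := hX.atlas
  obtain ⟨x, hx⟩ := hne
  obtain ⟨u₀, rfl⟩ := Groth.Agent.AlgSpB.surjective_ofPt hps x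
  obtain ⟨O, u, h, huT, hc⟩ := exists_closed_in_open (hT.preimage (Points.continuous_ofPt p)) ⟨u₀, hx⟩
  let ι : Over.mk (O.ι ≫ U.hom) ⟶ U := Over.homMk O.ι rfl
  have : Etale ι.left := inferInstanceAs (Etale O.ι)
  refine ⟨_, huT, ?_⟩
  have := exists_ft_of_closed ((yon S).map ι ≫ p) (Groth.Agent.AlgSpB.repWith_etale_map_comp ι hp) ⟨u, h⟩ hc
  rwa [Groth.Agent.AlgSpB.ofPt_map_comp] at this

/-- A finite type point is the image of a closed point of an etale chart. -/
theorem exists_closed_chart (hX : IsAlgSpace X) {k : Type u} [Field k] {str : Spec (CommRingCat.of k) ⟶ S}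
    (ξ : (yon S).obj (Over.mk str) ⟶ X) (hξ : LocP @LocallyOfFiniteType ξ) :
    ∃ (U : Over S) (φ : (yon S).obj U ⟶ X) (u : ↥U.left), RepWith @Etale φ ∧
      IsClosed ({u} : Set ↥U.left) ∧ Points.ofPt φ u = Points.ofPt ξ (IsLocalRing.closedPoint k) := by
  obtain ⟨U, p, hp, hps⟩ := hX.atlas
  obtain ⟨R, s, t, sq⟩ := Groth.Agent.AlgSp.exists_isPullback_yon hX.diag ξ p
  have hs : Etale s.left := hp.2 _ _ _ sq.flip
  have : Surjective s.left := hps.2 _ _ _ sq.flip
  have ht : LocallyOfFiniteType t.left := hξ ((yon S).map s) p t ((repWith_yon_map_iff _ s).2 hs) hp sq.w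
  obtain ⟨r₀, -⟩ := s.left.surjective (IsLocalRing.closedPoint k)
  obtain ⟨OR, r, hr, -, hc⟩ := exists_closed_in_open (T := (Set.univ : Set R.left)) isOpen_univ.isLocallyClosed
    ⟨r₀, trivial⟩
  have : IsClosedImmersion (OR.toScheme.fromSpecResidueField ⟨r, hr⟩) :=
    .of_isPreimmersion _ (by rw [Scheme.range_fromSpecResidueField]; exact hc)
  let g := OR.toScheme.fromSpecResidueField ⟨r, hr⟩ ≫ OR.ι ≫ t.left
  have hgr : g (IsLocalRing.closedPoint _) = t.left r := by
    simp only [g, Scheme.Hom.comp_apply, Scheme.fromSpecResidueField_apply]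
    rfl
  obtain ⟨O, hmem, hOc⟩ := exists_open_isClosed (k := OR.toScheme.residueField ⟨r, hr⟩) g (IsLocalRing.closedPoint _)
  let ι : Over.mk (O.ι ≫ U.hom) ⟶ U := Over.homMk O.ι rfl
  have : Etale ι.left := inferInstanceAs (Etale O.ι)
  refine ⟨_, (yon S).map ι ≫ p, ⟨_, hmem⟩, Groth.Agent.AlgSpB.repWith_etale_map_comp ι hp, hOc, ?_⟩
  rw [Groth.Agent.AlgSpB.ofPt_map_comp]
  change Points.ofPt p (g _) = _
  rw [hgr, ← Groth.Agent.AlgSpB.ofPt_map_comp, ← sq.w, Groth.Agent.AlgSpB.ofPt_map_comp]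
  exact congrArg _ (Subsingleton.elim (α := Spec (CommRingCat.of k)) _ _)

/-- A nonempty scheme locally of finite type over an algebraically closed field has a rational point. -/
theorem exists_section_of_isAlgClosed {R : Scheme.{u}} {k : Type u} [Field k] [IsAlgClosed k]
    (s : R ⟶ Spec (CommRingCat.of k)) [LocallyOfFiniteType s] [Nonempty R] :
    ∃ σ : Spec (CommRingCat.of k) ⟶ R, σ ≫ s = 𝟙 _ := by
  obtain ⟨O, r, hr, -, hc⟩ := exists_closed_in_open (T := (Set.univ : Set R)) isOpen_univ.isLocallyClosed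
    Set.univ_nonempty
  have : IsClosedImmersion (O.toScheme.fromSpecResidueField ⟨r, hr⟩) :=
    .of_isPreimmersion _ (by rw [Scheme.range_fromSpecResidueField]; exact hc)
  let g := O.toScheme.fromSpecResidueField ⟨r, hr⟩ ≫ O.ι ≫ s
  obtain ⟨ψ, hψ⟩ := Spec.map_surjective g
  have hft : ψ.hom.FiniteType := by
    rw [← HasRingHomProperty.Spec_iff (P := @LocallyOfFiniteType), hψ]; infer_instance
  algebraize [ψ.hom]
  have : Module.Finite k (O.toScheme.residueField ⟨r, hr⟩) :=
    finite_of_finite_type_of_isJacobsonRing k _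
  have hbij := IsAlgClosed.algebraMap_bijective_of_isIntegral (k := k) (K := O.toScheme.residueField ⟨r, hr⟩)
  have : IsIso ψ := (ConcreteCategory.isIso_iff_bijective ψ).2 hbij
  have : IsIso g := by rw [← hψ]; infer_instance
  refine ⟨inv g ≫ O.toScheme.fromSpecResidueField ⟨r, hr⟩ ≫ O.ι, ?_⟩
  rw [Category.assoc, Category.assoc]
  exact IsIso.inv_hom_id g

end Groth.Agent.AlgSp.FTPoints
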