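import Groth.Agent.AlgSp.FTPoints
import Groth.Agent.AlgSp.DescentSepLqf
import Groth.Agent.AlgSpB.RedInduced
import Groth.Agent.AlgSpB.FieldPoints

/-!
# A finite type point is a monomorphism from a quotient of the spectrum of a field
-/

universe u

open CategoryTheory CategoryTheory.Limits AlgebraicGeometry

set_option backward.isDefEq.respectTransparency.types false

namespace Groth.Agent.AlgSp.FTQuot

open _root_.AlgSp

/-- A closed subscheme of a scheme etale over a field is open. -/
theorem isOpenImmersion_of_etale_field {K : Type u} [Field K] {W T : Scheme.{u}} (f : W ⟶ Spec (CommRingCat.of K))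
    [Etale f] (i : T ⟶ W) [IsClosedImmersion i] : IsOpenImmersion i := by
  have : DiscreteTopology W := by
    have := Groth.Agent.AlgSpB.locallyQuasiFinite_of_etale f
    have h := f.isDiscrete_preimage_singleton (IsLocalRing.closedPoint K)
    have e : f ⁻¹' {IsLocalRing.closedPoint K} = Set.univ :=
      Set.eq_univ_of_forall fun w' => Subsingleton.elim (α := Spec (CommRingCat.of K)) _ _
    exact isDiscrete_univ_iff.1 (Eq.subst (motive := fun s => IsDiscrete s) e h)
  have : IsReduced (Spec (CommRingCat.of K)) := inferInstance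
  have : IsReduced W := Groth.Agent.AlgSpB.isReduced_of_etale f
  let O : W.Opens := ⟨Set.range i, isOpen_discrete _⟩
  let l := IsOpenImmersion.lift O.ι i (by rw [Scheme.Opens.range_ι]; exact le_rfl)
  have hl : l ≫ O.ι = i := IsOpenImmersion.lift_fac _ _ _
  have : IsClosedImmersion (l ≫ O.ι) := by rw [hl]; infer_instance
  have : IsClosedImmersion l := IsClosedImmersion.of_comp l O.ι
  have : Surjective l := ⟨fun z => by
    obtain ⟨w, hw⟩ := z.2
    exact ⟨w, O.ι.isOpenEmbedding.injective (by rw [← Scheme.Hom.comp_apply, hl]; exact hw)⟩⟩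
  have : IsReduced O.toScheme := isReduced_of_isOpenImmersion O.ι
  have : IsIso l := isIso_of_isClosedImmersion_of_surjective l
  rw [← hl]
  infer_instance

variable {S : Scheme.{u}}

/-- The monomorphism from a quotient of the spectrum of a field at a closed point of a chart. -/
theorem exists_mono_quotient (X : Space S) {U : Over S} (φ : (yon S).obj U ⟶ X.obj) (hφ : RepWith @Etale φ)
    (u : ↥U.left) (hu : IsClosed ({u} : Set ↥U.left)) :
    ∃ (Z : Space S) (f : Z ⟶ X) (k : Type u) (_ : Field k) (str : Spec (CommRingCat.of k) ⟶ S)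
        (z : (yon S).obj (Over.mk str) ⟶ Z.obj), RepWith @Etale z ∧ RepWith @Surjective z ∧
        LocP @LocallyOfFiniteType f.hom ∧ Mono f.hom ∧
        Points.ofPt (z ≫ f.hom) (IsLocalRing.closedPoint k) = Points.ofPt φ u := by
  let K : Over S := Over.mk (U.left.fromSpecResidueField u ≫ U.hom)
  let c : K ⟶ U := Over.homMk (U.left.fromSpecResidueField u) rfl
  have hc : IsClosedImmersion c.left :=
    IsClosedImmersion.of_isPreimmersion (U.left.fromSpecResidueField u) (by rw [Scheme.range_fromSpecResidueField]; exact hu)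
  let ξ := (yon S).map c ≫ φ
  obtain ⟨R₁, r₁, q, sq₁⟩ := Groth.Agent.AlgSp.exists_isPullback_yon X.property.diag ξ φ
  have hr₁ : Etale r₁.left := hφ.2 _ _ r₁ sq₁.flip
  let R := pullback q c
  let l : R ⟶ R₁ := pullback.fst q c
  let t : R ⟶ K := pullback.snd q c
  let s : R ⟶ K := l ≫ r₁
  have hl : IsClosedImmersion l.left :=
    MorphismProperty.of_isPullback (P := @IsClosedImmersion)
      ((IsPullback.of_hasPullback q c).map (Over.forget S)).flip hc
  have : IsOpenImmersion l.left := isOpenImmersion_of_etale_field (K := U.left.residueField u) r₁.left l.left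
  have hs : Etale s.left := inferInstanceAs (Etale (l.left ≫ r₁.left))
  have sq : IsPullback ((yon S).map t) ((yon S).map s) ξ ξ := by
    have h := ((IsPullback.of_hasPullback q c).map (yon S)).paste_horiz sq₁
    rw [← Functor.map_comp] at h
    exact h.flip
  let eZ := Sheaf.toImage ξ
  let i := Sheaf.imageι ξ
  have hfac : eZ ≫ i = ξ := Sheaf.toImage_ι ξ
  have : Sheaf.IsLocallySurjective eZ := (Sheaf.isLocallySurjective_iff_epi _).2 inferInstance
  have hkp : IsPullback ((yon S).map t) ((yon S).map s) eZ eZ := by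
    have hw : (yon S).map t ≫ eZ = (yon S).map s ≫ eZ := by
      rw [← cancel_mono i, Category.assoc, Category.assoc, hfac]; exact sq.w
    refine IsPullback.of_isLimit' ⟨hw⟩ (PullbackCone.IsLimit.mk _
      (fun z => sq.lift z.fst z.snd (by
        have := congrArg (fun k => k ≫ i) z.condition
        simpa only [Category.assoc, hfac] using this))
      (fun z => sq.lift_fst _ _ _) (fun z => sq.lift_snd _ _ _)
      (fun z n h1 h2 => sq.hom_ext (by rw [h1, sq.lift_fst]) (by rw [h2, sq.lift_snd])))
  obtain ⟨hZ, hZe, hZs⟩ := Groth.Agent.AlgSp.isAlgSpace_of_kernelPair eZ hkp hs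
  refine ⟨⟨_, hZ⟩, ⟨i⟩, U.left.residueField u, inferInstance, U.left.fromSpecResidueField u ≫ U.hom, eZ, hZe, hZs,
    ?_, inferInstanceAs (Mono i), ?_⟩
  · exact Groth.Agent.AlgSpCov.locP_of_one_chart Groth.Agent.AlgSpCov.etaleLocal_locallyOfFiniteType
      (fun _ _ e _ => inferInstance) X.property hZe hZs hφ hfac (inferInstanceAs (LocallyOfFiniteType c.left))
  · change Points.ofPt (eZ ≫ i) _ = _
    rw [hfac, Groth.Agent.AlgSpB.ofPt_map_comp]
    exact congrArg _ (Scheme.fromSpecResidueField_apply u _)

end Groth.Agent.AlgSp.FTQuot
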