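import Groth.Agent.AlgSp.GenFiniteSch
import Groth.Agent.AlgSp.RelProp
import Groth.Agent.AlgSp.UnivClosed
import Groth.Agent.AlgSpB.Open
import Groth.Agent.S16833
import Groth.Agent.S10268

/-!
# Finiteness from a finite chart with finite relation
-/

universe u

open CategoryTheory CategoryTheory.Limits AlgebraicGeometry Opposite Topology

set_option backward.isDefEq.respectTransparency.types false

namespace Groth.Agent.AlgSp

variable {S : Scheme.{u}}

/-- A chart finite over an open of the base, with relation finite over it, gives a finite morphism over it. -/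
theorem isFiniteMor_restrict {P : AlgSp.Sp S} (hP : AlgSp.IsAlgSpace P) {V : Over S}
    (snd : P ⟶ (AlgSp.yon S).obj V) {U R : Over S} {a : (AlgSp.yon S).obj U ⟶ P}
    (ha : AlgSp.RepWith @Etale a) (has : AlgSp.RepWith @Surjective a) {h : U ⟶ V}
    (hah : a ≫ snd = (AlgSp.yon S).map h) {t q : R ⟶ U}
    (sR : IsPullback ((AlgSp.yon S).map t) ((AlgSp.yon S).map q) a a) (O : V.left.Opens)
    (hfinU0 : IsFinite (h.left ∣_ O)) (hfinR0 : IsFinite ((t.left ≫ h.left) ∣_ O)) :
    AlgSp.IsFiniteMor (pullback.snd snd ((AlgSp.yon S).map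
      (Over.homMk O.ι rfl : Over.mk (O.ι ≫ V.hom) ⟶ V))) := by
  classical
  let B : Over S := Over.mk (O.ι ≫ V.hom)
  let j : B ⟶ V := Over.homMk O.ι rfl
  let U3 := pullback h j
  let p1 : U3 ⟶ U := pullback.fst h j
  let h3 : U3 ⟶ B := pullback.snd h j
  have sU3 : IsPullback p1 h3 h j := IsPullback.of_hasPullback h j
  have hfinU : IsFinite h3.left :=
    isFinite_of_restrict_le h.left O h3.left p1.left O le_rfl hfinU0 (sU3.map (Over.forget S))
  have s3 := IsPullback.of_hasPullback snd ((AlgSp.yon S).map j)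
  have hP3 := isAlgSpace_pullback (AlgSp.IsAlgSpace.yon_obj V) hP (AlgSp.IsAlgSpace.yon_obj B)
    snd ((AlgSp.yon S).map j)
  let snd3 := pullback.snd snd ((AlgSp.yon S).map j)
  let π := s3.lift ((AlgSp.yon S).map p1 ≫ a) ((AlgSp.yon S).map h3)
    (by rw [Category.assoc, hah, ← Functor.map_comp, ← Functor.map_comp, sU3.w])
  have hπsnd : π ≫ snd3 = (AlgSp.yon S).map h3 := s3.lift_snd _ _ _
  have sπ : IsPullback ((AlgSp.yon S).map p1) π a (pullback.fst snd ((AlgSp.yon S).map j)) := by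
    refine IsPullback.of_bot ?_ (s3.lift_fst _ _ _).symm s3
    rw [s3.lift_snd, hah]
    exact sU3.map (AlgSp.yon S)
  have hπ : AlgSp.RepWith @Etale π := MorphismProperty.of_isPullback sπ ha
  have hπs : AlgSp.RepWith @Surjective π := MorphismProperty.of_isPullback sπ has
  obtain ⟨R3, t3, q3, sR3⟩ := Groth.Agent.AlgSpB.exists_pullback_yon (hP3.representable_from_yon π) π
  have sbig : IsPullback ((AlgSp.yon S).map (q3 ≫ p1)) ((AlgSp.yon S).map t3) a ((AlgSp.yon S).map p1 ≫ a) := by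
    rw [Functor.map_comp]
    have := sR3.flip.paste_horiz sπ
    rwa [← sπ.w] at this
  let m := sR.lift ((AlgSp.yon S).map t3 ≫ (AlgSp.yon S).map p1) ((AlgSp.yon S).map (q3 ≫ p1))
    (by rw [Category.assoc, ← sbig.w])
  obtain ⟨m', hm'⟩ := (AlgSp.yon S).map_surjective m
  have sm : IsPullback ((AlgSp.yon S).map m') ((AlgSp.yon S).map t3) ((AlgSp.yon S).map t) ((AlgSp.yon S).map p1) :=
    IsPullback.of_right (h₁₂ := (AlgSp.yon S).map q) (h₂₂ := a) (v₁₃ := a)
      (by rw [hm', sR.lift_snd]; exact sbig) (by rw [hm', sR.lift_fst]) sR.flip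
  have sm' : IsPullback m' t3 t p1 := IsPullback.of_map (AlgSp.yon S)
    ((AlgSp.yon S).map_injective (by rw [Functor.map_comp, Functor.map_comp, sm.w])) sm
  have hfinR : IsFinite (t3.left ≫ h3.left) := isFinite_of_restrict_le (t.left ≫ h.left) O (t3.left ≫ h3.left) m'.left O le_rfl hfinR0
    ((sm'.paste_vert sU3).map (Over.forget S))
  have : IsFinite t3.left := IsFinite.of_comp t3.left h3.left
  have ht3 : AlgSp.IsFiniteMor ((AlgSp.yon S).map t3) :=
    (Groth.Agent.AlgSpD.isFiniteMor_iff _).2 ((AlgSp.repWith_yon_map_iff _ _).2 ‹IsFinite t3.left›)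
  let P3 : AlgSp.Space S := ⟨_, hP3⟩
  let U3s : AlgSp.Space S := ⟨(AlgSp.yon S).obj U3, AlgSp.IsAlgSpace.yon_obj U3⟩
  let Bs : AlgSp.Space S := ⟨(AlgSp.yon S).obj B, AlgSp.IsAlgSpace.yon_obj B⟩
  let πs : U3s ⟶ P3 := ObjectProperty.homMk π
  let ss : P3 ⟶ Bs := ObjectProperty.homMk snd3
  have hπfin : AlgSp.IsFiniteMor π :=
    (Groth.Agent.S10268.result πs U3 π hπ hπs ((AlgSp.yon S).map q3) ((AlgSp.yon S).map t3) sR3.flip).2 ht3
  have hπsurj := (repWith_surjective_iff π hπs.1).1 hπs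
  have hsep : AlgSp.IsSeparatedMor snd3 :=
    (separation_of_surjective_univClosed (AlgSp.IsAlgSpace.yon_obj U3) hP3
      (AlgSp.IsAlgSpace.yon_obj B) π ((AlgSp.yon S).map h3) snd3 hπsnd hπsurj
      ((Groth.Agent.AlgSpD.isFiniteMor_iff_proper πs.hom).1 hπfin).2.2.2).2
      ((AlgSp.isSeparatedMor_yon_map_iff h3).2 inferInstance)
  have hfin3 : AlgSp.IsFiniteMor snd3 := by
    refine Groth.Agent.S16833.result πs ss ?_ hπsurj hsep ?_
    · exact fun Z φ hφ => (AlgSp.RepWith _).comp_mem _ _ hφ hπ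
    · change AlgSp.IsFiniteMor (π ≫ snd3)
      rw [hπsnd]
      exact (Groth.Agent.AlgSpD.isFiniteMor_iff _).2 ((AlgSp.repWith_yon_map_iff _ _).2 hfinU)
  exact hfin3

/-- Finiteness over a chart gives finiteness over the image open subspace. -/
theorem exists_open_finite_of_chart {X Y : AlgSp.Space S} (f : X ⟶ Y) {B : Over S}
    (b : (AlgSp.yon S).obj B ⟶ Y.obj) (hb : AlgSp.RepWith @Etale b) {P : AlgSp.Sp S} {fst : P ⟶ X.obj}
    {snd : P ⟶ (AlgSp.yon S).obj B} (sq : IsPullback fst snd f.hom b) (hfin : AlgSp.IsFiniteMor snd) :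
    ∃ (Y' X' : AlgSp.Space S) (j : Y' ⟶ Y) (fst' : X' ⟶ Y') (snd' : X' ⟶ X),
      AlgSp.RepWith @IsOpenImmersion j.hom ∧
        Set.range (AlgSp.Points.map j.hom) = Set.range (AlgSp.Points.ofPt b) ∧
        IsPullback fst'.hom snd'.hom j.hom f.hom ∧ AlgSp.IsFiniteMor fst'.hom := by
  obtain ⟨Y', jY, hjY, hjr⟩ := Groth.Agent.AlgSpB.exists_openSubspace Y
    (W := Set.range (AlgSp.Points.ofPt b)) (Groth.Agent.AlgSpB.isOpenMap_ofPt hb).isOpen_range
  obtain ⟨b', hb'j, hb'e, hb's⟩ := Groth.Agent.AlgSpB.exists_chart_into_subspace hb hjY hjr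
  have sX := IsPullback.of_hasPullback jY.hom f.hom
  let X' : AlgSp.Space S := ⟨_, isAlgSpace_pullback Y.property Y'.property X.property jY.hom f.hom⟩
  refine ⟨Y', X', jY, ObjectProperty.homMk (pullback.fst jY.hom f.hom),
    ObjectProperty.homMk (pullback.snd jY.hom f.hom), hjY, hjr, sX, ?_⟩
  let e := sX.lift (snd ≫ b') fst (by rw [Category.assoc, hb'j]; exact sq.w.symm)
  have se : IsPullback e snd (pullback.fst jY.hom f.hom) b' :=
    IsPullback.of_right (h₁₂ := pullback.snd jY.hom f.hom) (h₂₂ := jY.hom) (v₁₃ := f.hom)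
      (by rw [sX.lift_snd, hb'j]; exact sq) (sX.lift_fst _ _ _) sX.flip
  exact (Groth.Agent.S10268.result (X := X') (ObjectProperty.homMk (pullback.fst jY.hom f.hom)) B b' hb'e hb's
    e snd se).2 hfin

end Groth.Agent.AlgSp
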