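import Groth.Agent.AlgSp.FiniteLqf
import Groth.Agent.AlgSpB.Open
import Groth.Agent.AlgSpCov.SchemeSourceLocal

/-!
# Proper morphisms are finite near points with quasi-finite fibre
-/

universe u

open CategoryTheory CategoryTheory.Limits AlgebraicGeometry Opposite Topology

set_option backward.isDefEq.respectTransparency.types false

namespace Groth.Agent.AlgSp

variable {S : Scheme.{u}}

/-- Quasi-finiteness at a point of a morphism of algebraic spaces, on charts. -/
abbrev QfAtMor {F G : AlgSp.Sp S} (f : F ⟶ G) (x : AlgSp.Points F) : Prop :=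
  AlgSp.HasAtMor (fun U _ h u => ∃ W : U.Opens, u ∈ W ∧ LocallyQuasiFinite (W.ι ≫ h) ∧ LocallyOfFiniteType (W.ι ≫ h)) f x

/-- A quasi-finite point has an etale neighbourhood on which the morphism is locally quasi-finite. -/
theorem exists_lqf_chart_of_qfAt {F G : AlgSp.Sp S} (hG : AlgSp.IsAlgSpace G) {f : F ⟶ G} {x : AlgSp.Points F} (h : QfAtMor f x) :
    ∃ (A : Over S) (g : (AlgSp.yon S).obj A ⟶ F), AlgSp.RepWith @Etale g ∧
      x ∈ Set.range (AlgSp.Points.ofPt g) ∧ (∀ w, QfAtMor f (AlgSp.Points.ofPt g w)) ∧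
      AlgSp.LocP (@LocallyQuasiFinite ⊓ @LocallyOfFiniteType) (g ≫ f) := by
  obtain ⟨U, V, a, b, k, u, ha, hb, w, hx, W, huW, hW1, hW2⟩ := h
  let i : Over.mk (W.ι ≫ U.hom) ⟶ U := Over.homMk W.ι rfl
  have : IsOpenImmersion i.left := inferInstanceAs (IsOpenImmersion W.ι)
  have hP := AlgSpCov.standard_locallyQuasiFinite.{u}
  have := hP.comp
  have := hP.bc
  refine ⟨_, (AlgSp.yon S).map i ≫ a, AlgSpB.repWith_etale_map_comp i ha, ⟨⟨u, huW⟩, ?_⟩, fun z => ?_, ?_⟩
  · rw [AlgSpB.ofPt_map_comp, ← hx]; rfl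
  · exact ⟨U, V, a, b, k, i.left z, ha, hb, w, (AlgSpB.ofPt_map_comp i a z).symm, W, z.2, hW1, hW2⟩
  · rw [Category.assoc, w, ← Category.assoc, ← Functor.map_comp]
    exact AlgSpCov.locP_comp hP.etaleLocal (AlgSp.IsAlgSpace.yon_obj _) hG
      (AlgSpCov.locP_of_repWith hP.etaleLocal ((AlgSp.repWith_yon_map_iff _ _).2 ⟨hW1, hW2⟩))
      (AlgSpCov.locP_of_repWith hP.etaleLocal (repWith_mono (fun e he => hP.of_etale e he) hb))

/-- The quasi-finite locus is open. -/
theorem isOpen_qfAt {F G : AlgSp.Sp S} (hG : AlgSp.IsAlgSpace G) (f : F ⟶ G) : IsOpen {x | QfAtMor f x} := by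
  refine isOpen_iff_forall_mem_open.2 fun x hx => ?_
  obtain ⟨A, g, hg, hxg, hall, -⟩ := exists_lqf_chart_of_qfAt hG hx
  exact ⟨_, Set.range_subset_iff.2 hall, (AlgSpB.isOpenMap_ofPt hg).isOpen_range, hxg⟩

/-- A proper morphism is finite over an open neighbourhood of a point with quasi-finite fibre. -/
theorem exists_finite_nhd {X Y : AlgSp.Space S} (f : X ⟶ Y) (y : AlgSp.Points Y.obj)
    (hf : AlgSp.IsProperMor f.hom)
    (hq : ∀ x : AlgSp.Points X.obj, AlgSp.Points.map f.hom x = y → QfAtMor f.hom x) :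
    ∃ (V : AlgSp.Space S) (j : V ⟶ Y), AlgSp.RepWith @IsOpenImmersion j.hom ∧
      y ∈ Set.range (AlgSp.Points.map j.hom) ∧
        ∀ (P : AlgSp.Space S) (fst : P ⟶ X) (snd : P ⟶ V), IsPullback fst.hom snd.hom f.hom j.hom →
          AlgSp.IsFiniteMor snd.hom := by
  have hcl : IsClosedMap (AlgSp.Points.map f.hom) :=
    hf.2.2 Y.property (𝟙 _) (𝟙 _) f.hom IsPullback.of_id_fst
  obtain ⟨V, j, hj, hjr⟩ := AlgSpB.exists_openSubspace Y (hcl _ (isOpen_qfAt Y.property f.hom).isClosed_compl).isOpen_compl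
  refine ⟨V, j, hj, ?_, fun P fst snd sq => ?_⟩
  · rw [hjr]
    rintro ⟨x, hx, hxy⟩
    exact hx (hq x hxy)
  have hP := AlgSpCov.standard_locallyQuasiFinite.{u}
  have := hP.comp
  have := hP.bc
  refine isFiniteMor_of_proper_lqf snd.hom (AlgSpD.isProperMor_baseChange X.property Y.property sq hf) ?_
  obtain ⟨A, a, ha, has⟩ := P.property.atlas
  have hgood : ∀ z : ↥A.left, QfAtMor f.hom (AlgSp.Points.map fst.hom (AlgSp.Points.ofPt a z)) := fun z => by
    by_contra hz
    have h2 : AlgSp.Points.map f.hom (AlgSp.Points.map fst.hom (AlgSp.Points.ofPt a z)) ∈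
        Set.range (AlgSp.Points.map j.hom) := by
      rw [← AlgSp.Points.map_comp, sq.w, AlgSp.Points.map_comp]
      exact ⟨_, rfl⟩
    rw [hjr] at h2
    exact h2 ⟨_, hz, rfl⟩
  choose B g hg hgx hgall hgq using fun z => exists_lqf_chart_of_qfAt Y.property (hgood z)
  have hfst : AlgSp.RepWith @IsOpenImmersion fst.hom := MorphismProperty.of_isPullback sq.flip hj
  have hsPB : ∀ z, AlgSp.IsAlgSpace (pullback fst.hom (g z)) := fun z =>
    isAlgSpace_pullback X.property P.property (AlgSp.IsAlgSpace.yon_obj _) _ _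
  refine AlgSpCov.locP_of_source (T := @Etale) (ι := ↥A.left) (Xi := fun z => pullback fst.hom (g z))
    (g := fun z => pullback.fst _ _) P.property hsPB ?_ ?_ ?_ ?_
  · intro κ U W0 Wf c hc hs k hk
    have : IsZariskiLocalAtSource (@LocallyQuasiFinite ⊓ @LocallyOfFiniteType : MorphismProperty Scheme.{u}) :=
      inferInstance
    have := AlgSpCov.isLocalAtSource_etalePrecoverage (fun A B e he => hP.of_etale e he) hP.etaleLocal
    exact AlgSpCov.of_family_of_isLocalAtSource (T := @Etale) Wf c hc hs k hk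
  · exact fun z => AlgSpCov.locP_of_repWith AlgSpCov.etaleLocal_etale
      (MorphismProperty.pullback_fst _ _ (hg z))
  · intro p
    obtain ⟨z, rfl⟩ := AlgSpB.surjective_ofPt has p
    obtain ⟨w, hw⟩ := hgx z
    obtain ⟨q, hq1, -⟩ := AlgSpB.exists_of_isPullback (IsPullback.of_hasPullback fst.hom (g z))
      (AlgSp.Points.ofPt a z) (AlgSp.Points.ofScheme (B z) w)
      (by rw [← AlgSp.Points.ofPt_eq_map_ofScheme, hw])
    exact ⟨z, q, hq1⟩
  · intro z
    refine locP_lqf_of_comp Y.property _ j.hom ?_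
    rw [Category.assoc, ← sq.w, pullback.condition_assoc]
    refine AlgSpCov.locP_comp hP.etaleLocal (AlgSp.IsAlgSpace.yon_obj _) Y.property ?_ (hgq z)
    exact AlgSpCov.locP_of_repWith hP.etaleLocal (repWith_mono
      (fun e (he : IsOpenImmersion e) => ⟨inferInstance, inferInstance⟩) (MorphismProperty.pullback_snd _ _ hfst))

end Groth.Agent.AlgSp
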