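import Groth.Agent.AlgSp.LqfDiscrete
import Groth.Agent.AlgSp.ProperQf
import Groth.Agent.AlgSpB.LqfSep

/-!
# Finite fibres over field-valued points give quasi-finite points
-/

universe u

open CategoryTheory CategoryTheory.Limits AlgebraicGeometry Opposite Topology

set_option backward.isDefEq.respectTransparency.types false

namespace Groth.Agent.AlgSp

variable {S : Scheme.{u}}

/-- A separated space locally of finite type over a field with finitely many points is discrete. -/
theorem discreteTopology_points_of_finite {k : Type u} [Field k] {str : Spec (CommRingCat.of k) ⟶ S}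
    {X : AlgSp.Sp S} (hX : AlgSp.IsAlgSpace X) (s : X ⟶ (AlgSp.yon S).obj (Over.mk str))
    (hsep : AlgSp.IsSeparatedMor s) (hl : AlgSp.LocP @LocallyOfFiniteType s) [Finite (AlgSp.Points X)] :
    DiscreteTopology (AlgSp.Points X) := by
  obtain ⟨A, a, ha, has⟩ := hX.atlas
  suffices DiscreteTopology ↥A.left from discreteTopology_points_of_cover a ha has
  refine discreteTopology_iff_isOpen_singleton.2 fun x => ?_
  obtain ⟨V, hV, hxV, -⟩ := exists_isAffineOpen_mem_and_subset (x := x) (U := (⊤ : A.left.Opens)) trivial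
  let B : Over S := Over.mk (V.ι ≫ A.hom)
  let i : B ⟶ A := Over.homMk V.ι rfl
  have : IsOpenImmersion i.left := inferInstanceAs (IsOpenImmersion V.ι)
  have hBaff : IsAffine B.left := hV
  have hb : AlgSp.RepWith @Etale ((AlgSp.yon S).map i ≫ a) := AlgSpB.repWith_etale_map_comp i ha
  obtain ⟨h, hh⟩ := (AlgSp.yon S).map_surjective (((AlgSp.yon S).map i ≫ a) ≫ s)
  have : LocallyOfFiniteType h.left :=
    hl _ (𝟙 _) h hb (AlgSp.repWith_id _ _) (by rw [hh, Category.comp_id])
  have : IsAffine (Over.mk str).left := inferInstanceAs (IsAffine (Spec (CommRingCat.of k)))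
  have : QuasiCompact h.left := (quasiCompact_iff_compactSpace h.left).2 inferInstance
  obtain ⟨R, t, q, sq⟩ := AlgSpB.exists_pullback_yon (hX.representable_from_yon _) ((AlgSp.yon S).map i ≫ a)
  have hw : t ≫ h = q ≫ h := (AlgSp.yon S).map_injective (by
    rw [Functor.map_comp, Functor.map_comp, hh, ← Category.assoc, sq.w, Category.assoc])
  have hcl := AlgSpB.isClosedImmersion_rel sq hsep hh.symm (congrArg (fun m : R ⟶ Over.mk str => m.left) hw)
  have : QuasiCompact t.left := by
    rw [← pullback.lift_fst t.left q.left (congrArg (fun m : R ⟶ Over.mk str => m.left) hw)]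
    infer_instance
  have : Etale t.left := hb.2 _ _ _ sq.flip
  have : LocallyQuasiFinite t.left := AlgSpCov.etale_le_locallyQuasiFinite _ _ t.left ‹Etale t.left›
  have hfib : ∀ x : AlgSp.Points X, (AlgSp.Points.ofPt ((AlgSp.yon S).map i ≫ a) ⁻¹' {x}).Finite := fun x => by
    rcases Set.eq_empty_or_nonempty (AlgSp.Points.ofPt ((AlgSp.yon S).map i ≫ a) ⁻¹' {x}) with e | ⟨b, hb'⟩
    · rw [e]; exact Set.finite_empty
    refine ((t.left.finite_preimage_singleton b).image q.left).subset fun c hc => ?_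
    obtain ⟨r, hr1, hr2⟩ := (AlgSpB.ofPt_eq_ofPt_iff sq b c).1
      ((Set.mem_singleton_iff.1 hb').trans (Set.mem_singleton_iff.1 hc).symm)
    exact ⟨r, hr1, hr2⟩
  have hfin : (Set.univ : Set ↥B.left).Finite :=
    (Set.finite_iUnion hfib).subset fun b _ => Set.mem_iUnion.2 ⟨_, rfl⟩
  have := Set.finite_univ_iff.1 hfin
  have hJk : JacobsonSpace ↥(Over.mk str).left := inferInstanceAs (JacobsonSpace ↥(Spec (CommRingCat.of k)))
  have : JacobsonSpace ↥B.left := LocallyOfFiniteType.jacobsonSpace h.left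
  let z : ↥B.left := (⟨x, hxV⟩ : ↥V.toScheme)
  have hz := i.left.isOpenEmbedding.isOpenMap _ (isOpen_discrete ({z} : Set ↥B.left))
  rwa [Set.image_singleton] at hz

/-- A space over a field with a discrete space of points is locally quasi-finite over it. -/
theorem locP_lqf_of_discrete_field {k : Type u} [Field k] {str : Spec (CommRingCat.of k) ⟶ S}
    {X : AlgSp.Sp S} (hX : AlgSp.IsAlgSpace X) (s : X ⟶ (AlgSp.yon S).obj (Over.mk str))
    (hl : AlgSp.LocP @LocallyOfFiniteType s) [DiscreteTopology (AlgSp.Points X)] :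
    AlgSp.LocP (@LocallyQuasiFinite ⊓ @LocallyOfFiniteType) s := by
  have hP := AlgSpCov.standard_locallyQuasiFinite.{u}
  have := hP.comp
  have := hP.bc
  obtain ⟨A, a, ha, has⟩ := hX.atlas
  obtain ⟨h, hh⟩ := (AlgSp.yon S).map_surjective (a ≫ s)
  have hlh := hl a (𝟙 _) h ha (AlgSp.repWith_id _ _) (by rw [hh, Category.comp_id])
  have := discreteTopology_chart hX s hl a ha
  refine locP_of_source_cover hP (AlgSp.IsAlgSpace.yon_obj _) s a ha has ?_
  rw [← hh]
  refine AlgSpCov.locP_of_repWith hP.etaleLocal ((AlgSp.repWith_yon_map_iff _ _).2 ⟨?_, hlh⟩)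
  have : LocallyOfFiniteType h.left := hlh
  exact locallyQuasiFinite_iff_isDiscrete_preimage_singleton.2 fun _ =>
    (isDiscrete_univ_iff.2 inferInstance).mono (Set.subset_univ _)

/-- A point over a point whose fibre is discrete is quasi-finite. -/
theorem qfAt_of_discrete_fibre {X Y : AlgSp.Sp S} (hX : AlgSp.IsAlgSpace X) (hY : AlgSp.IsAlgSpace Y)
    (f : X ⟶ Y) (hf : AlgSp.LocP @LocallyOfFiniteType f) (p : AlgSp.FieldPt Y) {P : AlgSp.Sp S}
    {fst : P ⟶ X} {snd : P ⟶ (AlgSp.yon S).obj p.pt} (hsq : IsPullback fst snd f p.toHom)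
    [DiscreteTopology (AlgSp.Points P)] {x : AlgSp.Points X} (hx : AlgSp.Points.map f x = AlgSp.Points.mk p) :
    QfAtMor f x := by
  have hlft := AlgSpCov.etaleLocal_locallyOfFiniteType.{u}
  have hPsp := isAlgSpace_of_isPullback' hY hX (AlgSp.IsAlgSpace.yon_obj _) hsq
  have hqfP := locP_lqf_of_discrete_field hPsp snd (AlgSpCov.locP_baseChange hlft hX hY hsq hf)
  obtain ⟨V, b, hb, hbs⟩ := hY.atlas
  obtain ⟨U, a, h, ha, has, w⟩ := exists_chart_lift hX hY f b hb hbs
  obtain ⟨u, rfl⟩ := AlgSpB.surjective_ofPt has x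
  refine ⟨U, V, a, b, h, u, ha, hb, w, rfl, ?_⟩
  have : LocallyOfFiniteType h.left := hf a b h ha hb w
  suffices h.left.QuasiFiniteAt u from ⟨h.left.quasiFiniteLocus, this, inferInstance, inferInstance⟩
  let v := h.left u
  let r := AlgSp.FieldPt.ofPt b v
  let j : r.pt ⟶ V := Over.homMk (V.left.fromSpecResidueField v) rfl
  have hr : r.toHom = (AlgSp.yon S).map j ≫ b := AlgSp.FieldPt.toHom_ofPt b v
  have hrp : AlgSp.Points.mk r = AlgSp.Points.mk p := by
    rw [← hx, AlgSp.Points.map_ofPt, w, AlgSpB.ofPt_map_comp]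
    rfl
  obtain ⟨Ω, iΩ, wΩ, cr, cp, hc⟩ := Quotient.exact hrp
  have hc' : (AlgSp.yon S).map cr ≫ r.toHom = (AlgSp.yon S).map cp ≫ p.toHom := by
    simp only [AlgSp.FieldPt.toHom]
    erw [← (AlgSp.J S).uliftYonedaEquiv_symm_map cr.op, ← (AlgSp.J S).uliftYonedaEquiv_symm_map cp.op, hc]
  -- the fibre over the common field
  have sΩ := IsPullback.of_hasPullback snd ((AlgSp.yon S).map cp)
  have := discreteTopology_fibre_of_lqf hPsp (AlgSp.IsAlgSpace.yon_obj _) snd hqfP sΩ
  have sXΩ := sΩ.paste_horiz hsq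
  have hPΩ := isAlgSpace_of_isPullback' (AlgSp.IsAlgSpace.yon_obj _) hPsp (AlgSp.IsAlgSpace.yon_obj _) sΩ
  -- the fibre of the chart
  have sF : IsPullback (h.left.fiberι v) (h.left.fiberToSpecResidueField v) h.left (V.left.fromSpecResidueField v) :=
    IsPullback.of_hasPullback _ _
  let W : Over S := Over.mk (h.left.fiberι v ≫ U.hom)
  let i : W ⟶ U := Over.homMk (h.left.fiberι v) rfl
  let π : W ⟶ r.pt := Over.homMk (h.left.fiberToSpecResidueField v) (by
    change h.left.fiberToSpecResidueField v ≫ V.left.fromSpecResidueField v ≫ V.hom = h.left.fiberι v ≫ U.hom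
    rw [← sF.w_assoc, Over.w h])
  have sFS : IsPullback i π h j := IsPullback.of_map (Over.forget S) (Over.OverMorphism.ext sF.w) sF
  have sW := IsPullback.of_hasPullback π cr
  have sWΩ := (sW.paste_horiz sFS).map (AlgSp.yon S)
  have hQ := IsPullback.of_hasPullback f b
  obtain ⟨m, hm, hm1, hm2⟩ := AlgSpCov.etale_toPullback ha hb w hQ
  have key : ((AlgSp.yon S).map (cr ≫ j)) ≫ b = (AlgSp.yon S).map cp ≫ p.toHom := by
    rw [Functor.map_comp, Category.assoc, ← hr, hc']
  have sX' : IsPullback (pullback.fst snd ((AlgSp.yon S).map cp) ≫ fst) (pullback.snd snd ((AlgSp.yon S).map cp))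
      f ((AlgSp.yon S).map (cr ≫ j) ≫ b) := by rw [key]; exact sXΩ
  let e := hQ.lift (pullback.fst snd ((AlgSp.yon S).map cp) ≫ fst)
    (pullback.snd snd ((AlgSp.yon S).map cp) ≫ (AlgSp.yon S).map (cr ≫ j)) (by rw [sX'.w, Category.assoc])
  let m' := sX'.lift ((AlgSp.yon S).map (pullback.fst π cr ≫ i) ≫ a) ((AlgSp.yon S).map (pullback.snd π cr))
    (by rw [Category.assoc, w, ← Category.assoc, ← Category.assoc, sWΩ.w])
  have se : IsPullback e (pullback.snd snd ((AlgSp.yon S).map cp)) (pullback.snd f b) ((AlgSp.yon S).map (cr ≫ j)) :=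
    IsPullback.of_right (h₁₂ := pullback.fst f b) (h₂₂ := b) (v₁₃ := f)
      (by rw [hQ.lift_fst]; exact sX') (hQ.lift_snd _ _ _) hQ
  have sm : IsPullback ((AlgSp.yon S).map (pullback.fst π cr ≫ i)) m' m e := by
    refine IsPullback.of_bot ?_ ?_ se
    · rw [hm2, sX'.lift_snd]; exact sWΩ
    · apply hQ.hom_ext
      · rw [Category.assoc, hm1, Category.assoc, hQ.lift_fst, sX'.lift_fst]
      · rw [Category.assoc, hm2, Category.assoc, hQ.lift_snd, sX'.lift_snd_assoc, sWΩ.w]
  have hm' : AlgSp.RepWith @Etale m' := MorphismProperty.of_isPullback sm hm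
  have : DiscreteTopology ↥(pullback π cr).left := discreteTopology_chart hPΩ _
    (AlgSpCov.locP_baseChange hlft hX hY sX' hf) m' hm'
  -- descend to the residue field
  have sWl := sW.map (Over.forget S)
  have : Surjective cr.left := ⟨fun z => ⟨IsLocalRing.closedPoint Ω,
    @Subsingleton.elim _ (inferInstanceAs (Subsingleton (PrimeSpectrum r.K))) _ z⟩⟩
  have : Surjective (pullback.fst π cr).left := MorphismProperty.of_isPullback sWl.flip ‹Surjective cr.left›
  have : QuasiCompact cr.left := by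
    have : IsAffine (Over.mk wΩ).left := inferInstanceAs (IsAffine (Spec (CommRingCat.of Ω)))
    have : IsAffine r.pt.left := inferInstanceAs (IsAffine (Spec (CommRingCat.of r.K)))
    infer_instance
  have : QuasiCompact (pullback.fst π cr).left := MorphismProperty.of_isPullback sWl.flip ‹QuasiCompact cr.left›
  rw [Scheme.Hom.quasiFiniteAt_iff_isOpen_singleton_asFiber]
  obtain ⟨O, hO, huO, -⟩ := exists_isAffineOpen_mem_and_subset (x := h.left.asFiber u)
    (U := (⊤ : (h.left.fiber v).Opens)) trivial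
  have hOfin : (O : Set ↥(h.left.fiber v)).Finite := by
    have hc := (pullback.fst π cr).left.isCompact_preimage hO.isCompact
    exact ((hc.finite ((isDiscrete_univ_iff.2 inferInstance).mono (Set.subset_univ _))).image (pullback.fst π cr).left).subset fun o ho => by
      obtain ⟨z, rfl⟩ := (pullback.fst π cr).left.surjective o
      exact ⟨z, ho, rfl⟩
  have : Finite ↥O.toScheme := hOfin.to_subtype
  have : LocallyOfFiniteType (h.left.fiberToSpecResidueField v) :=
    MorphismProperty.of_isPullback sF ‹LocallyOfFiniteType h.left›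
  have hJk : JacobsonSpace ↥(Spec (V.left.residueField v)) := inferInstance
  have : JacobsonSpace ↥O.toScheme := LocallyOfFiniteType.jacobsonSpace (O.ι ≫ h.left.fiberToSpecResidueField v)
  let z : ↥O.toScheme := ⟨h.left.asFiber u, huO⟩
  have hz := O.ι.isOpenEmbedding.isOpenMap _ (isOpen_discrete ({z} : Set ↥O.toScheme))
  rwa [Set.image_singleton] at hz

end Groth.Agent.AlgSp
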