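import Groth.Agent.AlgSp.SchDense
import Mathlib.AlgebraicGeometry.Morphisms.FlatMono
import Mathlib.AlgebraicGeometry.Morphisms.UniversallyOpen
import Mathlib.RingTheory.Spectrum.Prime.ConstructibleSet

/-!
# Flat monomorphisms which are open immersions over a schematically dense open
-/

universe u

open CategoryTheory CategoryTheory.Limits AlgebraicGeometry

set_option backward.isDefEq.respectTransparency.types false

namespace Groth.Agent.AlgSp.FlatMonoDense

/-- A point with no generisation in a constructible set has a neighbourhood avoiding it. -/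
theorem not_mem_closure {R : Type u} [CommRing R] {E : Set (PrimeSpectrum R)} (hE : Topology.IsConstructible E)
    {y : PrimeSpectrum R} (h : ∀ q : PrimeSpectrum R, q ≤ y → q ∉ E) : y ∉ closure E := by
  intro hcl
  obtain ⟨T, _, g, hg⟩ := PrimeSpectrum.exists_range_eq_of_isConstructible hE
  rw [← hg, PrimeSpectrum.closure_range_comap] at hcl
  have hk : RingHom.ker g ≤ y.asIdeal := hcl
  have := y.isPrime
  obtain ⟨r, hr, hry⟩ := Ideal.exists_minimalPrimes_le hk
  have hr' : r ∈ ((⊥ : Ideal T).comap g).minimalPrimes := by rwa [← RingHom.ker_eq_comap_bot]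
  obtain ⟨Q, hQp, hQ⟩ := Ideal.exists_comap_eq_of_mem_minimalPrimes g (I := ⊥) r hr'
  exact h ⟨r, hr.1.1⟩ hry (hg ▸ ⟨⟨Q, hQp⟩, PrimeSpectrum.ext hQ.2⟩)

variable {A R : CommRingCat.{u}}

/-- Near a point, the kernel on global sections is torsion. -/
theorem exists_killing (φ : A ⟶ R) (hflat : φ.hom.Flat) (W : (Spec A).Opens) (hWc : IsCompact (W : Set (Spec A)))
    (hW : CInt.IsSchematicallyDense W)
    (hj : IsOpenImmersion ((Spec.map φ ⁻¹ᵁ W).ι ≫ Spec.map φ)) (q : PrimeSpectrum R) :
    ∃ g : A, g ∉ (PrimeSpectrum.comap φ.hom q).asIdeal ∧ ∀ a : A, φ.hom a = 0 → ∃ k : ℕ, g ^ k * a = 0 := by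
  classical
  have : Flat (Spec.map φ) := (HasRingHomProperty.Spec_iff (P := @Flat)).2 hflat
  let y : PrimeSpectrum A := PrimeSpectrum.comap φ.hom q
  let j := (Spec.map φ ⁻¹ᵁ W).ι ≫ Spec.map φ
  have : IsOpenImmersion j := hj
  have hjc : IsCompact (j.opensRange : Set (Spec A)) := by
    have := isCompact_iff_compactSpace.1 (QuasiCompact.isCompact_preimage (f := Spec.map φ) (W : Set _) W.2 hWc)
    have : CompactSpace (Spec.map φ ⁻¹ᵁ W).toScheme := this
    exact isCompact_range j.continuous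
  let E : Set (PrimeSpectrum A) := (W : Set (Spec A)) \ (j.opensRange : Set (Spec A))
  have hE : Topology.IsConstructible E :=
    Topology.IsConstructible.sdiff (IsCompact.isConstructible (X := PrimeSpectrum A) hWc W.2)
      (IsCompact.isConstructible (X := PrimeSpectrum A) hjc j.opensRange.2)
  have hy : y ∉ closure E := not_mem_closure hE fun z hz hzE => hzE.2 (by
    obtain ⟨x, -, hx⟩ := Flat.generalizingMap (Spec.map φ) (a := q) ((PrimeSpectrum.le_iff_specializes _ _).1 hz)
    refine ⟨⟨x, show Spec.map φ x ∈ W by rw [hx]; exact hzE.1⟩, ?_⟩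
    exact hx)
  obtain ⟨_, ⟨g, rfl⟩, hyg, hgE⟩ := PrimeSpectrum.isTopologicalBasis_basic_opens.exists_subset_of_mem_open
    (show y ∈ (closure E)ᶜ from hy) isClosed_closure.isOpen_compl
  refine ⟨g, hyg, fun a ha => ?_⟩
  let s : Γ(Spec A, ⊤) := (Scheme.ΓSpecIso A).inv a
  let g' : Γ(Spec A, ⊤) := (Scheme.ΓSpecIso A).inv g
  have hs : (Spec.map φ).appTop s = 0 := by
    have := (ConcreteCategory.congr_hom (Scheme.ΓSpecIso_inv_naturality φ) a).symm
    exact this.trans (by change (Scheme.ΓSpecIso R).inv (φ.hom a) = 0; rw [ha, map_zero])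
  have hO : (Spec A).basicOpen g' ⊓ W ≤ j.opensRange := by
    intro z hz
    by_contra hzj
    have hzg : z ∈ PrimeSpectrum.basicOpen g := by rw [← basicOpen_eq_of_affine]; exact hz.1
    exact hgE hzg (subset_closure ⟨hz.2, hzj⟩)
  have hres : (Spec A).presheaf.map (homOfLE (show (Spec A).basicOpen g' ≤ ⊤ from le_top)).op s = 0 := by
    refine hW _ ?_
    rw [map_zero, DenseFlat.res_trans]
    have := Scheme.Hom.isIso_app j _ hO
    apply (ConcreteCategory.bijective_of_isIso (j.app ((Spec A).basicOpen g' ⊓ W))).1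
    rw [map_zero]
    have h2 := ConcreteCategory.congr_hom
      (j.naturality (homOfLE (show (Spec A).basicOpen g' ⊓ W ≤ ⊤ from le_top)).op) s
    refine h2.trans ?_
    have h3 : j.appTop s = 0 := by
      change (Spec.map φ ⁻¹ᵁ W).ι.appTop ((Spec.map φ).appTop s) = 0
      rw [hs, map_zero]
    change j.app ⊤ s = 0 at h3
    rw [ConcreteCategory.comp_apply, h3, map_zero]
  obtain ⟨k, hk⟩ := exists_pow_mul_eq_zero_of_res_basicOpen_eq_zero_of_isAffineOpen (Spec A)
    (isAffineOpen_top _) s g' hres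
  refine ⟨k, (ConcreteCategory.bijective_of_isIso (Scheme.ΓSpecIso A).inv).1 ?_⟩
  rw [map_mul, map_pow, map_zero]
  exact hk

/-- A flat monomorphism has a section over the local ring at a point of its image. -/
theorem exists_section (φ : A ⟶ R) (hflat : φ.hom.Flat) [Mono (Spec.map φ)] (q : PrimeSpectrum R)
    (Ap : CommRingCat.{u}) (ℓ : A ⟶ Ap)
    (hℓ : ∀ a ∉ (PrimeSpectrum.comap φ.hom q).asIdeal, IsUnit (ℓ.hom a)) :
    ∃ ψ : R ⟶ Ap, φ ≫ ψ = ℓ := by
  have : Flat (Spec.map φ) := (HasRingHomProperty.Spec_iff (P := @Flat)).2 hflat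
  let y : PrimeSpectrum A := PrimeSpectrum.comap φ.hom q
  have hsurj : Surjective (pullback.snd (Spec.map φ) (Spec.map ℓ)) := ⟨fun z => by
    have hle : PrimeSpectrum.comap ℓ.hom z ≤ y := fun a ha => by
      by_contra hna
      exact z.isPrime.ne_top (Ideal.eq_top_of_isUnit_mem _ ha (hℓ a hna))
    obtain ⟨x, -, hx⟩ := Flat.generalizingMap (Spec.map φ) (a := q) ((PrimeSpectrum.le_iff_specializes _ _).1 hle)
    obtain ⟨o, -, ho⟩ := Scheme.exists_preimage_of_isPullback
      (IsPullback.of_hasPullback (Spec.map φ) (Spec.map ℓ)) x z hx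
    exact ⟨o, ho⟩⟩
  have := Flat.isIso_of_surjective_of_mono (pullback.snd (Spec.map φ) (Spec.map ℓ))
  refine ⟨Spec.preimage (inv (pullback.snd (Spec.map φ) (Spec.map ℓ)) ≫ pullback.fst _ _), Spec.map_injective ?_⟩
  rw [Spec.map_comp, Spec.map_preimage, Category.assoc, pullback.condition, IsIso.inv_hom_id_assoc]

/-- Every element has a denominator from the base, at the local ring of a flat monomorphism. -/
theorem exists_denominator (φ : A ⟶ R) (hflat : φ.hom.Flat) [Mono (Spec.map φ)] (q : PrimeSpectrum R) (b : R) :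
    ∃ u ∉ (PrimeSpectrum.comap φ.hom q).asIdeal, ∃ a : A, φ.hom u * b = φ.hom a := by
  let M : Submonoid A := (PrimeSpectrum.comap φ.hom q).asIdeal.primeCompl
  obtain ⟨ψ, hψ⟩ := exists_section φ hflat q (CommRingCat.of (Localization M))
    (CommRingCat.ofHom (algebraMap A (Localization M)))
    (fun a ha => IsLocalization.map_units (M := M) (Localization M) ⟨a, ha⟩)
  -- clear denominators
  let N : Submonoid R := M.map φ.hom
  have hN : ∀ a : M, IsUnit ((algebraMap R (Localization N)).comp φ.hom a) :=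
    fun a => IsLocalization.map_units (M := N) (Localization N) ⟨φ.hom a, Submonoid.mem_map_of_mem φ.hom a.2⟩
  let ι : Localization M →+* Localization N := IsLocalization.lift (M := M) (S := Localization M) hN
  have hι : ∀ a : A, ι (algebraMap A (Localization M) a) = algebraMap R (Localization N) (φ.hom a) :=
    fun a => IsLocalization.lift_eq hN a
  have hcan : CommRingCat.ofHom (algebraMap R (Localization N)) = ψ ≫ CommRingCat.ofHom ι :=
    Spec.map_injective ((cancel_mono (Spec.map φ)).1 (by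
      rw [← Spec.map_comp, ← Spec.map_comp, reassoc_of% hψ]
      congr 1
      ext a
      exact (hι a).symm))
  obtain ⟨⟨a, t⟩, has⟩ := IsLocalization.surj M (S := Localization M) (ψ.hom b)
  have e1 : algebraMap R (Localization N) b = ι (ψ.hom b) := ConcreteCategory.congr_hom hcan b
  have h1 : algebraMap R (Localization N) (b * φ.hom t) = algebraMap R (Localization N) (φ.hom a) := by
    rw [map_mul, e1, ← hι, ← hι, ← map_mul]
    exact congrArg ι has
  obtain ⟨⟨_, c, hc, rfl⟩, hc'⟩ := IsLocalization.exists_of_eq (M := N) h1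
  refine ⟨c * t, M.mul_mem hc t.2, c * a, ?_⟩
  rw [map_mul, map_mul]
  linear_combination hc'

/-- A flat monomorphism of finite type of affine schemes which is an open immersion over a quasi-compact
schematically dense open is an open immersion near every point. -/
theorem exists_basicOpen_of_spec (φ : A ⟶ R) (hflat : φ.hom.Flat) (hft : φ.hom.FiniteType) [Mono (Spec.map φ)]
    (W : (Spec A).Opens) (hWc : IsCompact (W : Set (Spec A))) (hW : CInt.IsSchematicallyDense W)
    (hj : IsOpenImmersion ((Spec.map φ ⁻¹ᵁ W).ι ≫ Spec.map φ)) (q : PrimeSpectrum R) :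
    ∃ r : R, r ∉ q.asIdeal ∧
      IsOpenImmersion (Spec.map (CommRingCat.ofHom (algebraMap R (Localization.Away r))) ≫ Spec.map φ) := by
  classical
  let y : PrimeSpectrum A := PrimeSpectrum.comap φ.hom q
  obtain ⟨g, hyg, hker⟩ := exists_killing φ hflat W hWc hW hj q
  have hgen := exists_denominator φ hflat q
  choose uu huu aa haa using hgen
  algebraize [φ.hom]
  obtain ⟨T, hT⟩ := Algebra.FiniteType.out (R := A) (A := R)
  obtain ⟨u, hudef⟩ : ∃ u : A, u = g * ∏ b ∈ T, uu b := ⟨_, rfl⟩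
  have hu : u ∉ y.asIdeal := hudef ▸ y.asIdeal.primeCompl.mul_mem hyg (prod_mem fun b _ => huu b)
  have hbu : ∀ b : R, ∃ k : ℕ, ∃ a : A, φ.hom u ^ k * b = φ.hom a := by
    intro b
    have hb : b ∈ Algebra.adjoin A (T : Set R) := hT ▸ Algebra.mem_top
    induction hb using Algebra.adjoin_induction with
    | mem b hb =>
      refine ⟨1, g * (∏ c ∈ T.erase b, uu c) * aa b, ?_⟩
      rw [pow_one, show u = g * (∏ c ∈ T.erase b, uu c) * uu b by
        rw [mul_assoc, Finset.prod_erase_mul T uu hb, hudef], map_mul, map_mul _ _ (aa b), mul_assoc, haa b]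
    | algebraMap a => exact ⟨0, a, by rw [pow_zero, one_mul]; rfl⟩
    | add b c _ _ hb hc =>
      obtain ⟨k, a, ha⟩ := hb
      obtain ⟨l, a', ha'⟩ := hc
      exact ⟨k + l, u ^ l * a + u ^ k * a', by
        rw [map_add, map_mul, map_mul, map_pow, map_pow, ← ha, ← ha', pow_add]; ring⟩
    | mul b c _ _ hb hc =>
      obtain ⟨k, a, ha⟩ := hb
      obtain ⟨l, a', ha'⟩ := hc
      exact ⟨k + l, a * a', by rw [map_mul, ← ha, ← ha', pow_add]; ring⟩
  refine ⟨φ.hom u, hu, ?_⟩
  let L := Localization.Away (φ.hom u)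
  algebraize [(algebraMap R L).comp φ.hom]
  have : IsLocalization.Away u L := by
    have hval : ∀ a : A, algebraMap A L a = algebraMap R L (φ.hom a) := fun a => rfl
    refine ⟨?_, ?_, ?_⟩
    · rintro ⟨_, n, rfl⟩
      change IsUnit (algebraMap A L (u ^ n))
      rw [map_pow, hval]
      exact (IsLocalization.Away.algebraMap_isUnit (φ.hom u)).pow n
    · intro z
      obtain ⟨⟨b, ⟨_, n, rfl⟩⟩, hb⟩ := IsLocalization.surj (Submonoid.powers (φ.hom u)) z
      obtain ⟨k, a, ha⟩ := hbu b
      refine ⟨⟨a, ⟨u ^ (k + n), k + n, rfl⟩⟩, ?_⟩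
      change z * algebraMap A L (u ^ (k + n)) = algebraMap A L a
      change z * algebraMap R L (φ.hom u ^ n) = algebraMap R L b at hb
      have e1 := congrArg (algebraMap R L) ha
      rw [map_mul, map_pow, ← hb] at e1
      rw [hval, hval, ← e1, map_pow, map_pow, pow_add, map_pow]
      ring
    · intro a b hab
      rw [hval, hval] at hab
      obtain ⟨⟨_, n, rfl⟩, hn⟩ := IsLocalization.exists_of_eq (M := Submonoid.powers (φ.hom u)) hab
      obtain ⟨k, hk⟩ := hker (u ^ n * (a - b)) (by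
        rw [map_mul, map_pow, map_sub, mul_sub, sub_eq_zero]; exact hn)
      refine ⟨⟨u ^ (n + k), n + k, rfl⟩, ?_⟩
      change u ^ (n + k) * a = u ^ (n + k) * b
      rw [pow_add, show u ^ k = g ^ k * (∏ c ∈ T, uu c) ^ k by rw [hudef, mul_pow]]
      linear_combination ((∏ c ∈ T, uu c) ^ k) * hk
  rw [← Spec.map_comp]
  exact IsOpenImmersion.of_isLocalization (S := L) u

/-- A flat monomorphism locally of finite type which is an open immersion over a quasi-compact schematically dense
open is an open immersion. -/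
theorem isOpenImmersion_of_schDense {U B : Scheme.{u}} (h : U ⟶ B) [Flat h] [LocallyOfFiniteType h] [Mono h]
    (W : B.Opens) [QuasiCompact W.ι] (hW : CInt.IsSchematicallyDense W)
    [IsOpenImmersion ((h ⁻¹ᵁ W).ι ≫ h)] : IsOpenImmersion h := by
  suffices LocallyOfFinitePresentation h from IsOpenImmersion.of_flat_of_mono h
  suffices ∀ x : U, ∃ (T : Scheme.{u}) (m : T ⟶ U), IsOpenImmersion m ∧ x ∈ Set.range m ∧ IsOpenImmersion (m ≫ h) by
    choose T m hm hx hmh using this
    let 𝒰 : U.OpenCover :=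
      { I₀ := U
        X := T
        f := m
        mem₀ := by rw [Scheme.presieve₀_mem_precoverage_iff]; exact ⟨fun x => ⟨x, hx x⟩, hm⟩ }
    refine (IsZariskiLocalAtSource.iff_of_openCover (P := @LocallyOfFinitePresentation) 𝒰).2 fun i => ?_
    have : IsOpenImmersion (m i ≫ h) := hmh i
    exact (inferInstance : LocallyOfFinitePresentation (m i ≫ h))
  intro x
  obtain ⟨_, ⟨A₀, hA₀, rfl⟩, hxA, -⟩ :=
    B.isBasis_affineOpens.exists_subset_of_mem_open (Set.mem_univ (h x)) isOpen_univ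
  obtain ⟨_, ⟨U₀, hU₀, rfl⟩, hxU, hUA⟩ :=
    U.isBasis_affineOpens.exists_subset_of_mem_open (show x ∈ h ⁻¹ᵁ A₀ from hxA) (h ⁻¹ᵁ A₀).2
  let φ := h.appLE A₀ U₀ hUA
  have hsq : Spec.map φ ≫ hA₀.fromSpec = hU₀.fromSpec ≫ h := hA₀.SpecMap_appLE_fromSpec h hU₀ hUA
  let W₂ := hA₀.fromSpec ⁻¹ᵁ W
  have : Mono (Spec.map φ) := by
    have : Mono (Spec.map φ ≫ hA₀.fromSpec) := by rw [hsq]; infer_instance
    exact mono_of_mono (Spec.map φ) hA₀.fromSpec
  have hW₂c : IsCompact (W₂ : Set (Spec Γ(B, A₀))) := by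
    rw [hA₀.fromSpec.isOpenEmbedding.isInducing.isCompact_iff]
    change IsCompact (hA₀.fromSpec '' (hA₀.fromSpec ⁻¹' (W : Set B)))
    rw [Set.image_preimage_eq_inter_range, hA₀.range_fromSpec, Set.inter_comm]
    have h1 := QuasiCompact.isCompact_preimage (f := W.ι) (A₀ : Set B) A₀.2 hA₀.isCompact
    have h2 := h1.image W.ι.continuous
    rwa [Set.image_preimage_eq_inter_range, Scheme.Opens.range_ι] at h2
  have hj : IsOpenImmersion ((Spec.map φ ⁻¹ᵁ W₂).ι ≫ Spec.map φ) := by
    have : IsOpenImmersion (((Spec.map φ ⁻¹ᵁ W₂).ι ≫ Spec.map φ) ≫ hA₀.fromSpec) := by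
      let o := (Spec.map φ ⁻¹ᵁ W₂).ι ≫ hU₀.fromSpec
      have ho : Set.range o ⊆ Set.range (h ⁻¹ᵁ W).ι := by
        rw [Scheme.Opens.range_ι]
        rintro _ ⟨z, rfl⟩
        change h (hU₀.fromSpec z.1) ∈ W
        rw [← Scheme.Hom.comp_apply, ← hsq]
        exact z.2
      rw [Category.assoc, hsq, ← Category.assoc]
      change IsOpenImmersion (o ≫ h)
      rw [← IsOpenImmersion.lift_fac (h ⁻¹ᵁ W).ι o ho, Category.assoc]
      have : IsOpenImmersion (IsOpenImmersion.lift (h ⁻¹ᵁ W).ι o ho) := by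
        have : IsOpenImmersion (IsOpenImmersion.lift (h ⁻¹ᵁ W).ι o ho ≫ (h ⁻¹ᵁ W).ι) := by
          rw [IsOpenImmersion.lift_fac]; infer_instance
        exact IsOpenImmersion.of_comp _ (h ⁻¹ᵁ W).ι
      infer_instance
    exact IsOpenImmersion.of_comp _ hA₀.fromSpec
  obtain ⟨z, hz⟩ : x ∈ Set.range hU₀.fromSpec := hU₀.range_fromSpec.symm ▸ hxU
  obtain ⟨r, hr, hopen⟩ := exists_basicOpen_of_spec φ (HasRingHomProperty.appLE @Flat h ‹_› ⟨A₀, hA₀⟩ ⟨U₀, hU₀⟩ hUA)
    (HasRingHomProperty.appLE @LocallyOfFiniteType h ‹_› ⟨A₀, hA₀⟩ ⟨U₀, hU₀⟩ hUA) W₂ hW₂c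
    (SchDense.preimage_of_quasiCompact hA₀.fromSpec W hW) hj z
  have : IsOpenImmersion (Spec.map (CommRingCat.ofHom (algebraMap Γ(U, U₀) (Localization.Away r)))) :=
    IsOpenImmersion.of_isLocalization (S := Localization.Away r) r
  refine ⟨Spec (CommRingCat.of (Localization.Away r)),
    Spec.map (CommRingCat.ofHom (algebraMap Γ(U, U₀) (Localization.Away r))) ≫ hU₀.fromSpec,
    inferInstance, ?_, ?_⟩
  · have : z ∈ Set.range (Spec.map (CommRingCat.ofHom (algebraMap Γ(U, U₀) (Localization.Away r)))) :=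
      (PrimeSpectrum.localization_away_comap_range (Localization.Away r) r).symm ▸ hr
    obtain ⟨z', hz'⟩ := this
    exact ⟨z', by rw [Scheme.Hom.comp_apply, hz', hz]⟩
  · rw [Category.assoc, ← hsq, ← Category.assoc]
    infer_instance

end Groth.Agent.AlgSp.FlatMonoDense
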