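import Groth.Agent.AlgSp.SpecializeQfSch
import Groth.Agent.AlgSp.FiniteLqf
import Groth.Agent.AlgSp.ProperQf
import Groth.Agent.AlgSp.QCMor
import Groth.Agent.AlgSpD.IntegralMor

/-!
# Flat proper morphisms finite over a dense open
-/

universe u

open CategoryTheory CategoryTheory.Limits AlgebraicGeometry Opposite

set_option backward.isDefEq.respectTransparency.types false

namespace Groth.Agent.AlgSp

variable {S : Scheme.{u}}

theorem repWith_etale_of_comp_mono {F G : AlgSp.Sp S} {T : Over S} (a : (AlgSp.yon S).obj T ⟶ F) (i : F ⟶ G) [Mono i]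
    (h : AlgSp.RepWith @Etale (a ≫ i)) : AlgSp.RepWith @Etale a := by
  have s2 : IsPullback a (𝟙 _) i (a ≫ i) := by
    simpa using (IsPullback.of_id_snd : IsPullback a (𝟙 _) (𝟙 F) a).paste_horiz (IsKernelPair.id_of_mono i)
  exact MorphismProperty.of_isPullback s2.flip h

/-- A flat proper morphism that is finite over a dense open is finite. -/
theorem isFiniteMor_of_flat_proper_dense {X Y V : AlgSp.Space S} (f : X ⟶ Y) (j : V ⟶ Y)
    (hf1 : AlgSp.LocP @Flat f.hom) (hf2 : AlgSp.IsProperMor f.hom)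
    (hj1 : AlgSp.RepWith @IsOpenImmersion j.hom) (hj2 : Dense (Set.range (AlgSp.Points.map j.hom)))
    (P : AlgSp.Space S) (fst : P ⟶ X) (snd : P ⟶ V) (hP : IsPullback fst.hom snd.hom f.hom j.hom)
    (hV : AlgSp.IsFiniteMor snd.hom)
    (hor : AlgSp.LocP @LocallyOfFinitePresentation f.hom ∨ AlgSp.IsQuasiCompactMor j.hom) :
    AlgSp.IsFiniteMor f.hom := by
  refine isFiniteMor_of_proper_lqf f.hom hf2 ?_
  have hsnd : AlgSp.LocP (@LocallyQuasiFinite ⊓ @LocallyOfFiniteType) snd.hom :=
    AlgSpCov.locP_of_repWith AlgSpCov.standard_locallyQuasiFinite.etaleLocal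
      (repWith_mono (fun g (hg : IsFinite g) => ⟨inferInstance, inferInstance⟩) ((AlgSpD.isFiniteMor_iff _).1 hV))
  have hlft : AlgSp.LocP @LocallyOfFiniteType f.hom := hf2.2.1.1
  obtain ⟨B, b, hb, hbs⟩ := Y.property.atlas
  have sP := IsPullback.of_hasPullback f.hom b
  obtain ⟨A, a, ha, has⟩ :=
    (isAlgSpace_pullback Y.property X.property (AlgSp.IsAlgSpace.yon_obj B) f.hom b).atlas
  obtain ⟨h, hh⟩ := (AlgSp.yon S).map_surjective (a ≫ pullback.snd f.hom b)
  have hS := AlgSpCov.standard_locallyQuasiFinite.{u}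
  have := hS.comp
  have := hS.bc
  have ha' : AlgSp.RepWith @Etale (a ≫ pullback.fst f.hom b) :=
    MorphismProperty.comp_mem _ _ _ ha (MorphismProperty.pullback_fst _ _ hb)
  have hsur : AlgSp.RepWith @Surjective (a ≫ pullback.fst f.hom b) :=
    MorphismProperty.comp_mem _ _ _ has (MorphismProperty.pullback_fst _ _ hbs)
  have comm : (a ≫ pullback.fst f.hom b) ≫ f.hom = (AlgSp.yon S).map h ≫ b := by
    rw [Category.assoc, sP.w, hh, Category.assoc]
  refine AlgSpCov.locP_of_one_chart hS.etaleLocal (fun _ _ e he => hS.of_etale e he) Y.property ha' hsur hb comm ⟨?_, ?_⟩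
  swap
  · exact hlft _ _ h ha' hb comm
  have hhl : LocallyOfFiniteType h.left := hlft _ _ h ha' hb comm
  have hhf : Flat h.left := hf1 _ _ h ha' hb comm
  -- it suffices to treat affine pieces
  choose Bo hBo hxBo _ using fun x : ↥B.left =>
    exists_isAffineOpen_mem_and_subset (x := x) (U := (⊤ : B.left.Opens)) trivial
  choose Ao hAo hxAo hAB using fun y : ↥A.left =>
    exists_isAffineOpen_mem_and_subset (x := y) (U := h.left ⁻¹ᵁ Bo (h.left y)) (hxBo _)
  refine (IsZariskiLocalAtSource.iff_of_iSup_eq_top Ao (top_le_iff.1 fun y _ =>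
    TopologicalSpace.Opens.mem_iSup.2 ⟨y, hxAo y⟩)).2 fun y => ?_
  let k : (Ao y).toScheme ⟶ (Bo (h.left y)).toScheme := h.left.resLE (Bo (h.left y)) (Ao y) (hAB y)
  have hk : k ≫ (Bo (h.left y)).ι = (Ao y).ι ≫ h.left := Scheme.Hom.resLE_comp_ι ..
  suffices LocallyQuasiFinite k by rw [← hk]; infer_instance
  have : IsAffine (Ao y).toScheme := hAo y
  have : IsAffine (Bo (h.left y)).toScheme := hBo _
  have hkl : LocallyOfFiniteType k := by
    have : LocallyOfFiniteType (k ≫ (Bo (h.left y)).ι) := by rw [hk]; infer_instance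
    exact locallyOfFiniteType_of_comp k (Bo (h.left y)).ι
  have hkf : Flat k := by
    have : Flat (k ≫ (Bo (h.left y)).ι) := by rw [hk]; infer_instance
    exact MorphismProperty.of_postcomp @Flat (W' := @IsOpenImmersion) k (Bo (h.left y)).ι inferInstance this
  let B₀ : Over S := Over.mk ((Bo (h.left y)).ι ≫ B.hom)
  let A₀ : Over S := Over.mk ((Ao y).ι ≫ A.hom)
  let iB : B₀ ⟶ B := Over.homMk (Bo (h.left y)).ι rfl
  let iA : A₀ ⟶ A := Over.homMk (Ao y).ι rfl
  let k₀ : A₀ ⟶ B₀ := Over.homMk k (by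
    change k ≫ (Bo (h.left y)).ι ≫ B.hom = (Ao y).ι ≫ A.hom
    rw [reassoc_of% hk, Over.w h])
  have : IsOpenImmersion iA.left := inferInstanceAs (IsOpenImmersion (Ao y).ι)
  have : IsOpenImmersion iB.left := inferInstanceAs (IsOpenImmersion (Bo (h.left y)).ι)
  have hb₀ := AlgSpB.repWith_etale_map_comp iB hb
  have ha₀ := AlgSpB.repWith_etale_map_comp iA ha'
  have comm₀ : ((AlgSp.yon S).map iA ≫ a ≫ pullback.fst f.hom b) ≫ f.hom =
      (AlgSp.yon S).map k₀ ≫ (AlgSp.yon S).map iB ≫ b := by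
    rw [Category.assoc, comm, ← Category.assoc, ← Category.assoc, ← Functor.map_comp, ← Functor.map_comp,
      show iA ≫ h = k₀ ≫ iB from Over.OverMorphism.ext hk.symm]
  obtain ⟨W, l, iW, sW⟩ : ∃ (W : Over S) (l : (AlgSp.yon S).obj W ⟶ V.obj) (iW : W ⟶ B₀),
      IsPullback l ((AlgSp.yon S).map iW) j.hom ((AlgSp.yon S).map iB ≫ b) := ⟨_, _, _, hj1.1.isPullback _⟩
  have hiW : IsOpenImmersion iW.left := hj1.2 _ _ _ sW
  have hrange := AlgSpB.range_snd_eq sW
  refine locallyQuasiFinite_of_flat_of_dense k iW.left.opensRange ?_ ?_ ?_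
  · change Dense (Set.range iW.left)
    rw [hrange]
    exact hj2.preimage (AlgSpB.isOpenMap_ofPt hb₀)
  · -- finite fibres over the open
    have s₀ := IsPullback.of_hasPullback k₀ iW
    let q := pullback.snd k₀ iW
    let a'' := hP.lift ((AlgSp.yon S).map (pullback.fst k₀ iW) ≫ (AlgSp.yon S).map iA ≫ a ≫ pullback.fst f.hom b)
      ((AlgSp.yon S).map q ≫ l) (by
        rw [Category.assoc, comm₀, Category.assoc, sW.w, ← Functor.map_comp_assoc, pullback.condition,
          Functor.map_comp, Category.assoc])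
    have : IsOpenImmersion (pullback.fst k₀ iW).left :=
      MorphismProperty.of_isPullback (P := @IsOpenImmersion) (s₀.map (Over.forget S)).flip hiW
    have hjfst : AlgSp.RepWith @IsOpenImmersion fst.hom := MorphismProperty.of_isPullback hP.flip hj1
    have := AlgSpB.mono_of_isOpenImmersion hjfst
    have ha'' : AlgSp.RepWith @Etale a'' := repWith_etale_of_comp_mono a'' fst.hom (by
      rw [hP.lift_fst]; exact AlgSpB.repWith_etale_map_comp _ ha₀)
    have hl : AlgSp.RepWith @Etale l := MorphismProperty.of_isPullback sW.flip hb₀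
    obtain ⟨hq, -⟩ := hsnd a'' l q ha'' hl (hP.lift_snd _ _ _)
    intro v hv
    obtain ⟨w, rfl⟩ := hv
    have hqc : QuasiCompact q.left :=
      MorphismProperty.of_isPullback (P := @QuasiCompact) (s₀.map (Over.forget S)) (inferInstance : QuasiCompact k)
    refine ((Scheme.Hom.finite_preimage_singleton q.left w).image (pullback.fst k₀ iW).left).subset fun t ht => ?_
    obtain ⟨z, hz1, hz2⟩ := Scheme.exists_preimage_of_isPullback (s₀.map (Over.forget S)) t w ht
    exact ⟨z, hz2, hz1⟩
  · rcases hor with hfp | hqc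
    · refine Or.inr ?_
      exact hfp _ _ k₀ ha₀ hb₀ comm₀
    · refine Or.inl ?_
      have hjq : AlgSp.RepWith @QuasiCompact j.hom := (repWith_quasiCompact_iff Y.property _ hj1.1).2 hqc
      have : QuasiCompact iW.left := hjq.2 _ _ _ sW
      have : CompactSpace B₀.left := inferInstanceAs (CompactSpace (Bo (h.left y)).toScheme)
      have : CompactSpace W.left := QuasiCompact.compactSpace_of_compactSpace (f := iW.left)
      exact isCompact_range iW.left.continuous

end Groth.Agent.AlgSp
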