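import Groth.Agent.AlgSp.GroupQuot
import Groth.Agent.AlgSp.DescentSepLqf
import Groth.Agent.AlgSp.Quot
import Mathlib.FieldTheory.Galois.Basic
import Mathlib.FieldTheory.IsAlgClosed.AlgebraicClosure
import Mathlib.AlgebraicGeometry.ZariskisMainTheorem
import Mathlib.RingTheory.Jacobson.Ring
import Mathlib.RingTheory.Unramified.Field
import Groth.Agent.AlgSpCov.Instances

/-!
# Field-valued points of a quotient by a free group action
-/

universe u

open CategoryTheory CategoryTheory.Limits AlgebraicGeometry Opposite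

set_option backward.isDefEq.respectTransparency.types false

namespace Groth.Agent.AlgSp

variable {S : Scheme.{u}} {U : Over S} {G : Type u} [Group G] (ρ : G →* Aut U) {c : Cofan (fun _ : G => U)}
  {s t : c.pt ⟶ U}

/-- Translates have the same image in the quotient. -/
theorem map_translate_yπ (hs : ∀ g, c.inj g ≫ s = 𝟙 U) (ht : ∀ g, c.inj g ≫ t = (ρ g).hom)
    (hR : AlgSp.IsEqvRel s t) {A : Over S} (a : A ⟶ U) (g : G) :
    (AlgSp.yon S).map (a ≫ (ρ g).hom) ≫ yπ s t = (AlgSp.yon S).map a ≫ yπ s t := by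
  have h := congrArg ((AlgSp.yon S).map (a ≫ c.inj g) ≫ ·) (isPullback_yπ s t hR).w
  simp only [← Functor.map_comp_assoc, Category.assoc] at h
  rw [ht, hs, Category.comp_id] at h
  exact h

/-- Two points on a one-point scheme with the same image differ by a translation. -/
theorem exists_translate (hc : IsColimit c) (hs : ∀ g, c.inj g ≫ s = 𝟙 U) (ht : ∀ g, c.inj g ≫ t = (ρ g).hom)
    (hR : AlgSp.IsEqvRel s t) {A : Over S} [Subsingleton A.left] [Nonempty A.left] (a b : A ⟶ U)
    (h : (AlgSp.yon S).map a ≫ yπ s t = (AlgSp.yon S).map b ≫ yπ s t) : ∃ g : G, b = a ≫ (ρ g).hom := by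
  obtain ⟨r, hr1, hr2⟩ := (isPullback_yπ s t hR).exists_lift ((AlgSp.yon S).map b) ((AlgSp.yon S).map a) h.symm
  obtain ⟨r, rfl⟩ := (AlgSp.yon S).map_surjective r
  have hr1 : r ≫ t = b := (AlgSp.yon S).map_injective (by rw [Functor.map_comp, hr1])
  have hr2 : r ≫ s = a := (AlgSp.yon S).map_injective (by rw [Functor.map_comp, hr2])
  obtain ⟨g, W, q, hq, hw, h3, -⟩ := exists_piece_eq ρ hc hs ht r (Classical.arbitrary A.left)
  rw [hr1, reassoc_of% hr2] at h3
  have : Surjective q.left := ⟨fun x => by
    obtain ⟨w, hw⟩ := hw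
    exact ⟨w, Subsingleton.elim _ _⟩⟩
  have : IsIso ((Over.forget S).map q) := (isIso_iff_isOpenImmersion_and_epi_base _).2
    ⟨hq, (TopCat.epi_iff_surjective _).2 q.left.surjective⟩
  have : IsIso q := isIso_of_reflects_iso q (Over.forget S)
  exact ⟨g, (cancel_epi q).1 h3⟩

/-- A point of a scheme with values in a field factors through the residue field of its image. -/
theorem exists_fac_residueField {V : Scheme.{u}} {L : Type u} [Field L] (m : Spec (CommRingCat.of L) ⟶ V) (v : V)
    (h : m default = v) :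
    ∃ a : V.residueField v ⟶ CommRingCat.of L, Spec.map a ≫ V.fromSpecResidueField v = m := by
  obtain ⟨⟨x, a⟩, rfl⟩ := (Scheme.SpecToEquivOfField L V).symm.surjective m
  obtain rfl : x = v := by simpa [Scheme.SpecToEquivOfField] using h
  exact ⟨a, rfl⟩

/-- A point of an etale scheme over a field is closed with finite separable residue field. -/
theorem finite_separable_of_etale {k K : Type u} [Field k] [Field K] {V : Scheme.{u}} (j : V ⟶ Spec (CommRingCat.of k))
    [Etale j] (v : V) (hK : Spec (CommRingCat.of K) ≅ Spec (V.residueField v)) (i : CommRingCat.of k ⟶ CommRingCat.of K)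
    (hi : Spec.map i = hK.hom ≫ V.fromSpecResidueField v ≫ j) :
    i.hom.FiniteType ∧ i.hom.FormallyUnramified := by
  obtain ⟨O, hO, hv, -⟩ := exists_isAffineOpen_mem_and_subset (x := v) (U := ⊤) trivial
  let g : O.toScheme ⟶ Spec (CommRingCat.of k) := O.ι ≫ j
  have : IsAffine O.toScheme := hO
  have : JacobsonSpace O.toScheme := LocallyOfFiniteType.jacobsonSpace g
  have : LocallyQuasiFinite g := AlgSpCov.etale_le_locallyQuasiFinite _ _ _ (inferInstanceAs (Etale (O.ι ≫ j)))
  have : Finite O.toScheme := by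
    have h := g.finite_preimage_singleton default
    rw [show ({default} : Set ↥(Spec (CommRingCat.of k))) = Set.univ from Set.eq_univ_of_forall fun x => Subsingleton.elim _ _,
      Set.preimage_univ] at h
    exact Set.finite_univ_iff.1 h
  let l : Spec (V.residueField v) ⟶ O.toScheme := IsOpenImmersion.lift O.ι (V.fromSpecResidueField v) (by
    rw [Scheme.range_fromSpecResidueField, Scheme.Opens.range_ι]
    exact Set.singleton_subset_iff.2 hv)
  have hl : l ≫ O.ι = V.fromSpecResidueField v := IsOpenImmersion.lift_fac _ _ _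
  have : IsPreimmersion (l ≫ O.ι) := hl.symm ▸ inferInstance
  have : IsPreimmersion l := IsPreimmersion.of_comp l O.ι
  have : IsClosedImmersion l := .of_isPreimmersion _ (isClosed_discrete _)
  have e : Spec.map i = hK.hom ≫ l ≫ g := by rw [hi, reassoc_of% hl]
  constructor
  · rw [← HasRingHomProperty.Spec_iff (P := @LocallyOfFiniteType), e]
    infer_instance
  · rw [← HasRingHomProperty.Spec_iff (P := @FormallyUnramified), e]
    have h1 : FormallyUnramified l := inferInstance
    exact MorphismProperty.comp_mem @FormallyUnramified _ _ inferInstance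
      (MorphismProperty.comp_mem @FormallyUnramified _ _ h1 inferInstance)

/-- Field points of quotients by free actions come from Galois equivariant points. -/
theorem exists_galois_data (hfree : ∀ (g : G) (x : U.left), g ≠ 1 →
      U.left.fromSpecResidueField x ≫ (ρ g).hom.left ≠ U.left.fromSpecResidueField x)
    (hc : IsColimit c) (hs : ∀ g, c.inj g ≫ s = 𝟙 U) (ht : ∀ g, c.inj g ≫ t = (ρ g).hom)
    (k : Type u) [Field k] (σ : Spec (CommRingCat.of k) ⟶ S)
    (ξ : (AlgSp.yon S).obj (Over.mk σ) ⟶ QuotSh.quot Scheme.fppfPrecoverage s t) :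
    ∃ (k' : Type u) (_ : Field k') (_ : Algebra k k') (_ : FiniteDimensional k k') (_ : IsGalois k k')
      (H : Subgroup G) (_ : Finite H) (e : H ≃* (k' ≃ₐ[k] k'))
      (x' : Over.mk (Spec.map (CommRingCat.ofHom (algebraMap k k')) ≫ σ) ⟶ U),
      (∀ h : H, Spec.map (CommRingCat.ofHom (e h).symm.toRingEquiv.toRingHom) ≫ x'.left =
        x'.left ≫ (ρ (h : G)).hom.left) ∧
      (AlgSp.yon S).map x' ≫ yπ s t =
        (AlgSp.yon S).map (Over.homMk (Spec.map (CommRingCat.ofHom (algebraMap k k'))) :
          Over.mk (Spec.map (CommRingCat.ofHom (algebraMap k k')) ≫ σ) ⟶ Over.mk σ) ≫ ξ := by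
  have hE := isEtaleEqvRel_of_free ρ hfree hc hs ht
  have := isLocallySurjective_yπ s t
  obtain ⟨-, he, hsu⟩ := isAlgSpace_of_kernelPair (yπ s t) (isPullback_yπ s t hE.toIsEqvRel) hE.etale_left
  obtain ⟨V, j, fst, sq⟩ := he.1 ξ
  have hje : Etale j.left := he.2 _ _ _ sq
  obtain ⟨v, -⟩ := (hsu.2 _ _ _ sq).surj (default : Spec (CommRingCat.of k))
  obtain ⟨f, rfl⟩ := (AlgSp.yon S).map_surjective fst
  let K : Type u := V.left.residueField v
  let q : Spec (CommRingCat.of K) ⟶ V.left := V.left.fromSpecResidueField v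
  have : Mono q := inferInstanceAs (Mono (V.left.fromSpecResidueField v))
  let i : CommRingCat.of k ⟶ CommRingCat.of K := Spec.preimage (q ≫ j.left)
  let _ : Algebra k K := i.hom.toAlgebra
  have hi : Spec.map (CommRingCat.ofHom (algebraMap k K)) = q ≫ j.left := Spec.map_preimage _
  obtain ⟨hft, hfu⟩ := finite_separable_of_etale j.left v (Iso.refl _) i hi
  have : Algebra.FiniteType k K := hft
  have : Algebra.FormallyUnramified k K := hfu
  have : FiniteDimensional k K := finite_of_finite_type_of_isJacobsonRing k K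
  have : Algebra.IsSeparable k K := Algebra.FormallyUnramified.isSeparable k K
  let A : ∀ (L : Type u) [Field L] [Algebra k L], Over S :=
    fun L _ _ => Over.mk (Spec.map (CommRingCat.ofHom (algebraMap k L)) ≫ σ)
  have hA : ∀ (L : Type u) [Field L] [Algebra k L], Subsingleton (A L).left ∧ Nonempty (A L).left :=
    fun L _ _ => ⟨inferInstanceAs (Subsingleton (PrimeSpectrum L)), inferInstanceAs (Nonempty (PrimeSpectrum L))⟩
  have := (hA K).1
  have := (hA K).2
  let jL : ∀ (L : Type u) [Field L] [Algebra k L], A L ⟶ Over.mk σ :=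
    fun L _ _ => Over.homMk (Spec.map (CommRingCat.ofHom (algebraMap k L))) rfl
  let xV : A K ⟶ V := Over.homMk q (by
    change q ≫ V.hom = Spec.map _ ≫ σ
    rw [hi, Category.assoc]
    exact congrArg (q ≫ ·) (Over.w j).symm)
  have hxj : xV ≫ j = jL K := Over.OverMorphism.ext hi.symm
  let x' : A K ⟶ U := xV ≫ f
  have hx' : (AlgSp.yon S).map x' ≫ yπ s t = (AlgSp.yon S).map (jL K) ≫ ξ := by
    rw [← hxj, Functor.map_comp_assoc, Functor.map_comp_assoc, sq.w]
  let mL : ∀ {L : Type u} [Field L] [Algebra k L], (K →ₐ[k] L) → (A L ⟶ A K) := fun {L} _ _ α =>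
    Over.homMk (Spec.map (CommRingCat.ofHom α.toRingHom)) (by
      change Spec.map _ ≫ Spec.map _ ≫ σ = Spec.map _ ≫ σ
      rw [← Spec.map_comp_assoc, ← CommRingCat.ofHom_comp]
      congr 3
      exact α.comp_algebraMap)
  have hmj : ∀ {L : Type u} [Field L] [Algebra k L] (α : K →ₐ[k] L), mL α ≫ jL K = jL L := fun {L} _ _ α => by
    ext
    change Spec.map _ ≫ Spec.map _ = Spec.map _
    rw [← Spec.map_comp, ← CommRingCat.ofHom_comp]
    congr 2
    exact α.comp_algebraMap
  have hinj : ∀ {L : Type u} [Field L] [Algebra k L] (α β : K →ₐ[k] L), mL α ≫ x' = mL β ≫ x' → α = β := by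
    intro L _ _ α β h
    have e : mL α ≫ xV = mL β ≫ xV := by
      apply (AlgSp.yon S).map_injective
      refine sq.hom_ext ?_ ?_
      · rw [← Functor.map_comp, ← Functor.map_comp, Category.assoc, Category.assoc]
        exact congrArg _ h
      · rw [← Functor.map_comp, ← Functor.map_comp, Category.assoc, Category.assoc, hxj, hmj, hmj]
    have e' : Spec.map (CommRingCat.ofHom α.toRingHom) = Spec.map (CommRingCat.ofHom β.toRingHom) :=
      (cancel_mono q).1 (congrArg (fun m : A L ⟶ V => m.left) e)
    exact AlgHom.coe_ringHom_injective (congrArg CommRingCat.Hom.hom (Spec.map_injective e'))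
  have htr : ∀ {L : Type u} [Field L] [Algebra k L] (α β : K →ₐ[k] L),
      ∃ g : G, mL β ≫ x' = (mL α ≫ x') ≫ (ρ g).hom := by
    intro L _ _ α β
    have := (hA L).1
    have := (hA L).2
    refine exists_translate ρ hc hs ht hE.toIsEqvRel _ _ ?_
    have e : ∀ γ : K →ₐ[k] L, (AlgSp.yon S).map (mL γ ≫ x') ≫ yπ s t = (AlgSp.yon S).map (jL L) ≫ ξ := fun γ => by
      rw [Functor.map_comp, Category.assoc, hx', ← Functor.map_comp_assoc, hmj]
    rw [e, e]
  -- every embedding differs from a given one by an automorphism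
  have hauto : ∀ {L : Type u} [Field L] [Algebra k L] (α β : K →ₐ[k] L),
      ∃ τ : K ≃ₐ[k] K, α.comp τ.toAlgHom = β := by
    intro L _ _ α β
    obtain ⟨g, hg⟩ := htr α β
    obtain ⟨m, hm1, hm2⟩ := sq.exists_lift ((AlgSp.yon S).map (x' ≫ (ρ g).hom)) ((AlgSp.yon S).map (jL K))
      (by rw [map_translate_yπ ρ hs ht hE.toIsEqvRel, hx'])
    obtain ⟨m, rfl⟩ := (AlgSp.yon S).map_surjective m
    have hm1 : m ≫ f = x' ≫ (ρ g).hom := (AlgSp.yon S).map_injective (by rw [Functor.map_comp, hm1])
    have hm2 : m ≫ j = jL K := (AlgSp.yon S).map_injective (by rw [Functor.map_comp, hm2])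
    have e : mL α ≫ m = mL β ≫ xV := by
      apply (AlgSp.yon S).map_injective
      refine sq.hom_ext ?_ ?_
      · rw [← Functor.map_comp, ← Functor.map_comp, Category.assoc, Category.assoc, hm1]
        exact congrArg _ (by rw [← Category.assoc, ← hg])
      · rw [← Functor.map_comp, ← Functor.map_comp, Category.assoc, Category.assoc, hm2, hxj, hmj, hmj]
    obtain ⟨w⟩ := (hA L).2
    have := (hA K).1
    have hv : m.left (default : Spec (CommRingCat.of K)) = v := by
      have h1 := congrArg (fun z : A L ⟶ V => z.left w) e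
      change m.left ((mL α).left w) = q ((mL β).left w) at h1
      rw [Subsingleton.elim ((mL α).left w) (default : Spec (CommRingCat.of K))] at h1
      exact h1.trans (Scheme.fromSpecResidueField_apply _ _)
    obtain ⟨a, ha⟩ := exists_fac_residueField m.left v hv
    let a' : CommRingCat.of K ⟶ CommRingCat.of K := a
    have ha' : Spec.map a' ≫ q = m.left := ha
    have hak : CommRingCat.ofHom (algebraMap k K) ≫ a' = CommRingCat.ofHom (algebraMap k K) := by
      apply Spec.map_injective
      rw [Spec.map_comp, hi, reassoc_of% ha']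
      exact (congrArg (fun z : A K ⟶ Over.mk σ => z.left) hm2).trans hi
    let τ₀ : K →ₐ[k] K := ⟨a'.hom, fun x => congrArg (fun z : CommRingCat.of k ⟶ CommRingCat.of K => z x) hak⟩
    refine ⟨AlgEquiv.ofBijective τ₀ (Algebra.IsAlgebraic.algHom_bijective τ₀), ?_⟩
    have hinj' : Spec.map (a' ≫ CommRingCat.ofHom α.toRingHom) = Spec.map (CommRingCat.ofHom β.toRingHom) := by
      rw [← cancel_mono q, Spec.map_comp, Category.assoc, ha']
      exact congrArg (fun z : A L ⟶ V => z.left) e
    exact AlgHom.coe_ringHom_injective (congrArg CommRingCat.Hom.hom (Spec.map_injective hinj'))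
  have hgal : IsGalois k K := by
    refine IsGalois.of_card_aut_eq_finrank k K (le_antisymm ?_ ?_)
    · rw [Nat.card_eq_fintype_card]; exact AlgEquiv.card_le
    · let ι := IsScalarTower.toAlgHom k K (AlgebraicClosure K)
      rw [← AlgHom.card k K (AlgebraicClosure K), ← Nat.card_eq_fintype_card]
      refine Nat.card_le_card_of_surjective (fun τ : K ≃ₐ[k] K => ι.comp τ.toAlgHom) fun β => ?_
      obtain ⟨τ, hτ⟩ := hauto ι β
      exact ⟨τ, hτ⟩
  choose φ hφ using fun τ : K ≃ₐ[k] K => htr (AlgHom.id k K) τ.symm.toAlgHom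
  have hid : mL (AlgHom.id k K) = 𝟙 (A K) := Over.OverMorphism.ext (by
    change Spec.map (CommRingCat.ofHom (RingHom.id K)) = _
    rw [CommRingCat.ofHom_id, Spec.map_id]
    rfl)
  simp only [hid, Category.id_comp] at hφ
  let ψ : (K ≃ₐ[k] K) →* G := MonoidHom.mk' φ fun a b => by
    refine eq_of_free ρ hfree x' ?_
    have h3 : mL (a * b).symm.toAlgHom = mL b.symm.toAlgHom ≫ mL a.symm.toAlgHom := Over.OverMorphism.ext (by
      change Spec.map _ = Spec.map _ ≫ Spec.map _
      rw [← Spec.map_comp, ← CommRingCat.ofHom_comp]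
      rfl)
    rw [← hφ, h3, Category.assoc, hφ, reassoc_of% (hφ b), map_mul]
    rfl
  have hψ : Function.Injective ψ := by
    refine (injective_iff_map_eq_one ψ).2 fun τ hτ => ?_
    have h := hφ τ
    rw [show φ τ = 1 from hτ, map_one] at h
    have h' := hinj τ.symm.toAlgHom (AlgHom.id k K) (h.trans (by rw [hid, Category.id_comp]; exact Category.comp_id x'))
    ext x
    have := congrArg (fun z : K →ₐ[k] K => τ (z x)) h'
    simpa using this.symm
  refine ⟨K, inferInstance, inferInstance, inferInstance, hgal, ψ.range,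
    Finite.of_equiv _ (MonoidHom.ofInjective hψ).toEquiv, (MonoidHom.ofInjective hψ).symm, x', fun h => ?_, hx'⟩
  have hh : φ ((MonoidHom.ofInjective hψ).symm h) = (h : G) :=
    congrArg Subtype.val ((MonoidHom.ofInjective hψ).apply_symm_apply h)
  have := congrArg (fun z : A K ⟶ U => z.left) (hφ ((MonoidHom.ofInjective hψ).symm h))
  rw [hh] at this
  exact this

end Groth.Agent.AlgSp
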