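import Groth.Agent.AlgSp.GorFibre
import Groth.Agent.FDesc.BaseChangeStalk
import Groth.Agent.S1760
import Mathlib.FieldTheory.IntermediateField.Adjoin.Algebra

/-!
# Gorenstein morphisms and base change
-/

universe u

open CategoryTheory CategoryTheory.Limits AlgebraicGeometry IsLocalRing TensorProduct

set_option backward.isDefEq.respectTransparency.types false

namespace Groth.Agent.AlgSp.GorBC

/-- Flatness at a point is stable under base change. -/
theorem flat_stalkMap_bc {F₂ F₁ X₁ X₀ : Scheme.{u}} {v : F₂ ⟶ F₁} {d' : F₂ ⟶ X₁} {d : F₁ ⟶ X₀} {u : X₁ ⟶ X₀}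
    (h : IsPullback v d' d u) (x : F₂) (hd : (d.stalkMap (v x)).hom.Flat) : (d'.stalkMap x).hom.Flat := by
  have he : u (d' x) = d (v x) := by rw [← Scheme.Hom.comp_apply, ← Scheme.Hom.comp_apply, h.w]
  let φ : X₀.presheaf.stalk (d (v x)) ⟶ X₁.presheaf.stalk (d' x) :=
    X₀.presheaf.stalkSpecializes (specializes_of_eq he) ≫ u.stalkMap (d' x)
  let : Algebra (X₀.presheaf.stalk (d (v x))) (F₁.presheaf.stalk (v x)) := (d.stalkMap (v x)).hom.toAlgebra
  let : Algebra (X₀.presheaf.stalk (d (v x))) (X₁.presheaf.stalk (d' x)) := φ.hom.toAlgebra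
  let : Algebra (F₁.presheaf.stalk (v x)) (F₂.presheaf.stalk x) := (v.stalkMap x).hom.toAlgebra
  let : Algebra (X₁.presheaf.stalk (d' x)) (F₂.presheaf.stalk x) := (d'.stalkMap x).hom.toAlgebra
  let : Algebra (X₀.presheaf.stalk (d (v x))) (F₂.presheaf.stalk x) :=
    (d.stalkMap (v x) ≫ v.stalkMap x).hom.toAlgebra
  have : IsScalarTower (X₀.presheaf.stalk (d (v x))) (F₁.presheaf.stalk (v x)) (F₂.presheaf.stalk x) :=
    IsScalarTower.of_algebraMap_eq' rfl
  have : IsScalarTower (X₀.presheaf.stalk (d (v x))) (X₁.presheaf.stalk (d' x)) (F₂.presheaf.stalk x) := by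
    refine IsScalarTower.of_algebraMap_eq' (congrArg CommRingCat.Hom.hom
      (?_ : d.stalkMap (v x) ≫ v.stalkMap x = φ ≫ d'.stalkMap x))
    rw [← Scheme.Hom.stalkMap_comp, Scheme.Hom.stalkMap_congr_hom _ _ h.w x, Category.assoc,
      Scheme.Hom.stalkMap_comp]
    rfl
  have : Module.Flat (X₀.presheaf.stalk (d (v x))) (F₁.presheaf.stalk (v x)) := hd
  let ψ : (X₁.presheaf.stalk (d' x) ⊗[X₀.presheaf.stalk (d (v x))] F₁.presheaf.stalk (v x))
      →ₐ[X₀.presheaf.stalk (d (v x))] F₂.presheaf.stalk x :=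
    Algebra.TensorProduct.productMap (IsScalarTower.toAlgHom _ _ _) (IsScalarTower.toAlgHom _ _ _)
  have hflat : ψ.toRingHom.Flat := FDesc.BaseChangeStalk.flat_stalk_of_isPullback h x
    (CommRingCat.ofHom ψ.toRingHom)
    (by ext a; exact Algebra.TensorProduct.productMap_left_apply _ _ a)
    (by ext a; exact Algebra.TensorProduct.productMap_right_apply _ _ a) rfl rfl
  have h1 : (algebraMap (X₁.presheaf.stalk (d' x))
      (X₁.presheaf.stalk (d' x) ⊗[X₀.presheaf.stalk (d (v x))] F₁.presheaf.stalk (v x))).Flat :=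
    RingHom.flat_algebraMap_iff.mpr inferInstance
  convert h1.comp hflat using 1
  ext a
  exact (Algebra.TensorProduct.productMap_left_apply
    (IsScalarTower.toAlgHom _ (X₁.presheaf.stalk (d' x)) (F₂.presheaf.stalk x))
    (IsScalarTower.toAlgHom _ (F₁.presheaf.stalk (v x)) (F₂.presheaf.stalk x)) a).symm

/-- A residue field extension of a morphism locally of finite type is essentially of finite type. -/
theorem essFiniteType_residueFieldMap {X Y : Scheme.{u}} (g : X ⟶ Y) [LocallyOfFiniteType g] (x : X) :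
    (g.residueFieldMap x).hom.EssFiniteType := by
  have h1 : (g.stalkMap x).hom.EssFiniteType := LocallyOfFiniteType.stalkMap g x
  have h2 : (Y.residue (g x) ≫ g.residueFieldMap x).hom.EssFiniteType := by
    rw [Scheme.residue_residueFieldMap]
    exact h1.comp (RingHom.FiniteType.of_surjective _ (X.residue_surjective x)).essFiniteType
  exact RingHom.EssFiniteType.of_comp _ h2

/-- The fibre product of two fields, one finitely generated, has Gorenstein local rings. -/
theorem gorenstein_field_pullback {k k' L : Type u} [Field k] [Field k'] [Field L]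
    (φ : k →+* L) (ψ : k →+* k') (hψ : ψ.EssFiniteType) {Q : Scheme.{u}} (p₁ : Q ⟶ Spec (CommRingCat.of L))
    (p₂ : Q ⟶ Spec (CommRingCat.of k'))
    (sq : IsPullback p₁ p₂ (Spec.map (CommRingCat.ofHom φ)) (Spec.map (CommRingCat.ofHom ψ))) (z : Q) :
    LocCoh.IsGorensteinLocalRing (Q.presheaf.stalk z) := by
  let _ := φ.toAlgebra
  let _ := ψ.toAlgebra
  have : Algebra.EssFiniteType k k' := hψ
  have hfg : (⊤ : IntermediateField k k').FG := IntermediateField.fg_top k k'
  let e : Q ≅ Spec (CommRingCat.of (L ⊗[k] k')) := sq.isoPullback ≪≫ pullbackSpecIso k L k'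
  let q : PrimeSpectrum (L ⊗[k] k') := e.hom z
  have h1 : LocCoh.IsGorensteinLocalRing L := GorCore.gorenstein_of_isField (Field.toIsField L)
  have h2 : LocCoh.IsGorensteinLocalRing (Localization.AtPrime q.asIdeal) :=
    (Groth.Agent.S1760.result k k' hfg L q (by
      rw [IsLocalRing.maximalIdeal_eq_bot]
      exact Ideal.eq_bot_of_prime _)).1 h1
  let e1 : (Spec (CommRingCat.of (L ⊗[k] k'))).presheaf.stalk (e.hom z) ≅ Q.presheaf.stalk z :=
    asIso (e.hom.stalkMap z)
  let e2 : Localization.AtPrime q.asIdeal ≃+*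
      (Spec (CommRingCat.of (L ⊗[k] k'))).presheaf.stalk (e.hom z) :=
    (StructureSheaf.stalkIso (L ⊗[k] k') q).toRingEquiv
  exact (Groth.Agent.Gor.FlatLocal.gorenstein_iff_of_ringEquiv (e2.trans e1.commRingCatIsoToRingEquiv)).1 h2

/-- Gorensteinness at a point along a base change locally of finite type, where `f` is flat. -/
theorem gorenstein_bc_fiberι {X S X' S' : Scheme.{u}} {f : X ⟶ S} {g : S' ⟶ S} {f' : X' ⟶ S'}
    {g' : X' ⟶ X} (hc : IsPullback g' f' f g) [LocallyOfFiniteType g] (s' : S') (y' : f'.fiber s')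
    (hN : IsNoetherianRing (X.presheaf.stalk (g' (f'.fiberι s' y')) ⧸ GorCore.fibIdeal f (g' (f'.fiberι s' y'))))
    (hN' : IsNoetherianRing (X'.presheaf.stalk (f'.fiberι s' y') ⧸ GorCore.fibIdeal f' (f'.fiberι s' y'))) :
    LocCoh.IsGorensteinLocalRing (X.presheaf.stalk (g' (f'.fiberι s' y')) ⧸ GorCore.fibIdeal f (g' (f'.fiberι s' y'))) ↔
      LocCoh.IsGorensteinLocalRing (X'.presheaf.stalk (f'.fiberι s' y') ⧸ GorCore.fibIdeal f' (f'.fiberι s' y')) := by
  let k := Spec.map (g.residueFieldMap s')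
  have hk : k ≫ S.fromSpecResidueField (g s') = S'.fromSpecResidueField s' ≫ g :=
    Scheme.Hom.SpecMap_residueFieldMap_fromSpecResidueField g s'
  let h : f'.fiber s' ⟶ f.fiber (g s') :=
    pullback.lift (f'.fiberι s' ≫ g') (f'.fiberToSpecResidueField s' ≫ k) (by
      rw [Category.assoc, hc.w, ← Category.assoc, f'.fiber_fac, Category.assoc, Category.assoc, hk])
  have hfst : h ≫ f.fiberι (g s') = f'.fiberι s' ≫ g' := pullback.lift_fst _ _ _
  have hsnd : h ≫ f.fiberToSpecResidueField (g s') = f'.fiberToSpecResidueField s' ≫ k :=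
    pullback.lift_snd _ _ _
  have h1 : IsPullback (f'.fiberToSpecResidueField s') (f'.fiberι s' ≫ g')
      (k ≫ S.fromSpecResidueField (g s')) f := by
    rw [hk]
    exact ((IsPullback.of_hasPullback f' (S'.fromSpecResidueField s')).paste_horiz hc).flip
  have h2 : IsPullback (f'.fiberToSpecResidueField s') h k (f.fiberToSpecResidueField (g s')) := by
    refine IsPullback.of_bot ?_ hsnd.symm (IsPullback.of_hasPullback f (S.fromSpecResidueField (g s'))).flip
    exact hfst.symm ▸ h1
  have : Flat k := (Groth.Agent.AlgSp.field_hom_props k).1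
  have : Flat h := MorphismProperty.of_isPullback (P := @Flat) h2 ‹Flat k›
  let y : f.fiber (g s') := h y'
  have hy : f.fiberι (g s') y = g' (f'.fiberι s' y') := by
    rw [← Scheme.Hom.comp_apply, ← Scheme.Hom.comp_apply, hfst]
  -- the closed fibre
  have hF : LocCoh.IsGorensteinLocalRing ((h.fiber y).presheaf.stalk (h.asFiber y')) := by
    let ι := (f.fiber (g s')).fromSpecResidueField y ≫ f.fiberToSpecResidueField (g s')
    obtain ⟨φ, hφ⟩ := Spec.map_surjective ι
    have sqF := (IsPullback.of_hasPullback h ((f.fiber (g s')).fromSpecResidueField y)).flip.paste_vert h2.flip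
    exact gorenstein_field_pullback (L := (f.fiber (g s')).residueField y) φ.hom (g.residueFieldMap s').hom
      (essFiniteType_residueFieldMap g s') (h.fiberToSpecResidueField y)
      (h.fiberι y ≫ f'.fiberToSpecResidueField s')
      (by
        change IsPullback _ _ (Spec.map φ) (Spec.map (g.residueFieldMap s'))
        rw [hφ]
        exact sqF) _
  rw [← hy] at hN ⊢
  rw [← GorFibre.gorenstein_fibre_stalk_iff f (g s') y, ← GorFibre.gorenstein_fibre_stalk_iff f' s' y']
  have eq1 := (Ideal.quotEquivOfEq (Groth.Agent.FlatMor.FibreStalk.ker_stalkMap_fiberι f (g s') y).symm).trans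
    (RingHom.quotientKerEquivOfSurjective ((f.fiberι (g s')).stalkMap_surjective y))
  have eq2 := (Ideal.quotEquivOfEq (Groth.Agent.FlatMor.FibreStalk.ker_stalkMap_fiberι f' s' y').symm).trans
    (RingHom.quotientKerEquivOfSurjective ((f'.fiberι s').stalkMap_surjective y'))
  have : IsNoetherianRing ((f.fiber (g s')).presheaf.stalk y) := isNoetherianRing_of_ringEquiv _ eq1
  have : IsNoetherianRing ((f'.fiber s').presheaf.stalk y') := isNoetherianRing_of_ringEquiv _ eq2
  obtain ⟨e3⟩ := Groth.Agent.FlatMor.FibreStalk.exists_fibre_stalk_equiv h y'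
  have hF' : LocCoh.IsGorensteinLocalRing ((f'.fiber s').presheaf.stalk y' ⧸ GorCore.fibIdeal h y') :=
    (Groth.Agent.Gor.FlatLocal.gorenstein_iff_of_ringEquiv e3).2 hF
  let _ := (h.stalkMap y').hom.toAlgebra
  have : Module.Flat ((f.fiber (g s')).presheaf.stalk y) ((f'.fiber s').presheaf.stalk y') := Flat.stalkMap h y'
  have : IsLocalHom (algebraMap ((f.fiber (g s')).presheaf.stalk y) ((f'.fiber s').presheaf.stalk y')) :=
    inferInstanceAs (IsLocalHom (h.stalkMap y').hom)
  rw [Groth.Agent.Gor.FlatLocal.gorenstein_flat_local_iff ((f.fiber (g s')).presheaf.stalk y)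
    ((f'.fiber s').presheaf.stalk y')]
  exact ⟨fun H => ⟨H, hF'⟩, fun H => H.1⟩

/-- The three base change assertions for Gorensteinness at a point. -/
theorem gorenstein_bc {X S X' S' : Scheme.{u}} {f : X ⟶ S} {g : S' ⟶ S} {f' : X' ⟶ S'}
    {g' : X' ⟶ X} (hc : IsPullback g' f' f g) [LocallyOfFiniteType g] (x' : X')
    (hN : IsNoetherianRing (X.presheaf.stalk (g' x') ⧸ GorCore.fibIdeal f (g' x')))
    (hN' : IsNoetherianRing (X'.presheaf.stalk x' ⧸ GorCore.fibIdeal f' x')) :
    (Dual3.IsGorensteinAt f (g' x') → Dual3.IsGorensteinAt f' x') ∧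
      ((f.stalkMap (g' x')).hom.Flat → Dual3.IsGorensteinAt f' x' → Dual3.IsGorensteinAt f (g' x')) ∧
      ((g.stalkMap (f' x')).hom.Flat → Dual3.IsGorensteinAt f' x' → Dual3.IsGorensteinAt f (g' x')) := by
  have key : ∀ z, z = x' →
      IsNoetherianRing (X.presheaf.stalk (g' z) ⧸ GorCore.fibIdeal f (g' z)) →
      IsNoetherianRing (X'.presheaf.stalk z ⧸ GorCore.fibIdeal f' z) →
      (LocCoh.IsGorensteinLocalRing (X.presheaf.stalk (g' z) ⧸ GorCore.fibIdeal f (g' z)) ↔
        LocCoh.IsGorensteinLocalRing (X'.presheaf.stalk z ⧸ GorCore.fibIdeal f' z)) := by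
    intro z hz
    obtain ⟨y', rfl⟩ : ∃ y', f'.fiberι (f' x') y' = z := ⟨f'.asFiber x', by rw [Scheme.Hom.fiberι_asFiber, hz]⟩
    exact gorenstein_bc_fiberι hc (f' x') y'
  have h := key x' rfl hN hN'
  refine ⟨fun H => ?_, fun hfl H => ?_, fun hgl H => ?_⟩
  · rw [GorCore.isGorensteinAt_iff] at H ⊢
    exact ⟨flat_stalkMap_bc hc x' H.1, h.1 H.2⟩
  · rw [GorCore.isGorensteinAt_iff] at H ⊢
    exact ⟨hfl, h.2 H.2⟩
  · rw [GorCore.isGorensteinAt_iff] at H ⊢
    refine ⟨Groth.Agent.Thick.FlatCancel.flat_stalkMap_of_comp g' f x' (flat_stalkMap_bc hc.flip x' hgl) ?_, h.2 H.2⟩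
    rw [show g' ≫ f = f' ≫ g from hc.w, Scheme.Hom.stalkMap_comp]
    exact hgl.comp H.1

end Groth.Agent.AlgSp.GorBC
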