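import Groth.Agent.AlgSp.GorNoeth

/-!
# Gorenstein fibres of morphisms of algebraic spaces
-/

universe u

open CategoryTheory CategoryTheory.Limits AlgebraicGeometry IsLocalRing

set_option backward.isDefEq.respectTransparency.types false

namespace Groth.Agent.AlgSp.GorFibre

/-- The local rings of a fibre are the quotients of the local rings. -/
theorem gorenstein_fibre_stalk_iff {U V : Scheme.{u}} (h : U ⟶ V) (v : V) (y : h.fiber v) :
    LocCoh.IsGorensteinLocalRing ((h.fiber v).presheaf.stalk y) ↔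
      LocCoh.IsGorensteinLocalRing (U.presheaf.stalk (h.fiberι v y) ⧸ GorCore.fibIdeal h (h.fiberι v y)) := by
  have hs : Function.Surjective ((h.fiberι v).stalkMap y).hom := (h.fiberι v).stalkMap_surjective y
  exact (Groth.Agent.Gor.FlatLocal.gorenstein_iff_of_ringEquiv
    ((Ideal.quotEquivOfEq (Groth.Agent.FlatMor.FibreStalk.ker_stalkMap_fiberι h v y).symm).trans
      (RingHom.quotientKerEquivOfSurjective hs))).symm

variable {S : Scheme.{u}}

/-- A flat morphism is Gorenstein at a point if the fibre through it is Gorenstein etale locally. -/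
theorem locPAt_of_fibre {F G : AlgSp.Sp S} (hF : AlgSp.IsAlgSpace F) (hG : AlgSp.IsAlgSpace G) {f : F ⟶ G}
    (hN : GorSp.NoethFibres f) (hfl : AlgSp.LocP @Flat f) {V : Over S} (b : (AlgSp.yon S).obj V ⟶ G)
    (hb : AlgSp.RepWith @Etale b)
    (H : ∀ (v : ↥V.left) (Xv : AlgSp.Sp S) (pF : Xv ⟶ F)
      (pv : Xv ⟶ (AlgSp.yon S).obj (Over.mk (V.left.fromSpecResidueField v ≫ V.hom))),
      IsPullback pF pv f ((AlgSp.yon S).map (Over.homMk (V.left.fromSpecResidueField v) rfl :
        Over.mk (V.left.fromSpecResidueField v ≫ V.hom) ⟶ V) ≫ b) → AlgSp.EtaleLocally Dual3.IsGorenstein Xv)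
    (x : AlgSp.Points F) (v : ↥V.left) (hv : AlgSp.Points.ofPt b v = AlgSp.Points.map f x) :
    AlgSp.LocPAt (fun h u => Dual3.IsGorensteinAt h u) f x := by
  obtain ⟨U, a, h, u, ha, w, rfl, rfl⟩ := GorSp.exists_chart hF hG f b hb x v hv
  have sq := IsPullback.of_hasPullback f ((AlgSp.yon S).map (Over.homMk (V.left.fromSpecResidueField (h.left u)) rfl :
    Over.mk (V.left.fromSpecResidueField (h.left u) ≫ V.hom) ⟶ V) ≫ b)
  have hG' := H _ _ _ _ sq
  obtain ⟨m, hm, -⟩ := GorSp.exists_fibre_chart ha hb w (h.left u) sq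
  have hUv := GorNoeth.isGorenstein_chart hG' m hm
  rw [GorSp.locPAt_iff hF hG hN ha hb w u]
  have : Flat h.left := hfl a b h ha hb w
  exact ⟨Flat.stalkMap _ _, hUv.2 _⟩

/-- The fibres of a Gorenstein morphism are Gorenstein etale locally. -/
theorem fibre_of_locPAt {F G : AlgSp.Sp S} (hF : AlgSp.IsAlgSpace F) (hG : AlgSp.IsAlgSpace G) {f : F ⟶ G}
    (hN : GorSp.NoethFibres f) (H : ∀ x, AlgSp.LocPAt (fun h u => Dual3.IsGorensteinAt h u) f x)
    {V : Over S} (b : (AlgSp.yon S).obj V ⟶ G) (hb : AlgSp.RepWith @Etale b) (v : ↥V.left)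
    {Xv : AlgSp.Sp S} {pF : Xv ⟶ F} {pv : Xv ⟶ (AlgSp.yon S).obj (Over.mk (V.left.fromSpecResidueField v ≫ V.hom))}
    (sq : IsPullback pF pv f ((AlgSp.yon S).map (Over.homMk (V.left.fromSpecResidueField v) rfl :
      Over.mk (V.left.fromSpecResidueField v ≫ V.hom) ⟶ V) ≫ b)) :
    AlgSp.EtaleLocally Dual3.IsGorenstein Xv := by
  obtain ⟨U, m, hm, hms⟩ := (isAlgSpace_pullback hG hF (AlgSp.IsAlgSpace.yon_obj V) f b).atlas
  obtain ⟨h, hh⟩ := (AlgSp.yon S).map_surjective (m ≫ pullback.snd f b)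
  have ha : AlgSp.RepWith @Etale (m ≫ pullback.fst f b) :=
    MorphismProperty.comp_mem _ _ _ hm (MorphismProperty.pullback_fst _ _ hb)
  have w : (m ≫ pullback.fst f b) ≫ f = (AlgSp.yon S).map h ≫ b := by
    rw [Category.assoc, pullback.condition, hh, Category.assoc]
  obtain ⟨l, k, top, -⟩ := GorSp.exists_fibre_square (a := m ≫ pullback.fst f b) (h := h) m rfl hh.symm v sq
  refine ⟨_, l, MorphismProperty.of_isPullback top hm, MorphismProperty.of_isPullback top hms, ?_⟩
  have hNv : AlgSp.IsLocNoethSp Xv := by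
    refine hN (AlgSp.FieldPt.ofPt b v) Xv pF pv ?_
    erw [AlgSp.FieldPt.toHom_ofPt]
    exact sq
  refine ⟨isLocallyNoetherian_of_etale_chart l (MorphismProperty.of_isPullback top hm) hNv, fun y => ?_⟩
  change LocCoh.IsGorensteinLocalRing ((h.left.fiber v).presheaf.stalk y)
  rw [gorenstein_fibre_stalk_iff]
  exact ((GorCore.isGorensteinAt_iff _ _).1 (H _ _ b h (h.left.fiberι v y) ha hb w rfl)).2

end Groth.Agent.AlgSp.GorFibre
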