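import Groth.Agent.AlgSp.GorSp
import Groth.Agent.S0344
import Groth.Agent.S0540
import Groth.Agent.Hens.Unique

/-!
# Gorenstein algebraic spaces and strict henselizations
-/

universe u

open CategoryTheory CategoryTheory.Limits AlgebraicGeometry IsLocalRing

set_option backward.isDefEq.respectTransparency.types false

namespace Groth.Agent.AlgSp.GorNoeth

/-- Gorensteinness and strict henselization. -/
theorem gorenstein_strictHenselization_iff (A R : Type u) [CommRing A] [IsLocalRing A] [IsNoetherianRing A]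
    [CommRing R] [IsLocalRing R] [Algebra A R] [IsLocalHom (algebraMap A R)] [Hensel.IsStrictHenselization A R] :
    LocCoh.IsGorensteinLocalRing A ↔ LocCoh.IsGorensteinLocalRing R := by
  have : IsNoetherianRing R := (Groth.Agent.S0540.result A R).1 ‹_›
  have := Groth.Agent.Hens.faithfullyFlat_of_isStrictHenselization (R := A) R
  exact GorCore.gorenstein_iff_of_map_max (algebraMap A R) (RingHom.flat_algebraMap_iff.2 inferInstance)
    (Groth.Agent.Hens.map_maximalIdeal_of_isStrictHenselization (R := A) R)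

/-- Gorensteinness of the local ring is invariant under etale maps. -/
theorem gorenstein_stalk_iff {U U' : Scheme.{u}} (e : U' ⟶ U) [Etale e] [IsLocallyNoetherian U]
    [IsLocallyNoetherian U'] (u : U') :
    LocCoh.IsGorensteinLocalRing (U.presheaf.stalk (e u)) ↔ LocCoh.IsGorensteinLocalRing (U'.presheaf.stalk u) :=
  GorCore.gorenstein_iff_of_map_max (e.stalkMap u).hom (Flat.stalkMap e u) (Groth.Agent.Wt.FlatWt.etale_stalk e u).1

variable {S : Scheme.{u}}

/-- Every chart of a Gorenstein algebraic space is Gorenstein. -/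
theorem isGorenstein_chart {F : AlgSp.Sp S} (hG : AlgSp.EtaleLocally Dual3.IsGorenstein F) {U : Over S}
    (a : (AlgSp.yon S).obj U ⟶ F) (ha : AlgSp.RepWith @Etale a) : Dual3.IsGorenstein U.left := by
  obtain ⟨W, q, hq, hqs, hW⟩ := hG
  have hN : AlgSp.IsLocNoethSp F := ⟨W, q, hq, hqs, hW.1⟩
  have := isLocallyNoetherian_of_etale_chart a ha hN
  refine ⟨this, fun u => ?_⟩
  obtain ⟨w, hw⟩ := AlgSpB.surjective_ofPt hqs (AlgSp.Points.ofPt a u)
  obtain ⟨R, r₁, r₂, sq⟩ := AlgSpCov.exists_pullback hq.1 a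
  obtain ⟨t, rfl, rfl⟩ := AlgSpCov.FlatLocus.exists_point_of_charts sq hw
  have : Etale r₂.left := hq.2 _ _ r₂ sq
  have : Etale r₁.left := ha.2 _ _ r₁ sq.flip
  have : IsLocallyNoetherian W.left := hW.1
  have : IsLocallyNoetherian R.left := LocallyOfFiniteType.isLocallyNoetherian r₁.left
  exact (gorenstein_stalk_iff r₂.left t).2 ((gorenstein_stalk_iff r₁.left t).1 (hW.2 _))

/-- A flat map from a Gorenstein scheme to a locally Noetherian one. -/
theorem gorenstein_of_flat {U V : Scheme.{u}} (h : U ⟶ V) [IsLocallyNoetherian U] [IsLocallyNoetherian V]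
    (u : U) (hf : (h.stalkMap u).hom.Flat) (hU : LocCoh.IsGorensteinLocalRing (U.presheaf.stalk u)) :
    Dual3.IsGorensteinAt h u ∧ LocCoh.IsGorensteinLocalRing (V.presheaf.stalk (h u)) := by
  let _ := (h.stalkMap u).hom.toAlgebra
  have : Module.Flat (V.presheaf.stalk (h u)) (U.presheaf.stalk u) := hf
  have : IsLocalHom (algebraMap (V.presheaf.stalk (h u)) (U.presheaf.stalk u)) :=
    inferInstanceAs (IsLocalHom (h.stalkMap u).hom)
  obtain ⟨h1, h2⟩ := (Groth.Agent.S0344.result (V.presheaf.stalk (h u)) (U.presheaf.stalk u)).1 hU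
  exact ⟨(GorCore.isGorensteinAt_iff h u).2 ⟨hf, h2⟩, h1⟩

end Groth.Agent.AlgSp.GorNoeth
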