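import Groth.Agent.AlgSp.LocPFin
import Groth.Agent.AlgSpB.Points
import Groth.Agent.AlgSpCov.Instances
import Mathlib.Algebra.Category.Ring.Epi
import Groth.Agent.S0116
import Groth.Agent.S2492
import Mathlib.AlgebraicGeometry.Morphisms.QuasiFinite
import Mathlib.AlgebraicGeometry.Morphisms.Finite

/-!
# Locally Noetherian fibres over field-valued points
-/

universe u

open CategoryTheory CategoryTheory.Limits AlgebraicGeometry Opposite

set_option backward.isDefEq.respectTransparency.types false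

namespace Groth.Agent.AlgSp

variable {S : Scheme.{u}}

/-- A scheme etale over a locally Noetherian sheaf is locally Noetherian. -/
theorem isLocallyNoetherian_of_etale_chart {F : AlgSp.Sp S} {U : Over S} (a : (AlgSp.yon S).obj U ⟶ F)
    (ha : AlgSp.RepWith @Etale a) (h : AlgSp.IsLocNoethSp F) : IsLocallyNoetherian U.left := by
  obtain ⟨W, q, hq, hqs, hW⟩ := h
  obtain ⟨R, r₁, r₂, sq⟩ := AlgSpCov.exists_pullback hq.1 a
  have : Etale r₂.left := hq.2 _ _ r₂ sq
  have : Surjective r₂.left := hqs.2 _ _ r₂ sq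
  have : Etale r₁.left := ha.2 _ _ r₁ sq.flip
  have : IsLocallyNoetherian W.left := hW
  have : IsLocallyNoetherian R.left := LocallyOfFiniteType.isLocallyNoetherian r₁.left
  exact Groth.Agent.S0116.result r₂.left

/-- Locally Noetherian descends along flat surjective quasi-compact maps of bases. -/
theorem isLocNoethSp_of_flat_descent {Q Q' : AlgSp.Sp S} (hQ : AlgSp.IsAlgSpace Q) {T T' : Over S}
    (c : T' ⟶ T) [Flat c.left] [Surjective c.left] [QuasiCompact c.left] {g : Q' ⟶ Q}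
    {s' : Q' ⟶ (AlgSp.yon S).obj T'} {s : Q ⟶ (AlgSp.yon S).obj T}
    (sq : IsPullback g s' s ((AlgSp.yon S).map c)) (h : AlgSp.IsLocNoethSp Q') :
    AlgSp.IsLocNoethSp Q := by
  obtain ⟨U, u, hu, hus⟩ := hQ.atlas
  obtain ⟨α, hα⟩ := (AlgSp.yon S).map_surjective (u ≫ s)
  have sq' := IsPullback.of_hasPullback α c
  have big := sq'.map (AlgSp.yon S)
  let l := sq.lift ((AlgSp.yon S).map (pullback.fst α c) ≫ u) ((AlgSp.yon S).map (pullback.snd α c))
    (by rw [Category.assoc, ← hα]; exact big.w)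
  have top : IsPullback ((AlgSp.yon S).map (pullback.fst α c)) l u g := by
    refine IsPullback.of_bot ?_ (sq.lift_fst _ _ _).symm sq
    rw [sq.lift_snd, ← hα]
    exact big
  have hl : AlgSp.RepWith @Etale l := MorphismProperty.of_isPullback top hu
  have := isLocallyNoetherian_of_etale_chart l hl h
  have hfst := (sq'.map (Over.forget S))
  have : Flat (pullback.fst α c).left :=
    MorphismProperty.of_isPullback hfst.flip (inferInstanceAs (Flat c.left))
  have : Surjective (pullback.fst α c).left :=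
    MorphismProperty.of_isPullback hfst.flip (inferInstanceAs (Surjective c.left))
  have : QuasiCompact (pullback.fst α c).left :=
    MorphismProperty.of_isPullback hfst.flip (inferInstanceAs (QuasiCompact c.left))
  exact ⟨U, u, hu, hus, Groth.Agent.S2492.result (pullback.fst α c).left⟩

/-- A morphism between spectra of fields is flat, surjective and quasi-compact. -/
theorem field_hom_props {K L : Type u} [Field K] [Field L]
    (c : Spec (CommRingCat.of L) ⟶ Spec (CommRingCat.of K)) :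
    Flat c ∧ Surjective c ∧ QuasiCompact c := by
  obtain ⟨φ, rfl⟩ := Spec.map_surjective c
  refine ⟨?_, ⟨fun x => ⟨IsLocalRing.closedPoint L, Subsingleton.elim _ _⟩⟩, inferInstance⟩
  rw [HasRingHomProperty.Spec_iff (P := @Flat)]
  algebraize [φ.hom]
  exact inferInstanceAs (Module.Flat K L)

theorem yon_field_isLocNoethSp {K : Type u} [Field K] (str : Spec (CommRingCat.of K) ⟶ S) :
    AlgSp.IsLocNoethSp ((AlgSp.yon S).obj (Over.mk str)) :=
  ⟨_, 𝟙 _, AlgSp.repWith_id _ _, AlgSp.repWith_id _ _, inferInstanceAs (IsLocallyNoetherian (Spec (CommRingCat.of K)))⟩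

theorem isLocNoethSp_fibre_of_lft {X Y : AlgSp.Sp S} (hX : AlgSp.IsAlgSpace X) (hY : AlgSp.IsAlgSpace Y)
    (f : X ⟶ Y) (hf : AlgSp.LocP @LocallyOfFiniteType f) (p : AlgSp.FieldPt Y)
    {P : AlgSp.Sp S} {fst : P ⟶ X} {snd : P ⟶ (AlgSp.yon S).obj p.pt}
    (hP : IsPullback fst snd f p.toHom) : AlgSp.IsLocNoethSp P :=
  isLocNoethSp_of_lft
    (isAlgSpace_of_isPullback' hY hX (AlgSp.IsAlgSpace.yon_obj _) hP) (AlgSp.IsAlgSpace.yon_obj _) snd
    (AlgSpCov.locP_baseChange AlgSpCov.etaleLocal_locallyOfFiniteType hX hY hP hf)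
    (yon_field_isLocNoethSp p.str)

/-- The two field-valued points defining one point meet in the fibre product. -/
theorem exists_point_of_rel {Y : AlgSp.Sp S} {p q : AlgSp.FieldPt Y}
    (h : AlgSp.Points.mk p = AlgSp.Points.mk q) {R : Over S} {r₁ : R ⟶ p.pt} {r₂ : R ⟶ q.pt}
    (sq : IsPullback ((AlgSp.yon S).map r₁) ((AlgSp.yon S).map r₂) p.toHom q.toHom) :
    Nonempty ↥R.left := by
  obtain ⟨r, -⟩ := (AlgSpB.ofPt_eq_ofPt_iff sq (IsLocalRing.closedPoint p.K)
    (IsLocalRing.closedPoint q.K)).1 (by rw [AlgSp.Points.ofPt_toHom, AlgSp.Points.ofPt_toHom, h])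
  exact ⟨r⟩

theorem isLocNoethSp_fibre_etale_chart {X Y : AlgSp.Sp S} (hX : AlgSp.IsAlgSpace X)
    (hY : AlgSp.IsAlgSpace Y) (f : X ⟶ Y) (p : AlgSp.FieldPt Y)
    (hNoeth : ∀ ⦃P : AlgSp.Sp S⦄ (fst : P ⟶ X) (snd : P ⟶ (AlgSp.yon S).obj p.pt),
      IsPullback fst snd f p.toHom → AlgSp.IsLocNoethSp P)
    {V : Over S} (b : (AlgSp.yon S).obj V ⟶ Y) (hb : AlgSp.RepWith @Etale b) (v : ↥V.left)
    (hv : AlgSp.Points.ofPt b v = AlgSp.Points.mk p)
    {Q : AlgSp.Sp S} (qfst : Q ⟶ X) (qsnd : Q ⟶ (AlgSp.yon S).obj (AlgSp.FieldPt.ofPt b v).pt)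
    (hQ : IsPullback qfst qsnd f (AlgSp.FieldPt.ofPt b v).toHom) :
    AlgSp.IsLocNoethSp Q := by
  obtain ⟨R, r₁, r₂, sq⟩ := AlgSpCov.exists_pullback hb.1 p.toHom
  have : Etale r₂.left := hb.2 _ _ r₂ sq
  have : LocallyQuasiFinite r₂.left := AlgSpCov.etale_le_locallyQuasiFinite _ _ _ ‹Etale r₂.left›
  obtain ⟨r, hr₁, -⟩ := (AlgSpB.ofPt_eq_ofPt_iff sq v (IsLocalRing.closedPoint p.K)).1
    (by rw [AlgSp.Points.ofPt_toHom, hv])
  subst hr₁
  have : IsLocallyArtinian p.pt.left :=
    inferInstanceAs (IsLocallyArtinian (Spec (CommRingCat.of p.K)))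
  have : IsLocallyArtinian R.left := IsLocallyArtinian.of_locallyQuasiFinite r₂.left
  have : DiscreteTopology ↥R.left := inferInstance
  have : IsClosedImmersion (R.left.fromSpecResidueField r) :=
    isClosed_singleton_iff_isClosedImmersion.1 (isClosed_discrete _)
  let T : Over S := Over.mk (R.left.fromSpecResidueField r ≫ R.hom)
  let ι : T ⟶ R := Over.homMk (R.left.fromSpecResidueField r) rfl
  let c : T ⟶ (AlgSp.FieldPt.ofPt b (r₁.left r)).pt :=
    Over.homMk (Spec.map (r₁.left.residueFieldMap r)) (by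
      change Spec.map _ ≫ V.left.fromSpecResidueField _ ≫ V.hom = R.left.fromSpecResidueField r ≫ R.hom
      rw [← Category.assoc, Scheme.Hom.SpecMap_residueFieldMap_fromSpecResidueField, Category.assoc,
        Over.w r₁])
  have hc : (AlgSp.yon S).map c ≫ (AlgSp.FieldPt.ofPt b (r₁.left r)).toHom =
      (AlgSp.yon S).map (ι ≫ r₂) ≫ p.toHom := by
    rw [AlgSp.FieldPt.toHom_ofPt, Functor.map_comp, Category.assoc, ← sq.w, ← Category.assoc,
      ← Category.assoc, ← Functor.map_comp, ← Functor.map_comp]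
    congr 2
    ext1
    exact Scheme.Hom.SpecMap_residueFieldMap_fromSpecResidueField r₁.left r
  have : LocallyOfFiniteType (ι ≫ r₂).left :=
    inferInstanceAs (LocallyOfFiniteType (R.left.fromSpecResidueField r ≫ r₂.left))
  have sqc := IsPullback.of_hasPullback qsnd ((AlgSp.yon S).map c)
  have hT := sqc.paste_horiz hQ
  rw [hc] at hT
  have hP := IsPullback.of_hasPullback f p.toHom
  have sqT := IsPullback.of_right' hT hP
  obtain ⟨hfl, hsur, hqc⟩ := field_hom_props c.left
  have : Flat c.left := hfl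
  have : Surjective c.left := hsur
  have : QuasiCompact c.left := hqc
  have hQa := isAlgSpace_of_isPullback' hY hX (AlgSp.IsAlgSpace.yon_obj _) hQ
  have hPa := isAlgSpace_of_isPullback' hY hX (AlgSp.IsAlgSpace.yon_obj _) hP
  have hTa := isAlgSpace_of_isPullback' (AlgSp.IsAlgSpace.yon_obj _) hPa (AlgSp.IsAlgSpace.yon_obj _) sqT
  refine isLocNoethSp_of_flat_descent hQa c sqc (isLocNoethSp_of_lft hTa hPa _
    (AlgSpCov.locP_baseChange AlgSpCov.etaleLocal_locallyOfFiniteType (AlgSp.IsAlgSpace.yon_obj _)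
      (AlgSp.IsAlgSpace.yon_obj _) sqT.flip ?_) (hNoeth _ _ hP))
  intro A B a' b' h ha' hb' w
  obtain ⟨a'', rfl⟩ := (AlgSp.yon S).map_surjective a'
  obtain ⟨b'', rfl⟩ := (AlgSp.yon S).map_surjective b'
  have hae : Etale a''.left := (AlgSp.repWith_yon_map_iff _ _).1 ha'
  have hbe : Etale b''.left := (AlgSp.repWith_yon_map_iff _ _).1 hb'
  rw [← Functor.map_comp, ← Functor.map_comp] at w
  have w' := congrArg CommaMorphism.left ((AlgSp.yon S).map_injective w)
  have : LocallyOfFiniteType (h.left ≫ b''.left) := by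
    have : h.left ≫ b''.left = a''.left ≫ (ι ≫ r₂).left := w'.symm
    rw [this]; infer_instance
  exact locallyOfFiniteType_of_comp h.left b''.left

/-- A monomorphism from a nonempty scheme to the spectrum of a field is an isomorphism. -/
theorem isIso_of_mono_field {K : Type u} [Field K] {R : Scheme.{u}}
    (f : R ⟶ Spec (CommRingCat.of K)) [Mono f]
    [Nonempty R] : IsIso f := by
  obtain ⟨r⟩ := ‹Nonempty R›
  have : UniversallyInjective f := inferInstance
  have hinj : Function.Injective f := f.injective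
  have : Subsingleton R := ⟨fun a b => hinj (Subsingleton.elim _ _)⟩
  obtain ⟨_, ⟨U, hU, rfl⟩, hrU, -⟩ :=
    R.isBasis_affineOpens.exists_subset_of_mem_open (Set.mem_univ r) isOpen_univ
  have htop : U = ⊤ := by
    ext x; simp [Subsingleton.elim x r, show r ∈ U from hrU]
  subst htop
  have : IsAffine (⊤ : R.Opens).toScheme := hU
  have : IsAffine R := .of_isIso R.topIso.inv
  obtain ⟨φ, hφ⟩ := Spec.map_surjective (R.isoSpec.inv ≫ f)
  have : Mono (Spec.map φ) := by rw [hφ]; infer_instance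
  have : Nontrivial Γ(R, ⊤) := by
    by_contra h
    rw [not_nontrivial_iff_subsingleton] at h
    have : IsEmpty ↥(Spec Γ(R, ⊤)) := inferInstanceAs (IsEmpty (PrimeSpectrum Γ(R, ⊤)))
    exact IsEmpty.false (R.isoSpec.hom r)
  have : Epi φ := by
    constructor
    intro Z g g' e
    apply Spec.map_injective
    rw [← cancel_mono (Spec.map φ), ← Spec.map_comp, ← Spec.map_comp, e]
  have hsurj : Function.Surjective φ.hom := by
    algebraize [φ.hom]
    have : Algebra.IsEpi K Γ(R, ⊤) := CommRingCat.epi_iff_epi.mp (by assumption)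
    intro x
    obtain ⟨ψ₀, hψ₀⟩ := Module.Projective.exists_dual_ne_zero K (one_ne_zero (α := Γ(R, ⊤)))
    obtain ⟨ψ, hψ⟩ : ∃ ψ : Γ(R, ⊤) →ₗ[K] K, ψ 1 = 1 :=
      ⟨(ψ₀ 1)⁻¹ • ψ₀, by rw [LinearMap.smul_apply, smul_eq_mul, inv_mul_cancel₀ hψ₀]⟩
    have e := (Algebra.isEpi_iff_forall_one_tmul_eq K Γ(R, ⊤)).1 this x
    have e' := congrArg ((TensorProduct.lid K Γ(R, ⊤)).toLinearMap ∘ₗ
      (TensorProduct.map ψ LinearMap.id)) e
    simp [hψ, Algebra.smul_def] at e'
    exact ⟨_, e'.symm⟩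
  have hb : Function.Bijective φ.hom := ⟨φ.hom.injective, hsurj⟩
  have : IsIso φ := (ConcreteCategory.isIso_iff_bijective φ).2 hb
  have : IsIso (R.isoSpec.inv ≫ f) := by rw [← hφ]; infer_instance
  exact IsIso.of_isIso_comp_left R.isoSpec.inv f

theorem isLocNoethSp_fibre_mono {X Y : AlgSp.Sp S} (hX : AlgSp.IsAlgSpace X)
    (hY : AlgSp.IsAlgSpace Y) (f : X ⟶ Y) (p p₀ : AlgSp.FieldPt Y)
    (hpp : AlgSp.Points.mk p = AlgSp.Points.mk p₀) (hmono : Mono p₀.toHom)
    (hNoeth : ∀ ⦃P : AlgSp.Sp S⦄ (fst : P ⟶ X) (snd : P ⟶ (AlgSp.yon S).obj p.pt),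
      IsPullback fst snd f p.toHom → AlgSp.IsLocNoethSp P)
    {Q : AlgSp.Sp S} (qfst : Q ⟶ X) (qsnd : Q ⟶ (AlgSp.yon S).obj p₀.pt)
    (hQ : IsPullback qfst qsnd f p₀.toHom) : AlgSp.IsLocNoethSp Q := by
  obtain ⟨R, r₁, r₂, sq⟩ := AlgSpCov.exists_pullback (hY.representable_from_yon p₀.toHom) p.toHom
  obtain ⟨r⟩ := exists_point_of_rel hpp sq.flip
  have : Mono ((AlgSp.yon S).map r₂) := MorphismProperty.of_isPullback (P := .monomorphisms _) sq hmono
  have : Mono r₂ := (AlgSp.yon S).mono_of_mono_map this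
  have : Mono r₂.left := inferInstance
  have : Nonempty R.left := ⟨r⟩
  have : IsIso r₂.left := isIso_of_mono_field r₂.left
  have : IsIso ((Over.forget S).map r₂) := this
  have : IsIso r₂ := isIso_of_reflects_iso r₂ (Over.forget S)
  let c : p.pt ⟶ p₀.pt := inv r₂ ≫ r₁
  have hc : (AlgSp.yon S).map c ≫ p₀.toHom = p.toHom := by
    simp only [c, Functor.map_comp, Category.assoc, sq.w, Functor.map_inv, IsIso.inv_hom_id_assoc]
  have sqc := IsPullback.of_hasPullback qsnd ((AlgSp.yon S).map c)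
  have hT := sqc.paste_horiz hQ
  rw [hc] at hT
  obtain ⟨hfl, hsur, hqc⟩ := field_hom_props c.left
  have : Flat c.left := hfl
  have : Surjective c.left := hsur
  have : QuasiCompact c.left := hqc
  exact isLocNoethSp_of_flat_descent (isAlgSpace_of_isPullback' hY hX (AlgSp.IsAlgSpace.yon_obj _) hQ)
    c sqc (hNoeth _ _ hT)

end Groth.Agent.AlgSp
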