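import Groth.Agent.AlgSp.GorCore
import Groth.Agent.AlgSp.NoethFib
import Groth.Agent.AlgSpCov.FlatLocus
import Groth.Prelude.Def_AlgSpMor5

/-!
# Gorenstein morphisms of algebraic spaces on charts
-/

universe u

open CategoryTheory CategoryTheory.Limits AlgebraicGeometry IsLocalRing

set_option backward.isDefEq.respectTransparency.types false

namespace Groth.Agent.AlgSp.GorSp

variable {S : Scheme.{u}}

/-- A morphism with locally Noetherian fibres. -/
def NoethFibres {F G : AlgSp.Sp S} (f : F ⟶ G) : Prop :=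
  ∀ (k : AlgSp.FieldPt G) (Xk : AlgSp.Sp S) (a : Xk ⟶ F) (b : Xk ⟶ (AlgSp.yon S).obj k.pt),
    IsPullback a b f k.toHom → AlgSp.IsLocNoethSp Xk

/-- The fibre of a chart is a base change of the map to the fibre product. -/
theorem exists_fibre_square {F G : AlgSp.Sp S} {f : F ⟶ G} {U V : Over S} {a : (AlgSp.yon S).obj U ⟶ F}
    {b : (AlgSp.yon S).obj V ⟶ G} {h : U ⟶ V} (m : (AlgSp.yon S).obj U ⟶ pullback f b) (hm1 : m ≫ pullback.fst f b = a)
    (hm2 : m ≫ pullback.snd f b = (AlgSp.yon S).map h) (v : ↥V.left) {Xv : AlgSp.Sp S} {pF : Xv ⟶ F}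
    {pv : Xv ⟶ (AlgSp.yon S).obj (Over.mk (V.left.fromSpecResidueField v ≫ V.hom))}
    (sq : IsPullback pF pv f ((AlgSp.yon S).map (Over.homMk (V.left.fromSpecResidueField v) rfl :
      Over.mk (V.left.fromSpecResidueField v ≫ V.hom) ⟶ V) ≫ b)) :
    ∃ (l : (AlgSp.yon S).obj (Over.mk (h.left.fiberι v ≫ U.hom)) ⟶ Xv) (k : Xv ⟶ pullback f b),
      IsPullback ((AlgSp.yon S).map (Over.homMk (h.left.fiberι v) rfl : Over.mk (h.left.fiberι v ≫ U.hom) ⟶ U)) l m k ∧
      l ≫ pF = (AlgSp.yon S).map (Over.homMk (h.left.fiberι v) rfl : Over.mk (h.left.fiberι v ≫ U.hom) ⟶ U) ≫ a := by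
  let κ : Over S := Over.mk (V.left.fromSpecResidueField v ≫ V.hom)
  let iv : κ ⟶ V := Over.homMk (V.left.fromSpecResidueField v) rfl
  let Uv : Over S := Over.mk (h.left.fiberι v ≫ U.hom)
  let ι : Uv ⟶ U := Over.homMk (h.left.fiberι v) rfl
  have hw : h.left.fiberι v ≫ h.left = h.left.fiberToSpecResidueField v ≫ V.left.fromSpecResidueField v :=
    pullback.condition
  let q : Uv ⟶ κ := Over.homMk (h.left.fiberToSpecResidueField v) (by
    change h.left.fiberToSpecResidueField v ≫ V.left.fromSpecResidueField v ≫ V.hom = h.left.fiberι v ≫ U.hom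
    rw [← reassoc_of% hw, Over.w h])
  have sqU : IsPullback ι q h iv :=
    IsPullback.of_map (Over.forget S) (Over.OverMorphism.ext hw) (IsPullback.of_hasPullback _ _)
  have sqY : IsPullback ((AlgSp.yon S).map ι) ((AlgSp.yon S).map q) ((AlgSp.yon S).map h) ((AlgSp.yon S).map iv) :=
    sqU.map (AlgSp.yon S)
  have hQ := IsPullback.of_hasPullback f b
  let k := hQ.lift pF (pv ≫ (AlgSp.yon S).map iv) (by rw [Category.assoc]; exact sq.w)
  have sk : IsPullback k pv (pullback.snd f b) ((AlgSp.yon S).map iv) :=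
    IsPullback.of_right (by rw [hQ.lift_fst]; exact sq) (hQ.lift_snd _ _ _) hQ
  obtain ⟨l, hl1, hl2⟩ := sk.exists_lift ((AlgSp.yon S).map ι ≫ m) ((AlgSp.yon S).map q)
    (by rw [Category.assoc, hm2]; exact sqY.w)
  have top : IsPullback ((AlgSp.yon S).map ι) l m k := by
    refine IsPullback.of_bot ?_ hl1.symm sk
    rw [hl2, hm2]
    exact sqY
  refine ⟨l, k, top, ?_⟩
  rw [show pF = k ≫ pullback.fst f b from (hQ.lift_fst _ _ _).symm, ← Category.assoc, hl1, Category.assoc, hm1]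

/-- The fibre of a chart diagram is etale over the fibre of the spaces. -/
theorem exists_fibre_chart {F G : AlgSp.Sp S} {f : F ⟶ G} {U V : Over S} {a : (AlgSp.yon S).obj U ⟶ F}
    {b : (AlgSp.yon S).obj V ⟶ G} {h : U ⟶ V} (ha : AlgSp.RepWith @Etale a) (hb : AlgSp.RepWith @Etale b)
    (w : a ≫ f = (AlgSp.yon S).map h ≫ b) (v : ↥V.left) {Xv : AlgSp.Sp S} {pF : Xv ⟶ F}
    {pv : Xv ⟶ (AlgSp.yon S).obj (Over.mk (V.left.fromSpecResidueField v ≫ V.hom))}
    (sq : IsPullback pF pv f ((AlgSp.yon S).map (Over.homMk (V.left.fromSpecResidueField v) rfl :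
      Over.mk (V.left.fromSpecResidueField v ≫ V.hom) ⟶ V) ≫ b)) :
    ∃ (m : (AlgSp.yon S).obj (Over.mk (h.left.fiberι v ≫ U.hom)) ⟶ Xv), AlgSp.RepWith @Etale m ∧
      m ≫ pF = (AlgSp.yon S).map (Over.homMk (h.left.fiberι v) rfl : Over.mk (h.left.fiberι v ≫ U.hom) ⟶ U) ≫ a := by
  obtain ⟨m, hm, hm1, hm2⟩ := AlgSpCov.etale_toPullback ha hb w (IsPullback.of_hasPullback f b)
  obtain ⟨l, k, top, hl⟩ := exists_fibre_square m hm1 hm2 v sq
  exact ⟨l, MorphismProperty.of_isPullback top hm, hl⟩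

/-- Fibre local rings on charts of a morphism with Noetherian fibres are Noetherian. -/
theorem isNoetherian_fibre {F G : AlgSp.Sp S} (hG : AlgSp.Representable (Limits.diag G)) {f : F ⟶ G}
    (hf : NoethFibres f) {U V : Over S} {a : (AlgSp.yon S).obj U ⟶ F}
    {b : (AlgSp.yon S).obj V ⟶ G} {h : U ⟶ V} (ha : AlgSp.RepWith @Etale a) (hb : AlgSp.RepWith @Etale b)
    (w : a ≫ f = (AlgSp.yon S).map h ≫ b) (u : ↥U.left) :
    IsNoetherianRing (U.left.presheaf.stalk u ⧸ GorCore.fibIdeal h.left u) := by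
  let v := h.left u
  let k : AlgSp.FieldPt G := AlgSp.FieldPt.ofPt b v
  have sq := IsPullback.of_hasPullback f k.toHom
  have hN := hf k _ _ _ sq
  obtain ⟨m, hm, -⟩ := exists_fibre_chart ha hb w v (pF := pullback.fst f k.toHom) (pv := pullback.snd f k.toHom)
    (by erw [← AlgSp.FieldPt.toHom_ofPt]; exact sq)
  have : IsLocallyNoetherian (h.left.fiber v) := isLocallyNoetherian_of_etale_chart m hm hN
  obtain ⟨e⟩ := Groth.Agent.FlatMor.FibreStalk.exists_fibre_stalk_equiv h.left u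
  exact isNoetherianRing_of_ringEquiv _ e.symm

/-- Gorensteinness at a point does not depend on the chart diagram. -/
theorem agree {F G : AlgSp.Sp S} (hF : AlgSp.IsAlgSpace F) (hG : AlgSp.IsAlgSpace G) {f : F ⟶ G}
    (hf : NoethFibres f) {U V U' V' : Over S}
    {a : (AlgSp.yon S).obj U ⟶ F} {b : (AlgSp.yon S).obj V ⟶ G} {h : U ⟶ V}
    {a' : (AlgSp.yon S).obj U' ⟶ F} {b' : (AlgSp.yon S).obj V' ⟶ G} {h' : U' ⟶ V'}
    (ha : AlgSp.RepWith @Etale a) (hb : AlgSp.RepWith @Etale b) (ha' : AlgSp.RepWith @Etale a')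
    (hb' : AlgSp.RepWith @Etale b') (w : a ≫ f = (AlgSp.yon S).map h ≫ b)
    (w' : a' ≫ f = (AlgSp.yon S).map h' ≫ b') (u : ↥U.left) (u' : ↥U'.left)
    (hu : AlgSp.Points.ofPt a u = AlgSp.Points.ofPt a' u') :
    Dual3.IsGorensteinAt h.left u ↔ Dual3.IsGorensteinAt h'.left u' := by
  obtain ⟨P, p, p', sP⟩ := AlgSpCov.exists_pullback (hF.representable_from_yon a) a'
  obtain ⟨W, q, q', sW⟩ := AlgSpCov.exists_pullback (hG.representable_from_yon b) b'
  obtain ⟨k, hk⟩ := (AlgSp.yon S).map_surjective (sW.lift ((AlgSp.yon S).map (p ≫ h)) ((AlgSp.yon S).map (p' ≫ h'))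
    (by rw [Functor.map_comp, Functor.map_comp, Category.assoc, Category.assoc, ← w, ← w', reassoc_of% sP.w]))
  have hk1 : k ≫ q = p ≫ h := (AlgSp.yon S).map_injective (by rw [Functor.map_comp, hk, sW.lift_fst])
  have hk2 : k ≫ q' = p' ≫ h' := (AlgSp.yon S).map_injective (by rw [Functor.map_comp, hk, sW.lift_snd])
  obtain ⟨t, rfl, rfl⟩ := AlgSpCov.FlatLocus.exists_point_of_charts sP hu
  have : Etale p.left := ha'.2 _ _ p sP.flip
  have : Etale p'.left := ha.2 _ _ p' sP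
  have : Etale q.left := hb'.2 _ _ q sW.flip
  have : Etale q'.left := hb.2 _ _ q' sW
  have hP : AlgSp.RepWith @Etale ((AlgSp.yon S).map p ≫ a) :=
    MorphismProperty.comp_mem _ _ _ ((AlgSp.repWith_yon_map_iff _ _).2 ‹Etale p.left›) ha
  have hP' : AlgSp.RepWith @Etale ((AlgSp.yon S).map p' ≫ a') :=
    MorphismProperty.comp_mem _ _ _ ((AlgSp.repWith_yon_map_iff _ _).2 ‹Etale p'.left›) ha'
  have n1 := isNoetherian_fibre hG.diag hf ha hb w (p.left t)
  have n2 := isNoetherian_fibre hG.diag hf ha' hb' w' (p'.left t)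
  have n3 := isNoetherian_fibre hG.diag hf hP hb (h := p ≫ h)
    (by rw [Category.assoc, w, Functor.map_comp, Category.assoc]) t
  have n4 := isNoetherian_fibre hG.diag hf hP' hb' (h := p' ≫ h')
    (by rw [Category.assoc, w', Functor.map_comp, Category.assoc]) t
  rw [← GorCore.isGorensteinAt_precomp p.left h.left t n1 n3,
    ← GorCore.isGorensteinAt_precomp p'.left h'.left t n2 n4, ← Over.comp_left, ← Over.comp_left, ← hk1, ← hk2,
    Over.comp_left, Over.comp_left, GorCore.isGorensteinAt_postcomp, GorCore.isGorensteinAt_postcomp]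

/-- Gorensteinness at a point is tested on one chart diagram. -/
theorem locPAt_iff {F G : AlgSp.Sp S} (hF : AlgSp.IsAlgSpace F) (hG : AlgSp.IsAlgSpace G) {f : F ⟶ G}
    (hf : NoethFibres f) {U V : Over S} {a : (AlgSp.yon S).obj U ⟶ F} {b : (AlgSp.yon S).obj V ⟶ G} {h : U ⟶ V}
    (ha : AlgSp.RepWith @Etale a) (hb : AlgSp.RepWith @Etale b) (w : a ≫ f = (AlgSp.yon S).map h ≫ b)
    (u : ↥U.left) :
    AlgSp.LocPAt (fun h u => Dual3.IsGorensteinAt h u) f (AlgSp.Points.ofPt a u) ↔ Dual3.IsGorensteinAt h.left u :=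
  ⟨fun H => H a b h u ha hb w rfl,
    fun H _ _ a' b' h' u' ha' hb' w' hu' => (agree hF hG hf ha hb ha' hb' w w' u u' hu'.symm).1 H⟩

/-- Through every point there is a chart diagram over a given chart through its image. -/
theorem exists_chart {F G : AlgSp.Sp S} (hF : AlgSp.IsAlgSpace F) (hG : AlgSp.IsAlgSpace G) (f : F ⟶ G)
    {V : Over S} (b : (AlgSp.yon S).obj V ⟶ G) (hb : AlgSp.RepWith @Etale b) (x : AlgSp.Points F) (v : ↥V.left)
    (hv : AlgSp.Points.ofPt b v = AlgSp.Points.map f x) :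
    ∃ (U : Over S) (a : (AlgSp.yon S).obj U ⟶ F) (h : U ⟶ V) (u : ↥U.left), AlgSp.RepWith @Etale a ∧
      a ≫ f = (AlgSp.yon S).map h ≫ b ∧ AlgSp.Points.ofPt a u = x ∧ h.left u = v := by
  have sq := IsPullback.of_hasPullback f b
  obtain ⟨U, m, hm, hms⟩ := (isAlgSpace_pullback hG hF (AlgSp.IsAlgSpace.yon_obj V) f b).atlas
  obtain ⟨h, hh⟩ := (AlgSp.yon S).map_surjective (m ≫ pullback.snd f b)
  have ha : AlgSp.RepWith @Etale (m ≫ pullback.fst f b) :=
    MorphismProperty.comp_mem _ _ _ hm (MorphismProperty.pullback_fst _ _ hb)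
  rw [AlgSp.Points.ofPt_eq_map_ofScheme] at hv
  obtain ⟨z, hz₁, hz₂⟩ := Groth.Agent.AlgSpB.exists_of_isPullback sq x (AlgSp.Points.ofScheme V v) hv.symm
  obtain ⟨u, rfl⟩ := AlgSpB.surjective_ofPt hms z
  refine ⟨U, m ≫ pullback.fst f b, h, u, ha, by rw [Category.assoc, sq.w, hh, Category.assoc], ?_, ?_⟩
  · rw [← hz₁, ← AlgSp.Points.map_ofPt]
  · apply (AlgSp.Points.schemeHomeo V).injective
    change AlgSp.Points.ofScheme V (h.left u) = AlgSp.Points.ofScheme V v
    rw [← hz₂]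
    erw [AlgSp.Points.map_ofPt]
    rw [← hh]
    simpa using (Groth.Agent.AlgSpB.ofPt_map_comp h (𝟙 _) u).symm

end Groth.Agent.AlgSp.GorSp
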