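import Groth.Agent.AlgSp.InfGlue
import Groth.Agent.AlgSp.Basic
import Mathlib.AlgebraicGeometry.Limits

/-!
# Free group actions give etale equivalence relations
-/

universe u

open CategoryTheory CategoryTheory.Limits AlgebraicGeometry Opposite

set_option backward.isDefEq.respectTransparency.types false

namespace Groth.Agent.AlgSp

variable {S : Scheme.{u}}

/-- A colimit cofan in schemes over `S` is a disjoint open covering. -/
theorem cofan_over_props {ι : Type u} {X : ι → Over S} {c : Cofan X} (hc : IsColimit c) :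
    (∀ i, IsOpenImmersion (c.inj i).left) ∧ (∀ x : c.pt.left, ∃ i, x ∈ Set.range (c.inj i).left) ∧
      ∀ i j x, x ∈ Set.range (c.inj i).left → x ∈ Set.range (c.inj j).left → i = j := by
  let Y : ι → Scheme.{u} := fun i => (X i).left
  let W : Over S := Over.mk (Sigma.desc fun i => (X i).hom : (∐ Y) ⟶ S)
  let d : Cofan X := Cofan.mk W fun i => Over.homMk (Sigma.ι Y i) (Sigma.ι_desc _ _)
  have hd : IsColimit d := Cofan.IsColimit.mk _
    (fun s => Over.homMk (Sigma.desc fun i => (s.inj i).left) (by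
      apply Sigma.hom_ext
      intro i
      change Sigma.ι Y i ≫ Sigma.desc _ ≫ s.pt.hom = Sigma.ι Y i ≫ Sigma.desc _
      rw [Sigma.ι_desc_assoc, Sigma.ι_desc]
      exact Over.w _))
    (fun s i => Over.OverMorphism.ext (Sigma.ι_desc _ _))
    (fun s m h => Over.OverMorphism.ext (Sigma.hom_ext _ _ fun i =>
      (congrArg (fun k : X i ⟶ s.pt => k.left) (h i)).trans (Sigma.ι_desc (f := Y) (fun i => (s.inj i).left) i).symm))
  let e := hd.coconePointUniqueUpToIso hc
  have he : ∀ i, (c.inj i).left = Sigma.ι Y i ≫ e.hom.left := fun i =>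
    (congrArg (fun k : X i ⟶ c.pt => k.left) (IsColimit.comp_coconePointUniqueUpToIso_hom hd hc ⟨i⟩)).symm
  have hei : IsIso e.hom.left := inferInstanceAs (IsIso ((Over.forget S).map e.hom))
  refine ⟨fun i => ?_, fun x => ?_, fun i j x hi hj => ?_⟩
  · rw [he]
    have : IsOpenImmersion (Sigma.ι Y i) := (sigmaOpenCover Y).map_prop i
    infer_instance
  · obtain ⟨y, rfl⟩ := e.hom.left.homeomorph.surjective x
    obtain ⟨z, hz⟩ := (sigmaOpenCover Y).covers y
    exact ⟨_, z, by rw [he, Scheme.Hom.comp_apply]; exact congrArg _ hz⟩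
  · obtain ⟨a, ha⟩ := hi
    obtain ⟨b, hb⟩ := hj
    rw [he, Scheme.Hom.comp_apply] at ha hb
    by_contra hne
    obtain ⟨z, -, -⟩ := Scheme.Pullback.exists_preimage_pullback (f := Sigma.ι Y i) (g := Sigma.ι Y j) a b
      (e.hom.left.homeomorph.injective (ha.trans hb.symm))
    exact (isEmpty_pullback_sigmaι_of_ne Y hne).elim z

variable {U : Over S} {G : Type u} [Group G] (ρ : G →* Aut U) {c : Cofan (fun _ : G => U)} {s t : c.pt ⟶ U}

/-- The preimage of the `g`-th copy of `U`. -/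
theorem exists_piece_eq (hc : IsColimit c) (hs : ∀ g, c.inj g ≫ s = 𝟙 U) (ht : ∀ g, c.inj g ≫ t = (ρ g).hom)
    {T : Over S} (r : T ⟶ c.pt) (w : T.left) :
    ∃ (g : G) (W : Over S) (q : W ⟶ T), IsOpenImmersion q.left ∧ w ∈ Set.range q.left ∧
      q ≫ r ≫ t = q ≫ r ≫ s ≫ (ρ g).hom ∧ q ≫ r = q ≫ r ≫ s ≫ c.inj g := by
  obtain ⟨ho, hcov, -⟩ := cofan_over_props hc
  obtain ⟨g, hg⟩ := hcov (r.left w)
  let O : T.left.Opens := r.left ⁻¹ᵁ (have := ho g; (c.inj g).left.opensRange)
  let W : Over S := Over.mk (O.ι ≫ T.hom)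
  let q : W ⟶ T := Over.homMk O.ι rfl
  have := ho g
  let l : W ⟶ U := Over.homMk (IsOpenImmersion.lift (c.inj g).left (O.ι ≫ r.left)
    (by rintro _ ⟨z, rfl⟩; exact z.2)) (by
      change _ ≫ U.hom = O.ι ≫ T.hom
      rw [← Over.w (c.inj g), IsOpenImmersion.lift_fac_assoc, Category.assoc, Over.w r])
  have hl : q ≫ r = l ≫ c.inj g := Over.OverMorphism.ext (IsOpenImmersion.lift_fac _ _ _).symm
  refine ⟨g, W, q, inferInstanceAs (IsOpenImmersion O.ι), ⟨⟨w, hg⟩, rfl⟩, ?_, ?_⟩
  · rw [reassoc_of% hl, ht, reassoc_of% hl, reassoc_of% (hs g)]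
  · rw [reassoc_of% hl, reassoc_of% (hs g), hl]

/-- A free action: agreeing translates agree only for the same group element. -/
theorem eq_of_free (hfree : ∀ (g : G) (x : U.left), g ≠ 1 →
      U.left.fromSpecResidueField x ≫ (ρ g).hom.left ≠ U.left.fromSpecResidueField x)
    {T : Over S} [Nonempty T.left] (b : T ⟶ U) {g h : G} (e : b ≫ (ρ g).hom = b ≫ (ρ h).hom) : g = h := by
  obtain ⟨w⟩ := ‹Nonempty T.left›
  have e1 : b ≫ (ρ (h⁻¹ * g)).hom = b := by
    rw [map_mul]
    change b ≫ (ρ g).hom ≫ (ρ h⁻¹).hom = b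
    rw [reassoc_of% e]
    change b ≫ (ρ h⁻¹ * ρ h).hom = b
    rw [← map_mul, inv_mul_cancel, map_one]
    exact Category.comp_id b
  by_contra hne
  refine hfree (h⁻¹ * g) (b.left w) (fun e' => hne (inv_mul_eq_one.1 e').symm) ?_
  have h1 : T.left.fromSpecResidueField w ≫ b.left ≫ (ρ (h⁻¹ * g)).hom.left =
      T.left.fromSpecResidueField w ≫ b.left := by
    rw [← Over.comp_left, e1]
  rw [← Scheme.Hom.SpecMap_residueFieldMap_fromSpecResidueField_assoc b.left,
    ← Scheme.Hom.SpecMap_residueFieldMap_fromSpecResidueField b.left] at h1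
  have : Flat (Spec.map (b.left.residueFieldMap w)) := by
    rw [HasRingHomProperty.Spec_iff (P := @Flat)]
    let _ := (b.left.residueFieldMap w).hom.toAlgebra
    exact RingHom.flat_algebraMap_iff.2 inferInstance
  have : Surjective (Spec.map (b.left.residueFieldMap w)) := ⟨fun x =>
    ⟨default, Subsingleton.elim _ _⟩⟩
  have : Epi (Spec.map (b.left.residueFieldMap w)) := Flat.epi_of_flat_of_surjective _
  exact (cancel_epi _).1 h1

theorem isEtaleEqvRel_of_free (hfree : ∀ (g : G) (x : U.left), g ≠ 1 →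
      U.left.fromSpecResidueField x ≫ (ρ g).hom.left ≠ U.left.fromSpecResidueField x)
    (hc : IsColimit c) (hs : ∀ g, c.inj g ≫ s = 𝟙 U) (ht : ∀ g, c.inj g ≫ t = (ρ g).hom) :
    AlgSp.IsEtaleEqvRel s t := by
  obtain ⟨ho, hcov, -⟩ := cofan_over_props hc
  have hinj : ∀ (T : Over S) (r r' : T ⟶ c.pt), r ≫ t = r' ≫ t → r ≫ s = r' ≫ s → r = r' := by
    intro T r r' h1 h2
    apply (AlgSp.yon S).map_injective
    choose g W q hq hw hqt hqr using exists_piece_eq ρ hc hs ht r
    refine InfGlue.hom_ext_cover (T := T) (U := W) q (fun w => have := hq w; inferInstance)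
      (fun w => ⟨w, hw w⟩) _ _ fun w => ?_
    choose g' W' q' hq' hw' hqt' hqr' using exists_piece_eq ρ hc hs ht (q w ≫ r')
    refine InfGlue.hom_ext_cover (T := W w) (U := W') q' (fun v => have := hq' v; inferInstance)
      (fun v => ⟨v, hw' v⟩) _ _ fun v => ?_
    have : Nonempty (W' v).left := let ⟨a, _⟩ := hw' v; ⟨a⟩
    have hgg : g w = g' v := eq_of_free ρ hfree (q' v ≫ q w ≫ r ≫ s) (by
      have h3 := hqt' v
      simp only [Category.assoc] at h3 ⊢
      rw [← hqt w, h1, h3, reassoc_of% h2])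
    rw [← Functor.map_comp, ← Functor.map_comp, ← Functor.map_comp, ← Functor.map_comp]
    congr 1
    have := hqr' v
    simp only [Category.assoc] at this
    rw [this, hqr w, hgg, ← reassoc_of% h2]
  have hmk : ∀ (T : Over S) (a b : T ⟶ U), (∀ w : T.left, ∃ (g : G) (W : Over S) (q : W ⟶ T),
      IsOpenImmersion q.left ∧ w ∈ Set.range q.left ∧ q ≫ a = q ≫ b ≫ (ρ g).hom) →
      ∃ r : T ⟶ c.pt, r ≫ t = a ∧ r ≫ s = b := by
    intro T a b h
    choose g W q hq hw hab using h
    obtain ⟨r, hr⟩ := InfGlue.exists_glue (T := T) (U := W) q (fun w => have := hq w; inferInstance)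
      (fun w => ⟨w, hw w⟩) (fun w => (AlgSp.yon S).map (q w ≫ b ≫ c.inj (g w))) fun i j Z x y hxy => by
        rw [← Functor.map_comp, ← Functor.map_comp]
        congr 1
        refine hinj Z _ _ ?_ ?_
        · simp only [Category.assoc, ht]
          rw [← hab, ← hab, reassoc_of% hxy]
        · simp only [Category.assoc, hs, Category.comp_id]
          rw [reassoc_of% hxy]
    obtain ⟨r, rfl⟩ := (AlgSp.yon S).map_surjective r
    have hr : ∀ w, q w ≫ r = q w ≫ b ≫ c.inj (g w) := fun w => (AlgSp.yon S).map_injective (by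
      rw [Functor.map_comp, hr])
    refine ⟨r, ?_, ?_⟩
    · apply (AlgSp.yon S).map_injective
      refine InfGlue.hom_ext_cover (T := T) (U := W) q (fun w => have := hq w; inferInstance)
        (fun w => ⟨w, hw w⟩) _ _ fun w => ?_
      rw [← Functor.map_comp, ← Functor.map_comp, reassoc_of% (hr w), ht, hab w]
    · apply (AlgSp.yon S).map_injective
      refine InfGlue.hom_ext_cover (T := T) (U := W) q (fun w => have := hq w; inferInstance)
        (fun w => ⟨w, hw w⟩) _ _ fun w => ?_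
      rw [← Functor.map_comp, ← Functor.map_comp, reassoc_of% (hr w), hs, Category.comp_id]
  have hsl : ∀ w, ∃ g, w ∈ Set.range (c.inj g).left := hcov
  have het : ∀ f : c.pt ⟶ U, (∀ g, Etale (c.inj g ≫ f).left) → Etale f.left := fun f hf => by
    refine IsZariskiLocalAtSource.of_openCover (P := @Etale) (Scheme.Cover.mkOfCovers G (fun _ => U.left)
      (fun g => (c.inj g).left) hcov ho) fun g => hf g
  refine ⟨⟨hinj, fun T => ⟨fun a => ?_, fun {a b} ⟨r, hr1, hr2⟩ => ?_, fun {a b d} ⟨r, hr1, hr2⟩ ⟨r', hr1', hr2'⟩ => ?_⟩⟩,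
    het s fun g => by rw [hs]; exact inferInstanceAs (Etale (𝟙 U.left)),
    het t fun g => by rw [ht]; exact inferInstanceAs (Etale (ρ g).hom.left)⟩
  · exact hmk T a a fun w => ⟨1, T, 𝟙 T, inferInstanceAs (IsOpenImmersion (𝟙 T.left)), ⟨w, rfl⟩, by
      rw [map_one]; exact congrArg (𝟙 T ≫ ·) (Category.comp_id a).symm⟩
  · refine hmk T b a fun w => ?_
    obtain ⟨g, W, q, h1, h2, h3, -⟩ := exists_piece_eq ρ hc hs ht r w
    refine ⟨g⁻¹, W, q, h1, h2, ?_⟩
    rw [hr1, reassoc_of% hr2] at h3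
    rw [reassoc_of% h3]
    change q ≫ b = q ≫ b ≫ (ρ g⁻¹ * ρ g).hom
    rw [← map_mul, inv_mul_cancel, map_one]
    exact congrArg (q ≫ ·) (Category.comp_id b).symm
  · refine hmk T a d fun w => ?_
    obtain ⟨g, W, q, h1, h2, h3, -⟩ := exists_piece_eq ρ hc hs ht r w
    obtain ⟨v, hv⟩ := h2
    obtain ⟨g', W', q', h1', h2', h3', -⟩ := exists_piece_eq ρ hc hs ht (q ≫ r') v
    obtain ⟨v', hv'⟩ := h2'
    refine ⟨g * g', W', q' ≫ q, inferInstanceAs (IsOpenImmersion (q'.left ≫ q.left)),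
      ⟨v', by rw [Over.comp_left, Scheme.Hom.comp_apply, hv', hv]⟩, ?_⟩
    simp only [Category.assoc] at h3'
    rw [hr1', reassoc_of% hr2'] at h3'
    rw [hr1, reassoc_of% hr2] at h3
    rw [Category.assoc, h3, reassoc_of% h3', map_mul]
    simp only [Category.assoc]
    rfl

omit [Group G] in
/-- A morphism is universally closed if it is so on each member of a finite covering family. -/
theorem universallyClosed_of_finite_family {X Y : Scheme.{u}} (f : X ⟶ Y) {κ : Type u} [Finite κ]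
    {Xi : κ → Scheme.{u}} (e : ∀ i, Xi i ⟶ X) (hcov : ∀ x : X, ∃ i, x ∈ Set.range (e i))
    (h : ∀ i, UniversallyClosed (e i ≫ f)) : UniversallyClosed f := by
  refine ⟨fun P T fst g snd sq => ?_⟩
  intro Z hZ
  have hsq : ∀ i, IsPullback (pullback.snd fst (e i)) (pullback.fst fst (e i)) (e i) fst := fun i =>
    (IsPullback.of_hasPullback fst (e i)).flip
  have hi : ∀ i, IsClosed ((pullback.fst fst (e i) ≫ snd) '' ((pullback.fst fst (e i)) ⁻¹' Z)) := fun i => by
    have := h i
    have hc : IsClosedMap (pullback.fst fst (e i) ≫ snd) :=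
      (h i).universally_isClosedMap _ _ _ ((hsq i).flip.paste_horiz sq)
    exact hc _ (hZ.preimage (pullback.fst fst (e i)).continuous)
  convert isClosed_iUnion_of_finite hi
  ext y
  simp only [Set.mem_iUnion, Set.mem_image, Set.mem_preimage]
  constructor
  · rintro ⟨z, hz, rfl⟩
    obtain ⟨i, a, ha⟩ := hcov (fst z)
    obtain ⟨w, hw, -⟩ := Scheme.Pullback.exists_preimage_pullback (f := fst) (g := e i) z a ha.symm
    exact ⟨i, w, hw.symm ▸ hz, by rw [Scheme.Hom.comp_apply, hw]⟩
  · rintro ⟨i, w, hw, rfl⟩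
    exact ⟨_, hw, rfl⟩

end Groth.Agent.AlgSp
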