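import Groth.Prelude.Def_AlgSpDec
import Groth.Agent.AlgSpCov.Listed
import Groth.Agent.AlgSpB.Open
import Groth.Agent.AlgSp.Space

/-!
# Properties at a point of a morphism in the neighbourhood sense
-/

universe u

open CategoryTheory CategoryTheory.Limits AlgebraicGeometry

set_option backward.isDefEq.respectTransparency.types false

namespace Groth.Agent.AlgSp.HasAtMor

open _root_.AlgSp

variable {S : Scheme.{u}}

/-- The listed properties are Zariski local on the source. -/
theorem of_local_source {P : MorphismProperty Scheme.{u}}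
    (hP : P = @LocallyOfFiniteType ∨ P = @LocallyOfFinitePresentation ∨ P = @Flat ∨ P = @Smooth ∨ P = @Etale ∨
      (∀ ⦃A B : Scheme.{u}⦄ (g : A ⟶ B), P g ↔ (LocallyQuasiFinite g ∧ LocallyOfFiniteType g)) ∨
      (∀ ⦃A B : Scheme.{u}⦄ (g : A ⟶ B), P g ↔ (LocallyOfFiniteType g ∧ FormallyUnramified g)))
    {A B : Scheme.{u}} (g : A ⟶ B) {ι : Type u} (O : ι → A.Opens) (hO : iSup O = ⊤) (h : ∀ i, P ((O i).ι ≫ g)) :
    P g := by
  rcases hP with rfl | rfl | rfl | rfl | rfl | hP | hP
  · exact IsZariskiLocalAtSource.of_iSup_eq_top (P := @LocallyOfFiniteType) O hO h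
  · exact IsZariskiLocalAtSource.of_iSup_eq_top (P := @LocallyOfFinitePresentation) O hO h
  · exact IsZariskiLocalAtSource.of_iSup_eq_top (P := @Flat) O hO h
  · exact IsZariskiLocalAtSource.of_iSup_eq_top (P := @Smooth) O hO h
  · exact IsZariskiLocalAtSource.of_iSup_eq_top (P := @Etale) O hO h
  · exact (hP g).2 ⟨IsZariskiLocalAtSource.of_iSup_eq_top (P := @LocallyQuasiFinite) O hO fun i => ((hP _).1 (h i)).1,
      IsZariskiLocalAtSource.of_iSup_eq_top (P := @LocallyOfFiniteType) O hO fun i => ((hP _).1 (h i)).2⟩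
  · exact (hP g).2 ⟨IsZariskiLocalAtSource.of_iSup_eq_top (P := @LocallyOfFiniteType) O hO fun i => ((hP _).1 (h i)).1,
      IsZariskiLocalAtSource.of_iSup_eq_top (P := @FormallyUnramified) O hO fun i => ((hP _).1 (h i)).2⟩

variable {P : MorphismProperty Scheme.{u}} {X Y : Space S} {f : X ⟶ Y}

/-- A property at a point in the neighbourhood sense holds on an open subspace through the point. -/
theorem exists_open_subspace (hP : Groth.Agent.AlgSpCov.Standard P) {x : Points X.obj}
    (h : AlgSp.HasAtMor (fun U _ h u => ∃ W : U.Opens, u ∈ W ∧ P (W.ι ≫ h)) f.hom x) :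
    ∃ (X' : Space S) (j : X' ⟶ X), RepWith @IsOpenImmersion j.hom ∧ x ∈ Set.range (Points.map j.hom) ∧
      LocP P (j ≫ f).hom := by
  obtain ⟨U, V, a, b, h, u, ha, hb, w, rfl, W, hu, hW⟩ := h
  let UW : Over S := Over.mk (W.ι ≫ U.hom)
  let ι : UW ⟶ U := Over.homMk W.ι rfl
  have : Etale ι.left := inferInstanceAs (Etale W.ι)
  have ha' : RepWith @Etale ((yon S).map ι ≫ a) := Groth.Agent.AlgSpB.repWith_etale_map_comp ι ha
  obtain ⟨X', j, hj, hrange⟩ :=
    Groth.Agent.AlgSpB.exists_openSubspace X (W := Set.range (Points.ofPt ((yon S).map ι ≫ a)))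
      (Groth.Agent.AlgSpB.isOpenMap_ofPt ha').isOpen_range
  obtain ⟨a', hfac, hae, has⟩ := Groth.Agent.AlgSpB.exists_chart_into_subspace ha' hj hrange
  have := hP.bc
  have := hP.comp
  refine ⟨X', j, hj, hrange ▸ ⟨⟨u, hu⟩, (Groth.Agent.AlgSpB.ofPt_map_comp ι a _).trans rfl⟩,
    Groth.Agent.AlgSpCov.locP_of_one_chart hP.etaleLocal hP.of_etale Y.property hae has hb (h := ι ≫ h) ?_ hW⟩
  rw [show (j ≫ f).hom = j.hom ≫ f.hom from rfl, ← Category.assoc, hfac, Category.assoc, w,
    Functor.map_comp, Category.assoc]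

/-- A property on an open subspace holds at each of its points in the neighbourhood sense. -/
theorem of_open_subspace (hP : Groth.Agent.AlgSpCov.Standard P) {X' : Space S} {j : X' ⟶ X}
    (hj : RepWith @IsOpenImmersion j.hom) (h : LocP P (j ≫ f).hom) {x : Points X.obj}
    (hx : x ∈ Set.range (Points.map j.hom)) :
    AlgSp.HasAtMor (fun U _ h u => ∃ W : U.Opens, u ∈ W ∧ P (W.ι ≫ h)) f.hom x := by
  obtain ⟨V, b, hb, hbs⟩ := Y.property.atlas
  obtain ⟨U, a, m, ha, has, w⟩ := Groth.Agent.AlgSp.exists_chart_lift X'.property Y.property (j ≫ f).hom b hb hbs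
  obtain ⟨x', rfl⟩ := hx
  obtain ⟨u, rfl⟩ := Groth.Agent.AlgSpB.surjective_ofPt has x'
  have hjE : RepWith @Etale j.hom :=
    Groth.Agent.AlgSp.repWith_mono (P := @IsOpenImmersion)
      (fun g hg => have : IsOpenImmersion g := hg; (inferInstance : Etale g)) hj
  refine ⟨U, V, a ≫ j.hom, b, m, u, MorphismProperty.comp_mem (RepWith @Etale) _ _ ha hjE, hb, ?_, ?_, ⊤, trivial,
    hP.etaleLocal.precomp _ _ inferInstance (h a b m ha hb w)⟩
  · rw [Category.assoc]; exact w
  · rw [Points.map_ofPt]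

/-- The converse of the pointwise criterion. -/
theorem locP_of_forall (hP : Groth.Agent.AlgSpCov.Standard P)
    (hloc : ∀ {A B : Scheme.{u}} (g : A ⟶ B) {ι : Type u} (O : ι → A.Opens), iSup O = ⊤ →
      (∀ i, P ((O i).ι ≫ g)) → P g)
    (h : ∀ x : Points X.obj, AlgSp.HasAtMor (fun U _ h u => ∃ W : U.Opens, u ∈ W ∧ P (W.ι ≫ h)) f.hom x) :
    LocP P f.hom := by
  intro U V a b g ha hb w
  have key : ∀ u : U.left, ∃ O : U.left.Opens, u ∈ O ∧ P (O.ι ≫ g.left) := by
    intro u
    obtain ⟨X', j, hj, hx, hPj⟩ := exists_open_subspace hP (h (Points.ofPt a u))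
    let O : U.left.Opens := ⟨Points.ofPt a ⁻¹' Set.range (Points.map j.hom),
      (Groth.Agent.AlgSpB.isOpen_range_of_isOpenImmersion hj).preimage (Points.continuous_ofPt a)⟩
    let UO : Over S := Over.mk (O.ι ≫ U.hom)
    let ι : UO ⟶ U := Over.homMk O.ι rfl
    have : Etale ι.left := inferInstanceAs (Etale O.ι)
    have ha' : RepWith @Etale ((yon S).map ι ≫ a) := Groth.Agent.AlgSpB.repWith_etale_map_comp ι ha
    obtain ⟨l, hl⟩ := Groth.Agent.AlgSpB.exists_lift_yon_of_isOpenImmersion hj ((yon S).map ι ≫ a) (by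
      rintro _ ⟨v, rfl⟩
      rw [Groth.Agent.AlgSpB.ofPt_map_comp]
      exact v.2)
    have := Groth.Agent.AlgSpB.mono_of_isOpenImmersion hj
    have hle : RepWith @Etale l := by
      rw [← hl] at ha'
      refine ⟨X'.property.representable_from_yon l, fun T W g' fst snd sq => ha'.2 (g' ≫ j.hom) fst snd ?_⟩
      refine IsPullback.of_isLimit (h := PullbackCone.IsLimit.mk (by rw [reassoc_of% sq.w])
        (fun s => sq.lift s.fst s.snd ((cancel_mono j.hom).1 (by simpa using s.condition)))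
        (fun s => sq.lift_fst _ _ _) (fun s => sq.lift_snd _ _ _) (fun s m h1 h2 => ?_))
      exact sq.hom_ext (by rw [h1, sq.lift_fst]) (by rw [h2, sq.lift_snd])
    refine ⟨O, hx, hPj l b (ι ≫ g) hle hb ?_⟩
    rw [show (j ≫ f).hom = j.hom ≫ f.hom from rfl, ← Category.assoc, hl, Category.assoc, w, Functor.map_comp,
      Category.assoc]
  choose O hO hPO using key
  exact hloc g.left O (eq_top_iff.2 fun v _ => TopologicalSpace.Opens.mem_iSup.2 ⟨v, hO v⟩) hPO

end Groth.Agent.AlgSp.HasAtMor
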