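import Groth.Agent.AlgSp.ClosedSub
import Groth.Agent.AlgSp.CartierCut
import Groth.Agent.AlgSp.DenseFlat
import Groth.Prelude.Def_AlgSpModX

/-!
# Quasi-coherent ideals on the small etale site and ideals on charts
-/

universe u

open CategoryTheory CategoryTheory.Limits AlgebraicGeometry Opposite

set_option backward.isDefEq.respectTransparency false
set_option backward.isDefEq.respectTransparency.types false
set_option autoImplicit false

namespace Groth.Agent.AlgSp.IdealEtLib

open _root_.AlgSp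
open Groth.Agent.AlgSp.CartierDesc (subOver subι exists_ideal comap_eq)
open Groth.Agent.IdealSh.Comap (ideal_comap exists_affine_le exists_affine_pair ext_of_forall_exists)

/-- An ideal sheaf is recovered from its inverse image along a flat surjection. -/
theorem map_comap_of_flat_surjective {X Y : Scheme.{u}} (f : X ⟶ Y) [Flat f] [Surjective f]
    (I : Y.IdealSheafData) : (I.comap f).map f = I := by
  let p := pullback.snd f I.subschemeι
  have hp : p.ker = ⊥ := le_bot_iff.1 fun U x hx => by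
    have h1 : p.app U.1 x = 0 := RingHom.mem_ker.1 (Scheme.IdealSheafData.ideal_ofIdeals_le _ U hx)
    exact DenseFlat.app_injective p U.1 (h1.trans (map_zero _).symm)
  change ((pullback.fst f I.subschemeι).ker).map f = I
  rw [Scheme.IdealSheafData.map_ker, pullback.condition, Scheme.Hom.ker_comp, hp,
    Scheme.IdealSheafData.map_bot, Scheme.IdealSheafData.ker_subschemeι]

/-- Inclusion of ideal sheaves may be tested after a flat surjection. -/
theorem le_of_comap_le {X Y : Scheme.{u}} (f : X ⟶ Y) [Flat f] [Surjective f] {I J : Y.IdealSheafData}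
    (h : I.comap f ≤ J.comap f) : I ≤ J := by
  rw [← map_comap_of_flat_surjective f I, ← map_comap_of_flat_surjective f J]
  exact Scheme.IdealSheafData.map_mono f h

variable {S : Scheme.{u}} {X : Sp S}

/-- An open of a chart as a scheme over `S`. -/
abbrev opOver (U : Over S) (W : U.left.Opens) : Over S := Over.mk (W.ι ≫ U.hom)

/-- An open of a chart as an object of the small etale site. -/
abbrev opEt {U : Over S} (φ : (yon S).obj U ⟶ X) (hφ : RepWith @Etale φ) (W : U.left.Opens) : EtOver X :=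
  EtOver.mk ((yon S).map (Over.homMk W.ι rfl : opOver U W ⟶ U) ≫ φ)
    (haveI : Etale (Over.homMk W.ι rfl : opOver U W ⟶ U).left := (inferInstance : Etale W.ι)
     Groth.Agent.AlgSpB.repWith_etale_map_comp _ hφ)

/-- The value of a family of ideals on an affine open of a chart. -/
noncomputable def val (I : IdealEt X) {U : Over S} (φ : (yon S).obj U ⟶ X) (hφ : RepWith @Etale φ)
    (W : U.left.affineOpens) : Ideal Γ(U.left, W.1) :=
  (I.ideal (opEt φ hφ W.1) W.2).map W.1.topIso.hom.hom

/-- The values of a quasi-coherent family on charts extend each other. -/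
theorem val_map {I : IdealEt X} (hI : I.IsQCoh) {U V : Over S} (φ : (yon S).obj U ⟶ X) (hφ : RepWith @Etale φ)
    (ψ : (yon S).obj V ⟶ X) (hψ : RepWith @Etale ψ) (h : V ⟶ U) (w : (yon S).map h ≫ φ = ψ)
    (W : U.left.affineOpens) (W' : V.left.affineOpens) (e : W'.1 ≤ h.left ⁻¹ᵁ W.1) :
    val I ψ hψ W' = (val I φ hφ W).map (h.left.appLE W.1 W'.1 e).hom := by
  let g₀ : opOver V W'.1 ⟶ opOver U W.1 := Over.homMk (h.left.resLE W.1 W'.1 e) (by
    change h.left.resLE W.1 W'.1 e ≫ W.1.ι ≫ U.hom = W'.1.ι ≫ V.hom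
    rw [Scheme.Hom.resLE_comp_ι_assoc, Over.w h])
  have hg₀ : g₀ ≫ Over.homMk W.1.ι rfl = (Over.homMk W'.1.ι rfl : opOver V W'.1 ⟶ V) ≫ h :=
    Over.OverMorphism.ext (Scheme.Hom.resLE_comp_ι _ _)
  let g : opEt ψ hψ W'.1 ⟶ opEt φ hφ W.1 := EtOver.homMk g₀ (by
    change (yon S).map g₀ ≫ (yon S).map (Over.homMk W.1.ι rfl) ≫ φ = (yon S).map (Over.homMk W'.1.ι rfl) ≫ ψ
    rw [← Functor.map_comp_assoc, hg₀, Functor.map_comp, Category.assoc, w])
  have hgI : I.ideal (opEt ψ hψ W'.1) W'.2 = (I.ideal (opEt φ hφ W.1) W.2).map g.hom.left.left.appTop.hom :=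
    le_antisymm (hI g W.2 W'.2) (I.map_le g W.2 W'.2)
  rw [val, val, hgI, Ideal.map_map, Ideal.map_map, ← CommRingCat.hom_comp, ← CommRingCat.hom_comp]
  congr 2
  change (h.left.resLE W.1 W'.1 e).app ⊤ ≫ W'.1.topIso.hom = _
  rw [Scheme.Hom.resLE_app_top, Category.assoc, Category.assoc, Iso.inv_hom_id, Category.comp_id]

/-- The ideal sheaf on a chart of a quasi-coherent family of ideals. -/
noncomputable def chartIdeal (I : IdealEt X) (hI : I.IsQCoh) {U : Over S} (φ : (yon S).obj U ⟶ X)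
    (hφ : RepWith @Etale φ) : U.left.IdealSheafData where
  ideal := val I φ hφ
  map_ideal_basicOpen W f := by
    have e : (U.left.affineBasicOpen f).1 ≤ (𝟙 U : U ⟶ U).left ⁻¹ᵁ W.1 := U.left.basicOpen_le f
    rw [val_map hI φ hφ φ hφ (𝟙 U) (by simp) W (U.left.affineBasicOpen f) e]
    congr 2

/-- The chart ideals commute with maps of charts. -/
theorem comap_chartIdeal {I : IdealEt X} (hI : I.IsQCoh) {U V : Over S} (φ : (yon S).obj U ⟶ X)
    (hφ : RepWith @Etale φ) (ψ : (yon S).obj V ⟶ X) (hψ : RepWith @Etale ψ) (h : V ⟶ U)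
    (w : (yon S).map h ≫ φ = ψ) : (chartIdeal I hI φ hφ).comap h.left = chartIdeal I hI ψ hψ := by
  refine ext_of_forall_exists _ _ fun v => ?_
  obtain ⟨W, W', hv, e⟩ := exists_affine_pair h.left v
  refine ⟨W', hv, ?_⟩
  rw [ideal_comap _ _ W W' e]
  exact (val_map hI φ hφ ψ hψ h w W W' e).symm

/-- On an affine object the chart ideal has the value of the family as global sections. -/
theorem chartIdeal_top {I : IdealEt X} (hI : I.IsQCoh) (E : EtOver X) (hE : IsAffine E.obj.left.left) :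
    (chartIdeal I hI E.obj.hom E.property).ideal ⟨⊤, isAffineOpen_top _⟩ = I.ideal E hE := by
  let E₀ := opEt E.obj.hom E.property (⊤ : E.obj.left.left.Opens)
  let g : E₀ ⟶ E := EtOver.homMk (Over.homMk (⊤ : E.obj.left.left.Opens).ι rfl : opOver E.obj.left ⊤ ⟶ E.obj.left) rfl
  have h1 : I.ideal E₀ (isAffineOpen_top E.obj.left.left) = (I.ideal E hE).map g.hom.left.left.appTop.hom :=
    le_antisymm (hI g hE _) (I.map_le g hE _)
  change (I.ideal E₀ _).map _ = _
  rw [h1, Ideal.map_map, ← CommRingCat.hom_comp]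
  convert Ideal.map_id _ using 2
  rw [← CommRingCat.hom_id]
  congr 1
  change (⊤ : E.obj.left.left.Opens).ι.appTop ≫ (⊤ : E.obj.left.left.Opens).topIso.hom = 𝟙 _
  rw [Scheme.Opens.topIso_hom, Scheme.Hom.appTop, Scheme.Opens.ι_app, ← Functor.map_comp]
  exact (congrArg E.obj.left.left.presheaf.map (Subsingleton.elim _ _)).trans (CategoryTheory.Functor.map_id _ _)

variable {Z : Sp S} {i : Z ⟶ X}

/-- The ideal of a closed subspace on an affine object is the global kernel. -/
theorem ideal_top_eq (hi : RepWith @IsClosedImmersion i) (E : EtOver X) (hE : IsAffine E.obj.left.left)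
    {J : E.obj.left.left.IdealSheafData} {fst : (yon S).obj (subOver E.obj.left J) ⟶ Z}
    (sq : IsPullback fst ((yon S).map (subι E.obj.left J)) i E.obj.hom) :
    J.ideal ⟨⊤, isAffineOpen_top _⟩ = (idealOfRep hi.1).ideal E hE :=
  CartierCut.ideal_of_cutOut ⟨hi, rfl⟩ E.property hE sq

/-- The kernel family of a closed subspace is quasi-coherent. -/
theorem isQCoh_idealOfRep (hi : RepWith @IsClosedImmersion i) : (idealOfRep hi.1).IsQCoh := by
  intro E E' g hE hE'
  obtain ⟨J, fst, sq⟩ := exists_ideal hi E.obj.hom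
  obtain ⟨J', fst', sq'⟩ := exists_ideal hi E'.obj.hom
  rw [← ideal_top_eq hi E hE sq, ← ideal_top_eq hi E' hE' sq']
  have hJ : J.comap g.hom.left.left = J' := comap_eq g.hom.left sq (by rw [EtOver.w g]; exact sq')
  rw [← hJ, ideal_comap J g.hom.left.left ⟨⊤, isAffineOpen_top _⟩ ⟨⊤, isAffineOpen_top _⟩ le_top]
  exact le_of_eq (congrArg (fun k => Ideal.map k _) (congrArg CommRingCat.Hom.hom (Scheme.Hom.app_eq_appLE _).symm))

/-- A family cutting out a closed subspace is quasi-coherent. -/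
theorem isQCoh_of_isCutOutBy {I : IdealEt X} (h : IsCutOutBy I i) : I.IsQCoh := by
  obtain ⟨hi, rfl⟩ := h
  exact isQCoh_idealOfRep hi

/-- The ideal of a closed subspace on any chart is the chart ideal of its family. -/
theorem eq_chartIdeal {I : IdealEt X} (hI : I.IsQCoh) (h : IsCutOutBy I i) {U : Over S}
    (φ : (yon S).obj U ⟶ X) (hφ : RepWith @Etale φ) {J : U.left.IdealSheafData}
    {fst : (yon S).obj (subOver U J) ⟶ Z} (sq : IsPullback fst ((yon S).map (subι U J)) i φ) :
    J = chartIdeal I hI φ hφ := by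
  obtain ⟨hi, rfl⟩ := h
  refine ext_of_forall_exists _ _ fun v => ?_
  obtain ⟨W, hv, -⟩ := exists_affine_le v ⊤ trivial
  refine ⟨W, hv, ?_⟩
  let E := opEt φ hφ W.1
  obtain ⟨K, fK, sqK⟩ := exists_ideal hi E.obj.hom
  let ι : opOver U W.1 ⟶ U := Over.homMk W.1.ι rfl
  have hK : J.comap ι.left = K := comap_eq ι sq sqK
  have : IsAffine (opOver U W.1).left := W.2
  have e : (⊤ : (opOver U W.1).left.Opens) ≤ ι.left ⁻¹ᵁ W.1 := W.1.ι_preimage_self.ge
  have h1 := ideal_comap J ι.left W ⟨⊤, (isAffineOpen_top _ : IsAffineOpen (⊤ : (opOver U W.1).left.Opens))⟩ e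
  rw [hK] at h1
  change _ = (((idealOfRep hi.1).ideal E W.2).map W.1.topIso.hom.hom)
  rw [← ideal_top_eq hi E W.2 sqK]
  erw [h1]
  rw [Ideal.map_map, ← CommRingCat.hom_comp]
  refine (Ideal.map_id _).symm.trans ?_
  congr 1
  rw [← CommRingCat.hom_id]
  congr 1
  change _ = W.1.ι.appLE W.1 ⊤ e ≫ W.1.topIso.hom
  rw [Scheme.Opens.ι_appLE, Scheme.Opens.topIso_hom, ← Functor.map_comp]
  exact ((congrArg U.left.presheaf.map (Subsingleton.elim _ _)).trans (CategoryTheory.Functor.map_id _ _)).symm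

/-- A closed subspace is cut out by a quasi-coherent family once the chart ideals agree on an atlas. -/
theorem isCutOutBy_of_atlas (hX : IsAlgSpace X) {I : IdealEt X} (hI : I.IsQCoh) (hi : RepWith @IsClosedImmersion i)
    {U : Over S} {p : (yon S).obj U ⟶ X} (hp : RepWith @Etale p) (hps : RepWith @Surjective p)
    {fst : (yon S).obj (subOver U (chartIdeal I hI p hp)) ⟶ Z}
    (sq : IsPullback fst ((yon S).map (subι U (chartIdeal I hI p hp))) i p) : IsCutOutBy I i := by
  refine ⟨hi, IdealEt.ext (funext fun E => funext fun hE => ?_)⟩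
  obtain ⟨J, fJ, sqJ⟩ := exists_ideal hi E.obj.hom
  obtain ⟨R, a, b, sqR⟩ := Groth.Agent.AlgSp.exists_isPullback_yon hX.diag p E.obj.hom
  have : Etale b.left := hp.2 _ _ _ sqR
  have : Surjective b.left := hps.2 _ _ _ sqR
  have : Etale a.left := E.property.2 _ _ _ sqR.flip
  have hR : RepWith @Etale ((yon S).map a ≫ p) := Groth.Agent.AlgSpB.repWith_etale_map_comp a hp
  have hJ : J = chartIdeal I hI E.obj.hom E.property := by
    have e1 : (chartIdeal I hI p hp).comap a.left = J.comap b.left := by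
      obtain ⟨K, fK, sqK⟩ := exists_ideal hi ((yon S).map a ≫ p)
      rw [comap_eq a sq sqK]
      rw [sqR.w] at sqK
      rw [comap_eq b sqJ sqK]
    have e2 : J.comap b.left = (chartIdeal I hI E.obj.hom E.property).comap b.left := by
      rw [← e1, comap_chartIdeal hI p hp _ hR a rfl, comap_chartIdeal hI _ E.property _ hR b sqR.w.symm]
    exact le_antisymm (le_of_comap_le b.left e2.le) (le_of_comap_le b.left e2.ge)
  rw [← ideal_top_eq hi E hE sqJ, hJ, chartIdeal_top hI E hE]

/-- A quasi-coherent family of ideals cuts out a closed subspace. -/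
theorem exists_isCutOutBy (hX : IsAlgSpace X) {I : IdealEt X} (hI : I.IsQCoh) :
    ∃ (Z : Sp S) (i : Z ⟶ X), IsAlgSpace Z ∧ IsCutOutBy I i := by
  obtain ⟨U, p, hp, hps⟩ := hX.atlas
  obtain ⟨R, t, s, sqR⟩ := Groth.Agent.AlgSp.exists_isPullback_yon hX.diag p p
  have : Etale t.left := hp.2 _ _ _ sqR.flip
  have hR : RepWith @Etale ((yon S).map t ≫ p) := Groth.Agent.AlgSpB.repWith_etale_map_comp t hp
  have hc : (chartIdeal I hI p hp).comap t.left = (chartIdeal I hI p hp).comap s.left := by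
    rw [comap_chartIdeal hI p hp _ hR t rfl, comap_chartIdeal hI p hp _ hR s sqR.w.symm]
  obtain ⟨Z, i, fst, hZ, hi, sq⟩ := ClosedSub.exists_closed hp hps sqR _ hc
  exact ⟨Z, i, hZ, isCutOutBy_of_atlas hX hI hi hp hps sq⟩

/-- Inclusion of families is detected on an atlas. -/
theorem le_iff_chartIdeal_le (hX : IsAlgSpace X) {I J : IdealEt X} (hI : I.IsQCoh) (hJ : J.IsQCoh)
    {U : Over S} {p : (yon S).obj U ⟶ X} (hp : RepWith @Etale p) (hps : RepWith @Surjective p) :
    I ≤ J ↔ chartIdeal I hI p hp ≤ chartIdeal J hJ p hp := by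
  refine ⟨fun h W => Ideal.map_mono (h _ _), fun h E hE => ?_⟩
  obtain ⟨R, a, b, sqR⟩ := Groth.Agent.AlgSp.exists_isPullback_yon hX.diag p E.obj.hom
  have : Etale b.left := hp.2 _ _ _ sqR
  have : Surjective b.left := hps.2 _ _ _ sqR
  have : Etale a.left := E.property.2 _ _ _ sqR.flip
  have hR : RepWith @Etale ((yon S).map a ≫ p) := Groth.Agent.AlgSpB.repWith_etale_map_comp a hp
  rw [← chartIdeal_top hI E hE, ← chartIdeal_top hJ E hE]
  refine le_of_comap_le b.left ?_ _
  rw [comap_chartIdeal hI _ E.property _ hR b sqR.w.symm, comap_chartIdeal hJ _ E.property _ hR b sqR.w.symm,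
    ← comap_chartIdeal hI p hp _ hR a rfl, ← comap_chartIdeal hJ p hp _ hR a rfl]
  exact Scheme.IdealSheafData.comap_mono a.left h

/-- Inclusion of closed subspaces is reverse inclusion of families. -/
theorem le_iff_factor (hX : IsAlgSpace X) {I I' : IdealEt X} {Z' : Sp S} {i' : Z' ⟶ X} (h : IsCutOutBy I i)
    (h' : IsCutOutBy I' i') : I ≤ I' ↔ ∃ k : Z' ⟶ Z, k ≫ i = i' := by
  have hI := isQCoh_of_isCutOutBy h
  have hI' := isQCoh_of_isCutOutBy h'
  have hi : RepWith @IsClosedImmersion i := h.1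
  have hi' : RepWith @IsClosedImmersion i' := h'.1
  obtain ⟨U, p, hp, hps⟩ := hX.atlas
  obtain ⟨J, f, sq⟩ := exists_ideal hi p
  obtain ⟨J', f', sq'⟩ := exists_ideal hi' p
  rw [le_iff_chartIdeal_le hX hI hI' hp hps, ← eq_chartIdeal hI h p hp sq, ← eq_chartIdeal hI' h' p hp sq']
  exact (ClosedSub.exists_le_iff hi hp hps sq' sq).symm

end Groth.Agent.AlgSp.IdealEtLib
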