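import Groth.Agent.FlatMor.SchDom
import Mathlib.AlgebraicGeometry.Morphisms.SchemeTheoreticallyDominant
import Mathlib.AlgebraicGeometry.IdealSheaf.Functorial

/-!
# The kernel of a quasi-compact morphism commutes with flat base change
-/

set_option backward.isDefEq.respectTransparency.types false

universe u

open CategoryTheory CategoryTheory.Limits AlgebraicGeometry

namespace Groth.Agent.AlgSp.KerFlat

/-- The kernel of a quasi-compact morphism commutes with flat base change. -/
theorem ker_of_isPullback {X Y Y' P : Scheme.{u}} {g' : P ⟶ X} {f' : P ⟶ Y'} {f : X ⟶ Y} {g : Y' ⟶ Y}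
    (sq : IsPullback g' f' f g) [QuasiCompact f] [Flat g] : f'.ker = f.ker.comap g := by
  have t : IsPullback (pullback.fst f.imageι g) (pullback.snd f.imageι g) f.imageι g :=
    IsPullback.of_hasPullback _ _
  have s : IsPullback g' f' (f.toImage ≫ f.imageι) g := by rw [Scheme.Hom.toImage_imageι]; exact sq
  have h := IsPullback.of_bot' s t
  set l := t.lift (g' ≫ f.toImage) f' (by rw [Category.assoc, s.w]) with hl
  have : IsSchemeTheoreticallyDominant f.toImage :=
    Groth.Agent.FlatMor.SchDom.toImage_dominant f (Or.inl inferInstance)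
  have hd : IsSchemeTheoreticallyDominant l := IsSchemeTheoreticallyDominant.of_isPullback h
  have hf : f' = l ≫ pullback.snd f.imageι g := (t.lift_snd _ _ _).symm
  rw [hf, Scheme.Hom.ker_comp, hd.ker_eq_bot, Scheme.IdealSheafData.map_bot]
  have e : pullback.snd f.imageι g = (pullbackSymmetry f.imageι g).hom ≫ pullback.fst g f.imageι :=
    (pullbackSymmetry_hom_comp_fst _ _).symm
  rw [e, Scheme.Hom.ker_comp_of_isIso, Scheme.IdealSheafData.ker_fst_of_isClosedImmersion,
    Scheme.IdealSheafData.ker_subschemeι]

end Groth.Agent.AlgSp.KerFlat
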