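import Groth.Prelude.Def_AlgSpSub
import Groth.Agent.AlgSpB.Open
import Groth.Agent.AlgSp.Space
import Groth.Agent.AlgSp.QCMor
import Groth.Agent.AlgSp.DenseFlat
import Mathlib.LinearAlgebra.TensorProduct.Pi

/-!
# Schematically dense open subspaces
-/

set_option backward.isDefEq.respectTransparency.types false

universe u

open CategoryTheory CategoryTheory.Limits AlgebraicGeometry TensorProduct

namespace Groth.Agent.AlgSp.SchDense

section Scheme

variable {X Y : Scheme.{u}}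

/-- Injectivity into finitely many localisations is preserved by flat algebras. -/
theorem eq_zero_of_finite {A B : Type u} [CommRing A] [CommRing B] [Algebra A B] [Module.Flat A B] {κ : Type*}
    [Finite κ] (g : κ → A) (hg : ∀ m : A, (∀ k, ∃ e : ℕ, g k ^ e * m = 0) → m = 0) (x : B)
    (hx : ∀ k, ∃ e : ℕ, algebraMap A B (g k) ^ e * x = 0) : x = 0 := by
  classical
  have := Fintype.ofFinite κ
  choose e he using hx
  let L : A →ₗ[A] (κ → A) := LinearMap.pi fun k => LinearMap.mulLeft A (g k ^ e k)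
  have hL : Function.Injective L := by
    rw [injective_iff_map_eq_zero]
    exact fun m hm => hg m fun k => ⟨e k, congrFun hm k⟩
  have hinj := Module.Flat.lTensor_preserves_injective_linearMap (M := B) L hL
  have key : L.lTensor B (x ⊗ₜ[A] 1) = 0 := by
    apply (TensorProduct.piScalarRight A A B κ).injective
    rw [map_zero]
    ext k
    simp only [LinearMap.lTensor_tmul, TensorProduct.piScalarRight_apply, TensorProduct.piScalarRightHom_tmul,
      Pi.zero_apply]
    simpa [L, Algebra.smul_def, map_pow] using he k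
  have h0 := hinj (key.trans (map_zero _).symm)
  have h1 := congrArg (TensorProduct.rid A B) h0
  simpa using h1

/-- The preimage of a quasi-compact schematically dense open under a flat morphism is schematically dense. -/
theorem preimage_of_quasiCompact (f : X ⟶ Y) [Flat f] (V : Y.Opens) [QuasiCompact V.ι]
    (hV : CInt.IsSchematicallyDense V) : CInt.IsSchematicallyDense (f ⁻¹ᵁ V) := by
  intro W
  rw [injective_iff_map_eq_zero]
  intro s hs
  refine DenseFlat.eq_zero_of_locally s fun x hx => ?_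
  obtain ⟨_, ⟨U, hU, rfl⟩, hxU, -⟩ :=
    Y.isBasis_affineOpens.exists_subset_of_mem_open (Set.mem_univ (f x)) isOpen_univ
  obtain ⟨_, ⟨Ω, hΩ, rfl⟩, hxΩ, hle⟩ :=
    X.isBasis_affineOpens.exists_subset_of_mem_open (show x ∈ W ⊓ f ⁻¹ᵁ U from ⟨hx, hxU⟩) (W ⊓ f ⁻¹ᵁ U).2
  have hΩW : Ω ≤ W := fun y hy => (hle hy).1
  have e : Ω ≤ f ⁻¹ᵁ U := fun y hy => (hle hy).2
  refine ⟨Ω, hΩW, hxΩ, ?_⟩
  have hs' : X.presheaf.map (homOfLE (inf_le_left : Ω ⊓ f ⁻¹ᵁ V ≤ Ω)).op (X.presheaf.map (homOfLE hΩW).op s) = 0 := by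
    rw [DenseFlat.res_trans]
    exact DenseFlat.res_eq_zero_mono inf_le_left
      (show Ω ⊓ f ⁻¹ᵁ V ≤ W ⊓ f ⁻¹ᵁ V from inf_le_inf_right _ hΩW) s hs
  -- finitely many basic opens cover `U ⊓ V`
  have hc : IsCompact ((U ⊓ V : Y.Opens) : Set Y) := by
    have h1 := QuasiCompact.isCompact_preimage (f := V.ι) (U : Set Y) U.2 hU.isCompact
    have h2 := h1.image V.ι.continuous
    rw [Set.image_preimage_eq_inter_range, Scheme.Opens.range_ι] at h2
    exact h2
  let g : {a : Γ(Y, U) // Y.basicOpen a ≤ V} → Γ(Y, U) := fun k => k.1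
  obtain ⟨t, ht⟩ := hc.elim_finite_subcover (fun k => (Y.basicOpen (g k) : Set Y)) (fun k => (Y.basicOpen (g k)).2)
    fun y hy => by
      obtain ⟨a, ha, hya⟩ := hU.exists_basicOpen_le (V := V) ⟨y, hy.2⟩ hy.1
      exact Set.mem_iUnion.2 ⟨⟨a, ha⟩, hya⟩
  algebraize [(f.appLE U Ω e).hom]
  have hflat : (f.appLE U Ω e).hom.Flat := HasRingHomProperty.appLE @Flat f inferInstance ⟨U, hU⟩ ⟨Ω, hΩ⟩ e
  have : Module.Flat Γ(Y, U) Γ(X, Ω) := hflat
  refine eq_zero_of_finite (fun k : t => g k.1) (fun m hm => ?_) _ fun k => ?_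
  · refine hV U ?_
    rw [map_zero]
    refine DenseFlat.eq_zero_of_locally _ fun y hy => ?_
    obtain ⟨k, hk, hyk⟩ := Set.mem_iUnion₂.1 (ht hy)
    obtain ⟨d, hd⟩ := hm ⟨k, hk⟩
    refine ⟨Y.basicOpen (g k), le_inf (Y.basicOpen_le _) k.2, hyk, ?_⟩
    rw [DenseFlat.res_trans]
    exact DenseFlat.res_basicOpen_eq_zero hU m (g k) d hd
  · have hle' : X.basicOpen (f.appLE U Ω e (g k.1)) ≤ Ω ⊓ f ⁻¹ᵁ V :=
      le_inf (X.basicOpen_le _) (by
        rw [Scheme.basicOpen_appLE]
        exact inf_le_right.trans (f.preimage_mono k.1.2))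
    exact exists_pow_mul_eq_zero_of_res_basicOpen_eq_zero_of_isAffineOpen X hΩ _ (f.appLE U Ω e (g k.1))
      (DenseFlat.res_eq_zero_mono inf_le_left hle' _ hs')

/-- An intersection of two schematically dense opens is schematically dense. -/
theorem inf (U V : X.Opens) (hU : CInt.IsSchematicallyDense U) (hV : CInt.IsSchematicallyDense V) :
    CInt.IsSchematicallyDense (U ⊓ V) := by
  intro W
  rw [injective_iff_map_eq_zero]
  intro s hs
  refine hU W ?_
  rw [map_zero]
  refine hV (W ⊓ U) ?_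
  rw [map_zero, DenseFlat.res_trans]
  exact DenseFlat.res_eq_zero_mono inf_le_left (show W ⊓ U ⊓ V ≤ W ⊓ (U ⊓ V) from (inf_assoc _ _ _).le) s hs

end Scheme

variable {S : Scheme.{u}} {F G : AlgSp.Sp S}

/-- The open of a chart pulled back from an open subspace. -/
theorem coe_eq_preimage {j : G ⟶ F} {V : Over S} {φ : (AlgSp.yon S).obj V ⟶ F} {W : V.left.Opens}
    {fst : (AlgSp.yon S).obj (Over.mk (W.ι ≫ V.hom)) ⟶ G}
    (sq : IsPullback fst ((AlgSp.yon S).map (Over.homMk W.ι rfl : Over.mk (W.ι ≫ V.hom) ⟶ V)) j φ) :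
    (W : Set V.left) = AlgSp.Points.ofPt φ ⁻¹' Set.range (AlgSp.Points.map j) :=
  (Scheme.Opens.range_ι W).symm.trans (AlgSpB.range_snd_eq sq)

/-- An open subspace pulls back to an open of every scheme over the target. -/
theorem exists_open_chart {j : G ⟶ F} (hj : AlgSp.RepWith @IsOpenImmersion j) {V : Over S}
    (φ : (AlgSp.yon S).obj V ⟶ F) :
    ∃ (W : V.left.Opens) (fst : (AlgSp.yon S).obj (Over.mk (W.ι ≫ V.hom)) ⟶ G),
      IsPullback fst ((AlgSp.yon S).map (Over.homMk W.ι rfl : Over.mk (W.ι ≫ V.hom) ⟶ V)) j φ := by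
  obtain ⟨W', snd, fst, sq⟩ := hj.1 φ
  have : IsOpenImmersion snd.left := hj.2 _ _ _ sq
  let W : V.left.Opens := snd.left.opensRange
  let e : W' ≅ Over.mk (W.ι ≫ V.hom) := Over.isoMk snd.left.isoOpensRange (by
    change snd.left.isoOpensRange.hom ≫ W.ι ≫ V.hom = W'.hom
    rw [Scheme.Hom.isoOpensRange_hom_ι_assoc, Over.w snd])
  have he : e.inv ≫ snd = (Over.homMk W.ι rfl : Over.mk (W.ι ≫ V.hom) ⟶ V) := by
    apply Over.OverMorphism.ext
    change snd.left.isoOpensRange.inv ≫ snd.left = W.ι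
    rw [Iso.inv_comp_eq, Scheme.Hom.isoOpensRange_hom_ι]
  refine ⟨W, (AlgSp.yon S).map e.inv ≫ fst, ?_⟩
  rw [← he]
  exact sq.of_iso ((AlgSp.yon S).mapIso e) (Iso.refl _) (Iso.refl _) (Iso.refl _)
    (by simp [← Functor.map_comp_assoc]) (by simp [← Functor.map_comp, ← Functor.map_comp_assoc])
    (by simp) (by simp)

/-- The preimage of the points of an open subspace is computed chartwise. -/
theorem preimage_ofPt_comp {V V' : Over S} (m : V' ⟶ V) (φ : (AlgSp.yon S).obj V ⟶ F) (T : Set (AlgSp.Points F)) :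
    AlgSp.Points.ofPt ((AlgSp.yon S).map m ≫ φ) ⁻¹' T = m.left ⁻¹' (AlgSp.Points.ofPt φ ⁻¹' T) := by
  ext x
  change AlgSp.Points.ofPt _ x ∈ T ↔ AlgSp.Points.ofPt φ (m.left x) ∈ T
  rw [AlgSpB.ofPt_map_comp]

/-- A schematically dense open subspace is schematically dense on every etale chart. -/
theorem every_chart {j : G ⟶ F} (hF : AlgSp.IsAlgSpace F) (hj : AlgSp.IsSchDense j) {V : Over S}
    (φ : (AlgSp.yon S).obj V ⟶ F) (hφ : AlgSp.RepWith @Etale φ) (W : V.left.Opens)
    (hW : (W : Set V.left) = AlgSp.Points.ofPt φ ⁻¹' Set.range (AlgSp.Points.map j)) :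
    CInt.IsSchematicallyDense W := by
  obtain ⟨-, V₀, φ₀, W₀, fst₀, hφ₀, hφ₀s, sq₀, hd₀⟩ := hj
  obtain ⟨R, p, q, sq⟩ := exists_isPullback_yon hF.diag φ₀ φ
  have : Etale q.left := hφ₀.2 φ _ q sq
  have : Surjective q.left := hφ₀s.2 φ _ q sq
  have : Etale p.left := hφ.2 φ₀ _ p sq.flip
  have hpq : q.left ⁻¹ᵁ W = p.left ⁻¹ᵁ W₀ := by
    apply TopologicalSpace.Opens.ext
    change q.left ⁻¹' (W : Set V.left) = p.left ⁻¹' (W₀ : Set V₀.left)
    rw [hW, coe_eq_preimage sq₀, ← preimage_ofPt_comp, ← preimage_ofPt_comp, sq.w]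
  refine DenseFlat.of_preimage q.left W ?_
  rw [hpq]
  exact DenseFlat.preimage p.left W₀ hd₀

/-- An open subspace which is schematically dense on one etale surjective chart is schematically dense. -/
theorem isSchDense_of_chart {j : G ⟶ F} (hj : AlgSp.RepWith @IsOpenImmersion j) {V : Over S}
    (φ : (AlgSp.yon S).obj V ⟶ F) (hφ : AlgSp.RepWith @Etale φ) (hφs : AlgSp.RepWith @Surjective φ)
    (W : V.left.Opens) (hW : (W : Set V.left) = AlgSp.Points.ofPt φ ⁻¹' Set.range (AlgSp.Points.map j))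
    (hd : CInt.IsSchematicallyDense W) : AlgSp.IsSchDense j := by
  obtain ⟨W', fst, sq⟩ := exists_open_chart hj φ
  obtain rfl : W = W' := TopologicalSpace.Opens.ext (hW.trans (coe_eq_preimage sq).symm)
  exact ⟨hj, V, φ, W, fst, hφ, hφs, sq, hd⟩

end Groth.Agent.AlgSp.SchDense
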