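import Groth.Agent.AlgSp.SchImageQC
import Groth.Agent.AlgSp.SchDense
import Groth.Agent.FlatMor.SchDom

/-!
# Scheme theoretic images of representable morphisms, and of morphisms from reduced spaces
-/

universe u

open CategoryTheory CategoryTheory.Limits AlgebraicGeometry Opposite

set_option backward.isDefEq.respectTransparency.types false
set_option autoImplicit false

namespace Groth.Agent.AlgSp.SchImageRep

open _root_.AlgSp
open Groth.Agent.AlgSp.CartierDesc (subOver subι exists_ideal comap_eq)

section Scheme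

variable {X Y : Scheme.{u}}

/-- An open immersion injective on sections has schematically dense image. -/
theorem dense_opensRange (f : X ⟶ Y) [IsOpenImmersion f] (h : ∀ U : Y.affineOpens, Function.Injective (f.app U.1)) :
    CInt.IsSchematicallyDense f.opensRange := by
  intro V
  rw [injective_iff_map_eq_zero]
  intro s hs
  refine DenseFlat.eq_zero_of_locally s fun y hy => ?_
  obtain ⟨_, ⟨U, hU, rfl⟩, hyU, hUV⟩ := Y.isBasis_affineOpens.exists_subset_of_mem_open hy V.2
  refine ⟨U, hUV, hyU, h ⟨U, hU⟩ ?_⟩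
  have e := congr($(IsOpenImmersion.map_ΓIso_inv f U) (Y.presheaf.map (homOfLE hUV).op s))
  have h0 : Y.presheaf.map (homOfLE (inf_le_right : f.opensRange ⊓ U ≤ U)).op
      (Y.presheaf.map (homOfLE hUV).op s) = 0 :=
    (DenseFlat.res_trans hUV inf_le_right s).trans (DenseFlat.res_eq_zero_mono inf_le_left
      (show f.opensRange ⊓ U ≤ V ⊓ f.opensRange from fun z hz => ⟨hUV hz.2, hz.1⟩) s hs)
  rw [CategoryTheory.comp_apply] at e
  erw [h0, map_zero] at e
  rw [map_zero]
  exact e.symm

/-- A schematically dense quasi-compact open has zero kernel. -/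
theorem ker_ι_eq_bot (W : Y.Opens) [QuasiCompact W.ι] (h : CInt.IsSchematicallyDense W) : W.ι.ker = ⊥ := by
  apply le_bot_iff.1
  intro U s hs
  rw [Scheme.Hom.ker_apply, RingHom.mem_ker] at hs
  have e := congr($(IsOpenImmersion.app_ΓIso_hom W.ι U.1) s)
  rw [CategoryTheory.comp_apply, hs, map_zero] at e
  refine h U.1 ?_
  rw [map_zero]
  exact DenseFlat.res_eq_zero_mono inf_le_right
    (show U.1 ⊓ W ≤ W.ι.opensRange ⊓ U.1 by rw [Scheme.Opens.opensRange_ι, inf_comm]) s e.symm

/-- Reducedness descends along flat surjective morphisms. -/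
theorem isReduced_of_flat_surjective (f : X ⟶ Y) [Flat f] [Surjective f] [IsReduced X] : IsReduced Y :=
  ⟨fun U => isReduced_of_injective (f.app U).hom (DenseFlat.app_injective f U)⟩

/-- An ideal with reduced subscheme below the kernel and with support in the closure of the range is the
kernel. -/
theorem eq_ker_of_reduced (f : X ⟶ Y) (hyp : QuasiCompact f ∨ IsReduced X) (I : Y.IdealSheafData)
    [IsReduced I.subscheme] (hle : I ≤ f.ker) (hsupp : (I.support : Set Y) ⊆ closure (Set.range f)) : I = f.ker := by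
  have hs : (I.support : Set Y) ⊆ f.ker.support :=
    hsupp.trans (Groth.Agent.FlatMor.SchDom.closure_range_eq_support f hyp).ge
  let inc := Scheme.IdealSheafData.inclusion hle
  have hinc : inc ≫ I.subschemeι = f.ker.subschemeι := Scheme.IdealSheafData.inclusion_subschemeι hle
  have : IsClosedImmersion (inc ≫ I.subschemeι) := by rw [hinc]; infer_instance
  have : IsClosedImmersion inc := IsClosedImmersion.of_comp inc I.subschemeι
  have : Surjective inc := ⟨fun z => by
    obtain ⟨w, hw⟩ := (Scheme.IdealSheafData.range_subschemeι f.ker).ge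
      (hs ((Scheme.IdealSheafData.range_subschemeι I).le ⟨z, rfl⟩))
    exact ⟨w, I.subschemeι.isClosedEmbedding.injective (by rw [← Scheme.Hom.comp_apply, hinc]; exact hw)⟩⟩
  have : IsIso inc := isIso_of_isClosedImmersion_of_surjective _
  rw [← I.ker_subschemeι, ← Scheme.Hom.ker_comp_of_isIso inc, hinc, Scheme.IdealSheafData.ker_subschemeι]

end Scheme

variable {S : Scheme.{u}}

/-- Isomorphisms from representable sheaves have every property of identities. -/
theorem repWith_of_isIso (P : MorphismProperty Scheme.{u}) [P.IsStableUnderBaseChange] [P.ContainsIdentities]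
    {T : Over S} {G : Sp S} (φ : (yon S).obj T ⟶ G) [IsIso φ] : RepWith P φ :=
  MorphismProperty.of_isPullback
    (IsPullback.of_vert_isIso ⟨(by rw [Category.id_comp, IsIso.hom_inv_id] :
      𝟙 _ ≫ 𝟙 _ = φ ≫ inv φ)⟩) (repWith_id P T)

variable {X F Z : Sp S} {f : X ⟶ F} {i : Z ⟶ F} {U W : Over S} {p : (yon S).obj U ⟶ F}

/-- The image of a representable quasi-compact morphism is cut out by the kernel on an atlas. -/
theorem ideal_eq_ker_rep (hX : IsAlgSpace X) (hF : IsAlgSpace F) (hp : RepWith @Etale p)
    (hps : RepWith @Surjective p) {g : (yon S).obj W ⟶ X} {sn : W ⟶ U}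
    (sqW : IsPullback g ((yon S).map sn) f p) [QuasiCompact sn.left] {I : U.left.IdealSheafData}
    {fst : (yon S).obj (subOver U I) ⟶ Z} (sq : IsPullback fst ((yon S).map (subι U I)) i p)
    (hZ : IsSchImage f i) : I = sn.left.ker := by
  let r := sqW.isoPullback.hom
  exact SchImageQC.ideal_eq_ker hX hF hp hps (repWith_of_isIso @Etale r) (repWith_of_isIso @Surjective r)
    sqW.isoPullback_hom_snd sq hZ

/-- Every etale chart of a reduced space is reduced. -/
theorem isReduced_chart (hX : IsAlgSpace X) (h : IsReducedSp X) {T : Over S} (a : (yon S).obj T ⟶ X)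
    (ha : RepWith @Etale a) : IsReduced T.left := by
  obtain ⟨V, q, hq, hqs, hV⟩ := h
  obtain ⟨R, s, t, sq⟩ := Groth.Agent.AlgSp.exists_isPullback_yon hX.diag q a
  have : Etale s.left := ha.2 _ _ _ sq.flip
  have : Etale t.left := hq.2 _ _ _ sq
  have : Surjective t.left := hqs.2 _ _ _ sq
  have : IsReduced R.left := Groth.Agent.AlgSpB.isReduced_of_etale s.left
  exact isReduced_of_flat_surjective t.left

/-- A closed subspace has closed range. -/
theorem isClosed_range (hF : IsAlgSpace F) (hi : RepWith @IsClosedImmersion i) :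
    IsClosed (Set.range (Points.map i)) := by
  obtain ⟨U, p, hp, hps⟩ := hF.atlas
  obtain ⟨I, fst, sq⟩ := exists_ideal hi p
  rw [← (Groth.Agent.AlgSpB.isOpenQuotientMap_ofPt hp hps).isQuotientMap.isClosed_preimage,
    ← Groth.Agent.AlgSpB.range_snd_eq sq]
  exact (I.subschemeι.isClosedEmbedding).isClosed_range

/-- A morphism from a reduced space factors through a closed subspace containing its range. -/
theorem exists_factor_of_reduced (hX : IsAlgSpace X) (h : IsReducedSp X) (hi : RepWith @IsClosedImmersion i)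
    (hr : Set.range (Points.map f) ⊆ Set.range (Points.map i)) : ∃ k : X ⟶ Z, k ≫ i = f := by
  obtain ⟨W, a, ha, has⟩ := hX.atlas
  have : IsReduced W.left := isReduced_chart hX h a ha
  obtain ⟨y, hy⟩ := Groth.Agent.AlgSpB.exists_lift_yon_of_isClosedImmersion hi (a ≫ f)
    ((Groth.Agent.AlgSpB.range_ofPt_subset f a).trans hr)
  have := Groth.Agent.AlgSpB.mono_of_isClosedImmersion hi
  have := Groth.Agent.AlgSp.isLocallySurjective_of_etale_surjective a ha has
  have : Epi a := (Sheaf.isLocallySurjective_iff_epi _).1 inferInstance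
  exact ClosedSub.exists_factor_of_epi f a y hy

/-- The image of a morphism from a reduced space is the reduced structure on the closure of the range. -/
theorem isRedInduced_of_reduced (hX : IsAlgSpace X) (hF : IsAlgSpace F) (hZa : IsAlgSpace Z)
    (hred : IsReducedSp X) (hZ : IsSchImage f i) :
    IsRedInduced (closure (Set.range (Points.map f))) i := by
  obtain ⟨Zr, ir, hZr, hir, hrange, hZred⟩ :=
    Groth.Agent.AlgSpB.exists_redInduced hF (closure (Set.range (Points.map f))) isClosed_closure
  obtain ⟨k, hk⟩ := hZ.2.2 ir hZr hir (exists_factor_of_reduced hX hred hir (hrange ▸ subset_closure))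
  obtain ⟨f', hf'⟩ := hZ.2.1
  have hsub : Set.range (Points.map ir) ⊆ Set.range (Points.map i) := by
    rw [hrange]
    exact closure_minimal (Groth.Agent.AlgSpB.range_map_subset_of_factor f' hf') (isClosed_range hF hZ.1)
  obtain ⟨k', hk'⟩ := exists_factor_of_reduced hZr hZred hZ.1 hsub
  have := Groth.Agent.AlgSpB.mono_of_isClosedImmersion hZ.1
  have := Groth.Agent.AlgSpB.mono_of_isClosedImmersion hir
  have : IsIso k' := ⟨k, by rw [← cancel_mono ir, Category.assoc, hk, hk', Category.id_comp],
    by rw [← cancel_mono i, Category.assoc, hk', hk, Category.id_comp]⟩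
  refine ⟨hZ.1, Set.Subset.antisymm ?_ (hrange.ge.trans hsub), ?_⟩
  · exact (Groth.Agent.AlgSpB.range_map_subset_of_factor k hk).trans hrange.le
  · obtain ⟨V, q, hq, hqs, hV⟩ := hZred
    exact ⟨V, q ≫ k', MorphismProperty.RespectsIso.postcomp (RepWith @Etale) k' _ hq,
      MorphismProperty.RespectsIso.postcomp (RepWith @Surjective) k' _ hqs, hV⟩

/-- The points of the image lie in the closure of the range, for quasi-compact morphisms or reduced sources. -/
theorem range_subset_closure (hX : IsAlgSpace X) (hF : IsAlgSpace F) (hZa : IsAlgSpace Z)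
    (hyp : IsQuasiCompactMor f ∨ IsReducedSp X) (hZ : IsSchImage f i) :
    Set.range (Points.map i) ⊆ closure (Set.range (Points.map f)) :=
  hyp.elim (fun h => SchImageQC.range_subset_closure hX hF h hZ)
    fun h => (isRedInduced_of_reduced hX hF hZa h hZ).2.1.le

/-- An immersion is a schematically dense open immersion into its image. -/
theorem immersion_into (hX : IsAlgSpace X) (hF : IsAlgSpace F) (hZa : IsAlgSpace Z)
    (hf : RepWith @IsImmersion f) (hyp : IsQuasiCompactMor f ∨ IsReducedSp X) (hZ : IsSchImage f i)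
    (f' : X ⟶ Z) (fac : f' ≫ i = f) :
    RepWith @IsOpenImmersion f' ∧ IsSchDense f' ∧ Dense (Set.range (Points.map f')) := by
  obtain ⟨U, p, hp, hps⟩ := hF.atlas
  obtain ⟨W₁, sn, g, sqW⟩ := hf.1 p
  have : IsImmersion sn.left := hf.2 _ _ _ sqW
  obtain ⟨I, fst, sq⟩ := exists_ideal hZ.1 p
  have hgE : RepWith @Etale g := MorphismProperty.of_isPullback sqW.flip hp
  have hfst : RepWith @Etale fst := MorphismProperty.of_isPullback sq.flip hp
  have hfsts : RepWith @Surjective fst := MorphismProperty.of_isPullback sq.flip hps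
  have hyp₁ : QuasiCompact sn.left ∨ IsReduced W₁.left :=
    hyp.imp (fun h => ((Groth.Agent.AlgSp.repWith_quasiCompact_iff hF f hf.1).2 h).2 _ _ _ sqW)
      (fun h => isReduced_chart hX h g hgE)
  have hI : I = sn.left.ker := by
    rcases hyp with h | h
    · have : QuasiCompact sn.left := ((Groth.Agent.AlgSp.repWith_quasiCompact_iff hF f hf.1).2 h).2 _ _ _ sqW
      exact ideal_eq_ker_rep hX hF hp hps sqW sq hZ
    · obtain ⟨-, hrange, hZred⟩ := isRedInduced_of_reduced hX hF hZa h hZ
      have : IsReduced I.subscheme := isReduced_chart hZa hZred fst hfst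
      refine eq_ker_of_reduced sn.left hyp₁ I ?_ ?_
      · exact (ClosedSub.exists_factor_yon_iff sq sn).1 ⟨g ≫ f', by rw [Category.assoc, fac, sqW.w]⟩
      · rw [← Scheme.IdealSheafData.range_subschemeι]
        refine (Groth.Agent.AlgSpB.range_snd_eq sq).le.trans ?_
        rw [hrange, (Groth.Agent.AlgSpB.isOpenMap_ofPt hp).preimage_closure_eq_closure_preimage
          (Points.continuous_ofPt p), ← Groth.Agent.AlgSpB.range_snd_eq sqW]
  subst hI
  let l := sq.lift (g ≫ f') ((yon S).map sn) (by rw [Category.assoc, fac, sqW.w])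
  obtain ⟨l₀, hl₀⟩ := (yon S).map_surjective l
  have hll : l₀ ≫ subι U sn.left.ker = sn :=
    (yon S).map_injective (by rw [Functor.map_comp, hl₀]; exact sq.lift_snd _ _ _)
  have sq' : IsPullback g ((yon S).map l₀) f' fst := by
    refine IsPullback.of_bot ?_ (by rw [hl₀]; exact (sq.lift_fst _ _ _).symm) sq
    rw [fac, ← Functor.map_comp, hll]
    exact sqW
  have hl : l₀.left = sn.left.toImage := by
    rw [← cancel_mono sn.left.imageι, Scheme.Hom.toImage_imageι]
    exact congrArg (fun k => k.left) hll
  have hopen : IsOpenImmersion l₀.left := by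
    rw [hl]; exact Groth.Agent.FlatMor.SchDom.isOpenImmersion_toImage' sn.left hyp₁
  have := Groth.Agent.AlgSp.isLocallySurjective_of_etale_surjective fst hfst hfsts
  have hrep : RepWith @IsOpenImmersion f' :=
    Groth.Agent.AlgSp.repWith_isOpenImmersion_of_baseChange f' fst sq' ((repWith_yon_map_iff _ _).2 hopen)
  have hcoe : Set.range l₀.left = Points.ofPt fst ⁻¹' Set.range (Points.map f') :=
    Groth.Agent.AlgSpB.range_snd_eq sq'
  have hqc : QuasiCompact l₀.left ∨ IsReduced W₁.left := hyp₁.imp (fun (h : QuasiCompact sn.left) => by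
    have : QuasiCompact (l₀.left ≫ sn.left.imageι) := by rw [hl, Scheme.Hom.toImage_imageι]; exact h
    exact QuasiCompact.of_comp l₀.left sn.left.imageι) id
  have : IsSchemeTheoreticallyDominant l₀.left := by
    rw [hl]; exact Groth.Agent.FlatMor.SchDom.toImage_dominant sn.left hyp₁
  refine ⟨hrep, SchDense.isSchDense_of_chart hrep fst hfst hfsts l₀.left.opensRange hcoe
    (dense_opensRange l₀.left fun V => Groth.Agent.FlatMor.SchDom.app_injective' l₀.left hqc V.1), ?_⟩
  have hd : DenseRange l₀.left := Groth.Agent.FlatMor.SchDom.denseRange_of_dominant l₀.left hqc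
  have h2 := (Groth.Agent.AlgSpB.surjective_ofPt hfsts).denseRange.comp hd (Points.continuous_ofPt fst)
  refine h2.mono ?_
  rintro _ ⟨w, rfl⟩
  exact hcoe.le ⟨w, rfl⟩

/-- A quasi-compact open subspace is schematically dense iff its closure is everything. -/
theorem isSchDense_iff (hX : IsAlgSpace X) (hF : IsAlgSpace F) (hj : RepWith @IsOpenImmersion f)
    (hq : IsQuasiCompactMor f) : IsSchDense f ↔ IsSchImage f (𝟙 F) := by
  have hid : RepWith @IsClosedImmersion (𝟙 F) := MorphismProperty.id_mem _ F
  constructor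
  · rintro ⟨-, V, φ, W, g, hφ, hφs, sqW, hd⟩
    have : QuasiCompact W.ι := ((Groth.Agent.AlgSp.repWith_quasiCompact_iff hF f hj.1).2 hq).2 _ _ _ sqW
    refine ⟨hid, ⟨f, Category.comp_id _⟩, fun Z' i' _ hi' hf' => ?_⟩
    obtain ⟨J, fstJ, sqJ⟩ := exists_ideal hi' φ
    refine (ClosedSub.exists_factor_iff hi' sqJ (𝟙 F) φ hφ hφs (𝟙 V) (by simp)).2 ?_
    obtain ⟨f'', hf''⟩ := hf'
    have hJ := (ClosedSub.exists_factor_yon_iff sqJ _).1 ⟨g ≫ f'', by rw [Category.assoc, hf'', sqW.w]⟩
    exact (hJ.trans (ker_ι_eq_bot W hd).le).trans bot_le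
  · intro hcl
    obtain ⟨V, φ, hφ, hφs⟩ := hF.atlas
    obtain ⟨W, g, sqW⟩ := SchDense.exists_open_chart hj φ
    have hqc : QuasiCompact W.ι := ((Groth.Agent.AlgSp.repWith_quasiCompact_iff hF f hj.1).2 hq).2 _ _ _ sqW
    obtain ⟨I, fst, sq⟩ := exists_ideal hid φ
    let sn : Over.mk (W.ι ≫ V.hom) ⟶ V := Over.homMk W.ι rfl
    have : QuasiCompact sn.left := hqc
    have hI : I = W.ι.ker := ideal_eq_ker_rep (sn := sn) hX hF hφ hφs sqW sq hcl
    have hbot := (ClosedSub.exists_factor_yon_iff sq (𝟙 V)).1 ⟨φ, by simp⟩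
    rw [Over.id_left, Scheme.Hom.ker_eq_bot_of_isIso, le_bot_iff, hI] at hbot
    have : IsSchemeTheoreticallyDominant W.ι := ⟨hbot⟩
    refine SchDense.isSchDense_of_chart hj φ hφ hφs W (SchDense.coe_eq_preimage sqW) ?_
    have := dense_opensRange W.ι fun U => W.ι.app_injective U.1
    rwa [Scheme.Opens.opensRange_ι] at this

end Groth.Agent.AlgSp.SchImageRep
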