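import Groth.Agent.AlgSp.IdealEtLib
import Groth.Agent.AlgSp.SchImageRep
import Groth.Agent.AlgSp.KerFlat

/-!
# Kernel families of representable morphisms
-/

universe u

open CategoryTheory CategoryTheory.Limits AlgebraicGeometry Opposite

set_option backward.isDefEq.respectTransparency false
set_option backward.isDefEq.respectTransparency.types false
set_option autoImplicit false

namespace Groth.Agent.AlgSp.IdealRep

open _root_.AlgSp
open Groth.Agent.AlgSp.CartierDesc (subOver subι exists_ideal comap_eq)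
open Groth.Agent.AlgSp.IdealEtLib (opOver opEt chartIdeal)

variable {S : Scheme.{u}} {F X Z : Sp S} {f : F ⟶ X}

theorem appLE_congr_hom {A B : Scheme.{u}} {k l : A ⟶ B} (h : k = l) (W : B.Opens) (V : A.Opens)
    (e : V ≤ k ⁻¹ᵁ W) (e' : V ≤ l ⁻¹ᵁ W) : k.appLE W V e = l.appLE W V e' := by
  subst h; rfl

/-- A quasi-coherent family below a kernel family is below the kernels on all charts. -/
theorem chartIdeal_le_ker {I : IdealEt X} (hI : I.IsQCoh) (hf : Representable f) (hle : I ≤ idealOfRep hf)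
    {U R : Over S} (φ : (yon S).obj U ⟶ X) (hφ : RepWith @Etale φ) (g : (yon S).obj R ⟶ F) (m : R ⟶ U)
    (w : g ≫ f = (yon S).map m ≫ φ) : chartIdeal I hI φ hφ ≤ m.left.ker := by
  refine Scheme.IdealSheafData.le_ofIdeals_iff.2 fun W x hx => ?_
  change x ∈ (I.ideal (opEt φ hφ W.1) W.2).map W.1.topIso.hom.hom at hx
  refine (Ideal.map_le_iff_le_comap.2 fun s hs => ?_ : _ ≤ RingHom.ker (m.left.app W.1).hom) hx
  let V := m.left ⁻¹ᵁ W.1
  let y : opOver R V ⟶ opOver U W.1 := Over.homMk (m.left.resLE W.1 V le_rfl) (by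
    change m.left.resLE W.1 V le_rfl ≫ W.1.ι ≫ U.hom = V.ι ≫ R.hom
    rw [Scheme.Hom.resLE_comp_ι_assoc, Over.w m])
  have hy : (yon S).map (Over.homMk V.ι rfl : opOver R V ⟶ R) ≫ g ≫ f =
      (yon S).map y ≫ (opEt φ hφ W.1).obj.hom := by
    change _ = (yon S).map y ≫ (yon S).map (Over.homMk W.1.ι rfl : opOver U W.1 ⟶ U) ≫ φ
    rw [w, ← Functor.map_comp_assoc, ← Functor.map_comp_assoc]
    congr 2
    exact Over.OverMorphism.ext (Scheme.Hom.resLE_comp_ι _ _).symm
  let l := hf.lift (g := (opEt φ hφ W.1).obj.hom)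
    ((yon S).map (Over.homMk V.ι rfl : opOver R V ⟶ R) ≫ g) y ((Category.assoc _ _ _).trans hy)
  have hl : l.left ≫ (EtOver.bcπ hf (opEt φ hφ W.1)).left = y.left :=
    congrArg CommaMorphism.left (hf.lift_snd _ _ _)
  have h0 : (EtOver.bcπ hf (opEt φ hφ W.1)).left.appTop.hom s = 0 := hle (opEt φ hφ W.1) W.2 hs
  have h1 : y.left.appTop.hom s = 0 := by
    rw [← hl, Scheme.Hom.comp_appTop]
    change l.left.appTop.hom ((EtOver.bcπ hf (opEt φ hφ W.1)).left.appTop.hom s) = 0
    rw [h0, map_zero]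
  rw [Ideal.mem_comap, RingHom.mem_ker]
  have e : (m.left.resLE W.1 V le_rfl).app ⊤ ≫ V.topIso.hom = W.1.topIso.hom ≫ m.left.app W.1 := by
    rw [Scheme.Hom.resLE_app_top, Scheme.Hom.app_eq_appLE]
    simp only [Category.assoc, Iso.inv_hom_id, Category.comp_id]
    rfl
  have e' := congr($e s)
  rw [CategoryTheory.comp_apply, CategoryTheory.comp_apply] at e'
  refine e'.symm.trans ?_
  erw [h1]
  exact map_zero _

/-- A scheme over a space factors through a closed subspace iff the ideal is below the kernel family. -/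
theorem factor_iff_le (hX : IsAlgSpace X) {I : IdealEt X} {i : Z ⟶ X} (h : IsCutOutBy I i) {T : Over S}
    (a : (yon S).obj T ⟶ X) (ha : Representable a) :
    (∃ k : (yon S).obj T ⟶ Z, k ≫ i = a) ↔ I ≤ idealOfRep ha := by
  have hI := IdealEtLib.isQCoh_of_isCutOutBy h
  have hi : RepWith @IsClosedImmersion i := h.1
  constructor
  · rintro ⟨k, hk⟩ E hE
    obtain ⟨J, fst, sq⟩ := exists_ideal hi E.obj.hom
    have hJ : J.ideal ⟨⊤, isAffineOpen_top _⟩ = I.ideal E hE := by
      obtain ⟨hi', rfl⟩ := h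
      exact IdealEtLib.ideal_top_eq hi' E hE sq
    have hle : J ≤ (EtOver.bcπ ha E).left.ker := (ClosedSub.exists_factor_yon_iff sq _).1
      ⟨ha.fst E.obj.hom ≫ k, by rw [Category.assoc, hk]; exact ha.w E.obj.hom⟩
    rw [← hJ]
    exact (hle _).trans (Scheme.IdealSheafData.ideal_ofIdeals_le _ _)
  · intro hle
    obtain ⟨U, p, hp, hps⟩ := hX.atlas
    obtain ⟨J, fst, sq⟩ := exists_ideal hi p
    have hJ : J = chartIdeal I hI p hp := IdealEtLib.eq_chartIdeal hI h p hp sq
    have hsq := (ha.isPullback p).flip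
    have hq : RepWith @Etale (ha.fst p) := MorphismProperty.of_isPullback hsq hp
    have hqs : RepWith @Surjective (ha.fst p) := MorphismProperty.of_isPullback hsq hps
    have hw : ha.fst p ≫ a = (yon S).map (ha.snd p) ≫ p := ha.w p
    refine (ClosedSub.exists_factor_iff hi sq a (ha.fst p) hq hqs (ha.snd p) hw).2 ?_
    rw [hJ]
    exact chartIdeal_le_ker hI ha hle p hp _ _ hw

/-- The projection of a base changed chart is quasi-compact for a quasi-compact morphism. -/
theorem quasiCompact_bcπ (hf : Representable f) (hq : RepWith @QuasiCompact f) (E : EtOver X) :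
    QuasiCompact (EtOver.bcπ hf E).left :=
  hq.2 _ _ _ (hf.isPullback E.obj.hom)

/-- The kernel family of a quasi-compact morphism is quasi-coherent. -/
theorem isQCoh_idealOfRep_qc (hf : Representable f) (hq : RepWith @QuasiCompact f) : (idealOfRep hf).IsQCoh := by
  intro E E' g hE hE'
  have := quasiCompact_bcπ hf hq E
  have := quasiCompact_bcπ hf hq E'
  have : Etale g.hom.left.left := EtOver.etale_left g
  have hJ : (EtOver.bcπ hf E').left.ker = (EtOver.bcπ hf E).left.ker.comap g.hom.left.left :=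
    KerFlat.ker_of_isPullback (EtOver.isPullback_bcMap_left hf g)
  have h1 := IdealSh.Comap.ideal_comap (EtOver.bcπ hf E).left.ker g.hom.left.left ⟨⊤, isAffineOpen_top _⟩
    ⟨⊤, isAffineOpen_top _⟩ le_top
  rw [← hJ, Scheme.Hom.ker_apply, Scheme.Hom.ker_apply] at h1
  change RingHom.ker (EtOver.bcπ hf E').left.appTop.hom ≤ _
  refine le_of_eq (h1.trans ?_)
  exact congrArg (fun k => Ideal.map k _) (congrArg CommRingCat.Hom.hom (Scheme.Hom.app_eq_appLE _).symm)

/-- A section killed on a fibre product is killed by the kernel family. -/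
theorem app_bcπ_eq_zero (hf : Representable f) {U R : Over S} (φ : (yon S).obj U ⟶ X) (hφ : RepWith @Etale φ)
    {g : (yon S).obj R ⟶ F} {m : R ⟶ U} (sq : IsPullback g ((yon S).map m) f φ) (W : U.left.affineOpens)
    (x : Γ(U.left, W.1)) (hx : m.left.app W.1 x = 0) :
    (EtOver.bcπ hf (opEt φ hφ W.1)).left.appTop.hom (W.1.topIso.inv x) = 0 := by
  let E := opEt φ hφ W.1
  let ι : opOver U W.1 ⟶ U := Over.homMk W.1.ι rfl
  have hw : hf.fst E.obj.hom ≫ f = (yon S).map (EtOver.bcπ hf E ≫ ι) ≫ φ := by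
    rw [Functor.map_comp, Category.assoc]
    exact hf.w E.obj.hom
  obtain ⟨r, hr⟩ := (yon S).map_surjective (sq.lift _ _ hw)
  have hrm : r ≫ m = EtOver.bcπ hf E ≫ ι :=
    (yon S).map_injective (by rw [Functor.map_comp, hr, sq.lift_snd])
  have e1 : (⊤ : (hf.pullback E.obj.hom).left.Opens) ≤ ((EtOver.bcπ hf E).left ≫ W.1.ι) ⁻¹ᵁ W.1 :=
    fun z _ => ((EtOver.bcπ hf E).left z).2
  have e2 : (⊤ : (hf.pullback E.obj.hom).left.Opens) ≤ r.left ⁻¹ᵁ (m.left ⁻¹ᵁ W.1) := by
    rw [← Scheme.Hom.comp_preimage, ← Over.comp_left, hrm]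
    exact e1
  have hall : ((EtOver.bcπ hf E).left ≫ W.1.ι).appLE W.1 ⊤ e1 = m.left.app W.1 ≫ r.left.appLE _ ⊤ e2 := by
    rw [Scheme.Hom.app_eq_appLE, Scheme.Hom.appLE_comp_appLE]
    exact appLE_congr_hom (congrArg CommaMorphism.left hrm).symm _ _ _ _
  have e3 : ((EtOver.bcπ hf E).left ≫ W.1.ι).appLE W.1 ⊤ e1 =
      W.1.topIso.inv ≫ (EtOver.bcπ hf E).left.appTop := by
    have hW : (⊤ : W.1.toScheme.Opens) ≤ W.1.ι ⁻¹ᵁ W.1 := W.1.ι_preimage_self.ge
    rw [Scheme.Hom.appTop, Scheme.Hom.app_eq_appLE, ← Scheme.Hom.appLE_comp_appLE _ W.1.ι W.1 ⊤ ⊤ hW le_rfl,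
      Scheme.Opens.ι_appLE, Scheme.Opens.topIso_inv]
    rfl
  have e4 := congr($(e3.symm.trans hall) x)
  rw [CategoryTheory.comp_apply, CategoryTheory.comp_apply] at e4
  refine e4.trans ?_
  erw [hx]
  exact map_zero _

/-- The chart ideals of a kernel family are the kernels on the charts. -/
theorem chartIdeal_idealOfRep (hf : Representable f) (hI : (idealOfRep hf).IsQCoh) {U R : Over S}
    (φ : (yon S).obj U ⟶ X) (hφ : RepWith @Etale φ) {g : (yon S).obj R ⟶ F} {m : R ⟶ U}
    (sq : IsPullback g ((yon S).map m) f φ) [QuasiCompact m.left] :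
    chartIdeal (idealOfRep hf) hI φ hφ = m.left.ker := by
  refine le_antisymm (chartIdeal_le_ker hI hf (fun _ _ => le_rfl) φ hφ g m sq.w) fun W x hx => ?_
  rw [Scheme.Hom.ker_apply, RingHom.mem_ker] at hx
  have h2 : W.1.topIso.hom.hom (W.1.topIso.inv x) = x := congr($(W.1.topIso.inv_hom_id) x)
  rw [← h2]
  exact Ideal.mem_map_of_mem _ (RingHom.mem_ker.2 (app_bcπ_eq_zero hf φ hφ sq W x hx))

/-- The image of a quasi-compact representable morphism is cut out by its kernel family. -/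
theorem isCutOutBy_of_isSchImage (hF : IsAlgSpace F) (hX : IsAlgSpace X) (hf : Representable f)
    (hq : RepWith @QuasiCompact f) {i : Z ⟶ X} (h : IsSchImage f i) : IsCutOutBy (idealOfRep hf) i := by
  obtain ⟨U, p, hp, hps⟩ := hX.atlas
  obtain ⟨J, fst, sq⟩ := exists_ideal h.1 p
  have : QuasiCompact (hf.snd p).left := hq.2 _ _ _ (hf.isPullback p)
  have hI := isQCoh_idealOfRep_qc hf hq
  have hJ : J = chartIdeal (idealOfRep hf) hI p hp :=
    (SchImageRep.ideal_eq_ker_rep hF hX hp hps (hf.isPullback p) sq h).trans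
      (chartIdeal_idealOfRep hf hI p hp (hf.isPullback p)).symm
  subst hJ
  exact IdealEtLib.isCutOutBy_of_atlas hX hI h.1 hp hps sq

end Groth.Agent.AlgSp.IdealRep
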