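import Groth.Agent.AlgSp.InfSpace

/-!
First order thickenings of algebraic spaces are stable under arbitrary base change.
-/

universe u

open CategoryTheory CategoryTheory.Limits AlgebraicGeometry Opposite AlgSp

namespace Groth.Agent.AlgSp.InfBC

open InfGlue InfEtale InfSpace

variable {S : Scheme.{u}}

section

variable {A : Type u} [CommRing A] (str : Spec (CommRingCat.of A) ⟶ S)

/-- `Spec (A ⧸ J)` over `S`. -/
noncomputable abbrev ptQ (J : Ideal A) : Over S :=
  Over.mk (Spec.map (CommRingCat.ofHom (Ideal.Quotient.mk J)) ≫ str)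

/-- The closed immersion `Spec (A ⧸ J) ⟶ Spec A` over `S`. -/
noncomputable abbrev jQ (J : Ideal A) : ptQ str J ⟶ Over.mk str :=
  Over.homMk (Spec.map (CommRingCat.ofHom (Ideal.Quotient.mk J))) rfl

variable {B : Type u} [CommRing B] (φ : A →+* B)

/-- The structure map of `Spec B` for a map `A → B`. -/
noncomputable abbrev strB : Spec (CommRingCat.of B) ⟶ S := Spec.map (CommRingCat.ofHom φ) ≫ str

/-- `Spec B ⟶ Spec A` over `S`. -/
noncomputable abbrev mapB : Over.mk (strB str φ) ⟶ Over.mk str :=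
  Over.homMk (Spec.map (CommRingCat.ofHom φ)) rfl

/-- If `Spec (A ⧸ I)` factors through `Spec (A ⧸ J)` over `Spec A` then `J ≤ I`. -/
theorem le_of_factor {I J : Ideal A} (g : ptQ str I ⟶ ptQ str J) (hg : g ≫ jQ str J = jQ str I) : J ≤ I := by
  obtain ⟨ρ, hρ⟩ := Spec.map_surjective g.left
  have e : CommRingCat.ofHom (Ideal.Quotient.mk J) ≫ ρ = CommRingCat.ofHom (Ideal.Quotient.mk I) := by
    apply Spec.map_injective
    rw [Spec.map_comp, hρ]
    exact congr($(hg).left)
  intro x hx
  rw [← Ideal.Quotient.eq_zero_iff_mem]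
  have h := congr($(e).hom x)
  change ρ.hom (Ideal.Quotient.mk J x) = Ideal.Quotient.mk I x at h
  rw [← h, Ideal.Quotient.eq_zero_iff_mem.2 hx, map_zero]

variable {T T' : Sp S} {i : T ⟶ T'}

/-- The ideal of the base change of `i` to an affine scheme is unique. -/
theorem ideal_eq {I J : Ideal A} {y : (yon S).obj (Over.mk str) ⟶ T'} {k : (yon S).obj (ptQ str I) ⟶ T}
    {k' : (yon S).obj (ptQ str J) ⟶ T} (h : IsPullback k ((yon S).map (jQ str I)) i y)
    (h' : IsPullback k' ((yon S).map (jQ str J)) i y) : I = J := by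
  refine le_antisymm ?_ ?_
  · obtain ⟨g, hg⟩ := (yon S).map_surjective (h.lift k' ((yon S).map (jQ str J)) h'.w)
    refine le_of_factor str g ((yon S).map_injective ?_)
    rw [Functor.map_comp, hg, h.lift_snd]
  · obtain ⟨g, hg⟩ := (yon S).map_surjective (h'.lift k ((yon S).map (jQ str I)) h.w)
    refine le_of_factor str g ((yon S).map_injective ?_)
    rw [Functor.map_comp, hg, h'.lift_snd]

/-- If a map factors through `i` modulo `I` then `I` contains the ideal of the base change of `i`. -/
theorem le_of_lift {I J : Ideal A} {y : (yon S).obj (Over.mk str) ⟶ T'} {k : (yon S).obj (ptQ str J) ⟶ T}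
    (h : IsPullback k ((yon S).map (jQ str J)) i y) {m : (yon S).obj (ptQ str I) ⟶ T}
    (hm : m ≫ i = (yon S).map (jQ str I) ≫ y) : J ≤ I := by
  obtain ⟨g, hg⟩ := (yon S).map_surjective (h.lift m ((yon S).map (jQ str I)) hm)
  refine le_of_factor str g ((yon S).map_injective ?_)
  rw [Functor.map_comp, hg, h.lift_snd]

/-- The base change of `i` to an affine scheme is a quotient. -/
theorem exists_quot_chart (hi : RepWith @IsClosedImmersion i) (y : (yon S).obj (Over.mk str) ⟶ T') :
    ∃ (J : Ideal A) (k : (yon S).obj (ptQ str J) ⟶ T), IsPullback k ((yon S).map (jQ str J)) i y := by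
  let s := hi.1.snd y
  have hs : IsClosedImmersion s.left := hi.2 _ _ _ (hi.1.isPullback y)
  obtain ⟨I, e, he⟩ := IsClosedImmersion.Spec_iff.1 hs
  let e' : hi.1.pullback y ≅ ptQ str I :=
    Over.isoMk e (by
      change e.hom ≫ Spec.map _ ≫ str = _
      rw [← Category.assoc, ← he]
      exact Over.w s)
  have he' : e'.hom ≫ jQ str I = s := Over.OverMorphism.ext he.symm
  refine ⟨I, (yon S).map e'.inv ≫ hi.1.fst y, ?_⟩
  refine (hi.1.isPullback y).of_iso ((yon S).mapIso e') (Iso.refl _) (Iso.refl _) (Iso.refl _) ?_ ?_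
    (by simp) (by simp)
  · simp [← Category.assoc, ← Functor.map_comp]
  · simp only [Functor.mapIso_hom, Iso.refl_hom, Category.comp_id]
    rw [← Functor.map_comp, he']

/-- The ideal of the base change along `A → B` is the extended ideal. -/
theorem isPullback_map {J : Ideal A} {y : (yon S).obj (Over.mk str) ⟶ T'} {k : (yon S).obj (ptQ str J) ⟶ T}
    (h : IsPullback k ((yon S).map (jQ str J)) i y) :
    ∃ k' : (yon S).obj (ptQ (strB str φ) (J.map φ)) ⟶ T,
      IsPullback k' ((yon S).map (jQ (strB str φ) (J.map φ))) i ((yon S).map (mapB str φ) ≫ y) := by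
  let q : ptQ (strB str φ) (J.map φ) ⟶ ptQ str J :=
    Over.homMk (Spec.map (CommRingCat.ofHom (Ideal.quotientMap (J.map φ) φ Ideal.le_comap_map))) (by
      change Spec.map _ ≫ Spec.map _ ≫ str = Spec.map _ ≫ Spec.map _ ≫ str
      rw [← Category.assoc, ← Category.assoc, (InfRing.isPullback_quotient J φ).w])
  have P : IsPullback q (jQ (strB str φ) (J.map φ)) (jQ str J) (mapB str φ) := by
    refine IsPullback.of_map (Over.forget S) ?_ ?_
    · ext1; exact (InfRing.isPullback_quotient J φ).w.symm
    · exact (InfRing.isPullback_quotient J φ).flip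
  exact ⟨_, (P.map (yon S)).paste_horiz h⟩

/-- The ideal of the base change along a map of affine schemes over `S` is the extended ideal. -/
theorem isPullback_map' {J : Ideal A} {y : (yon S).obj (Over.mk str) ⟶ T'} {k : (yon S).obj (ptQ str J) ⟶ T}
    (h : IsPullback k ((yon S).map (jQ str J)) i y) {str' : Spec (CommRingCat.of B) ⟶ S}
    (v : Over.mk str' ⟶ Over.mk str) (hv : v.left = Spec.map (CommRingCat.ofHom φ)) :
    ∃ k' : (yon S).obj (ptQ str' (J.map φ)) ⟶ T,
      IsPullback k' ((yon S).map (jQ str' (J.map φ))) i ((yon S).map v ≫ y) := by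
  have hs : str' = strB str φ := by
    rw [strB, ← hv]
    exact (Over.w v).symm
  subst hs
  obtain rfl : v = mapB str φ := Over.OverMorphism.ext hv
  exact isPullback_map str φ h

end

/-- Vanishing of an ideal may be checked on flat algebras covering the spectrum. -/
theorem eq_bot_of_flat_cover {A : Type u} [CommRing A] (J : Ideal A)
    (h : ∀ p : ↥(Spec (CommRingCat.of A)), ∃ (B : Type u) (_ : CommRing B) (φ : A →+* B), φ.Flat ∧
      p ∈ Set.range (Spec.map (CommRingCat.ofHom φ)) ∧ J.map φ = ⊥) : J = ⊥ := by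
  refine eq_bot_iff.2 fun x hx => ?_
  by_contra hx0
  have hne : (Ideal.span {(0 : A)}).colon {x} ≠ ⊤ := fun h => hx0 (by
    have : (1 : A) ∈ (Ideal.span {(0 : A)}).colon {x} := h ▸ Submodule.mem_top
    simpa [Submodule.mem_colon_singleton] using this)
  obtain ⟨m, hm, hle⟩ := Ideal.exists_le_maximal _ hne
  obtain ⟨B, _, φ, hφ, ⟨q, hq⟩, hJ⟩ := h ⟨m, hm.isPrime⟩
  have hqm : m = Ideal.comap φ q.asIdeal := (congrArg PrimeSpectrum.asIdeal hq).symm
  have := hm.isPrime
  have hloc : IsLocalHom (Localization.localRingHom m q.asIdeal φ hqm) :=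
    Localization.isLocalHom_localRingHom _ _ _ hqm
  have hflat := RingHom.Flat.localRingHom hφ (P := q.asIdeal) (Q := m) hqm
  let _ : Algebra (Localization.AtPrime m) (Localization.AtPrime q.asIdeal) :=
    (Localization.localRingHom m q.asIdeal φ hqm).toAlgebra
  have : Module.Flat (Localization.AtPrime m) (Localization.AtPrime q.asIdeal) := hflat
  have : IsLocalHom (algebraMap (Localization.AtPrime m) (Localization.AtPrime q.asIdeal)) := hloc
  have : Module.FaithfullyFlat (Localization.AtPrime m) (Localization.AtPrime q.asIdeal) :=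
    Module.FaithfullyFlat.of_flat_of_isLocalHom
  have hinj := FaithfulSMul.algebraMap_injective (Localization.AtPrime m) (Localization.AtPrime q.asIdeal)
  have hφx : φ x = 0 := (Submodule.mem_bot B).1 (hJ ▸ Ideal.mem_map_of_mem φ hx)
  have : algebraMap A (Localization.AtPrime m) x = 0 := hinj (by
    change Localization.localRingHom m q.asIdeal φ hqm _ = algebraMap _ _ 0
    rw [Localization.localRingHom_to_map, hφx, map_zero, map_zero])
  obtain ⟨⟨s, hs⟩, hsx⟩ := (IsLocalization.map_eq_zero_iff m.primeCompl _ x).1 this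
  exact hs (hle (by simpa [Submodule.mem_colon_singleton] using hsx))

/-- Maps from an affine scheme to an algebraic space factor etale locally through affine etale charts. -/
theorem exists_affine_chart_lift {T' : Sp S} (hT : IsAlgSpace T') {A : Type u} [CommRing A]
    (str : Spec (CommRingCat.of A) ⟶ S) (y : (yon S).obj (Over.mk str) ⟶ T')
    (t : ↥(Spec (CommRingCat.of A))) :
    ∃ (B : Type u) (_ : CommRing B) (φ : A →+* B) (C : Type u) (_ : CommRing C)
      (strC : Spec (CommRingCat.of C) ⟶ S) (c : (yon S).obj (Over.mk strC) ⟶ T')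
      (ψ : C →+* B) (v : Over.mk (strB str φ) ⟶ Over.mk strC),
      φ.Etale ∧ t ∈ Set.range (Spec.map (CommRingCat.ofHom φ)) ∧ RepWith @Etale c ∧
      v.left = Spec.map (CommRingCat.ofHom ψ) ∧ (yon S).map v ≫ c = (yon S).map (mapB str φ) ≫ y := by
  obtain ⟨V, p, hp, hs⟩ := hT.atlas
  obtain ⟨B, _, φ, u, hφ, ⟨s, hs'⟩, hu⟩ := exists_affine_lift hp hs str y t
  obtain ⟨u, rfl⟩ := (yon S).map_surjective u
  obtain ⟨C, strC, g, hg, z, hz⟩ := exists_affine_etale V (u.left s)
  obtain ⟨q, hq, -⟩ := Scheme.exists_preimage_of_isPullback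
    ((IsPullback.of_hasPullback u g).map (Over.forget S)) s z hz.symm
  obtain ⟨i, w, hw⟩ := (pullback u g).left.affineOpenCover.openCover.exists_eq q
  let j : Spec ((pullback u g).left.affineOpenCover.X i) ⟶ (pullback u g).left :=
    (pullback u g).left.affineOpenCover.f i
  have : IsOpenImmersion j := inferInstanceAs (IsOpenImmersion ((pullback u g).left.affineOpenCover.openCover.f i))
  have : Etale (pullback.fst u g).left :=
    MorphismProperty.of_isPullback (P := @Etale) ((IsPullback.of_hasPullback u g).map (Over.forget S)).flip hg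
  obtain ⟨ρ, hρ⟩ := Spec.map_surjective (j ≫ (pullback.fst u g).left)
  obtain ⟨ψ, hψ⟩ := Spec.map_surjective (j ≫ (pullback.snd u g).left)
  let φ' := ρ.hom.comp φ
  have hj : j ≫ (pullback u g).hom = strB str φ' := by
    have h₁ : CommRingCat.ofHom φ' = CommRingCat.ofHom φ ≫ ρ := rfl
    rw [strB, h₁, Spec.map_comp, hρ, ← Over.w (pullback.fst u g)]
    simp
  let k : Over.mk (strB str φ') ⟶ pullback u g := Over.homMk j hj
  refine ⟨(pullback u g).left.affineOpenCover.X i, inferInstance, φ', C, inferInstance, strC,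
    (yon S).map g ≫ p, ψ.hom, k ≫ pullback.snd u g, ?_, ?_, ?_, hψ.symm, ?_⟩
  · refine RingHom.Etale.stableUnderComposition φ ρ.hom hφ ?_
    refine (HasRingHomProperty.Spec_iff (P := @Etale)).1 ?_
    change Etale (Spec.map ρ)
    rw [hρ]
    infer_instance
  · refine ⟨w, ?_⟩
    have h₁ : CommRingCat.ofHom φ' = CommRingCat.ofHom φ ≫ ρ := rfl
    rw [h₁, Spec.map_comp, hρ, ← hs']
    rw [← hq, ← hw]
    rfl
  · exact (repWith_isMultiplicative _).comp_mem _ _ ((repWith_yon_map_iff _ _).2 hg) hp
  · have e : mapB str φ' = (k ≫ pullback.fst u g) ≫ mapB str φ := by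
      ext1
      change Spec.map (CommRingCat.ofHom φ ≫ ρ) = _
      rw [Spec.map_comp, hρ]
      rfl
    calc (yon S).map (k ≫ pullback.snd u g) ≫ (yon S).map g ≫ p
        = (yon S).map (k ≫ pullback.fst u g) ≫ (yon S).map u ≫ p := by
          rw [← Category.assoc, ← Category.assoc, ← Functor.map_comp, ← Functor.map_comp, Category.assoc,
            Category.assoc, pullback.condition]
      _ = (yon S).map (k ≫ pullback.fst u g) ≫ (yon S).map (mapB str φ) ≫ y := congrArg _ hu
      _ = (yon S).map (mapB str φ') ≫ y := by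
          rw [← Category.assoc, ← Functor.map_comp, ← e]

/-- The ideal of the base change of a first order thickening to any affine scheme has square zero. -/
theorem exists_sqZero_chart' {T T' : Sp S} {j : T ⟶ T'} (hT : IsAlgSpace T') (hj : IsFOThickMor j)
    {A : Type u} [CommRing A] (str : Spec (CommRingCat.of A) ⟶ S) (y : (yon S).obj (Over.mk str) ⟶ T') :
    ∃ (I : Ideal A) (_ : I ^ 2 = ⊥) (k : (yon S).obj (ptQ str I) ⟶ T),
      IsPullback k ((yon S).map (jQ str I)) j y := by
  have hc : RepWith @IsClosedImmersion j := ⟨hj.1.1, fun _ _ g fst snd sq => (hj.1.2 g fst snd sq).1⟩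
  obtain ⟨J, k, hk⟩ := exists_quot_chart str hc y
  refine ⟨J, eq_bot_of_flat_cover _ fun t => ?_, k, hk⟩
  obtain ⟨B, _, φ, C, _, strC, c, ψ, v, hφ, ht, hce, hv, hvc⟩ := exists_affine_chart_lift hT str y t
  obtain ⟨K, hK, l, hl⟩ := exists_sqZero_chart hj strC c hce
  refine ⟨B, inferInstance, φ, ?_, ht, ?_⟩
  · have : Etale (Spec.map (CommRingCat.ofHom φ)) := (HasRingHomProperty.Spec_iff (P := @Etale)).2 hφ
    exact (HasRingHomProperty.Spec_iff (P := @Flat) (φ := CommRingCat.ofHom φ)).1 inferInstance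
  · obtain ⟨k', hk'⟩ := isPullback_map str φ hk
    obtain ⟨l', hl'⟩ := isPullback_map' strC ψ hl v hv
    rw [hvc] at hl'
    rw [Ideal.map_pow, ideal_eq _ hk' hl', ← Ideal.map_pow, hK, Ideal.map_bot]

/-- Square zero kernels are stable under composition with an isomorphism of affine schemes. -/
theorem ker_comp_iso_sq {X Y Z : Scheme.{u}} [IsAffine Y] [IsAffine Z] (f : X ⟶ Y) (e : Y ⟶ Z) [IsIso e]
    (h : f.ker * f.ker = ⊥) : (f ≫ e).ker * (f ≫ e).ker = ⊥ := by
  rw [Scheme.ker_of_isAffine] at h ⊢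
  have h' := congrArg (Scheme.IdealSheafData.equivOfIsAffine (X := Y)) h
  rw [map_mul] at h'
  apply (Scheme.IdealSheafData.equivOfIsAffine (X := Z)).injective
  rw [map_mul]
  refine Eq.trans ?_ (Scheme.IdealSheafData.equivOfIsAffine (X := Z)).toOrderIso.map_bot.symm
  change Scheme.IdealSheafData.equivOfIsAffine (Scheme.IdealSheafData.equivOfIsAffine.symm (RingHom.ker _)) *
    Scheme.IdealSheafData.equivOfIsAffine (Scheme.IdealSheafData.equivOfIsAffine.symm (RingHom.ker _)) = _ at h' ⊢
  rw [OrderRingIso.apply_symm_apply] at h' ⊢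
  replace h' := h'.trans (Scheme.IdealSheafData.equivOfIsAffine (X := Y)).toOrderIso.map_bot
  have hc : RingHom.ker (f ≫ e).appTop.hom = (RingHom.ker f.appTop.hom).comap e.appTop.hom :=
    (RingHom.comap_ker _ _).symm
  rw [hc, ← pow_two]
  refine eq_bot_iff.2 ((Ideal.le_comap_pow _ 2).trans ?_)
  rw [pow_two, h']
  intro x hx
  have : IsIso e.appTop := inferInstanceAs (IsIso (Scheme.Γ.map e.op))
  have hbij : Function.Bijective e.appTop.hom := ConcreteCategory.bijective_of_isIso e.appTop
  exact hbij.1 ((show e.appTop.hom x = 0 from hx).trans (map_zero _).symm)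

/-- A morphism is a first order thickening if it is a thickening whose ideals on affine etale charts have square zero. -/
theorem isFOThickMor_of_forall {T T' : Sp S} {j : T ⟶ T'} (hj : IsThickMor j)
    (h : ∀ (A : Type u) [CommRing A] (str : Spec (CommRingCat.of A) ⟶ S)
      (y : (yon S).obj (Over.mk str) ⟶ T'), RepWith @Etale y →
      ∃ (I : Ideal A) (_ : I ^ 2 = ⊥) (k : (yon S).obj (ptQ str I) ⟶ T),
        IsPullback k ((yon S).map (jQ str I)) j y) : IsFOThickMor j := by
  refine ⟨hj, fun V W b fst snd hV hb sq => ?_⟩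
  let A := Γ(V.left, ⊤)
  let str : Spec A ⟶ S := V.left.isoSpec.inv ≫ V.hom
  let e : Over.mk str ≅ V := Over.isoMk V.left.isoSpec.symm rfl
  obtain ⟨I, hI, k, hk⟩ := h A str ((yon S).map e.hom ≫ b)
    ((repWith_isMultiplicative _).comp_mem _ _
      ((repWith_yon_map_iff _ _).2 (inferInstanceAs (Etale V.left.isoSpec.inv))) hb)
  have sq' : IsPullback k ((yon S).map (jQ str I ≫ e.hom)) j b := by
    refine hk.of_iso (Iso.refl _) (Iso.refl _) ((yon S).mapIso e) (Iso.refl _) (by simp) ?_ (by simp) (by simp)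
    simp
  let θ : W ≅ ptQ str I := ((Functor.FullyFaithful.ofFullyFaithful (yon S)).preimageIso
    (sq.isoIsPullback _ _ sq'))
  have hθ : θ.hom ≫ jQ str I ≫ e.hom = snd := (yon S).map_injective (by
    rw [Functor.map_comp]
    simp [θ, -Functor.map_comp])
  have : IsIso θ.hom.left := ((Over.forget S).mapIso θ).isIso_hom
  have hk2 := ker_specMap_sq I hI
  rw [pow_two] at hk2
  unfold sqZero
  have hl : snd.left = θ.hom.left ≫ ((jQ str I).left ≫ e.hom.left) := congrArg (fun k => k.left) hθ.symm
  rw [hl, Scheme.Hom.ker_comp_of_isIso]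
  have : IsIso e.hom.left := ((Over.forget S).mapIso e).isIso_hom
  have : IsAffine (Over.mk str).left := inferInstanceAs (IsAffine (Spec A))
  exact ker_comp_iso_sq (jQ str I).left e.hom.left hk2

/-- First order thickenings are stable under base change between algebraic spaces. -/
theorem isFOThickMor_baseChange {Z Z' Y Y' : Sp S} {e : Z ⟶ Y} {iZ : Z ⟶ Z'} {iY : Y ⟶ Y'} {e' : Z' ⟶ Y'}
    (sq : IsPullback e iZ iY e') (hY : IsAlgSpace Y') (h : IsFOThickMor iY) : IsFOThickMor iZ := by
  refine isFOThickMor_of_forall ((repWith_isStableUnderBaseChange _).of_isPullback sq h.1) fun A _ str y _ => ?_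
  obtain ⟨I, hI, k, hk⟩ := exists_sqZero_chart' hY h str (y ≫ e')
  refine ⟨I, hI, sq.lift k ((yon S).map (jQ str I) ≫ y) (by rw [hk.w, Category.assoc]), ?_⟩
  refine IsPullback.of_right ?_ (sq.lift_snd _ _ _) sq
  rw [sq.lift_fst]
  exact hk

/-- `Spec (A ⧸ I) ⟶ Spec A` is a first order thickening if `I` has square zero. -/
theorem isFOThickMor_quot {A : Type u} [CommRing A] (str : Spec (CommRingCat.of A) ⟶ S) {I : Ideal A}
    (hI : I ^ 2 = ⊥) : IsFOThickMor ((yon S).map (jQ str I)) := by
  have hth : IsThickMor ((yon S).map (jQ str I)) := by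
    rw [isThickMor_yon_map_iff]
    refine ⟨IsClosedImmersion.spec_of_surjective _ Ideal.Quotient.mk_surjective, ⟨fun t => ?_⟩⟩
    change t ∈ Set.range (PrimeSpectrum.comap (Ideal.Quotient.mk I))
    rw [range_comap_of_surjective _ _ Ideal.Quotient.mk_surjective, Ideal.mk_ker]
    intro a ha
    refine (t.isPrime.mem_of_pow_mem 2 ?_)
    have := Ideal.pow_mem_pow ha 2
    rw [hI, Ideal.mem_bot] at this
    rw [this]
    exact zero_mem _
  refine isFOThickMor_of_forall hth fun B _ strB' y _ => ?_
  obtain ⟨v, rfl⟩ := (yon S).map_surjective y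
  obtain ⟨φ, hφ⟩ := Spec.map_surjective v.left
  obtain ⟨k', hk'⟩ := isPullback_map' (i := (yon S).map (jQ str I)) (T := (yon S).obj (ptQ str I)) str φ.hom
    (k := 𝟙 _) (y := 𝟙 _) (IsPullback.of_horiz_isIso ⟨by simp⟩) v hφ.symm
  rw [Category.comp_id] at hk'
  exact ⟨I.map φ.hom, by rw [← Ideal.map_pow, hI, Ideal.map_bot], k', hk'⟩

end Groth.Agent.AlgSp.InfBC
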