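import Groth.Prelude.Def_AlgSp4
import Groth.Agent.AlgSp.Basic
import Groth.Agent.AlgSp.InfGlue
import Groth.Agent.AlgSpB.Points

/-!
Surjective etale morphisms of algebraic spaces admit etale local lifts; a descent criterion for cartesian squares.
-/

universe u

open CategoryTheory CategoryTheory.Limits AlgebraicGeometry Opposite AlgSp

namespace Groth.Agent.AlgSp.InfEpi

variable {S : Scheme.{u}}

/-- A surjective etale morphism of algebraic spaces is covered by a representable etale surjection from a scheme. -/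
theorem exists_atlas_comp {B D : Sp S} (hB : IsAlgSpace B) {b : B ⟶ D} (he : IsEtaleMor b)
    (hs : IsSurjectiveMor b) :
    ∃ (W : Over S) (p : (yon S).obj W ⟶ B), RepWith @Etale p ∧ RepWith @Surjective p ∧
      RepWith @Etale (p ≫ b) ∧ RepWith @Surjective (p ≫ b) := by
  obtain ⟨W, p, hp, hps⟩ := hB.atlas
  refine ⟨W, p, hp, hps, he p hp, AlgSpB.repWith_surjective_of_surjective_ofPt (he p hp).1 fun x => ?_⟩
  obtain ⟨y, hy⟩ := hs x
  obtain ⟨w, hw⟩ := AlgSpB.surjective_ofPt hps y
  exact ⟨w, by rw [← hy, ← hw, Points.map_ofPt]⟩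

/-- Test maps to the target of a surjective etale morphism of algebraic spaces lift after one etale covering. -/
theorem exists_lift {B D : Sp S} (hB : IsAlgSpace B) {b : B ⟶ D} (he : IsEtaleMor b) (hs : IsSurjectiveMor b)
    {U : Over S} (y : (yon S).obj U ⟶ D) :
    ∃ (U' : Over S) (g : U' ⟶ U) (β : (yon S).obj U' ⟶ B), Etale g.left ∧ Surjective g.left ∧
      β ≫ b = (yon S).map g ≫ y := by
  obtain ⟨W, p, -, -, hpb, hpbs⟩ := exists_atlas_comp hB he hs
  refine ⟨hpb.1.pullback y, hpb.1.snd y, hpb.1.fst y ≫ p, hpb.2 _ _ _ (hpb.1.isPullback y),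
    hpbs.2 _ _ _ (hpb.1.isPullback y), ?_⟩
  rw [Category.assoc, (hpb.1.isPullback y).w]

/-- Cartesian squares descend along surjective etale morphisms of algebraic spaces. -/
theorem isPullback_of_descent {A B C D E F : Sp S} (hB : IsAlgSpace B) {ac : A ⟶ C} {ab : A ⟶ B}
    {cd : C ⟶ D} {bd : B ⟶ D} {ce : C ⟶ E} {df : D ⟶ F} {ef : E ⟶ F} (hl : IsPullback ac ab cd bd)
    (w : ce ≫ ef = cd ≫ df) (hout : IsPullback (ac ≫ ce) ab ef (bd ≫ df)) (he : IsEtaleMor bd)
    (hs : IsSurjectiveMor bd) : IsPullback ce cd ef df := by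
  have key : ∀ (U : Over S) (x : (yon S).obj U ⟶ E) (y : (yon S).obj U ⟶ D), x ≫ ef = y ≫ df →
      ∃! z : (yon S).obj U ⟶ C, z ≫ ce = x ∧ z ≫ cd = y := by
    have uniq : ∀ (U : Over S) (z z' : (yon S).obj U ⟶ C), z ≫ ce = z' ≫ ce → z ≫ cd = z' ≫ cd → z = z' := by
      intro U z z' h₁ h₂
      obtain ⟨U', g, β, hg, hg', hβ⟩ := exists_lift hB he hs (z ≫ cd)
      refine InfGlue.hom_ext_cover (fun _ : PUnit.{1} => g) (fun _ => hg) (fun t => ⟨⟨⟩, g.left.surjective t⟩)
        _ _ fun _ => ?_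
      have e₁ : ((yon S).map g ≫ z) ≫ cd = β ≫ bd := by rw [hβ, Category.assoc]
      have e₂ : ((yon S).map g ≫ z') ≫ cd = β ≫ bd := by rw [hβ, Category.assoc, h₂]
      rw [← hl.lift_fst _ β e₁, ← hl.lift_fst _ β e₂]
      congr 1
      refine hout.hom_ext ?_ ?_
      · rw [← Category.assoc, ← Category.assoc, hl.lift_fst, hl.lift_fst, Category.assoc, h₁, Category.assoc]
      · rw [hl.lift_snd, hl.lift_snd]
    intro U x y hxy
    obtain ⟨U', g, β, hg, hg', hβ⟩ := exists_lift hB he hs y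
    have e : ((yon S).map g ≫ x) ≫ ef = β ≫ bd ≫ df := by
      rw [Category.assoc, hxy, ← Category.assoc β, hβ, Category.assoc]
    let α := hout.lift ((yon S).map g ≫ x) β e
    have hα₁ : (α ≫ ac) ≫ ce = (yon S).map g ≫ x := by rw [Category.assoc]; exact hout.lift_fst _ _ _
    have hα₂ : (α ≫ ac) ≫ cd = (yon S).map g ≫ y := by
      rw [Category.assoc, hl.w, ← Category.assoc, hout.lift_snd, hβ]
    obtain ⟨z, hz⟩ := InfGlue.exists_glue (fun _ : PUnit.{1} => g) (fun _ => hg)
      (fun t => ⟨⟨⟩, g.left.surjective t⟩) (fun _ => α ≫ ac) fun _ _ Z a a' w' => by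
        have e' : (yon S).map a ≫ (yon S).map g = (yon S).map a' ≫ (yon S).map g := by
          rw [← Functor.map_comp, ← Functor.map_comp, w']
        refine uniq _ _ _ ?_ ?_
        · calc _ = (yon S).map a ≫ (yon S).map g ≫ x := by rw [Category.assoc, hα₁]
            _ = (yon S).map a' ≫ (yon S).map g ≫ x := (reassoc_of% e') x
            _ = _ := by rw [Category.assoc, hα₁]
        · calc _ = (yon S).map a ≫ (yon S).map g ≫ y := by rw [Category.assoc, hα₂]
            _ = (yon S).map a' ≫ (yon S).map g ≫ y := (reassoc_of% e') y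
            _ = _ := by rw [Category.assoc, hα₂]
    refine ⟨z, ⟨?_, ?_⟩, fun z' hz' => uniq _ _ _ ?_ ?_⟩
    · refine InfGlue.hom_ext_cover (fun _ : PUnit.{1} => g) (fun _ => hg) (fun t => ⟨⟨⟩, g.left.surjective t⟩) _ _
        fun _ => ?_
      rw [← Category.assoc, hz ⟨⟩, hα₁]
    · refine InfGlue.hom_ext_cover (fun _ : PUnit.{1} => g) (fun _ => hg) (fun t => ⟨⟨⟩, g.left.surjective t⟩) _ _
        fun _ => ?_
      rw [← Category.assoc, hz ⟨⟩, hα₂]
    · rw [hz'.1]
      refine (InfGlue.hom_ext_cover (fun _ : PUnit.{1} => g) (fun _ => hg) (fun t => ⟨⟨⟩, g.left.surjective t⟩) _ _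
        fun _ => ?_).symm
      rw [← Category.assoc, hz ⟨⟩, hα₁]
    · rw [hz'.2]
      refine (InfGlue.hom_ext_cover (fun _ : PUnit.{1} => g) (fun _ => hg) (fun t => ⟨⟨⟩, g.left.surjective t⟩) _ _
        fun _ => ?_).symm
      rw [← Category.assoc, hz ⟨⟩, hα₂]
  let u : C ⟶ pullback ef df := pullback.lift ce cd w
  have hu₁ : u ≫ pullback.fst ef df = ce := pullback.lift_fst _ _ _
  have hu₂ : u ≫ pullback.snd ef df = cd := pullback.lift_snd _ _ _
  have hu : IsIso u := by
    have : ∀ X, IsIso (u.hom.app X) := fun X => by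
      rw [isIso_iff_bijective]
      refine ⟨fun s s' hss => ?_, fun t => ?_⟩
      · apply AlgSp.yEquiv.symm.injective
        have h : AlgSp.yEquiv.symm s ≫ u = AlgSp.yEquiv.symm s' ≫ u := AlgSp.yEquiv.injective (by
          simpa only [AlgSp.yEquiv_comp, Equiv.apply_symm_apply] using hss)
        exact (key _ _ _ (by simp only [Category.assoc, w])).unique
          (y₁ := AlgSp.yEquiv.symm s) (y₂ := AlgSp.yEquiv.symm s') ⟨rfl, rfl⟩
          ⟨(congrArg (fun k => (AlgSp.yEquiv.symm s') ≫ k) hu₁).symm.trans ((Category.assoc _ _ _).symm.trans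
              ((congrArg (· ≫ pullback.fst ef df) h).symm.trans ((Category.assoc _ _ _).trans (congrArg (_ ≫ ·) hu₁)))),
           (congrArg (fun k => (AlgSp.yEquiv.symm s') ≫ k) hu₂).symm.trans ((Category.assoc _ _ _).symm.trans
              ((congrArg (· ≫ pullback.snd ef df) h).symm.trans ((Category.assoc _ _ _).trans (congrArg (_ ≫ ·) hu₂))))⟩
      · obtain ⟨z, ⟨h₁, h₂⟩, -⟩ := key X.unop (AlgSp.yEquiv.symm t ≫ pullback.fst ef df)
          (AlgSp.yEquiv.symm t ≫ pullback.snd ef df) (by simp only [Category.assoc, pullback.condition])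
        refine ⟨AlgSp.yEquiv z, ?_⟩
        have h : z ≫ u = AlgSp.yEquiv.symm t := pullback.hom_ext (by rw [Category.assoc, hu₁]; exact h₁) (by rw [Category.assoc, hu₂]; exact h₂)
        exact ((AlgSp.yEquiv_comp z u).symm.trans (congrArg AlgSp.yEquiv h)).trans (Equiv.apply_symm_apply _ _)
    have : IsIso u.hom := NatIso.isIso_of_isIso_app _
    have : IsIso ((sheafToPresheaf (J S) _).map u) := this
    exact isIso_of_fully_faithful (sheafToPresheaf (J S) _) u
  exact IsPullback.of_iso_pullback ⟨w⟩ (asIso u) hu₁ hu₂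

end Groth.Agent.AlgSp.InfEpi
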