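import Groth.Prelude.Def_AlgSp4
import Groth.Agent.AlgSp.Basic
import Groth.Agent.AlgSp.InfGlue

/-!
Etale morphisms of algebraic spaces are formally etale.
-/

universe u

open CategoryTheory CategoryTheory.Limits AlgebraicGeometry Opposite AlgSp

namespace Groth.Agent.AlgSp.InfEtale

open InfGlue

variable {S : Scheme.{u}}

/-- The kernel ideal sheaf of `Spec (A ⧸ I) ⟶ Spec A` squares to zero when `I` does. -/
theorem ker_specMap_sq {A : Type u} [CommRing A] (I : Ideal A) (hI : I ^ 2 = ⊥) :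
    (Spec.map (CommRingCat.ofHom (Ideal.Quotient.mk I))).ker ^ 2 = ⊥ := by
  rw [Scheme.ker_of_isAffine]
  refine (Scheme.IdealSheafData.equivOfIsAffine (X := Spec (CommRingCat.of A))).injective ?_
  rw [map_pow]
  change (Scheme.IdealSheafData.equivOfIsAffine
    (Scheme.IdealSheafData.equivOfIsAffine.symm (RingHom.ker _))) ^ 2 = _
  rw [OrderRingIso.apply_symm_apply]
  refine Eq.trans ?_ (Scheme.IdealSheafData.equivOfIsAffine (X := Spec (CommRingCat.of A))).toOrderIso.map_bot.symm
  refine eq_bot_iff.2 ?_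
  let e := (Scheme.ΓSpecIso (CommRingCat.of A)).commRingCatIsoToRingEquiv
  have hk : RingHom.ker ((Spec.map (CommRingCat.ofHom (Ideal.Quotient.mk I))).appTop).hom = I.comap e.toRingHom := by
    ext x
    have h := congr($(Scheme.ΓSpecIso_naturality (CommRingCat.ofHom (Ideal.Quotient.mk I))).hom x)
    rw [Ideal.mem_comap, RingHom.mem_ker, ← Ideal.Quotient.eq_zero_iff_mem]
    change _ ↔ Ideal.Quotient.mk I (e x) = 0
    rw [show Ideal.Quotient.mk I (e x) = _ from h.symm]
    exact (map_eq_zero_iff _ (Scheme.ΓSpecIso (CommRingCat.of (A ⧸ I))).commRingCatIsoToRingEquiv.injective).symm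
  rw [hk]
  refine (Ideal.le_comap_pow _ 2).trans ?_
  rw [hI]
  exact fun x hx => e.injective ((show e.toRingHom x = 0 from hx).trans (map_zero e).symm)

/-- Formally unramified morphisms of schemes are formally unramified as maps of sheaves. -/
theorem formallyUnramified_yon {U V : Over S} (g : U ⟶ V) [FormallyUnramified g.left] :
    IsFormallyUnramifiedMor ((yon S).map g) := by
  intro sq l l' h₁ h₂ h₃ h₄
  obtain ⟨x, rfl⟩ := (yon S).map_surjective l
  obtain ⟨x', rfl⟩ := (yon S).map_surjective l'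
  congr 1
  ext1
  have : IsClosedImmersion sq.j.left := IsClosedImmersion.spec_of_surjective _ Ideal.Quotient.mk_surjective
  refine FormallyUnramified.hom_ext sq.j.left ⟨2, ?_⟩ g.left ?_ ?_
  · exact ker_specMap_sq sq.I sq.sq_zero
  · have e : sq.j ≫ x = sq.j ≫ x' := (yon S).map_injective (by rw [Functor.map_comp, Functor.map_comp, h₁, h₃])
    exact congr($(e).left)
  · have e : x ≫ g = x' ≫ g := (yon S).map_injective (by rw [Functor.map_comp, Functor.map_comp, h₂, h₄])
    exact congr($(e).left)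

/-- A formally unramified morphism of schemes which, after base change to any affine scheme, is given near each
point by a formally smooth ring map is formally etale as a map of sheaves. -/
theorem formallyEtale_yon_of {U V : Over S} (g : U ⟶ V) [FormallyUnramified g.left]
    (H : ∀ (A : Type u) [CommRing A] (y : Spec (CommRingCat.of A) ⟶ V.left) (p : ↥(pullback g.left y)),
      ∃ (R : CommRingCat.{u}) (j : Spec R ⟶ pullback g.left y) (ρ : CommRingCat.of A ⟶ R),
        IsOpenImmersion j ∧ p ∈ Set.range j ∧ Spec.map ρ = j ≫ pullback.snd g.left y ∧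
          ρ.hom.FormallySmooth) :
    IsFormallyEtaleMor ((yon S).map g) := by
  intro sq
  have hu := formallyUnramified_yon g
  suffices sq.HasLift by
    obtain ⟨l, h₁, h₂⟩ := this
    exact ⟨l, ⟨h₁, h₂⟩, fun l' hl' => hu sq l' l hl'.1 hl'.2 h₁ h₂⟩
  refine hasLift_of_local hu sq fun t => ?_
  obtain ⟨x, hx⟩ := (yon S).map_surjective sq.top
  obtain ⟨y, hy⟩ := (yon S).map_surjective sq.bot
  have hc : x ≫ g = sq.j ≫ y := (yon S).map_injective (by
    rw [Functor.map_comp, Functor.map_comp, hx, hy]; exact sq.comm)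
  let π := pullback.snd g.left y.left
  let σ : sq.ptT.left ⟶ pullback g.left y.left :=
    pullback.lift x.left sq.j.left congr($(hc).left)
  have hσ : σ ≫ π = sq.j.left := pullback.lift_snd _ _ _
  have : IsClosedImmersion sq.j.left := IsClosedImmersion.spec_of_surjective _ Ideal.Quotient.mk_surjective
  obtain ⟨t₀, ht₀⟩ : t ∈ Set.range sq.j.left := by
    change t ∈ Set.range (PrimeSpectrum.comap (Ideal.Quotient.mk sq.I))
    rw [range_comap_of_surjective _ _ Ideal.Quotient.mk_surjective, Ideal.mk_ker]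
    intro a ha
    refine (t.isPrime.mem_of_pow_mem 2 ?_)
    have := Ideal.pow_mem_pow ha 2
    rw [sq.sq_zero, Ideal.mem_bot] at this
    rw [this]
    exact zero_mem _
  let Q := pullback g.left y.left
  obtain ⟨R, j, ρ, _, ⟨q, hq⟩, hρ, hρ'⟩ := H sq.A y.left (σ t₀)
  have hW : IsOpen (σ ⁻¹' Set.range j) := σ.continuous.isOpen_preimage _ j.isOpenEmbedding.isOpen_range
  obtain ⟨W, hW', hWeq⟩ := sq.j.left.isClosedEmbedding.isInducing.isOpen_iff.1 hW
  have htW : t ∈ W := by
    have : t₀ ∈ σ ⁻¹' Set.range j := ⟨q, hq⟩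
    rw [← hWeq] at this
    rw [← ht₀]; exact this
  obtain ⟨_, ⟨a, rfl⟩, hta, haW⟩ :=
    PrimeSpectrum.isTopologicalBasis_basic_opens.exists_subset_of_mem_open htW hW'
  let φ : sq.A →+* Localization.Away a := algebraMap _ _
  have hrange : Set.range (Spec.map (CommRingCat.ofHom φ)) = ((PrimeSpectrum.basicOpen a : TopologicalSpace.Opens (PrimeSpectrum sq.A)) : Set (PrimeSpectrum sq.A)) :=
    PrimeSpectrum.localization_away_comap_range _ a
  have hsub : Set.range ((toT sq φ).left ≫ σ) ⊆ Set.range j := by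
    rintro _ ⟨z, rfl⟩
    have hz : (toT sq φ).left z ∈ sq.j.left ⁻¹' W := by
      apply haW
      refine (Set.ext_iff.1 hrange _).1 ?_
      exact ⟨(jR sq φ).left z, congr(($(jR_toT' sq φ)).left z)⟩
    rw [hWeq] at hz
    exact hz
  let k : (ptR₀ sq φ).left ⟶ Spec R := IsOpenImmersion.lift j ((toT sq φ).left ≫ σ) hsub
  have hk : k ≫ j = (toT sq φ).left ≫ σ := IsOpenImmersion.lift_fac _ _ _
  obtain ⟨χ, hχ⟩ := Spec.map_surjective k
  let _ : Algebra sq.A R := ρ.hom.toAlgebra
  have : Algebra.FormallySmooth sq.A R := hρ'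
  have hcomm : CommRingCat.ofHom φ ≫ CommRingCat.ofHom (Ideal.Quotient.mk (sq.I.map φ)) = ρ ≫ χ := by
    apply Spec.map_injective
    rw [Spec.map_comp, Spec.map_comp, hχ, hρ, reassoc_of% hk, hσ]
    exact congr($(jR_toT' sq φ).left)
  let χ' : R →ₐ[sq.A] (Localization.Away a) ⧸ sq.I.map φ :=
    { χ.hom with commutes' := fun r => (congr($(hcomm).hom r)).symm }
  obtain ⟨l, hl⟩ := Algebra.FormallySmooth.comp_surjective sq.A R (sq.I.map φ)
    (by rw [← Ideal.map_pow, sq.sq_zero, Ideal.map_bot]) χ'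
  let m : ptR sq φ ⟶ U := Over.homMk (Spec.map (CommRingCat.ofHom l.toRingHom) ≫ j ≫ pullback.fst g.left y.left) (by
    change _ = Spec.map _ ≫ sq.str
    rw [← Over.w g, Category.assoc, Category.assoc, pullback.condition_assoc, Over.w y]
    change Spec.map _ ≫ j ≫ π ≫ sq.str = _
    rw [← Category.assoc j, ← hρ, ← Spec.map_comp_assoc]
    congr 2
    ext r
    exact l.commutes r)
  refine ⟨Localization.Away a, inferInstance, φ, (yon S).map m,
    RingHom.etale_algebraMap.2 (Algebra.Etale.of_isLocalizationAway a), ?_, ?_, ?_⟩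
  · exact (Set.ext_iff.1 hrange _).2 hta
  · rw [← hx, ← Functor.map_comp, ← Functor.map_comp]
    congr 1
    ext1
    change Spec.map _ ≫ Spec.map _ ≫ j ≫ pullback.fst g.left y.left = (toT sq φ).left ≫ x.left
    rw [← Spec.map_comp_assoc]
    have : CommRingCat.ofHom l.toRingHom ≫ CommRingCat.ofHom (Ideal.Quotient.mk (sq.I.map φ)) = χ :=
      CommRingCat.hom_ext (RingHom.ext fun r => congr($hl r))
    rw [this, hχ, reassoc_of% hk, pullback.lift_fst]
  · rw [← hy, ← Functor.map_comp, ← Functor.map_comp]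
    congr 1
    ext1
    change (Spec.map _ ≫ j ≫ pullback.fst g.left y.left) ≫ g.left = Spec.map _ ≫ y.left
    rw [Category.assoc, Category.assoc, pullback.condition, ← Category.assoc j]
    change Spec.map _ ≫ (j ≫ π) ≫ y.left = _
    rw [← hρ, ← Spec.map_comp_assoc]
    congr 2
    ext r
    exact l.commutes r

/-- Etale morphisms of schemes are formally etale as maps of sheaves. -/
theorem formallyEtale_yon {U V : Over S} (g : U ⟶ V) [Etale g.left] :
    IsFormallyEtaleMor ((yon S).map g) := by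
  refine formallyEtale_yon_of g fun A _ y p => ?_
  let Q := pullback g.left y
  obtain ⟨i, q, hq⟩ := Q.affineOpenCover.openCover.exists_eq p
  let j : Spec (Q.affineOpenCover.X i) ⟶ Q := Q.affineOpenCover.f i
  have : IsOpenImmersion j := inferInstanceAs (IsOpenImmersion (Q.affineOpenCover.openCover.f i))
  obtain ⟨ρ, hρ⟩ := Spec.map_surjective (j ≫ pullback.snd g.left y)
  refine ⟨_, j, ρ, this, ⟨q, hq⟩, hρ, ?_⟩
  have hρ' : ρ.hom.Etale := by
    rw [← HasRingHomProperty.Spec_iff (P := @Etale), hρ]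
    infer_instance
  let _ := ρ.hom.toAlgebra
  have : Algebra.Etale A (Q.affineOpenCover.X i) := hρ'
  exact inferInstanceAs (Algebra.FormallySmooth A _)

variable {F G : Sp S}

/-- A representable etale morphism of sheaves is formally etale. -/
theorem formallyEtale_of_repWith_etale {a : F ⟶ G} (ha : RepWith @Etale a) : IsFormallyEtaleMor a := by
  intro sq
  let P := ha.1.pullback sq.bot
  let p : P ⟶ sq.ptT' := ha.1.snd sq.bot
  have hp : Etale p.left := ha.2 _ _ _ (ha.1.isPullback sq.bot)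
  let σ : sq.ptT ⟶ P := ha.1.lift (g := sq.bot) sq.top sq.j sq.comm
  let sq' : InfSq ((yon S).map p) :=
    ⟨sq.A, sq.I, sq.sq_zero, sq.str, (yon S).map σ, 𝟙 _, by
      rw [← Functor.map_comp]
      simp [σ, p]⟩
  obtain ⟨m, ⟨hm₁, hm₂⟩, hmu⟩ := formallyEtale_yon p sq'
  refine ⟨m ≫ ha.1.fst sq.bot, ⟨?_, ?_⟩, fun l hl => ?_⟩
  · rw [← Category.assoc]
    erw [hm₁]
    simp [sq', σ]
  · rw [Category.assoc, (ha.1.isPullback sq.bot).w, ← Category.assoc]
    erw [hm₂]
    exact Category.id_comp _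
  · have e : (yon S).map (ha.1.lift (g := sq.bot) l (𝟙 _) (by simpa using hl.2)) = m := by
      refine hmu _ ⟨?_, ?_⟩
      · change _ = (yon S).map σ
        rw [← Functor.map_comp]
        congr 1
        refine ha.1.hom_ext ?_ ?_
        · simp [σ]
          exact hl.1
        · simp [σ]
          exact Category.comp_id _
      · change _ = 𝟙 _
        rw [← Functor.map_comp]
        simp [p]
        rfl
    rw [← e]
    simp

/-- Maps to the target of a representable etale surjection lift etale locally. -/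
theorem exists_affine_lift {F' : Sp S} {a : F' ⟶ F} (ha : RepWith @Etale a) (hs : RepWith @Surjective a)
    {A : Type u} [CommRing A] (str : Spec (CommRingCat.of A) ⟶ S)
    (y : (yon S).obj (Over.mk str) ⟶ F) (t : ↥(Spec (CommRingCat.of A))) :
    ∃ (B : Type u) (_ : CommRing B) (φ : A →+* B)
      (u : (yon S).obj (Over.mk (Spec.map (CommRingCat.ofHom φ) ≫ str)) ⟶ F'),
      φ.Etale ∧ t ∈ Set.range (Spec.map (CommRingCat.ofHom φ)) ∧
      u ≫ a = (yon S).map (Over.homMk (Spec.map (CommRingCat.ofHom φ)) rfl :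
        Over.mk (Spec.map (CommRingCat.ofHom φ) ≫ str) ⟶ Over.mk str) ≫ y := by
  let P := ha.1.pullback y
  let p : P ⟶ Over.mk str := ha.1.snd y
  have hp : Etale p.left := ha.2 _ _ _ (ha.1.isPullback y)
  have hp' : Surjective p.left := hs.2 _ _ _ (ha.1.isPullback y)
  obtain ⟨x, hx⟩ := p.left.surjective t
  obtain ⟨i, q, hq⟩ := P.left.affineOpenCover.openCover.exists_eq x
  let j : Spec (P.left.affineOpenCover.X i) ⟶ P.left := P.left.affineOpenCover.f i
  have : IsOpenImmersion j := inferInstanceAs (IsOpenImmersion (P.left.affineOpenCover.openCover.f i))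
  obtain ⟨ρ, hρ⟩ := Spec.map_surjective (j ≫ p.left)
  let k : Over.mk (Spec.map ρ ≫ str) ⟶ P := Over.homMk j (by
    have := Over.w p
    simp only [Over.mk_left, Functor.id_obj, Functor.const_obj_obj, Over.mk_hom] at this ⊢
    rw [hρ, Category.assoc, this])
  refine ⟨P.left.affineOpenCover.X i, inferInstance, ρ.hom, (yon S).map k ≫ ha.1.fst y, ?_, ?_, ?_⟩
  · rw [← HasRingHomProperty.Spec_iff (P := @Etale), hρ]
    infer_instance
  · refine ⟨q, ?_⟩
    rw [← hx, ← hq]
    exact congr($hρ q)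
  · rw [Category.assoc, (ha.1.isPullback y).w, ← Category.assoc, ← Functor.map_comp]
    congr 2
    ext1
    exact hρ.symm

/-- Formal unramifiedness may be checked after a representable etale surjection onto the source. -/
theorem formallyUnramified_of_cover {F' : Sp S} {a : F' ⟶ F} (ha : RepWith @Etale a)
    (hs : RepWith @Surjective a) {f : F ⟶ G} (h : IsFormallyUnramifiedMor (a ≫ f)) :
    IsFormallyUnramifiedMor f := by
  intro sq l l' h₁ h₂ h₃ h₄
  refine hom_ext_local _ l l' fun t => ?_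
  obtain ⟨B, _, φ, u, hφ, ht, hu⟩ := exists_affine_lift ha hs sq.str l t
  refine ⟨ptR sq φ, toT' sq φ, (HasRingHomProperty.Spec_iff (P := @Etale)).2 hφ, ht, ?_⟩
  let l'' : (yon S).obj (ptR sq φ) ⟶ F := (yon S).map (toT' sq φ) ≫ l'
  let sqa : InfSq a :=
    ⟨B, sq.I.map φ, (restrict sq φ).sq_zero, (restrict sq φ).str, (yon S).map (jR sq φ) ≫ u, l'', by
      rw [Category.assoc, hu]
      change (yon S).map (jR sq φ) ≫ (yon S).map (toT' sq φ) ≫ l =
        (yon S).map (jR sq φ) ≫ (yon S).map (toT' sq φ) ≫ l'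
      rw [← Category.assoc, ← Category.assoc, ← Functor.map_comp, jR_toT', Functor.map_comp,
        Category.assoc, Category.assoc, h₁, h₃]⟩
  obtain ⟨u', ⟨hu₁, hu₂⟩, -⟩ := formallyEtale_of_repWith_etale ha sqa
  have e : u = u' := by
    let sqf : InfSq (a ≫ f) :=
      ⟨B, sq.I.map φ, (restrict sq φ).sq_zero, (restrict sq φ).str, (yon S).map (jR sq φ) ≫ u,
        (yon S).map (toT' sq φ) ≫ sq.bot, by
        rw [Category.assoc, reassoc_of% hu, h₂]
        rfl⟩
    refine h sqf u u' rfl ?_ hu₁ ?_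
    · change _ = (yon S).map (toT' sq φ) ≫ sq.bot
      erw [← Category.assoc, hu, Category.assoc, h₂]
      rfl
    · change _ = (yon S).map (toT' sq φ) ≫ sq.bot
      erw [← Category.assoc, hu₂]
      change ((yon S).map (toT' sq φ) ≫ l') ≫ f = _
      erw [Category.assoc, h₄]
  rw [← hu, e]
  exact hu₂

/-- Formal etaleness may be checked after a representable etale surjection onto the source. -/
theorem formallyEtale_of_cover {F' : Sp S} {a : F' ⟶ F} (ha : RepWith @Etale a)
    (hs : RepWith @Surjective a) {f : F ⟶ G} (h : IsFormallyEtaleMor (a ≫ f)) :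
    IsFormallyEtaleMor f := by
  have hu : IsFormallyUnramifiedMor f := formallyUnramified_of_cover ha hs fun sq l l' h₁ h₂ h₃ h₄ =>
    (h sq).unique ⟨h₁, h₂⟩ ⟨h₃, h₄⟩
  intro sq
  suffices sq.HasLift by
    obtain ⟨l, h₁, h₂⟩ := this
    exact ⟨l, ⟨h₁, h₂⟩, fun l' hl' => hu sq l' l hl'.1 hl'.2 h₁ h₂⟩
  refine hasLift_of_local hu sq fun t => ?_
  let P := ha.1.pullback sq.top
  let p : P ⟶ sq.ptT := ha.1.snd sq.top
  have hp : Etale p.left := ha.2 _ _ _ (ha.1.isPullback sq.top)
  have hp' : Surjective p.left := hs.2 _ _ _ (ha.1.isPullback sq.top)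
  obtain ⟨t₀, ht₀⟩ : t ∈ Set.range sq.j.left := by
    change t ∈ Set.range (PrimeSpectrum.comap (Ideal.Quotient.mk sq.I))
    rw [range_comap_of_surjective _ _ Ideal.Quotient.mk_surjective, Ideal.mk_ker]
    intro a ha
    refine (t.isPrime.mem_of_pow_mem 2 ?_)
    have := Ideal.pow_mem_pow ha 2
    rw [sq.sq_zero, Ideal.mem_bot] at this
    rw [this]
    exact zero_mem _
  obtain ⟨x, hx⟩ := p.left.surjective t₀
  obtain ⟨B, _, φ, k, hφ, hk, hxk⟩ := InfRing.exists_etale_lift sq.I p.left x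
  let k' : ptR₀ sq φ ⟶ P := Over.homMk k (by
    rw [← Over.w p]
    change k ≫ p.left ≫ sq.ptT.hom = _
    rw [reassoc_of% hk]
    exact Over.w (toT sq φ))
  have hk' : k' ≫ p = toT sq φ := by ext1; exact hk
  let v : (yon S).obj (ptR₀ sq φ) ⟶ F' := (yon S).map k' ≫ ha.1.fst sq.top
  have hv : v ≫ a = (yon S).map (toT sq φ) ≫ sq.top := by
    rw [Category.assoc, (ha.1.isPullback sq.top).w, ← Category.assoc, ← Functor.map_comp, hk']
  let sqf : InfSq (a ≫ f) :=
    ⟨B, sq.I.map φ, (restrict sq φ).sq_zero, (restrict sq φ).str, v, (yon S).map (toT' sq φ) ≫ sq.bot, by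
      refine (Category.assoc _ _ _).symm.trans ((congrArg (· ≫ f) hv).trans ?_)
      exact (Category.assoc _ _ _).symm.trans (restrict sq φ).comm⟩
  obtain ⟨m, ⟨hm₁, hm₂⟩, -⟩ := h sqf
  refine ⟨B, inferInstance, φ, m ≫ a, hφ, ?_, ?_, ?_⟩
  · obtain ⟨z, hz⟩ := hxk
    refine ⟨(jR sq φ).left z, ?_⟩
    rw [← ht₀, ← hx, ← hz]
    exact (congr(($(jR_toT' sq φ)).left z)).trans (congr(sq.j.left ($hk z))).symm
  · change (yon S).map (jR sq φ) ≫ m ≫ a = _
    erw [← Category.assoc, hm₁]
    exact hv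
  · exact (Category.assoc _ _ _).trans hm₂

/-- An etale morphism whose source has an etale chart is formally etale. -/
theorem formallyEtale_of_isEtaleMor {f : F ⟶ G} (hF : IsAlgSpace F) (hf : IsEtaleMor f) :
    IsFormallyEtaleMor f := by
  obtain ⟨U, p, hp₁, hp₂⟩ := hF.atlas
  exact formallyEtale_of_cover hp₁ hp₂ (formallyEtale_of_repWith_etale (hf p hp₁))

/-- Formal unramifiedness is etale local on the target. -/
theorem formallyUnramified_of_baseChange {G' P : Sp S} {b : G' ⟶ G} (hb : RepWith @Etale b)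
    (hs : RepWith @Surjective b) {f : F ⟶ G} {fst : P ⟶ F} {snd : P ⟶ G'} (sqP : IsPullback fst snd f b)
    (h : IsFormallyUnramifiedMor snd) : IsFormallyUnramifiedMor f := by
  intro sq l l' h₁ h₂ h₃ h₄
  refine hom_ext_local _ l l' fun t => ?_
  obtain ⟨B, _, φ, v, hφ, ht, hv⟩ := exists_affine_lift hb hs sq.str sq.bot t
  refine ⟨ptR sq φ, toT' sq φ, (HasRingHomProperty.Spec_iff (P := @Etale)).2 hφ, ht, ?_⟩
  let lift (m : (yon S).obj sq.ptT' ⟶ F) (hm : m ≫ f = sq.bot) : (yon S).obj (ptR sq φ) ⟶ P :=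
    sqP.lift ((yon S).map (toT' sq φ) ≫ m) v (by rw [Category.assoc, hm, hv])
  let sq' : InfSq snd :=
    ⟨B, sq.I.map φ, (restrict sq φ).sq_zero, (restrict sq φ).str,
      (yon S).map (jR sq φ) ≫ lift l h₂, v, by
      rw [Category.assoc, sqP.lift_snd]; rfl⟩
  have e : lift l h₂ = lift l' h₄ := by
    refine h sq' _ _ rfl (sqP.lift_snd _ _ _) ?_ (sqP.lift_snd _ _ _)
    change (yon S).map (jR sq φ) ≫ lift l' h₄ = (yon S).map (jR sq φ) ≫ lift l h₂
    refine sqP.hom_ext ?_ (by simp only [lift, Category.assoc, IsPullback.lift_snd])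
    simp only [lift, Category.assoc, IsPullback.lift_fst]
    rw [← Category.assoc, ← Category.assoc, ← Functor.map_comp, jR_toT', Functor.map_comp, Category.assoc,
      Category.assoc, h₁, h₃]
  have := congr($e ≫ fst)
  simpa [lift] using this

/-- Formal etaleness is etale local on the target. -/
theorem formallyEtale_of_baseChange {G' P : Sp S} {b : G' ⟶ G} (hb : RepWith @Etale b)
    (hs : RepWith @Surjective b) {f : F ⟶ G} {fst : P ⟶ F} {snd : P ⟶ G'} (sqP : IsPullback fst snd f b)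
    (h : IsFormallyEtaleMor snd) : IsFormallyEtaleMor f := by
  have hu : IsFormallyUnramifiedMor f := formallyUnramified_of_baseChange hb hs sqP
    fun sq l l' h₁ h₂ h₃ h₄ => (h sq).unique ⟨h₁, h₂⟩ ⟨h₃, h₄⟩
  intro sq
  suffices sq.HasLift by
    obtain ⟨l, h₁, h₂⟩ := this
    exact ⟨l, ⟨h₁, h₂⟩, fun l' hl' => hu sq l' l hl'.1 hl'.2 h₁ h₂⟩
  refine hasLift_of_local hu sq fun t => ?_
  obtain ⟨B, _, φ, v, hφ, ht, hv⟩ := exists_affine_lift hb hs sq.str sq.bot t
  let r := sqP.lift ((yon S).map (toT sq φ) ≫ sq.top) ((yon S).map (jR sq φ) ≫ v) (by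
    rw [Category.assoc, Category.assoc, hv]
    exact (Category.assoc _ _ _).symm.trans (restrict sq φ).comm)
  let sq' : InfSq snd :=
    ⟨B, sq.I.map φ, (restrict sq φ).sq_zero, (restrict sq φ).str, r, v, sqP.lift_snd _ _ _⟩
  obtain ⟨m, ⟨hm₁, hm₂⟩, -⟩ := h sq'
  refine ⟨B, inferInstance, φ, m ≫ fst, hφ, ht, ?_, ?_⟩
  · change (yon S).map (jR sq φ) ≫ m ≫ fst = _
    erw [← Category.assoc, hm₁]
    exact sqP.lift_fst _ _ _
  · exact (Category.assoc _ _ _).trans ((congrArg (m ≫ ·) sqP.w).trans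
      ((Category.assoc _ _ _).symm.trans ((congrArg (· ≫ b) hm₂).trans hv)))

end Groth.Agent.AlgSp.InfEtale
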