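import Groth.Agent.AlgSp.InfEtale
import Mathlib.AlgebraicGeometry.Morphisms.Flat
import Mathlib.RingTheory.Ideal.Pure
import Mathlib.RingTheory.Unramified.LocalStructure

/-!
Flat unramified morphisms are formally etale.
-/

universe u

open CategoryTheory CategoryTheory.Limits AlgebraicGeometry Opposite AlgSp
open scoped TensorProduct

namespace Groth.Agent.AlgSp.InfFlat

/-- An algebra map out of an etale algebra with target flat over the base is flat. -/
theorem flat_of_etale_source {A C B : Type u} [CommRing A] [CommRing C] [CommRing B] [Algebra A C]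
    [Algebra A B] [Algebra.Etale A C] [Module.Flat A B] (φ : C →ₐ[A] B) : φ.toRingHom.Flat := by
  let μ : B ⊗[A] C →ₐ[B] B :=
    Algebra.TensorProduct.lift (AlgHom.id B B) φ fun _ _ => .all _ _
  have hμ : Function.Surjective μ := fun b => ⟨b ⊗ₜ 1, by simp [μ]⟩
  have hflat : μ.toRingHom.Flat := by
    let _ : Algebra (B ⊗[A] C) B := μ.toRingHom.toAlgebra
    have : IsScalarTower B (B ⊗[A] C) B := .of_algebraMap_eq' μ.comp_algebraMap.symm
    obtain ⟨e, he, hfe⟩ :=
      (Ideal.isIdempotentElem_iff_of_fg _ (Algebra.FinitePresentation.ker_fG_of_surjective μ hμ)).mp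
        ((Algebra.FormallyEtale.iff_of_surjective hμ).mp (.of_restrictScalars (R := B)))
    have : IsLocalization.Away (1 - e) B :=
      IsLocalization.away_of_isIdempotentElem he.one_sub (hfe.trans (by simp)) hμ
    exact IsLocalization.flat B (Submonoid.powers (1 - e))
  let inl : C →+* C ⊗[A] B := Algebra.TensorProduct.includeLeftRingHom
  have h₁ : inl.Flat := RingHom.flat_algebraMap_iff.2 (inferInstanceAs (Module.Flat C (C ⊗[A] B)))
  let σ : C ⊗[A] B ≃ₐ[A] B ⊗[A] C := Algebra.TensorProduct.comm A C B
  have h₂ : σ.toAlgHom.toRingHom.Flat := RingHom.Flat.of_bijective σ.bijective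
  have : φ.toRingHom = (μ.toRingHom.comp σ.toAlgHom.toRingHom).comp inl := by
    ext c
    simp [μ, σ, inl]
  rw [this]
  exact h₁.comp (h₂.comp hflat)

/-- A flat, unramified algebra is formally etale near each prime. -/
theorem exists_formallyEtale_away {A B : Type u} [CommRing A] [CommRing B] [Algebra A B]
    [Algebra.FiniteType A B] [Algebra.FormallyUnramified A B] [Module.Flat A B] (q : Ideal B) [q.IsPrime] :
    ∃ g ∉ q, Algebra.FormallyEtale A (Localization.Away g) := by
  obtain ⟨g, hg, P, φ, hφ⟩ := Algebra.IsUnramifiedAt.exists_hasStandardEtaleSurjectionOn (R := A) q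
  refine ⟨g, hg, ?_⟩
  have : Module.Flat A (Localization.Away g) := Module.Flat.trans A B _
  let _ : Algebra P.Ring (Localization.Away g) := φ.toRingHom.toAlgebra
  have : IsScalarTower A P.Ring (Localization.Away g) := .of_algebraMap_eq' φ.comp_algebraMap.symm
  have hfl : Module.Flat P.Ring (Localization.Away g) := flat_of_etale_source φ
  let J := RingHom.ker (algebraMap P.Ring (Localization.Away g))
  let e : (P.Ring ⧸ J) ≃ₗ[P.Ring] Localization.Away g :=
    (Ideal.quotientKerAlgEquivOfSurjective (f := Algebra.ofId P.Ring (Localization.Away g)) hφ).toLinearEquiv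
  have : Module.Flat P.Ring (P.Ring ⧸ J) := Module.Flat.of_linearEquiv e
  have : J.Pure := this
  have : Algebra.FormallyEtale P.Ring (Localization.Away g) :=
    (Algebra.FormallyEtale.iff_of_surjective hφ).2 J.isIdempotentElem_of_pure
  exact Algebra.FormallyEtale.comp A P.Ring _

variable {S : Scheme.{u}}

/-- A flat, unramified morphism of schemes is formally etale as a map of sheaves. -/
theorem formallyEtale_yon_of_flat {U V : Over S} (g : U ⟶ V) [Flat g.left] [LocallyOfFiniteType g.left]
    [FormallyUnramified g.left] : IsFormallyEtaleMor ((yon S).map g) := by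
  refine InfEtale.formallyEtale_yon_of g fun A _ y p => ?_
  let Q := pullback g.left y
  have hsq := IsPullback.of_hasPullback g.left y
  have : Flat (pullback.snd g.left y) := MorphismProperty.of_isPullback (P := @Flat) hsq ‹_›
  have : LocallyOfFiniteType (pullback.snd g.left y) :=
    MorphismProperty.of_isPullback (P := @LocallyOfFiniteType) hsq ‹_›
  have : FormallyUnramified (pullback.snd g.left y) :=
    MorphismProperty.of_isPullback (P := @FormallyUnramified) hsq ‹_›
  obtain ⟨R, j, hj, q, hq⟩ : ∃ (R : CommRingCat.{u}) (j : Spec R ⟶ Q), IsOpenImmersion j ∧ ∃ q, j q = p := by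
    obtain ⟨i, q, hq⟩ := Q.affineOpenCover.openCover.exists_eq p
    exact ⟨_, Q.affineOpenCover.f i, Q.affineOpenCover.map_prop i, q, hq⟩
  obtain ⟨ρ, hρ⟩ := Spec.map_surjective (j ≫ pullback.snd g.left y)
  have h₁ : ρ.hom.Flat := by
    rw [← HasRingHomProperty.Spec_iff (P := @Flat), hρ]; infer_instance
  have h₂ : ρ.hom.FiniteType := by
    rw [← HasRingHomProperty.Spec_iff (P := @LocallyOfFiniteType), hρ]; infer_instance
  have h₃ : ρ.hom.FormallyUnramified := by
    rw [← HasRingHomProperty.Spec_iff (P := @FormallyUnramified), hρ]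
    exact MorphismProperty.comp_mem @FormallyUnramified _ _ inferInstance inferInstance
  let _ : Algebra A R := ρ.hom.toAlgebra
  have : Module.Flat A R := h₁
  have : Algebra.FiniteType A R := h₂
  have : Algebra.FormallyUnramified A R := h₃
  let q' : PrimeSpectrum R := q
  obtain ⟨r, hr, hr'⟩ := exists_formallyEtale_away (A := A) q'.asIdeal
  let k : Spec (CommRingCat.of (Localization.Away r)) ⟶ Spec R :=
    Spec.map (CommRingCat.ofHom (algebraMap R (Localization.Away r)))
  have hk : IsOpenImmersion k := IsOpenImmersion.of_isLocalization r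
  refine ⟨CommRingCat.of (Localization.Away r), k ≫ j, CommRingCat.ofHom (algebraMap A (Localization.Away r)),
    inferInstance, ?_, ?_, ?_⟩
  · obtain ⟨z, hz⟩ : q' ∈ Set.range (PrimeSpectrum.comap (algebraMap R (Localization.Away r))) := by
      rw [PrimeSpectrum.localization_away_comap_range _ r]
      exact hr
    exact ⟨z, (congrArg j hz).trans hq⟩
  · rw [Category.assoc, ← hρ, ← Spec.map_comp]
    rfl
  · exact RingHom.formallySmooth_algebraMap.2 inferInstance

end Groth.Agent.AlgSp.InfFlat
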