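import Groth.Agent.AlgSp.InfEtale

/-!
Formal lifting properties of maps `h_g` versus those of the morphism of schemes `g`.
-/

universe u

open CategoryTheory CategoryTheory.Limits AlgebraicGeometry Opposite AlgSp

namespace Groth.Agent.AlgSp.InfScheme

variable {S : Scheme.{u}} {U V : Over S} (g : U ⟶ V)

section
variable {A : Type u} [CommRing A] (I : Ideal A) (hI : I ^ 2 = ⊥)
  (a : Spec (CommRingCat.of (A ⧸ I)) ⟶ U.left) (b : Spec (CommRingCat.of A) ⟶ V.left)
  (w : Spec.map (CommRingCat.ofHom (Ideal.Quotient.mk I)) ≫ b = a ≫ g.left)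

/-- The square of sheaves given by a square of schemes. -/
noncomputable def sqOf : InfSq ((yon S).map g) where
  A := A
  I := I
  sq_zero := hI
  str := b ≫ V.hom
  top := (yon S).map (Over.homMk a (by
    change a ≫ U.hom = Spec.map _ ≫ b ≫ V.hom
    rw [← Category.assoc, w, Category.assoc, Over.w g]))
  bot := (yon S).map (Over.homMk b rfl)
  comm := by
    rw [← Functor.map_comp, ← Functor.map_comp]
    congr 1
    ext1
    exact w.symm

theorem isLift_sqOf_iff (l : (sqOf g I hI a b w).ptT' ⟶ U) :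
    ((yon S).map (sqOf g I hI a b w).j ≫ (yon S).map l = (sqOf g I hI a b w).top ∧
      (yon S).map l ≫ (yon S).map g = (sqOf g I hI a b w).bot) ↔
    (Spec.map (CommRingCat.ofHom (Ideal.Quotient.mk I)) ≫ l.left = a ∧ l.left ≫ g.left = b) := by
  constructor
  · rintro ⟨h₁, h₂⟩
    rw [← Functor.map_comp] at h₁ h₂
    exact ⟨congr($((yon S).map_injective h₁).left), congr($((yon S).map_injective h₂).left)⟩
  · rintro ⟨h₁, h₂⟩
    constructor <;> rw [← Functor.map_comp]
    · change (yon S).map _ = (yon S).map _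
      congr 1
      ext1
      exact h₁
    · change (yon S).map _ = (yon S).map _
      congr 1
      ext1
      exact h₂

include hI w in
theorem exists_lift_of_hasLift (h : (sqOf g I hI a b w).HasLift) :
    ∃ l : Spec (CommRingCat.of A) ⟶ U.left,
      Spec.map (CommRingCat.ofHom (Ideal.Quotient.mk I)) ≫ l = a ∧ l ≫ g.left = b := by
  obtain ⟨m, hm⟩ := h
  obtain ⟨l, rfl⟩ := (yon S).map_surjective m
  exact ⟨l.left, (isLift_sqOf_iff g I hI a b w l).1 hm⟩

include hI w in
theorem eq_of_hasUniq (h : (sqOf g I hI a b w).HasUniq) {l l' : Spec (CommRingCat.of A) ⟶ U.left}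
    (h₁ : Spec.map (CommRingCat.ofHom (Ideal.Quotient.mk I)) ≫ l = a) (h₂ : l ≫ g.left = b)
    (h₃ : Spec.map (CommRingCat.ofHom (Ideal.Quotient.mk I)) ≫ l' = a) (h₄ : l' ≫ g.left = b) : l = l' := by
  have e : ∀ x : Spec (CommRingCat.of A) ⟶ U.left, x ≫ g.left = b → x ≫ U.hom = b ≫ V.hom :=
    fun x hx => by rw [← Over.w g, ← Category.assoc, hx]
  let L : (sqOf g I hI a b w).ptT' ⟶ U := Over.homMk l (e l h₂)
  let L' : (sqOf g I hI a b w).ptT' ⟶ U := Over.homMk l' (e l' h₄)
  have hL := (isLift_sqOf_iff g I hI a b w L).2 ⟨h₁, h₂⟩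
  have hL' := (isLift_sqOf_iff g I hI a b w L').2 ⟨h₃, h₄⟩
  exact congr($((yon S).map_injective (h _ _ hL.1 hL.2 hL'.1 hL'.2)).left)

end

theorem formallyUnramified_of_yon (h : IsFormallyUnramifiedMor ((yon S).map g)) :
    FormallyUnramified g.left := by
  refine FormallyUnramified.of_hom_ext g.left fun R R' φ hφ hker g₁ g₂ h₁ h₂ => ?_
  let I := RingHom.ker φ.hom
  let e : CommRingCat.of (R ⧸ I) ≅ R' := (RingHom.quotientKerEquivOfSurjective hφ).toCommRingCatIso
  have he : CommRingCat.ofHom (Ideal.Quotient.mk I) ≫ e.hom = φ := by ext r; rfl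
  have h₁' : Spec.map (CommRingCat.ofHom (Ideal.Quotient.mk I)) ≫ g₁ =
      Spec.map (CommRingCat.ofHom (Ideal.Quotient.mk I)) ≫ g₂ := by
    rw [← cancel_epi (Spec.map e.hom), ← Spec.map_comp_assoc, ← Spec.map_comp_assoc, he, h₁]
  exact eq_of_hasUniq g I hker _ (g₁ ≫ g.left) (Category.assoc _ _ _).symm
    (h (sqOf g I hker _ (g₁ ≫ g.left) (Category.assoc _ _ _).symm)) rfl rfl h₁'.symm h₂.symm

theorem formallyEtale_iff : IsFormallyEtaleMor ((yon S).map g) ↔ MoreMor.IsFormallyEtaleHom g.left := by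
  constructor
  · intro h A _ I hI a b w
    obtain ⟨l, hl⟩ := exists_lift_of_hasLift g I hI a b w (h _).exists
    exact ⟨l, hl, fun l' hl' => eq_of_hasUniq g I hI a b w
      (fun m m' e₁ e₂ e₃ e₄ => (h _).unique ⟨e₁, e₂⟩ ⟨e₃, e₄⟩) hl'.1 hl'.2 hl.1 hl.2⟩
  · intro h sq
    obtain ⟨x, hx⟩ := (yon S).map_surjective sq.top
    obtain ⟨y, hy⟩ := (yon S).map_surjective sq.bot
    have hc : x ≫ g = sq.j ≫ y := (yon S).map_injective (by
      rw [Functor.map_comp, Functor.map_comp, hx, hy]; exact sq.comm)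
    obtain ⟨l, ⟨h₁, h₂⟩, hu⟩ := h sq.A sq.I sq.sq_zero x.left y.left congr($(hc).left).symm
    have hl : l ≫ U.hom = sq.str := by
      rw [← Over.w g, ← Category.assoc, h₂]; exact Over.w y
    refine ⟨(yon S).map (Over.homMk l hl), ⟨?_, ?_⟩, fun m hm => ?_⟩
    · rw [← Functor.map_comp, ← hx]
      congr 1
      ext1
      exact h₁
    · rw [← Functor.map_comp, ← hy]
      congr 1
      ext1
      exact h₂
    · obtain ⟨m, rfl⟩ := (yon S).map_surjective m
      congr 1
      ext1
      refine hu m.left ⟨?_, ?_⟩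
      · have e : sq.j ≫ m = x := (yon S).map_injective (by rw [Functor.map_comp, hx]; exact hm.1)
        exact congr($(e).left)
      · have e : m ≫ g = y := (yon S).map_injective (by rw [Functor.map_comp, hy]; exact hm.2)
        exact congr($(e).left)

theorem formallySmooth_iff : IsFormallySmoothMor ((yon S).map g) ↔ MoreMor.IsFormallySmoothHom g.left := by
  constructor
  · exact fun h A _ I hI a b w => exists_lift_of_hasLift g I hI a b w (h _)
  · intro h sq
    obtain ⟨x, hx⟩ := (yon S).map_surjective sq.top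
    obtain ⟨y, hy⟩ := (yon S).map_surjective sq.bot
    have hc : x ≫ g = sq.j ≫ y := (yon S).map_injective (by
      rw [Functor.map_comp, Functor.map_comp, hx, hy]; exact sq.comm)
    obtain ⟨l, h₁, h₂⟩ := h sq.A sq.I sq.sq_zero x.left y.left congr($(hc).left).symm
    have hl : l ≫ U.hom = sq.str := by
      rw [← Over.w g, ← Category.assoc, h₂]; exact Over.w y
    refine ⟨(yon S).map (Over.homMk l hl), ?_, ?_⟩
    · rw [← Functor.map_comp, ← hx]
      congr 1
      ext1
      exact h₁
    · rw [← Functor.map_comp, ← hy]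
      congr 1
      ext1
      exact h₂

/-- A formally etale, locally finitely presented morphism of schemes is etale. -/
theorem etale_of_formallyEtale {X Y : Scheme.{u}} (f : X ⟶ Y) (h : MoreMor.IsFormallyEtaleHom f)
    [LocallyOfFinitePresentation f] : Etale f := by
  refine ⟨fun {W hW W' hW'} e => ?_⟩
  let ρ := f.appLE W W' e
  have hfp : ρ.hom.FinitePresentation := Scheme.Hom.finitePresentation_appLE f hW hW' e
  let _ := ρ.hom.toAlgebra
  have : Algebra.FinitePresentation Γ(Y, W) Γ(X, W') := hfp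
  have key : ∀ (B : Type u) [CommRing B] [Algebra Γ(Y, W) B] (I : Ideal B), I ^ 2 = ⊥ →
      Function.Bijective (((Ideal.Quotient.mkₐ Γ(Y, W) I).comp) :
        (Γ(X, W') →ₐ[Γ(Y, W)] B) → Γ(X, W') →ₐ[Γ(Y, W)] B ⧸ I) := by
    intro B _ _ I hI
    have hfac : ∀ (C : Type u) [CommRing C] [Algebra Γ(Y, W) C] (χ : Γ(X, W') →ₐ[Γ(Y, W)] C),
        (Spec.map (CommRingCat.ofHom χ.toRingHom) ≫ hW'.fromSpec) ≫ f =
          Spec.map (CommRingCat.ofHom (algebraMap Γ(Y, W) C)) ≫ hW.fromSpec := by
      intro C _ _ χ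
      rw [Category.assoc, ← hW.SpecMap_appLE_fromSpec f hW' e, ← Spec.map_comp_assoc]
      congr 2
      ext r
      exact χ.commutes r
    refine ⟨fun χ χ' hχ => ?_, fun χ => ?_⟩
    · obtain ⟨l, -, hu⟩ := h B I hI
        (Spec.map (CommRingCat.ofHom ((Ideal.Quotient.mkₐ Γ(Y, W) I).comp χ).toRingHom) ≫ hW'.fromSpec)
        (Spec.map (CommRingCat.ofHom (algebraMap Γ(Y, W) B)) ≫ hW.fromSpec) (by
          rw [hfac _ _, ← Spec.map_comp_assoc]
          rfl)
      have e₁ := hu (Spec.map (CommRingCat.ofHom χ.toRingHom) ≫ hW'.fromSpec)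
        ⟨by rw [← Spec.map_comp_assoc]; rfl, hfac _ χ⟩
      have e₂ := hu (Spec.map (CommRingCat.ofHom χ'.toRingHom) ≫ hW'.fromSpec)
        ⟨by rw [← Spec.map_comp_assoc, hχ]; rfl, hfac _ χ'⟩
      have := e₁.trans e₂.symm
      rw [cancel_mono, Spec.map_inj] at this
      exact AlgHom.ext fun x => congr($this x)
    · obtain ⟨l, ⟨h₁, h₂⟩, -⟩ := h B I hI
        (Spec.map (CommRingCat.ofHom χ.toRingHom) ≫ hW'.fromSpec)
        (Spec.map (CommRingCat.ofHom (algebraMap Γ(Y, W) B)) ≫ hW.fromSpec) (by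
          rw [hfac _ _, ← Spec.map_comp_assoc]
          rfl)
      have hsub : Set.range l ⊆ Set.range hW'.fromSpec := by
        rintro _ ⟨z, rfl⟩
        obtain ⟨z₀, rfl⟩ : z ∈ Set.range (Spec.map (CommRingCat.ofHom (Ideal.Quotient.mk I))) := by
          change z ∈ Set.range (PrimeSpectrum.comap (Ideal.Quotient.mk I))
          rw [range_comap_of_surjective _ _ Ideal.Quotient.mk_surjective, Ideal.mk_ker]
          intro a ha
          refine (z.isPrime.mem_of_pow_mem 2 ?_)
          have := Ideal.pow_mem_pow ha 2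
          rw [hI, Ideal.mem_bot] at this
          rw [this]
          exact zero_mem _
        exact ⟨_, congr($(h₁) z₀).symm⟩
      obtain ⟨m, hm⟩ := Spec.map_surjective (IsOpenImmersion.lift hW'.fromSpec l hsub)
      have hm' : Spec.map m ≫ hW'.fromSpec = l := by rw [hm, IsOpenImmersion.lift_fac]
      have hcomm : ρ ≫ m = CommRingCat.ofHom (algebraMap Γ(Y, W) B) := by
        apply Spec.map_injective
        rw [← cancel_mono hW.fromSpec, Spec.map_comp_assoc, hW.SpecMap_appLE_fromSpec f hW' e, ← h₂,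
          ← hm', Category.assoc]
      refine ⟨{ m.hom with commutes' := fun r => congr($(hcomm).hom r) }, ?_⟩
      have : m ≫ CommRingCat.ofHom (Ideal.Quotient.mk I) = CommRingCat.ofHom χ.toRingHom := by
        apply Spec.map_injective
        rw [← cancel_mono hW'.fromSpec, Spec.map_comp_assoc, hm', h₁]
      exact AlgHom.ext fun x => congr($(this).hom x)
  have : Algebra.FormallyEtale Γ(Y, W) Γ(X, W') := Algebra.FormallyEtale.iff_comp_bijective.2 key
  exact ⟨this, hfp⟩

end Groth.Agent.AlgSp.InfScheme
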