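import Groth.Agent.AlgSp.InfBC
import Groth.Agent.AlgSp.Basic

/-!
Universal first order thickenings: the affine test and formal unramifiedness.
-/

universe u

open CategoryTheory CategoryTheory.Limits AlgebraicGeometry Opposite AlgSp

namespace Groth.Agent.AlgSp.InfUniv

open InfGlue InfEtale InfSpace InfBC

variable {S : Scheme.{u}}

section

variable {A : Type u} [CommRing A] (str : Spec (CommRingCat.of A) ⟶ S)

/-- `Spec (A ⧸ K) ⟶ Spec (A ⧸ J)` for `J ≤ K`. -/
noncomputable abbrev quotMap {J K : Ideal A} (h : J ≤ K) : ptQ str K ⟶ ptQ str J :=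
  Over.homMk (Spec.map (CommRingCat.ofHom (Ideal.Quotient.factor h))) (by
    change Spec.map _ ≫ Spec.map _ ≫ str = Spec.map _ ≫ str
    rw [← Category.assoc, ← Spec.map_comp]
    congr 2)

theorem quotMap_jQ {J K : Ideal A} (h : J ≤ K) : quotMap str h ≫ jQ str J = jQ str K := by
  ext1
  change Spec.map _ ≫ Spec.map _ = Spec.map _
  rw [← Spec.map_comp]
  congr 1

end

variable {Z Z' X : Sp S} {h : Z ⟶ X} {i : Z ⟶ Z'} {h' : Z' ⟶ X}

theorem mono_of_isFOThickMor (hi : IsFOThickMor i) : Mono i :=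
  Groth.Agent.AlgSp.mono_of_repWith (P := @IsClosedImmersion)
    (fun f hf => have : IsClosedImmersion f := hf; inferInstance) i
    ⟨hi.1.1, fun _ _ g fst snd sq => (hi.1.2 g fst snd sq).1⟩

/-- Two lifts to a universal first order thickening agreeing modulo `I` are equal if `I` kills the ideal of `Z`
pulled back along the first one. -/
theorem eq_of_univ_core (hh : IsFormallyUnramifiedMor h) (hZ' : IsAlgSpace Z') (HU : IsUnivFOThick h i h')
    {A : Type u} [CommRing A] (str : Spec (CommRingCat.of A) ⟶ S) {l l' : (yon S).obj (Over.mk str) ⟶ Z'}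
    (hX : l ≫ h' = l' ≫ h') (I : Ideal A) (hI : I ^ 2 = ⊥)
    (hag : (yon S).map (jQ str I) ≫ l = (yon S).map (jQ str I) ≫ l') {J : Ideal A}
    {k : (yon S).obj (ptQ str J) ⟶ Z} (hk : IsPullback k ((yon S).map (jQ str J)) i l) (hIJ : I * J = ⊥) :
    l = l' := by
  have hi := HU.1
  have := mono_of_isFOThickMor hi
  obtain ⟨J', hJ', k', hk'⟩ := exists_sqZero_chart' hZ' hi str l'
  have hJ : J ^ 2 = ⊥ := by
    obtain ⟨J₁, h₁, k₁, hk₁⟩ := exists_sqZero_chart' hZ' hi str l
    rwa [ideal_eq str hk hk₁]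
  have hle : J' ≤ I ⊔ J := by
    refine le_of_lift str hk' (m := (yon S).map (quotMap str (le_sup_right : J ≤ I ⊔ J)) ≫ k) ?_
    rw [Category.assoc, hk.w, ← Category.assoc, ← Functor.map_comp, quotMap_jQ,
      ← quotMap_jQ str (le_sup_left : I ≤ I ⊔ J), Functor.map_comp, Category.assoc, hag, Category.assoc]
  let K := J ⊔ J'
  have hK : K ^ 2 = ⊥ := by
    have h1 : J * J' ≤ ⊥ := (Ideal.mul_mono_right hle).trans (by
      rw [Ideal.mul_sup, Ideal.mul_comm, hIJ, ← pow_two, hJ, sup_bot_eq])
    rw [pow_two, eq_bot_iff]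
    simp only [K, Ideal.sup_mul, Ideal.mul_sup]
    refine sup_le (sup_le ?_ ?_) (sup_le ?_ ?_)
    · rw [← pow_two, hJ]
    · first | exact h1 | exact (Ideal.mul_comm _ _).trans_le h1
    · first | exact h1 | exact (Ideal.mul_comm _ _).trans_le h1
    · rw [← pow_two, hJ']
  let c : (yon S).obj (ptQ str K) ⟶ Z := (yon S).map (quotMap str (le_sup_left : J ≤ K)) ≫ k
  let c' : (yon S).obj (ptQ str K) ⟶ Z := (yon S).map (quotMap str (le_sup_right : J' ≤ K)) ≫ k'
  have hc : c ≫ i = (yon S).map (jQ str K) ≫ l := by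
    rw [Category.assoc, hk.w, ← Category.assoc, ← Functor.map_comp, quotMap_jQ]
  have hc' : c' ≫ i = (yon S).map (jQ str K) ≫ l' := by
    rw [Category.assoc, hk'.w, ← Category.assoc, ← Functor.map_comp, quotMap_jQ]
  have hcc : c = c' := by
    obtain ⟨I₂, hI₂, k₂, hk₂⟩ := exists_sqZero_chart' (IsAlgSpace.yon_obj _)
      (isFOThickMor_quot str hI) _ ((yon S).map (jQ str K))
    refine eq_of_formallyUnramified (isFOThickMor_quot _ hI₂) (IsAlgSpace.yon_obj _) hh ?_ ?_
    · rw [← cancel_mono i]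
      simp only [Category.assoc, hc, hc']
      rw [← Category.assoc, ← hk₂.w,
        ← Category.assoc, ← hk₂.w, Category.assoc, Category.assoc, hag]
    · rw [← HU.2.1, ← Category.assoc, ← Category.assoc, hc, hc', Category.assoc, Category.assoc, hX]
  refine (HU.2.2 (IsAlgSpace.yon_obj _) (IsAlgSpace.yon_obj _) ((yon S).map (jQ str K)) c
    (l ≫ h') (isFOThickMor_quot str hK) ?_).unique ⟨hc.symm, rfl⟩ ⟨?_, hX.symm⟩
  · rw [← HU.2.1, ← Category.assoc c, hc, Category.assoc]
  · rw [hcc, hc']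

/-- The structure map of a universal first order thickening is formally unramified. -/
theorem formallyUnramified_of_univ (hh : IsFormallyUnramifiedMor h) (hZ' : IsAlgSpace Z')
    (HU : IsUnivFOThick h i h') : IsFormallyUnramifiedMor h' := by
  intro sq l l' h₁ h₂ h₃ h₄
  obtain ⟨J, hJ, k, hk⟩ := exists_sqZero_chart' hZ' HU.1 sq.str l
  let L : Ideal sq.A := sq.I * J
  obtain ⟨k₁, hk₁⟩ := isPullback_map' sq.str (Ideal.Quotient.mk L) hk (jQ sq.str L) rfl
  have e : (yon S).map (jQ sq.str L) ≫ l = (yon S).map (jQ sq.str L) ≫ l' := by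
    obtain ⟨k₂, hk₂⟩ := isPullback_map' sq.str (Ideal.Quotient.mk L)
      (k := 𝟙 ((yon S).obj sq.ptT)) (i := (yon S).map sq.j) (y := 𝟙 _) (J := sq.I)
      (IsPullback.of_horiz_isIso ⟨by simp⟩) (jQ sq.str L) rfl
    rw [Category.comp_id] at hk₂
    refine eq_of_univ_core hh hZ' HU _ ?_ (sq.I.map (Ideal.Quotient.mk L)) ?_ ?_ hk₁ ?_
    · rw [Category.assoc, Category.assoc, h₂, h₄]
    · rw [← Ideal.map_pow, sq.sq_zero, Ideal.map_bot]
    · rw [← Category.assoc, ← hk₂.w, ← Category.assoc, ← hk₂.w, Category.assoc, Category.assoc, h₁, h₃]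
    · rw [← Ideal.map_mul, Ideal.map_quotient_self]
  refine eq_of_univ_core hh hZ' HU sq.str (h₂.trans h₄.symm) L ?_ e hk ?_
  · rw [eq_bot_iff, ← sq.sq_zero]
    exact Ideal.pow_right_mono Ideal.mul_le_left 2 |>.trans le_rfl
  · rw [eq_bot_iff]
    change sq.I * J * J ≤ ⊥
    rw [mul_assoc, ← pow_two, hJ, Ideal.mul_bot]

/-- Uniquely determined, compatible maps on all affine etale charts of an algebraic space glue. -/
theorem exists_glue_charts {T' X : Sp S} (hT' : IsAlgSpace T')
    (P : ∀ (A : Type u) [CommRing A] (str : Spec (CommRingCat.of A) ⟶ S),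
      ((yon S).obj (Over.mk str) ⟶ T') → ((yon S).obj (Over.mk str) ⟶ X) → Prop)
    (K : ∀ (A : Type u) [CommRing A] (str : Spec (CommRingCat.of A) ⟶ S)
      (y : (yon S).obj (Over.mk str) ⟶ T'), RepWith @Etale y → ∃! l, P A str y l)
    (hP : ∀ (A B : Type u) [CommRing A] [CommRing B] (str : Spec (CommRingCat.of A) ⟶ S)
      (str' : Spec (CommRingCat.of B) ⟶ S) (y : (yon S).obj (Over.mk str) ⟶ T') (l)
      (g : Over.mk str' ⟶ Over.mk str), P A str y l →
      P B str' ((yon S).map g ≫ y) ((yon S).map g ≫ l)) :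
    ∃ l : T' ⟶ X, ∀ (A : Type u) [CommRing A] (str : Spec (CommRingCat.of A) ⟶ S)
      (y : (yon S).obj (Over.mk str) ⟶ T'), RepWith @Etale y → P A str y (y ≫ l) := by
  choose L hL hLu using fun A inst str y hy => @K A inst str y hy
  have compat : ∀ (A B : Type u) [CommRing A] [CommRing B] (str : Spec (CommRingCat.of A) ⟶ S)
      (str' : Spec (CommRingCat.of B) ⟶ S) (y : (yon S).obj (Over.mk str) ⟶ T')
      (hy : RepWith @Etale y) (g : Over.mk str' ⟶ Over.mk str) (hg : RepWith @Etale ((yon S).map g ≫ y)),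
      (yon S).map g ≫ L A inferInstance str y hy = L B inferInstance str' ((yon S).map g ≫ y) hg :=
    fun A B _ _ str str' y hy g hg => hLu B _ str' _ hg _ (hP A B str str' y _ g (hL A _ str y hy))
  have comp : ∀ {W W' : Over S} {g : W ⟶ W'} {q : (yon S).obj W' ⟶ T'}, Etale g.left → RepWith @Etale q →
      RepWith @Etale ((yon S).map g ≫ q) := fun he hq =>
    (repWith_isMultiplicative _).comp_mem _ _ ((repWith_yon_map_iff _ _).2 he) hq
  have glue : ∀ (W : Over S) (q : (yon S).obj W ⟶ T'), RepWith @Etale q →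
      ∃ m : (yon S).obj W ⟶ X, ∀ (A : Type u) [CommRing A]
        (str : Spec (CommRingCat.of A) ⟶ S) (g : Over.mk str ⟶ W) (hg : RepWith @Etale ((yon S).map g ≫ q)),
        Etale g.left → (yon S).map g ≫ m = L A inferInstance str ((yon S).map g ≫ q) hg := by
    intro W q hq
    let ι := Σ' (R : CommRingCat.{u}) (str : Spec R ⟶ S) (g : Over.mk str ⟶ W), PLift (Etale g.left)
    let U : ι → Over S := fun i => Over.mk i.2.1
    have he : ∀ i : ι, Etale (i.2.2.1).left := fun i => i.2.2.2.down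
    have hcov : ∀ x, ∃ i : ι, x ∈ Set.range (i.2.2.1).left := fun x => by
      obtain ⟨A, str, g, he, hx⟩ := exists_affine_etale W x
      exact ⟨⟨A, str, g, ⟨he⟩⟩, hx⟩
    obtain ⟨m, hm⟩ := exists_glue (U := U) (fun i => i.2.2.1) he hcov
      (fun i => L i.1 inferInstance i.2.1 ((yon S).map i.2.2.1 ≫ q) (comp (he i) hq)) (by
      intro i i' Z za zb hz
      let R := pullback i.2.2.1 i'.2.2.1
      let fst : R ⟶ U i := pullback.fst _ _
      let snd : R ⟶ U i' := pullback.snd _ _
      have hR := (IsPullback.of_hasPullback i.2.2.1 i'.2.2.1).map (Over.forget S)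
      have := he i
      have := he i'
      have hfst : Etale fst.left := MorphismProperty.of_isPullback (P := @Etale) hR.flip (he i')
      have hsnd : Etale snd.left := MorphismProperty.of_isPullback (P := @Etale) hR (he i)
      suffices (yon S).map fst ≫ L i.1 inferInstance i.2.1 ((yon S).map i.2.2.1 ≫ q) (comp (he i) hq) =
          (yon S).map snd ≫ L i'.1 inferInstance i'.2.1 ((yon S).map i'.2.2.1 ≫ q) (comp (he i') hq) by
        rw [← pullback.lift_fst za zb hz, Functor.map_comp, Category.assoc, this, ← Category.assoc,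
          ← Functor.map_comp, pullback.lift_snd]
      refine hom_ext_affine fun C strC c hc => ?_
      have h1 : Etale (c ≫ fst).left := inferInstanceAs (Etale (c.left ≫ fst.left))
      have h2 : Etale (c ≫ snd).left := inferInstanceAs (Etale (c.left ≫ snd.left))
      rw [← Category.assoc, ← Category.assoc, ← Functor.map_comp, ← Functor.map_comp]
      have hy₁ := comp h1 (comp (he i) hq)
      have hy₂ := comp h2 (comp (he i') hq)
      refine (compat i.1 C i.2.1 strC _ _ (c ≫ fst) hy₁).trans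
        (Eq.trans ?_ (compat i'.1 C i'.2.1 strC _ _ (c ≫ snd) hy₂).symm)
      congr 1
      simp only [← Category.assoc, ← Functor.map_comp]
      congr 2
      simp only [Category.assoc]
      exact congrArg (c ≫ ·) pullback.condition)
    exact ⟨m, fun A _ str g hg hge => hm ⟨CommRingCat.of A, str, g, ⟨hge⟩⟩⟩
  obtain ⟨V, p, hp, hs⟩ := hT'.atlas
  obtain ⟨m, hm⟩ := glue V p hp
  have key : ∀ (W : Over S) (q : (yon S).obj W ⟶ T') (hq : RepWith @Etale q) (n : (yon S).obj W ⟶ X),
      (∀ (A : Type u) [CommRing A] (str : Spec (CommRingCat.of A) ⟶ S) (g : Over.mk str ⟶ W)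
        (hg : RepWith @Etale ((yon S).map g ≫ q)), Etale g.left →
        (yon S).map g ≫ n = L A inferInstance str ((yon S).map g ≫ q) hg) →
      (yon S).map (hp.1.snd q) ≫ n = hp.1.fst q ≫ m := by
    intro W q hq n hn
    let r₁ := hp.1.fst' q
    let r₂ := hp.1.snd q
    have hr : (yon S).map r₁ ≫ p = (yon S).map r₂ ≫ q := by
      rw [Functor.relativelyRepresentable.map_fst']; exact (hp.1.isPullback q).w
    have hr₂ : Etale r₂.left := hp.2 _ _ _ (hp.1.isPullback q)
    have hr₁ : Etale r₁.left := by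
      refine hq.2 p ((yon S).map r₂) r₁ ?_
      have := (hp.1.isPullback q).flip
      rwa [← Functor.relativelyRepresentable.map_fst'] at this
    rw [← Functor.relativelyRepresentable.map_fst']
    refine hom_ext_affine fun C strC c hc => ?_
    have h1 : Etale (c ≫ r₁).left := inferInstanceAs (Etale (c.left ≫ r₁.left))
    have h2 : Etale (c ≫ r₂).left := inferInstanceAs (Etale (c.left ≫ r₂.left))
    rw [← Category.assoc, ← Category.assoc, ← Functor.map_comp, ← Functor.map_comp,
      hn _ _ _ (comp h2 hq) h2, hm _ _ _ (comp h1 hp) h1]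
    congr 1
    simp only [Functor.map_comp, Category.assoc, hr, r₂]
  obtain ⟨l, hl⟩ := exists_desc hp hs m fun Z u v huv => by
    obtain ⟨v, rfl⟩ := (yon S).map_surjective v
    have e := congrArg ((hp.1.isPullback p).lift u ((yon S).map v) huv ≫ ·) (key V p hp m hm)
    rw [← Category.assoc, ← Category.assoc, IsPullback.lift_fst, IsPullback.lift_snd] at e
    exact e.symm
  refine ⟨l, fun A _ str y hy => ?_⟩
  suffices y ≫ l = L A inferInstance str y hy by rw [this]; exact hL A _ str y hy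
  refine hom_ext_cover (fun _ : PUnit.{1} => hp.1.snd y) (fun _ => hp.2 _ _ _ (hp.1.isPullback y))
    (fun x => ⟨⟨⟩, (hs.2 _ _ _ (hp.1.isPullback y)).surj x⟩) _ _ fun _ => ?_
  rw [key _ y hy (L A inferInstance str y hy) fun B _ str' g hg _ => compat A B str str' y hy g hg,
    ← Category.assoc, ← (hp.1.isPullback y).w, Category.assoc, hl]

/-- A universal first order thickening may be recognised on `Spec (A ⧸ I) ⟶ Spec A` with `I` of square zero. -/
theorem univ_of_quot_test (hi : IsFOThickMor i) (w : i ≫ h' = h)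
    (H : ∀ (A : Type u) [CommRing A] (str : Spec (CommRingCat.of A) ⟶ S) (I : Ideal A), I ^ 2 = ⊥ →
        ∀ (a : (yon S).obj (ptQ str I) ⟶ Z) (b : (yon S).obj (Over.mk str) ⟶ X),
          (yon S).map (jQ str I) ≫ b = a ≫ h →
          ∃! a' : (yon S).obj (Over.mk str) ⟶ Z', (yon S).map (jQ str I) ≫ a' = a ≫ i ∧ a' ≫ h' = b) :
    IsUnivFOThick h i h' := by
  refine ⟨hi, w, fun T T' _ hT' j a b hj wab => ?_⟩
  let P : ∀ (A : Type u) [CommRing A] (str : Spec (CommRingCat.of A) ⟶ S),
      ((yon S).obj (Over.mk str) ⟶ T') → ((yon S).obj (Over.mk str) ⟶ Z') → Prop :=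
    fun A _ str y l => l ≫ h' = y ≫ b ∧ ∀ (W : Over S) (g : W ⟶ Over.mk str) (t : (yon S).obj W ⟶ T),
      t ≫ j = (yon S).map g ≫ y → (yon S).map g ≫ l = t ≫ a ≫ i
  have K : ∀ (A : Type u) [CommRing A] (str : Spec (CommRingCat.of A) ⟶ S)
      (y : (yon S).obj (Over.mk str) ⟶ T'), RepWith @Etale y → ∃! l, P A str y l := by
    intro A _ str y hy
    obtain ⟨I, hI, k, sqk⟩ := exists_sqZero_chart hj str y hy
    obtain ⟨l, ⟨h₁, h₂⟩, hl⟩ := H A str I hI (k ≫ a) (y ≫ b)
      (by rw [Category.assoc, ← wab, ← Category.assoc, ← sqk.w, Category.assoc])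
    refine ⟨l, ⟨h₂, fun W g t ht => ?_⟩, fun l' hl' => hl l' ⟨?_, hl'.1⟩⟩
    · have e := congrArg (sqk.lift t ((yon S).map g) ht ≫ ·) h₁
      rw [← Category.assoc, sqk.lift_snd, Category.assoc, sqk.lift_fst_assoc] at e
      exact e
    · rw [hl'.2 _ (jQ str I) k sqk.w, Category.assoc]
  obtain ⟨l, hl⟩ := exists_glue_charts hT' P K fun A B _ _ str str' y m g hm =>
    ⟨by rw [Category.assoc, hm.1, Category.assoc], fun W g' t ht => by
      rw [← Category.assoc, ← Functor.map_comp]
      exact hm.2 W _ t (by rw [ht, Functor.map_comp, Category.assoc])⟩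
  obtain ⟨V, p, hp, hs⟩ := hT'.atlas
  have hc : ∀ {A : Type u} [CommRing A] {str : Spec (CommRingCat.of A) ⟶ S} {g : Over.mk str ⟶ V},
      Etale g.left → RepWith @Etale ((yon S).map g ≫ p) := fun hg =>
    (repWith_isMultiplicative _).comp_mem _ _ ((repWith_yon_map_iff _ _).2 hg) hp
  refine ⟨l, ⟨?_, hom_ext_cover_sp hp hs (hom_ext_affine fun A str g hg => ?_)⟩, fun l' hl' => ?_⟩
  · let W := hj.1.1.pullback p
    let q : (yon S).obj W ⟶ T := hj.1.1.fst p
    let s₀ : W ⟶ V := hj.1.1.snd p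
    have sqW : IsPullback q ((yon S).map s₀) j p := hj.1.1.isPullback p
    refine hom_ext_cover_sp ((repWith_isStableUnderBaseChange _).of_isPullback sqW.flip hp)
      ((repWith_isStableUnderBaseChange _).of_isPullback sqW.flip hs) ?_
    choose A str g he hx using exists_affine_etale V
    refine hom_ext_cover (fun x => pullback.fst s₀ (g x)) (fun x => ?_) (fun w => ?_) _ _ fun x => ?_
    · exact MorphismProperty.of_isPullback (P := @Etale)
        ((IsPullback.of_hasPullback s₀ (g x)).map (Over.forget S)).flip (he x)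
    · refine ⟨s₀.left w, ?_⟩
      obtain ⟨z, hz⟩ := hx (s₀.left w)
      obtain ⟨r, hr, -⟩ := Scheme.exists_preimage_of_isPullback
        ((IsPullback.of_hasPullback s₀ (g (s₀.left w))).map (Over.forget S)) w z hz.symm
      exact ⟨r, hr⟩
    · have e : (yon S).map (pullback.fst s₀ (g x)) ≫ q ≫ j =
          (yon S).map (pullback.snd s₀ (g x)) ≫ (yon S).map (g x) ≫ p := by
        rw [sqW.w, ← Category.assoc, ← Category.assoc, ← Functor.map_comp, ← Functor.map_comp, pullback.condition]
      have := (hl (A x) (str x) _ (hc (he x))).2 _ (pullback.snd s₀ (g x))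
        ((yon S).map (pullback.fst s₀ (g x)) ≫ q) (by rw [Category.assoc, e])
      simp only [Category.assoc] at this ⊢
      rw [reassoc_of% e]
      exact this
  · simpa only [Category.assoc] using (hl _ _ _ (hc hg)).1
  · refine hom_ext_cover_sp hp hs (hom_ext_affine fun A str g hg => ?_)
    rw [← Category.assoc, ← Category.assoc]
    refine (K A str _ (hc hg)).unique ⟨?_, fun W g' t ht => ?_⟩ (hl _ _ _ (hc hg))
    · rw [Category.assoc, hl'.2]
    · rw [← Category.assoc, ← ht, Category.assoc, hl'.1]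

/-- A universal first order thickening may be recognised on affine schemes. -/
theorem univ_of_affine_test (hi : IsFOThickMor i) (w : i ≫ h' = h)
    (H : ∀ (T T' : Over S) (j : T ⟶ T'), IsAffine T'.left → IsFOThickMor ((yon S).map j) →
        ∀ (a : (yon S).obj T ⟶ Z) (b : (yon S).obj T' ⟶ X), (yon S).map j ≫ b = a ≫ h →
          ∃! a' : (yon S).obj T' ⟶ Z', (yon S).map j ≫ a' = a ≫ i ∧ a' ≫ h' = b) :
    IsUnivFOThick h i h' :=
  univ_of_quot_test hi w fun A _ str _ hI => H _ _ _ (inferInstanceAs (IsAffine (Spec (CommRingCat.of A))))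
    (isFOThickMor_quot str hI)

end Groth.Agent.AlgSp.InfUniv
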