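import Groth.Agent.AlgSp.InfUniv
import Groth.Agent.AlgSp.InfEpi

/-!
Descent of universal first order thickenings along surjective etale morphisms.
-/

universe u

open CategoryTheory CategoryTheory.Limits AlgebraicGeometry Opposite AlgSp

namespace Groth.Agent.AlgSp.InfUnivDesc

open InfGlue InfEtale InfBC

variable {S : Scheme.{u}}

/-- A point of `Y` over `Spec (A ⧸ I)` lifts through a surjective etale morphism on `Spec (B ⧸ I B)` for
etale `A → B` covering the spectrum. -/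
theorem exists_quot_lift {Z Y : Sp S} (hZ : IsAlgSpace Z) {e : Z ⟶ Y} (he : IsEtaleMor e) (hes : IsSurjectiveMor e)
    {F G : Sp S} {f : F ⟶ G} (sq : InfSq f) (a : (yon S).obj sq.ptT ⟶ Y) (t : ↥(Spec (CommRingCat.of sq.A))) :
    ∃ (B : Type u) (_ : CommRing B) (φ : sq.A →+* B) (m : (yon S).obj (ptR₀ sq φ) ⟶ Z),
      φ.Etale ∧ t ∈ Set.range (Spec.map (CommRingCat.ofHom φ)) ∧ m ≫ e = (yon S).map (toT sq φ) ≫ a := by
  obtain ⟨W, q, -, -, hqe, hqs⟩ := InfEpi.exists_atlas_comp hZ he hes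
  let P := hqe.1.pullback a
  let p : P ⟶ sq.ptT := hqe.1.snd a
  have hp : Etale p.left := hqe.2 _ _ _ (hqe.1.isPullback a)
  have hp' : Surjective p.left := hqs.2 _ _ _ (hqe.1.isPullback a)
  obtain ⟨t₀, ht₀⟩ : t ∈ Set.range sq.j.left :=
    ((isThickMor_yon_map_iff _).1 (InfBC.isFOThickMor_quot sq.str sq.sq_zero).1).2.surj t
  obtain ⟨x, hx⟩ := p.left.surjective t₀
  obtain ⟨B, _, φ, k, hφ, hk, hxk⟩ := InfRing.exists_etale_lift sq.I p.left x
  let k' : ptR₀ sq φ ⟶ P := Over.homMk k (by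
    rw [← Over.w p]
    change k ≫ p.left ≫ sq.ptT.hom = _
    rw [reassoc_of% hk]
    exact Over.w (toT sq φ))
  have hk' : k' ≫ p = toT sq φ := by ext1; exact hk
  refine ⟨B, inferInstance, φ, (yon S).map k' ≫ hqe.1.fst a ≫ q, hφ, ?_, ?_⟩
  · obtain ⟨z, hz⟩ := hxk
    refine ⟨(jR sq φ).left z, ?_⟩
    rw [← ht₀, ← hx, ← hz]
    exact (congr(($(jR_toT' sq φ)).left z)).trans (congr(sq.j.left ($hk z))).symm
  · rw [Category.assoc, Category.assoc, (hqe.1.isPullback a).w, ← Category.assoc, ← Functor.map_comp, hk']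

/-- Universal first order thickenings descend along surjective etale morphisms. -/
theorem univ_descend {Z Y Z' Y' X : Sp S} (hZ : IsAlgSpace Z) (hZ' : IsAlgSpace Z') {e : Z ⟶ Y}
    (he : IsEtaleMor e) (hes : IsSurjectiveMor e) {hY : Y ⟶ X} {iZ : Z ⟶ Z'} {iY : Y ⟶ Y'}
    (hiY : IsFOThickMor iY) {f' : Z' ⟶ Y'} (hf' : IsEtaleMor f') (w : iZ ≫ f' = e ≫ iY) {hY' : Y' ⟶ X}
    (w' : iY ≫ hY' = hY) (HU : IsUnivFOThick (e ≫ hY) iZ (f' ≫ hY')) : IsUnivFOThick hY iY hY' := by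
  have het := formallyEtale_of_isEtaleMor hZ' hf'
  refine InfUniv.univ_of_quot_test hiY w' ?_
  have uniq : ∀ (A : Type u) [CommRing A] (str : Spec (CommRingCat.of A) ⟶ S) (I : Ideal A), I ^ 2 = ⊥ →
      ∀ (a : (yon S).obj (ptQ str I) ⟶ Y) (l l' : (yon S).obj (Over.mk str) ⟶ Y'),
      (yon S).map (jQ str I) ≫ l = a ≫ iY → (yon S).map (jQ str I) ≫ l' = a ≫ iY →
      l ≫ hY' = l' ≫ hY' → l = l' := by
    intro A _ str I hI a l l' h₁ h₂ h₃
    let sq : InfSq hY' := ⟨A, I, hI, str, a ≫ iY, l ≫ hY', by rw [← h₁, Category.assoc]⟩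
    refine hom_ext_local str l l' fun t => ?_
    obtain ⟨B, _, φ, m, hφ, ht, hm⟩ := exists_quot_lift hZ he hes sq a t
    refine ⟨ptR sq φ, toT' sq φ, (HasRingHomProperty.Spec_iff (P := @Etale)).2 hφ, ht, ?_⟩
    have lifts : ∀ l₀ : (yon S).obj (Over.mk str) ⟶ Y', (yon S).map (jQ str I) ≫ l₀ = a ≫ iY →
        ∃ n : (yon S).obj (ptR sq φ) ⟶ Z', (yon S).map (jR sq φ) ≫ n = m ≫ iZ ∧
          n ≫ f' = (yon S).map (toT' sq φ) ≫ l₀ := fun l₀ h₀ => by
      let sqf : InfSq f' := ⟨B, I.map φ, (restrict sq φ).sq_zero, (restrict sq φ).str, m ≫ iZ,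
        (yon S).map (toT' sq φ) ≫ l₀, by
        change (m ≫ iZ) ≫ f' = (yon S).map (jR sq φ) ≫ (yon S).map (toT' sq φ) ≫ l₀
        rw [Category.assoc, w, reassoc_of% hm, ← h₀, ← Category.assoc, ← Category.assoc, ← Functor.map_comp,
          ← Functor.map_comp, jR_toT']⟩
      exact (het sqf).exists
    obtain ⟨n, hn₁, hn₂⟩ := lifts l h₁
    obtain ⟨n', hn₁', hn₂'⟩ := lifts l' h₂
    have : n = n' := by
      refine (HU.2.2 (IsAlgSpace.yon_obj _) (IsAlgSpace.yon_obj _) ((yon S).map (jR sq φ)) m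
        ((yon S).map (toT' sq φ) ≫ l ≫ hY') (isFOThickMor_quot _ (restrict sq φ).sq_zero) ?_).unique
        ⟨hn₁, ?_⟩ ⟨hn₁', ?_⟩
      · rw [← Category.assoc, ← Functor.map_comp, jR_toT', Functor.map_comp, Category.assoc,
          reassoc_of% hm, ← w', ← Category.assoc (yon S |>.map sq.j), ← reassoc_of% h₁]
        rfl
      · rw [← Category.assoc, hn₂, Category.assoc]
      · rw [← Category.assoc, hn₂', Category.assoc, h₃]
    rw [← hn₂, ← hn₂', this]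
  intro A _ str I hI a b hab
  let sq : InfSq hY' := ⟨A, I, hI, str, a ≫ iY, b, by rw [Category.assoc, w', hab]⟩
  suffices sq.HasLift by
    obtain ⟨l, h₁, h₂⟩ := this
    exact ⟨l, ⟨h₁, h₂⟩, fun l' hl' => uniq A str I hI a l' l hl'.1 h₁ (hl'.2.trans h₂.symm)⟩
  refine hasLift_of_local' sq (fun C _ ψ m m' hm hm' => ?_) fun t => ?_
  · exact uniq C _ _ (restrict sq ψ).sq_zero ((yon S).map (toT sq ψ) ≫ a) m m'
      (hm.1.trans (Category.assoc _ _ _).symm) (hm'.1.trans (Category.assoc _ _ _).symm) (hm.2.trans hm'.2.symm)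
  obtain ⟨B, _, φ, m, hφ, ht, hm⟩ := exists_quot_lift hZ he hes sq a t
  obtain ⟨n, ⟨hn₁, hn₂⟩, -⟩ := HU.2.2 (IsAlgSpace.yon_obj _) (IsAlgSpace.yon_obj _) ((yon S).map (jR sq φ)) m
    ((yon S).map (toT' sq φ) ≫ b) (isFOThickMor_quot _ (restrict sq φ).sq_zero) (by
      rw [← Category.assoc, ← Functor.map_comp, jR_toT', Functor.map_comp, Category.assoc, reassoc_of% hm]
      exact congrArg _ hab)
  refine ⟨B, inferInstance, φ, n ≫ f', hφ, ht, ?_, (Category.assoc _ _ _).trans hn₂⟩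
  change (yon S).map (jR sq φ) ≫ n ≫ f' = (yon S).map (toT sq φ) ≫ a ≫ iY
  rw [reassoc_of% hn₁, w, reassoc_of% hm]

end Groth.Agent.AlgSp.InfUnivDesc
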