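import Groth.Agent.AlgSp.InfUniv
import Groth.Agent.AlgSp.InfCharts
import Groth.Agent.AlgSpCov.LocPBasic

/-!
Universal first order thickenings and etale localisation.
-/

universe u

open CategoryTheory CategoryTheory.Limits AlgebraicGeometry Opposite AlgSp

namespace Groth.Agent.AlgSp.InfUnivEtale

open InfGlue InfEtale InfBC InfSpace InfCharts

variable {S : Scheme.{u}}

/-- `Spec (B ⧸ J B) ⟶ Spec (A ⧸ J)` over `S`. -/
noncomputable abbrev toQ {A : Type u} [CommRing A] (str : Spec (CommRingCat.of A) ⟶ S) {B : Type u} [CommRing B]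
    (φ : A →+* B) (J : Ideal A) : ptQ (strB str φ) (J.map φ) ⟶ ptQ str J :=
  Over.homMk (Spec.map (CommRingCat.ofHom (Ideal.quotientMap (J.map φ) φ Ideal.le_comap_map))) (by
    change Spec.map _ ≫ Spec.map _ ≫ str = Spec.map _ ≫ Spec.map _ ≫ str
    rw [← Category.assoc, ← Category.assoc, (InfRing.isPullback_quotient J φ).w])

theorem isPullback_toQ {A : Type u} [CommRing A] (str : Spec (CommRingCat.of A) ⟶ S) {B : Type u} [CommRing B]
    (φ : A →+* B) (J : Ideal A) :
    IsPullback (toQ str φ J) (jQ (strB str φ) (J.map φ)) (jQ str J) (mapB str φ) := by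
  refine IsPullback.of_map (Over.forget S) ?_ ?_
  · ext1; exact (InfRing.isPullback_quotient J φ).w.symm
  · exact (InfRing.isPullback_quotient J φ).flip

theorem eq_of_jQ {A : Type u} [CommRing A] (str : Spec (CommRingCat.of A) ⟶ S) {J : Ideal A} (hJ : J ^ 2 = ⊥)
    {F G : Sp S} {f : F ⟶ G} (hf : IsFormallyUnramifiedMor f) {l l' : (yon S).obj (Over.mk str) ⟶ F}
    (h₁ : (yon S).map (jQ str J) ≫ l = (yon S).map (jQ str J) ≫ l') (h₂ : l ≫ f = l' ≫ f) : l = l' :=
  eq_of_formallyUnramified (isFOThickMor_quot str hJ) (IsAlgSpace.yon_obj _) hf h₁ h₂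

variable {Z X Z' V U V' : Sp S} {h : Z ⟶ X} {iZ : Z ⟶ Z'} {hZ' : Z' ⟶ X} {ψ : V ⟶ U} {iV : V ⟶ V'}
  {hV' : V' ⟶ U} {v : V ⟶ Z} {w : U ⟶ X} {e' : V' ⟶ Z'}

/-- Around each point, a chart of the map of universal thickenings is etale. -/
theorem exists_etale_nhd (HZ : IsUnivFOThick h iZ hZ') (HV : IsUnivFOThick ψ iV hV') (hU : IsAlgSpace U)
    (hv : IsEtaleMor v) (hw : IsEtaleMor w) (c : ψ ≫ w = v ≫ h) (w1 : iV ≫ e' = v ≫ iZ)
    (w2 : e' ≫ hZ' = hV' ≫ w) {B C : Type u} [CommRing B] [CommRing C] (str : Spec (CommRingCat.of B) ⟶ S)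
    (strC : Spec (CommRingCat.of C) ⟶ S) (y : (yon S).obj (Over.mk str) ⟶ V') (hy : RepWith @Etale y)
    (b : (yon S).obj (Over.mk strC) ⟶ Z') (hb : RepWith @Etale b) (v1 : Over.mk str ⟶ Over.mk strC)
    (hv1 : (yon S).map v1 ≫ b = y ≫ e') (z : ↥(Spec (CommRingCat.of B))) :
    ∃ (W : Over S) (incl : W ⟶ Over.mk str), IsOpenImmersion incl.left ∧ z ∈ Set.range incl.left ∧
      Etale (incl ≫ v1).left := by
  have hw' : IsFormallyEtaleMor w := formallyEtale_of_isEtaleMor hU hw
  have hwu : IsFormallyUnramifiedMor w := fun sq l l' h₁ h₂ h₃ h₄ => (hw' sq).unique ⟨h₁, h₂⟩ ⟨h₃, h₄⟩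
  have hyu := formallyUnramified_of_repWith_etale hy
  have hbu := formallyUnramified_of_repWith_etale hb
  obtain ⟨L, hL, y0, sqy⟩ := exists_sqZero_chart HV.1 str y hy
  obtain ⟨K, hK, c0, sqc⟩ := exists_sqZero_chart HZ.1 strC b hb
  have wπ : (y0 ≫ v) ≫ iZ = ((yon S).map (jQ str L ≫ v1)) ≫ b := by
    rw [Category.assoc, ← w1, sqy.w_assoc, ← hv1, Functor.map_comp, Category.assoc]
  obtain ⟨π, hπ⟩ := (yon S).map_surjective (sqc.lift _ _ wπ)
  have hπ₁ : (yon S).map π ≫ c0 = y0 ≫ v := by rw [hπ]; exact sqc.lift_fst _ _ _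
  have hπ₂ : π ≫ jQ strC K = jQ str L ≫ v1 :=
    (yon S).map_injective (by rw [Functor.map_comp, hπ]; exact sqc.lift_snd _ _ _)
  have hy0 : RepWith @Etale y0 := (repWith_isStableUnderBaseChange _).of_isPullback sqy.flip hy
  have hc0 : RepWith @Etale c0 := (repWith_isStableUnderBaseChange _).of_isPullback sqc.flip hb
  have hπe : Etale π.left :=
    (repWith_yon_map_iff _ _).1 (AlgSpCov.repWith_etale_cancel _ c0 hc0 (hπ₁ ▸ hv y0 hy0))
  obtain ⟨z₀, hz₀⟩ := ((isThickMor_yon_map_iff _).1 (isFOThickMor_quot str hL).1).2.surj z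
  obtain ⟨D, _, φD, k, hφD, hk, hzk, hko⟩ := InfRing.exists_etale_lift' K π.left z₀
  let strD := strB strC φD
  let toC : Over.mk strD ⟶ Over.mk strC := mapB strC φD
  let jD := jQ strD (K.map φD)
  have hKD : (K.map φD) ^ 2 = ⊥ := by rw [← Ideal.map_pow, hK, Ideal.map_bot]
  let k' : ptQ strD (K.map φD) ⟶ ptQ str L := Over.homMk k (by
    rw [← Over.w π]
    change k ≫ π.left ≫ (ptQ strC K).hom = _
    rw [reassoc_of% hk]
    exact Over.w (toQ strC φD K))
  have hk' : k' ≫ π = toQ strC φD K := by ext1; exact hk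
  have hkD : k' ≫ jQ str L ≫ v1 = jD ≫ toC := by
    rw [← hπ₂, ← Category.assoc, hk', (isPullback_toQ strC φD K).w]
  have hkD' : (yon S).map k' ≫ (yon S).map (jQ str L) ≫ (yon S).map v1 = (yon S).map jD ≫ (yon S).map toC := by
    rw [← Functor.map_comp, ← Functor.map_comp, ← Functor.map_comp, hkD]
  have hyy : (yon S).map k' ≫ y0 ≫ iV = (yon S).map k' ≫ (yon S).map (jQ str L) ≫ y := congrArg _ sqy.w
  let sqw : InfSq w := ⟨D, K.map φD, hKD, strD, (yon S).map k' ≫ y0 ≫ ψ, (yon S).map toC ≫ b ≫ hZ', by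
    change ((yon S).map k' ≫ y0 ≫ ψ) ≫ w = (yon S).map jD ≫ (yon S).map toC ≫ b ≫ hZ'
    rw [← reassoc_of% hkD', reassoc_of% hv1, w2, ← reassoc_of% hyy, ← reassoc_of% HV.2.1.symm]
    simp only [Category.assoc]⟩
  obtain ⟨bU, ⟨hbU₁, hbU₂⟩, -⟩ := hw' sqw
  replace hbU₁ : (yon S).map jD ≫ bU = (yon S).map k' ≫ y0 ≫ ψ := hbU₁
  replace hbU₂ : bU ≫ w = (yon S).map toC ≫ b ≫ hZ' := hbU₂
  obtain ⟨n, ⟨hn₁, hn₂⟩, -⟩ := HV.2.2 (IsAlgSpace.yon_obj _) (IsAlgSpace.yon_obj _) ((yon S).map jD)
    ((yon S).map k' ≫ y0) bU (isFOThickMor_quot strD hKD) (hbU₁.trans (Category.assoc _ _ _).symm)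
  have hne : n ≫ e' = (yon S).map toC ≫ b := by
    refine (HZ.2.2 (IsAlgSpace.yon_obj _) (IsAlgSpace.yon_obj _) ((yon S).map jD) ((yon S).map k' ≫ y0 ≫ v)
      ((yon S).map toC ≫ b ≫ hZ') (isFOThickMor_quot strD hKD) ?_).unique ⟨?_, ?_⟩ ⟨?_, Category.assoc _ _ _⟩
    · rw [Category.assoc, Category.assoc, ← c, ← hbU₂, reassoc_of% hbU₁]
    · rw [reassoc_of% hn₁, w1, Category.assoc, Category.assoc]
    · rw [Category.assoc, w2, reassoc_of% hn₂]
      exact hbU₂
    · rw [← reassoc_of% hkD', hv1, ← reassoc_of% hyy, w1, Category.assoc, Category.assoc]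
  let sqy' : InfSq y := ⟨D, K.map φD, hKD, strD, (yon S).map k' ≫ (yon S).map (jQ str L), n, by
    rw [Category.assoc, ← hyy]; exact (hn₁.trans (Category.assoc _ _ _)).symm⟩
  obtain ⟨m₀, ⟨hm₁, hm₂⟩, -⟩ := formallyEtale_of_repWith_etale hy sqy'
  obtain ⟨m, rfl⟩ := (yon S).map_surjective m₀
  replace hm₁ : (yon S).map jD ≫ (yon S).map m = (yon S).map k' ≫ (yon S).map (jQ str L) := hm₁
  replace hm₂ : (yon S).map m ≫ y = n := hm₂
  have hmv : m ≫ v1 = toC := by
    refine (yon S).map_injective (eq_of_jQ strD hKD hbu ?_ ?_)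
    · rw [Functor.map_comp, reassoc_of% hm₁, hkD']
    · rw [Functor.map_comp, Category.assoc, hv1, reassoc_of% hm₂, hne]
  -- a basic open neighbourhood of `z` whose reduction lies in the image of `k`
  obtain ⟨_, ⟨rbar, rfl⟩, hzr, hrk⟩ := PrimeSpectrum.isTopologicalBasis_basic_opens.exists_subset_of_mem_open
    (u := Set.range k) hzk k.isOpenEmbedding.isOpen_range
  obtain ⟨r, rfl⟩ := Ideal.Quotient.mk_surjective rbar
  let R := Localization.Away r
  let φr : B →+* R := algebraMap B R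
  let strR := strB str φr
  let incl : Over.mk strR ⟶ Over.mk str := mapB str φr
  let jR := jQ strR (L.map φr)
  have hLR : (L.map φr) ^ 2 = ⊥ := by rw [← Ideal.map_pow, hL, Ideal.map_bot]
  have hincl : IsOpenImmersion incl.left := IsOpenImmersion.of_isLocalization r
  let q := toQ str φr L
  have hq : q ≫ jQ str L = jR ≫ incl := (isPullback_toQ str φr L).w
  have hrange : Set.range q.left ⊆ Set.range k := by
    rintro _ ⟨x, rfl⟩
    apply hrk
    have h1 : incl.left (jR.left x) ∈ Set.range (PrimeSpectrum.comap φr) := ⟨_, rfl⟩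
    rw [PrimeSpectrum.localization_away_comap_range R r] at h1
    have h2 : (jQ str L).left (q.left x) = incl.left (jR.left x) := congr(($hq).left x)
    rw [← h2] at h1
    exact h1
  have hz : z ∈ Set.range incl.left := by
    change z ∈ Set.range (PrimeSpectrum.comap φr)
    rw [PrimeSpectrum.localization_away_comap_range R r, ← hz₀]
    exact hzr
  let ρ : ptQ strR (L.map φr) ⟶ ptQ strD (K.map φD) := Over.homMk (IsOpenImmersion.lift k q.left hrange) (by
    rw [← Over.w k', ← Over.w q]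
    exact IsOpenImmersion.lift_fac_assoc k q.left hrange _)
  have hρ : ρ ≫ k' = q := by ext1; exact IsOpenImmersion.lift_fac k q.left hrange
  have hρ' : ρ ≫ jD ≫ toC = jR ≫ incl ≫ v1 := by rw [← hkD, reassoc_of% hρ, reassoc_of% hq]
  let sqg : InfSq ((yon S).map toC) := ⟨R, L.map φr, hLR, strR, (yon S).map (ρ ≫ jD), (yon S).map (incl ≫ v1), by
    change _ = (yon S).map jR ≫ _
    rw [← Functor.map_comp, ← Functor.map_comp, Category.assoc, hρ']⟩
  have : Etale toC.left := (HasRingHomProperty.Spec_iff (P := @Etale)).2 hφD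
  obtain ⟨g₀, ⟨hg₁, hg₂⟩, -⟩ := formallyEtale_yon toC sqg
  obtain ⟨g, rfl⟩ := (yon S).map_surjective g₀
  replace hg₁ : jR ≫ g = ρ ≫ jD := (yon S).map_injective (by rw [Functor.map_comp]; exact hg₁)
  replace hg₂ : g ≫ toC = incl ≫ v1 := (yon S).map_injective (by rw [Functor.map_comp]; exact hg₂)
  have hqy : (yon S).map jR ≫ (yon S).map incl ≫ y = ((yon S).map q ≫ y0) ≫ iV := by
    rw [Category.assoc, sqy.w, ← Category.assoc, ← Category.assoc, ← Functor.map_comp, ← Functor.map_comp, hq]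
  have hgy : (yon S).map jR ≫ (yon S).map g ≫ n = ((yon S).map q ≫ y0) ≫ iV := by
    rw [← Category.assoc, ← Functor.map_comp, hg₁, Functor.map_comp, Category.assoc, hn₁, ← hρ,
      Functor.map_comp]
    simp only [Category.assoc]
  have hgn : (yon S).map g ≫ n = (yon S).map incl ≫ y := by
    refine (HV.2.2 (IsAlgSpace.yon_obj _) (IsAlgSpace.yon_obj _) ((yon S).map jR) ((yon S).map q ≫ y0)
      ((yon S).map incl ≫ y ≫ hV') (isFOThickMor_quot strR hLR) ?_).unique ⟨hgy, ?_⟩ ⟨hqy, Category.assoc _ _ _⟩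
    · rw [reassoc_of% hqy, HV.2.1]
      simp only [Category.assoc]
    · refine eq_of_jQ strR hLR hwu ?_ ?_
      · simp only [Category.assoc] at hgy hqy ⊢
        rw [reassoc_of% hgy, reassoc_of% hqy]
      · rw [Category.assoc, Category.assoc, Category.assoc, Category.assoc, ← w2, ← reassoc_of% hv1, w2,
          ← reassoc_of% hn₂.symm]
        rw [← Category.assoc ((yon S).map incl), ← Functor.map_comp, ← hg₂, Functor.map_comp, Category.assoc]
        exact congrArg _ hbU₂
  have hgm : g ≫ m = incl := by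
    refine (yon S).map_injective (eq_of_jQ strR hLR hyu ?_ ?_)
    · rw [← Functor.map_comp, ← Functor.map_comp, reassoc_of% hg₁]
      refine (congrArg ((yon S).map) ?_)
      have hm' : jD ≫ m = k' ≫ jQ str L := (yon S).map_injective (by rw [Functor.map_comp, Functor.map_comp, hm₁])
      rw [hm', reassoc_of% hρ, hq]
    · rw [Functor.map_comp, Category.assoc, hm₂, hgn]
  -- the inverse image of the neighbourhood in `Spec D` is isomorphic to it
  let P := pullback incl m
  let fst : P ⟶ Over.mk strR := pullback.fst incl m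
  let snd : P ⟶ Over.mk strD := pullback.snd incl m
  have hP := (IsPullback.of_hasPullback incl m).map (Over.forget S)
  have hsnd : IsOpenImmersion snd.left := MorphismProperty.of_isPullback (P := @IsOpenImmersion) hP hincl
  have hfs : fst ≫ g = snd := by
    have sqT := IsPullback.of_hasPullback ((yon S).map jD) ((yon S).map snd)
    have hT := isFOThickMor_baseChange sqT (IsAlgSpace.yon_obj _) (isFOThickMor_quot strD hKD)
    refine (yon S).map_injective (eq_of_formallyUnramified hT (IsAlgSpace.yon_obj _)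
      (formallyUnramified_yon toC) ?_ ?_)
    · have e : (pullback.snd ((yon S).map jD) ((yon S).map snd) ≫ (yon S).map fst) ≫ (yon S).map incl =
          (pullback.fst ((yon S).map jD) ((yon S).map snd) ≫ (yon S).map k') ≫ (yon S).map (jQ str L) := by
        rw [Category.assoc, Category.assoc, ← hm₁, sqT.w_assoc, ← Functor.map_comp, ← Functor.map_comp,
          pullback.condition]
      let t := ((isPullback_toQ str φr L).map (yon S)).lift _ _ e.symm
      have ht₁ : t ≫ (yon S).map q = pullback.fst _ _ ≫ (yon S).map k' := IsPullback.lift_fst _ _ _ _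
      have ht₂ : t ≫ (yon S).map jR = pullback.snd _ _ ≫ (yon S).map fst := IsPullback.lift_snd _ _ _ _
      have : Mono ((yon S).map k') := Groth.Agent.AlgSp.mono_of_repWith (P := @IsOpenImmersion)
        (fun f hf => have : IsOpenImmersion f := hf; inferInstance) _ ((repWith_yon_map_iff _ k').2 hko)
      have ht₃ : t ≫ (yon S).map ρ = pullback.fst _ _ := by
        rw [← cancel_mono ((yon S).map k'), Category.assoc, ← Functor.map_comp, hρ, ht₁]
      rw [Functor.map_comp, ← Category.assoc, ← ht₂, Category.assoc, ← Functor.map_comp, hg₁, Functor.map_comp,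
        reassoc_of% ht₃, sqT.w]
    · rw [← Functor.map_comp, ← Functor.map_comp, Category.assoc, hg₂]
      refine congrArg _ ?_
      rw [← Category.assoc, pullback.condition, Category.assoc, hmv]
  let σ : Over.mk strR ⟶ P := pullback.lift (𝟙 _) g (by rw [Category.id_comp, hgm])
  have : IsIso σ := ⟨fst, pullback.lift_fst _ _ _, pullback.hom_ext (by
    rw [Category.assoc, pullback.lift_fst, Category.comp_id, Category.id_comp]) (by
    rw [Category.assoc, pullback.lift_snd, Category.id_comp, hfs])⟩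
  have : IsIso σ.left := ((Over.forget S).mapIso (asIso σ)).isIso_hom
  refine ⟨Over.mk strR, incl, hincl, hz, ?_⟩
  rw [← hg₂, show g = σ ≫ snd from (pullback.lift_snd _ _ _).symm, Over.comp_left, Over.comp_left]
  infer_instance

/-- The map of universal first order thickenings over an etale localisation is etale. -/
theorem isEtaleMor_of_univ (HZ : IsUnivFOThick h iZ hZ') (HV : IsUnivFOThick ψ iV hV') (hU : IsAlgSpace U)
    (hVs : IsAlgSpace V') (hZs : IsAlgSpace Z') (hv : IsEtaleMor v) (hw : IsEtaleMor w) (c : ψ ≫ w = v ≫ h)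
    (w1 : iV ≫ e' = v ≫ iZ) (w2 : e' ≫ hZ' = hV' ≫ w) : IsEtaleMor e' := by
  rw [AlgSpCov.isEtaleMor_iff_locP_etale hVs hZs]
  intro A B a b f ha hb wf
  suffices H : ∀ x, ∃ (W : Scheme.{u}) (j : W ⟶ A.left), IsOpenImmersion j ∧ x ∈ Set.range j ∧ Etale (j ≫ f.left) by
    choose W j hj hx he using H
    refine IsZariskiLocalAtSource.of_iSup_eq_top (P := @Etale) (fun x => (j x).opensRange)
      (top_unique fun x _ => TopologicalSpace.Opens.mem_iSup.2 ⟨x, hx x⟩) fun x => ?_
    have := he x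
    have e : (j x).opensRange.ι = (j x).isoOpensRange.inv ≫ j x := (Scheme.Hom.isoOpensRange_inv_comp _).symm
    rw [e, Category.assoc]
    infer_instance
  intro x
  obtain ⟨i, y, hy⟩ := B.left.affineOpenCover.openCover.exists_eq (f.left x)
  let gC : Spec (B.left.affineOpenCover.X i) ⟶ B.left := B.left.affineOpenCover.f i
  have : IsOpenImmersion gC := inferInstanceAs (IsOpenImmersion (B.left.affineOpenCover.openCover.f i))
  let O : A.left.Opens := f.left ⁻¹ᵁ gC.opensRange
  obtain ⟨W, hW, hxW, hWO⟩ := exists_isAffineOpen_mem_and_subset (x := x) (U := O) ⟨y, hy⟩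
  let gB : Spec Γ(A.left, W) ⟶ A.left := hW.fromSpec
  have hrg : Set.range (gB ≫ f.left) ⊆ Set.range gC := by
    rintro _ ⟨t, rfl⟩
    have : gB t ∈ (W : Set A.left) := hW.range_fromSpec ▸ Set.mem_range_self t
    exact hWO this
  let strC := gC ≫ B.hom
  let str := gB ≫ A.hom
  let C' : Over.mk strC ⟶ B := Over.homMk gC rfl
  let B' : Over.mk str ⟶ A := Over.homMk gB rfl
  let v1 : Over.mk str ⟶ Over.mk strC := Over.homMk (IsOpenImmersion.lift gC (gB ≫ f.left) hrg) (by
    change _ ≫ gC ≫ B.hom = gB ≫ A.hom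
    rw [IsOpenImmersion.lift_fac_assoc, Category.assoc, Over.w f])
  have hv1 : v1 ≫ C' = B' ≫ f := by ext1; exact IsOpenImmersion.lift_fac _ _ _
  have hB' : Etale B'.left := inferInstanceAs (Etale gB)
  have hC' : Etale C'.left := inferInstanceAs (Etale gC)
  obtain ⟨t, ht⟩ : x ∈ Set.range gB := hW.range_fromSpec ▸ hxW
  obtain ⟨W₁, incl, hincl, ⟨s, hs⟩, het⟩ := exists_etale_nhd HZ HV hU hv hw c w1 w2 str strC
    ((yon S).map B' ≫ a) ((repWith_isMultiplicative _).comp_mem _ _ ((repWith_yon_map_iff _ _).2 hB') ha)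
    ((yon S).map C' ≫ b) ((repWith_isMultiplicative _).comp_mem _ _ ((repWith_yon_map_iff _ _).2 hC') hb) v1
    (by exact (Category.assoc _ _ _).symm.trans ((congrArg (· ≫ b) (((yon S).map_comp v1 C').symm.trans ((congrArg (yon S).map hv1).trans ((yon S).map_comp B' f)))).trans ((Category.assoc _ _ _).trans ((congrArg ((yon S).map B' ≫ ·) wf.symm).trans (Category.assoc _ _ _).symm))))
    t
  refine ⟨W₁.left, incl.left ≫ gB, inferInstance, ⟨s, by rw [← ht, ← hs]; rfl⟩, ?_⟩
  have e : (incl.left ≫ gB) ≫ f.left = (incl ≫ v1).left ≫ gC := by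
    rw [Over.comp_left, Category.assoc, Category.assoc]
    exact congrArg _ (congr($(hv1).left)).symm
  rw [e]
  exact MorphismProperty.comp_mem _ _ _ het (inferInstanceAs (Etale gC))

end Groth.Agent.AlgSp.InfUnivEtale
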