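import Groth.Agent.AlgSp.InfUnivDesc
import Groth.Agent.AlgSp.InfUnivEtale
import Groth.Agent.AlgSp.InfDescent
import Groth.Agent.AlgSp.DescentSepLqf
import Groth.Agent.AlgSp.Quot
import Groth.Agent.AlgSp.PointsMor
import Groth.Agent.AlgSpB.FieldPoints
import Groth.Agent.AlgSpCov.FpqcDiag
import Groth.Agent.Omega.ThickExists
import Groth.Agent.EtaleSite.TopInv

/-!
# Existence of universal first order thickenings of algebraic spaces
-/

universe u

open CategoryTheory CategoryTheory.Limits AlgebraicGeometry Opposite AlgSp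

set_option backward.isDefEq.respectTransparency.types false

namespace Groth.Agent.AlgSp.InfUnivExist

open InfGlue InfEtale InfSpace InfBC InfCharts

variable {S : Scheme.{u}}

/-- A first order thickening of schemes gives one of sheaves. -/
theorem isFOThickMor_yon {W W' : Over S} (g : W ⟶ W') (hg : MoreMor.IsFirstOrderThickening g.left) :
    IsFOThickMor ((yon S).map g) := by
  have hth : IsThickMor ((yon S).map g) := (isThickMor_yon_map_iff g).2 hg.1
  refine isFOThickMor_of_forall hth fun A _ str y _ => ?_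
  obtain ⟨J, k, hk⟩ := exists_quot_chart str ⟨hth.1, fun _ _ g fst snd sq => (hth.2 g fst snd sq).1⟩ y
  obtain ⟨k₀, rfl⟩ := (yon S).map_surjective k
  obtain ⟨y₀, rfl⟩ := (yon S).map_surjective y
  have sq := (IsPullback.of_map (yon S) ((yon S).map_injective (by simpa using hk.w)) hk).map (Over.forget S)
  have hJ : MoreMor.IsFirstOrderThickening (jQ str J).left :=
    Omega.Thick.isFOT_of_isPullback hg sq.flip
  exact ⟨J, InfSpace.sq_eq_bot_of_ker_sq J hJ.2, (yon S).map k₀, hk⟩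

/-- A scheme formally unramified over `U` has a universal first order thickening over a space formally etale
under `U`. -/
theorem exists_univ {W U : Over S} (k : W ⟶ U) (hk : FormallyUnramified k.left) {X : Sp S}
    (b : (yon S).obj U ⟶ X) (hb : IsFormallyEtaleMor b) :
    ∃ (W' : Over S) (i : W ⟶ W') (g : (yon S).obj W' ⟶ X), MoreMor.IsFirstOrderThickening i.left ∧
      IsUnivFOThick ((yon S).map k ≫ b) ((yon S).map i) g := by
  have hu := Omega.ThickExists.isUnivThickening k.left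
  let W' : Over S := Over.mk (Omega.ThickExists.gluedStr k.left ≫ U.hom)
  let i : W ⟶ W' := Over.homMk (Omega.ThickExists.gluedInc k.left) (by
    change _ ≫ _ ≫ U.hom = W.hom
    rw [← Category.assoc, hu.2.1, Over.w k])
  let k' : W' ⟶ U := Over.homMk (Omega.ThickExists.gluedStr k.left) rfl
  have hik : i ≫ k' = k := by ext1; exact hu.2.1
  have hi : IsFOThickMor ((yon S).map i) := isFOThickMor_yon i hu.1
  refine ⟨W', i, (yon S).map k' ≫ b, hu.1, InfUniv.univ_of_quot_test hi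
    (by rw [← Category.assoc, ← Functor.map_comp, hik]) ?_⟩
  intro A _ str I hI a b₀ w
  obtain ⟨a, rfl⟩ := (yon S).map_surjective a
  let sqb : InfSq b := ⟨A, I, hI, str, (yon S).map (a ≫ k), b₀, by
    rw [Functor.map_comp, Category.assoc]; exact w.symm⟩
  obtain ⟨l, ⟨hl₁, hl₂⟩, hlu⟩ := hb sqb
  obtain ⟨l, rfl⟩ := (yon S).map_surjective l
  replace hl₁ : jQ str I ≫ l = a ≫ k := (yon S).map_injective ((Functor.map_comp _ _ _).trans hl₁)
  replace hl₂ : (yon S).map l ≫ b = b₀ := hl₂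
  obtain ⟨a', ⟨h₁, h₂⟩, hun⟩ := hu.2.2 _ _ (jQ str I).left l.left a.left
    (isFirstOrderThickening_of_isFOThickMor_yon_map (inferInstanceAs (IsAffine (Spec (CommRingCat.of A))))
      (isFOThickMor_quot str hI)) (congr($(hl₁).left))
  let a₁ : Over.mk str ⟶ W' := Over.homMk a' (by
    change a' ≫ _ ≫ U.hom = _
    rw [← Category.assoc, h₂, Over.w l])
  have e₁ : jQ str I ≫ a₁ = a ≫ i := by ext1; exact h₁
  have e₂ : a₁ ≫ k' = l := by ext1; exact h₂
  refine ⟨(yon S).map a₁, ⟨?_, ?_⟩, fun m hm => ?_⟩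
  · rw [← Functor.map_comp, ← Functor.map_comp, e₁]
  · rw [← Category.assoc, ← Functor.map_comp, e₂, hl₂]
  · obtain ⟨m, rfl⟩ := (yon S).map_surjective m
    have f₁ : jQ str I ≫ m = a ≫ i :=
      (yon S).map_injective (by rw [Functor.map_comp, Functor.map_comp]; exact hm.1)
    have f₂ : m ≫ k' = l := (yon S).map_injective (hlu ((yon S).map (m ≫ k')) ⟨?_, ?_⟩)
    · refine congrArg _ ?_
      ext1
      exact hun m.left ⟨congr($(f₁).left), congr($(f₂).left)⟩
    · change (yon S).map (jQ str I) ≫ _ = _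
      rw [← Functor.map_comp, reassoc_of% f₁, hik]
    · change _ ≫ b = b₀
      rw [Functor.map_comp, Category.assoc]
      exact hm.2

/-- Compatible first order thickenings joined by etale maps form a cartesian square. -/
theorem isPullback_of_etale {R R' V V' : Over S} {iR : R ⟶ R'} {iV : V ⟶ V'} {s : R ⟶ V} {s' : R' ⟶ V'}
    (hR : MoreMor.IsFirstOrderThickening iR.left) (hV : MoreMor.IsFirstOrderThickening iV.left)
    (hs : Etale s.left) (hs' : Etale s'.left) (w : iR ≫ s' = s ≫ iV) : IsPullback iR s s' iV := by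
  refine IsPullback.of_map (Over.forget S) w ?_
  change IsPullback iR.left s.left s'.left iV.left
  have w' : iR.left ≫ s'.left = s.left ≫ iV.left := congr($(w).left)
  let c := pullback.lift iR.left s.left w'
  have hP := Omega.Thick.isFOT_of_isPullback hV (IsPullback.of_hasPullback s'.left iV.left)
  have : IsClosedImmersion (pullback.fst s'.left iV.left) := hP.1.1
  have : IsClosedImmersion iR.left := hR.1.1
  have hc₁ : c ≫ pullback.fst _ _ = iR.left := pullback.lift_fst _ _ _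
  have hc₂ : c ≫ pullback.snd _ _ = s.left := pullback.lift_snd _ _ _
  have : IsClosedImmersion (c ≫ pullback.fst _ _) := by rw [hc₁]; infer_instance
  have : IsClosedImmersion c := .of_comp c (pullback.fst _ _)
  have : Surjective c := ⟨fun x => by
    obtain ⟨r, hr⟩ := hR.1.2.surj ((pullback.fst s'.left iV.left) x)
    refine ⟨r, (pullback.fst s'.left iV.left).isClosedEmbedding.injective ?_⟩
    rw [← Scheme.Hom.comp_apply, hc₁, hr]⟩
  have : Etale (pullback.snd s'.left iV.left) := MorphismProperty.pullback_snd _ _ hs'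
  have : Etale (c ≫ pullback.snd s'.left iV.left) := by rw [hc₂]; exact hs
  have : Etale c := .of_comp c (pullback.snd s'.left iV.left)
  have : IsIso c := EtaleSite.isIso_of_etale_of_universallyInjective c
  exact IsPullback.of_iso_pullback ⟨w'⟩ (asIso c) hc₁ hc₂

theorem isEtaleMor_id (X : Sp S) : IsEtaleMor (𝟙 X) :=
  AlgSpCov.isEtaleMor_of_repWith ((repWith_isMultiplicative _).id_mem _)

/-- Universal first order thickenings of formally unramified morphisms of algebraic spaces exist. -/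
theorem exists_univ_space {Z X : Sp S} (hZ : IsAlgSpace Z) (hX : IsAlgSpace X) (h : Z ⟶ X)
    (hh : IsFormallyUnramifiedMor h) :
    ∃ (Z' : Sp S) (_ : IsAlgSpace Z') (i : Z ⟶ Z') (h' : Z' ⟶ X), IsUnivFOThick h i h' := by
  obtain ⟨V, U, a, b, k, ha, hsa, hb, -, wk⟩ := exists_chart hZ hX h
  have hku : FormallyUnramified k.left := formallyUnramified_chart hh ha wk
  obtain ⟨R, t, s, sq⟩ := AlgSpB.exists_pullback_yon ha.1 a
  have hs : Etale s.left := ha.2 _ _ _ sq
  have ht : Etale t.left := ha.2 _ _ _ sq.flip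
  obtain ⟨V', iV, gV, hVt, HV⟩ := exists_univ k hku b (formallyEtale_of_repWith_etale hb)
  have hsk : FormallyUnramified (s ≫ k).left :=
    have : FormallyUnramified s.left := inferInstance
    MorphismProperty.comp_mem @FormallyUnramified _ _ this hku
  obtain ⟨R', iR, gR, hRt, HR⟩ := exists_univ (s ≫ k) hsk b (formallyEtale_of_repWith_etale hb)
  have := InfUniv.mono_of_isFOThickMor HV.1
  have hY := IsAlgSpace.yon_obj (S := S)
  have hqh : ∀ q : R ⟶ V, (yon S).map q ≫ a = (yon S).map s ≫ a →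
      (yon S).map (s ≫ k) ≫ b = (yon S).map q ≫ (yon S).map k ≫ b := fun q hq => by
    rw [Functor.map_comp, Category.assoc, ← wk, ← Category.assoc, ← Category.assoc, hq]
  have lifts : ∀ q : R ⟶ V, Etale q.left → (yon S).map q ≫ a = (yon S).map s ≫ a →
      ∃ q' : R' ⟶ V', iR ≫ q' = q ≫ iV ∧ (yon S).map q' ≫ gV = gR ∧ Etale q'.left := fun q hqe hq => by
    obtain ⟨m, ⟨hm₁, hm₂⟩, -⟩ := HV.2.2 (hY _) (hY _) ((yon S).map iR) ((yon S).map q) gR HR.1
      (by rw [HR.2.1, hqh q hq])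
    obtain ⟨q', rfl⟩ := (yon S).map_surjective m
    refine ⟨q', (yon S).map_injective (by rw [Functor.map_comp, Functor.map_comp, hm₁]), hm₂, ?_⟩
    have he := InfUnivEtale.isEtaleMor_of_univ HV HR hX (hY _) (hY _)
      (AlgSpCov.isEtaleMor_of_repWith ((repWith_yon_map_iff _ q).2 hqe)) (isEtaleMor_id X)
      (by rw [Category.comp_id, hqh q hq]) hm₁ (by rw [Category.comp_id, hm₂])
    exact (repWith_yon_map_iff _ _).1 (by simpa using he (𝟙 _) ((repWith_isMultiplicative _).id_mem _))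
  obtain ⟨s', hs'i, hs'g, hs'e⟩ := lifts s hs rfl
  obtain ⟨t', ht'i, ht'g, ht'e⟩ := lifts t ht sq.w
  have pS := (isPullback_of_etale hRt hVt hs hs'e hs'i).map (yon S)
  have pT := (isPullback_of_etale hRt hVt ht ht'e ht'i).map (yon S)
  have hu : ∀ {q' : R' ⟶ V'}, Etale q'.left → IsFormallyUnramifiedMor ((yon S).map q') := fun hq =>
    formallyUnramified_of_repWith_etale ((repWith_yon_map_iff _ _).2 hq)
  have inj : ∀ (T : Over S) (r r' : T ⟶ R'), r ≫ t' = r' ≫ t' → r ≫ s' = r' ≫ s' → r = r' := by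
    intro T r r' et es
    have sq₀ := HV.1.1.1.isPullback ((yon S).map (r ≫ s'))
    let q := HV.1.1.1.fst ((yon S).map (r ≫ s'))
    let j := HV.1.1.1.snd ((yon S).map (r ≫ s'))
    have hj : IsFOThickMor ((yon S).map j) := isFOThickMor_baseChange sq₀ (hY _) HV.1
    have f₁ : ((yon S).map j ≫ (yon S).map r) ≫ (yon S).map s' = q ≫ (yon S).map iV := by
      rw [Category.assoc, ← Functor.map_comp]; exact sq₀.w.symm
    have f₂ : ((yon S).map j ≫ (yon S).map r') ≫ (yon S).map s' = q ≫ (yon S).map iV := by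
      rw [Category.assoc, ← Functor.map_comp, ← es]; exact sq₀.w.symm
    refine (yon S).map_injective (InfSpace.eq_of_formallyUnramified hj (hY _) (hu hs'e) ?_
      (by rw [← Functor.map_comp, ← Functor.map_comp, es]))
    rw [← pS.lift_fst _ _ f₁, ← pS.lift_fst _ _ f₂]
    refine congrArg (· ≫ (yon S).map iR) (sq.hom_ext ?_ ?_)
    · rw [← cancel_mono ((yon S).map iV)]
      rw [Category.assoc, Category.assoc, ← pT.w, pS.lift_fst_assoc, pS.lift_fst_assoc, Category.assoc,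
        Category.assoc, ← (yon S).map_comp r, ← (yon S).map_comp r', et]
    · rw [pS.lift_snd, pS.lift_snd]
  have refl' : ∃ e : V' ⟶ R', e ≫ t' = 𝟙 _ ∧ e ≫ s' = 𝟙 _ := by
    obtain ⟨e₀, he₁, he₂⟩ := sq.exists_lift (𝟙 _) (𝟙 _) rfl
    obtain ⟨e, ⟨he, he'⟩, -⟩ := HR.2.2 (hY _) (hY _) ((yon S).map iV) e₀ gV HV.1
      (by rw [HV.2.1, Functor.map_comp, Category.assoc, reassoc_of% he₂])
    obtain ⟨e, rfl⟩ := (yon S).map_surjective e
    have u : ∀ (q : R ⟶ V) (q' : R' ⟶ V'), iR ≫ q' = q ≫ iV → (yon S).map q' ≫ gV = gR →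
        e₀ ≫ (yon S).map q = 𝟙 _ → e ≫ q' = 𝟙 _ := fun q q' h₁ h₂ h₃ => by
      refine (yon S).map_injective ((HV.2.2 (hY _) (hY _) ((yon S).map iV) (𝟙 _) gV HV.1
        (by rw [HV.2.1, Category.id_comp])).unique ⟨?_, ?_⟩ ⟨by simp, by simp⟩)
      · rw [Functor.map_comp, reassoc_of% he, ← Functor.map_comp, h₁, Functor.map_comp, reassoc_of% h₃]
        simp
      · rw [Functor.map_comp, Category.assoc, h₂, he']
    exact ⟨e, u t t' ht'i ht'g he₁, u s s' hs'i hs'g he₂⟩
  have symm' : ∃ σ : R' ⟶ R', σ ≫ t' = s' ∧ σ ≫ s' = t' := by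
    obtain ⟨σ₀, hσ₁, hσ₂⟩ := sq.exists_lift ((yon S).map s) ((yon S).map t) sq.w.symm
    obtain ⟨σ, ⟨hσ, hσ'⟩, -⟩ := HR.2.2 (hY _) (hY _) ((yon S).map iR) σ₀ gR HR.1
      (by rw [HR.2.1, Functor.map_comp, Category.assoc, reassoc_of% hσ₂, ← wk, ← reassoc_of% sq.w])
    obtain ⟨σ, rfl⟩ := (yon S).map_surjective σ
    have u : ∀ (q p : R ⟶ V) (q' p' : R' ⟶ V'), iR ≫ q' = q ≫ iV → iR ≫ p' = p ≫ iV →
        (yon S).map q' ≫ gV = gR → (yon S).map p' ≫ gV = gR → (yon S).map p ≫ a = (yon S).map s ≫ a →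
        σ₀ ≫ (yon S).map q = (yon S).map p → σ ≫ q' = p' := fun q p q' p' h₁ k₁ h₂ k₂ k₃ h₃ => by
      refine (yon S).map_injective ((HV.2.2 (hY _) (hY _) ((yon S).map iR) ((yon S).map p) gR HR.1
        (by rw [HR.2.1, hqh p k₃])).unique ⟨?_, ?_⟩ ⟨by rw [← Functor.map_comp, k₁, Functor.map_comp], k₂⟩)
      · rw [Functor.map_comp, reassoc_of% hσ, ← Functor.map_comp, h₁, Functor.map_comp, reassoc_of% h₃]
      · rw [Functor.map_comp, Category.assoc, h₂, hσ']
    exact ⟨σ, u t s t' s' ht'i hs'i ht'g hs'g rfl hσ₁, u s t s' t' hs'i ht'i hs'g ht'g sq.w hσ₂⟩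
  have trans' : ∀ (T : Over S) (r₁ r₂ : T ⟶ R'), r₁ ≫ s' = r₂ ≫ t' →
      ∃ r₃ : T ⟶ R', r₃ ≫ t' = r₁ ≫ t' ∧ r₃ ≫ s' = r₂ ≫ s' := by
    intro T r₁ r₂ e
    have sq₀ := HV.1.1.1.isPullback ((yon S).map (r₁ ≫ s'))
    let q := HV.1.1.1.fst ((yon S).map (r₁ ≫ s'))
    let j := HV.1.1.1.snd ((yon S).map (r₁ ≫ s'))
    have hj : IsFOThickMor ((yon S).map j) := isFOThickMor_baseChange sq₀ (hY _) HV.1
    have f₁ : ((yon S).map j ≫ (yon S).map r₁) ≫ (yon S).map s' = q ≫ (yon S).map iV := by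
      rw [Category.assoc, ← Functor.map_comp]; exact sq₀.w.symm
    have f₂ : ((yon S).map j ≫ (yon S).map r₂) ≫ (yon S).map t' = q ≫ (yon S).map iV := by
      rw [Category.assoc, ← Functor.map_comp, ← e]; exact sq₀.w.symm
    let ρ₁ := pS.lift _ _ f₁
    let ρ₂ := pT.lift _ _ f₂
    have a₁ : ρ₁ ≫ (yon S).map iR = (yon S).map j ≫ (yon S).map r₁ := pS.lift_fst _ _ f₁
    have a₂ : ρ₂ ≫ (yon S).map iR = (yon S).map j ≫ (yon S).map r₂ := pT.lift_fst _ _ f₂
    have b₁ : ρ₁ ≫ (yon S).map s = q := pS.lift_snd _ _ f₁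
    have b₂ : ρ₂ ≫ (yon S).map t = q := pT.lift_snd _ _ f₂
    have hw : (ρ₁ ≫ (yon S).map t) ≫ a = (ρ₂ ≫ (yon S).map s) ≫ a := by
      simp only [Category.assoc, ← sq.w]
      rw [reassoc_of% b₂, sq.w, reassoc_of% b₁]
    obtain ⟨ρ₃, hρ₁, hρ₂⟩ := sq.exists_lift _ _ hw
    have hX₃ : (yon S).map j ≫ (yon S).map r₁ ≫ gR = ρ₃ ≫ (yon S).map (s ≫ k) ≫ b := by
      rw [← reassoc_of% a₁, HR.2.1, hqh t sq.w, reassoc_of% hρ₁]
    obtain ⟨r₃, ⟨hr, hr'⟩, -⟩ := HR.2.2 (hY _) (hY _) ((yon S).map j) ρ₃ ((yon S).map r₁ ≫ gR) hj hX₃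
    obtain ⟨r₃, rfl⟩ := (yon S).map_surjective r₃
    have g₁₂ : (yon S).map r₂ ≫ gR = (yon S).map r₁ ≫ gR := by
      conv_lhs => rw [← ht'g, ← Category.assoc, ← Functor.map_comp, ← e, Functor.map_comp, Category.assoc, hs'g]
    have u : ∀ (p : R ⟶ V) (p' : R' ⟶ V') (r : T ⟶ R') (ρ : (yon S).obj _ ⟶ (yon S).obj R),
        iR ≫ p' = p ≫ iV → (yon S).map p' ≫ gV = gR → (yon S).map p ≫ a = (yon S).map s ≫ a →
        ρ₃ ≫ (yon S).map p = ρ ≫ (yon S).map p → ρ ≫ (yon S).map iR = (yon S).map j ≫ (yon S).map r →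
        (yon S).map r ≫ gR = (yon S).map r₁ ≫ gR → r₃ ≫ p' = r ≫ p' := fun p p' r ρ h₁ h₂ h₃ h₄ h₅ h₆ => by
      have h₁' : (yon S).map iR ≫ (yon S).map p' = (yon S).map p ≫ (yon S).map iV := by
        rw [← Functor.map_comp, h₁, Functor.map_comp]
      refine (yon S).map_injective ((HV.2.2 (hY _) (hY _) ((yon S).map j) (ρ₃ ≫ (yon S).map p)
        ((yon S).map r₁ ≫ gR) hj (by rw [hX₃, hqh p h₃, Category.assoc])).unique ⟨?_, ?_⟩ ⟨?_, ?_⟩)
      · rw [(yon S).map_comp r₃ p', reassoc_of% hr, h₁', Category.assoc]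
      · rw [(yon S).map_comp r₃ p', Category.assoc, h₂, hr']
      · rw [(yon S).map_comp r p', ← reassoc_of% h₅, h₁', ← reassoc_of% h₄, Category.assoc]
      · rw [(yon S).map_comp r p', Category.assoc, h₂, h₆]
    exact ⟨r₃, u t t' r₁ ρ₁ ht'i ht'g sq.w hρ₁ a₁ rfl, u s s' r₂ ρ₂ hs'i hs'g rfl hρ₂ a₂ g₁₂⟩
  have hrel : IsEqvRel s' t' := by
    obtain ⟨e, he₁, he₂⟩ := refl'
    obtain ⟨σ, hσ₁, hσ₂⟩ := symm'
    refine ⟨inj, fun T => ⟨fun x => ⟨x ≫ e, by simp [he₁], by simp [he₂]⟩, ?_, ?_⟩⟩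
    · rintro x y ⟨r, rfl, rfl⟩
      exact ⟨r ≫ σ, by rw [Category.assoc, hσ₁], by rw [Category.assoc, hσ₂]⟩
    · rintro x y z ⟨r₁, rfl, h₁⟩ ⟨r₂, h₂, rfl⟩
      exact trans' T r₁ r₂ (h₁.trans h₂.symm)
  let p' := yπ s' t'
  have hp'l : Sheaf.IsLocallySurjective p' := isLocallySurjective_yπ s' t'
  have sq' := isPullback_yπ s' t' hrel
  obtain ⟨hZ', hp'e, hp's⟩ := isAlgSpace_of_kernelPair p' sq' hs'e
  have hs'Y : (yon S).map iR ≫ (yon S).map s' = (yon S).map s ≫ (yon S).map iV := by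
    rw [← Functor.map_comp, hs'i, Functor.map_comp]
  have ht'Y : (yon S).map iR ≫ (yon S).map t' = (yon S).map t ≫ (yon S).map iV := by
    rw [← Functor.map_comp, ht'i, Functor.map_comp]
  obtain ⟨i, hi⟩ := exists_desc ha hsa ((yon S).map iV ≫ p') fun T x y e => by
    obtain ⟨r, rfl, rfl⟩ := sq.exists_lift x y e
    rw [Category.assoc, Category.assoc, ← reassoc_of% ht'Y, ← reassoc_of% hs'Y, sq'.w]
  obtain ⟨h', hh'⟩ := exists_desc hp'e hp's gV fun T x y e => by
    obtain ⟨r, rfl, rfl⟩ := sq'.exists_lift x y e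
    rw [Category.assoc, Category.assoc, ht'g, hs'g]
  -- the defining square of `i` is cartesian
  let c : (yon S).obj V ⟶ pullback i p' := pullback.lift a ((yon S).map iV) hi
  have hc₁ : c ≫ pullback.fst i p' = a := pullback.lift_fst _ _ _
  have hc₂ : c ≫ pullback.snd i p' = (yon S).map iV := pullback.lift_snd _ _ _
  have : Mono c := by
    have : Mono (c ≫ pullback.snd i p') := by rw [hc₂]; infer_instance
    exact mono_of_mono c (pullback.snd i p')
  let q₀ := pullback.fst (pullback.fst i p') a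
  have sqq : IsPullback q₀ (pullback.snd _ _) (pullback.fst i p') a := IsPullback.of_hasPullback _ _
  have : Sheaf.IsLocallySurjective q₀ := isLocallySurjective_of_etale_surjective q₀
    ((repWith_isStableUnderBaseChange _).of_isPullback sqq.flip ha)
    ((repWith_isStableUnderBaseChange _).of_isPullback sqq.flip hsa)
  let uV := pullback.snd (pullback.fst i p') a
  have hq₀ : (q₀ ≫ pullback.snd i p') ≫ p' = (uV ≫ (yon S).map iV) ≫ p' := by
    rw [Category.assoc, ← pullback.condition, ← Category.assoc, sqq.w, Category.assoc, hi, Category.assoc]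
  obtain ⟨r', hr'₁, hr'₂⟩ := sq'.exists_lift _ _ hq₀
  let ρ := pS.lift r' uV hr'₂
  obtain ⟨cinv, hcinv⟩ := AlgSpB.exists_factor_of_locallySurjective c q₀ (𝟙 _) (ρ ≫ (yon S).map t) (by
    rw [Category.comp_id]
    apply pullback.hom_ext
    · rw [Category.assoc, hc₁, Category.assoc, sq.w, ← Category.assoc, pS.lift_snd, sqq.w]
    · rw [Category.assoc, hc₂, Category.assoc, ← ht'Y, ← Category.assoc, pS.lift_fst, hr'₁])
  have : IsIso c := ⟨cinv, (cancel_mono c).1 (by rw [Category.assoc, hcinv, Category.comp_id,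
    Category.id_comp]), hcinv⟩
  have sqi : IsPullback a ((yon S).map iV) i p' :=
    IsPullback.of_iso_pullback ⟨hi⟩ (asIso c) hc₁ hc₂
  have hci : IsClosedImmersion iV.left := hVt.1.1
  have hrep : AlgSp.Representable i := by
    refine (repWith_sepLqf_of_baseChange i p' sqi ((repWith_yon_map_iff _ _).2 ?_)).1
    exact ⟨⟨inferInstance, locallyQuasiFinite_of_mono _ inferInstance inferInstance⟩, inferInstance⟩
  have hth : IsThickMor i := by
    have h₁ := repWith_of_isPullback_of_isLocallySurjective i hrep p' a _ sqi @IsClosedImmersion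
      ((repWith_yon_map_iff _ _).2 hVt.1.1)
    have h₂ := repWith_of_isPullback_of_isLocallySurjective i hrep p' a _ sqi @Surjective
      ((repWith_yon_map_iff _ _).2 hVt.1.2)
    exact ⟨hrep, fun _ _ g fst snd sq => ⟨h₁.2 g fst snd sq, h₂.2 g fst snd sq⟩⟩
  have hiF : IsFOThickMor i := by
    refine isFOThickMor_of_forall hth fun A _ str y _ => ?_
    obtain ⟨J, kJ, hJ⟩ := exists_quot_chart str ⟨hrep, fun _ _ g fst snd sq => (hth.2 g fst snd sq).1⟩ y
    refine ⟨J, eq_bot_of_flat_cover _ fun x => ?_, kJ, hJ⟩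
    obtain ⟨B, _, φ, u, hφ, hx, hu'⟩ := InfEtale.exists_affine_lift hp'e hp's str y x
    obtain ⟨K, hK, kK, hKsq⟩ := exists_sqZero_chart' (hY _) HV.1 (strB str φ) u
    obtain ⟨kB, hB⟩ := isPullback_map str φ hJ
    have hp := hKsq.paste_horiz sqi.flip.flip
    refine ⟨B, inferInstance, φ, ?_, hx, ?_⟩
    · have : Etale (Spec.map (CommRingCat.ofHom φ)) := (HasRingHomProperty.Spec_iff (P := @Etale)).2 hφ
      exact (HasRingHomProperty.Spec_iff (P := @Flat) (φ := CommRingCat.ofHom φ)).1 inferInstance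
    · rw [show u ≫ p' = (yon S).map (mapB str φ) ≫ y from hu'] at hp
      rw [Ideal.map_pow, ideal_eq _ hB hp, hK]
  refine ⟨_, hZ', i, h', InfUnivDesc.univ_descend (hY V) (hY V')
    (AlgSpCov.isEtaleMor_of_repWith ha) ((repWith_surjective_iff a ha.1).1 hsa) hiF
    (AlgSpCov.isEtaleMor_of_repWith hp'e) hi.symm ?_ ?_⟩
  · refine hom_ext_cover_sp ha hsa ?_
    rw [reassoc_of% hi, hh', HV.2.1, wk]
  · rw [hh', wk]; exact HV

end Groth.Agent.AlgSp.InfUnivExist
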