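import Groth.Agent.AlgSpCov.LargestOpen
import Groth.Agent.AlgSpB.Gpd
import Groth.Agent.AlgSpB.Open
import Groth.Agent.AlgSp.Space

/-!
# Invariance of largest open subspaces of groupoids
-/

universe u

open CategoryTheory CategoryTheory.Limits AlgebraicGeometry TopologicalSpace AlgSp

set_option backward.isDefEq.respectTransparency.types false

namespace Groth.Agent.AlgSp.InvLargest

open Groth.Agent.AlgSpCov

variable {S : Scheme.{u}} {B : Sp S}

/-- Properties local on the base for one of the coverings respect isomorphisms of the source over the target. -/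
theorem prop_of_iso {Q P : MorphismProperty (Sp S)} (hQ : OpenClass Q)
    (hP : IsLocalOnBase (fun _ _ Yi g => IsCover Q Yi g) P) {X X' Y : Sp S} (hX : IsAlgSpace X) (hX' : IsAlgSpace X')
    (hY : IsAlgSpace Y) {f : X ⟶ Y} {f' : X' ⟶ Y} (e : X' ≅ X) (he : e.hom ≫ f = f') (h : P f) : P f' :=
  of_isLocalOnBase_baseChange hQ hP hX hY hX' hY (IsPullback.of_horiz_isIso ⟨by rw [he, Category.comp_id]⟩)
    (hQ.of_openImm hY hY (𝟙 Y) ((RepWith @IsOpenImmersion).id_mem _)) h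

/-- If a map has one base change along both structure maps then its largest open is invariant. -/
theorem isInvariant_of_two_squares {Q P : MorphismProperty (Sp S)} (hQ : OpenClass Q)
    (hP : IsLocalOnBase (fun _ _ Yi g => IsCover Q Yi g) P) (G : GroupoidSp B) (hU : IsAlgSpace G.U)
    (hR : IsAlgSpace G.R) (hs : Q G.s) (ht : Q G.t) {X : Sp S} (hX : IsAlgSpace X) (f : X ⟶ G.U)
    {X' : Sp S} (hX' : IsAlgSpace X') (f' : X' ⟶ G.R) {gt gs : X' ⟶ X} (sqt : IsPullback gt f' f G.t)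
    (sqs : IsPullback gs f' f G.s) {W : Sp S} (hWsp : IsAlgSpace W) (w : W ⟶ G.U)
    (hw : RepWith @IsOpenImmersion w)
    (hmax : ∀ (W' : Sp S) (w' : W' ⟶ G.U), IsAlgSpace W' → RepWith @IsOpenImmersion w' →
      (P (pullback.snd f w') ↔ ∃ k : W' ⟶ W, k ≫ w = w')) : G.IsInvariant w := by
  let US : Space S := ⟨G.U, hU⟩
  let RS : Space S := ⟨G.R, hR⟩
  let XS : Space S := ⟨X, hX⟩
  let XS' : Space S := ⟨X', hX'⟩
  let fS : XS ⟶ US := ObjectProperty.homMk f
  let fS' : XS' ⟶ RS := ObjectProperty.homMk f'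
  obtain ⟨W₀, hW₀, hmax₀, -, hbc⟩ := exists_largest_open hQ hP fS
  obtain ⟨W₁, hW₁, hmax₁, -, -⟩ := exists_largest_open hQ hP fS'
  -- identify the given open with the largest one
  have hrange : Set.range (Points.map w) = (W₀ : Set (Points G.U)) := by
    refine Set.Subset.antisymm ?_ ?_
    · let O : Opens (Points US.obj) := ⟨Set.range (Points.map w), AlgSpB.isOpen_range_of_isOpenImmersion hw⟩
      refine hmax₀ O fun Z X₁ j₁ j₁' f₁ hj hr sq => ?_
      obtain ⟨k, hk⟩ := (AlgSpB.exists_factor_isOpenImmersion_iff hw j₁.hom).2 (le_of_eq hr)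
      have hpb := (hmax Z.obj j₁.hom Z.property hj).2 ⟨k, hk⟩
      exact prop_of_iso hQ hP (isAlgSpace_pullback hU hX Z.property f j₁.hom) X₁.property Z.property
        sq.isoPullback sq.isoPullback_hom_snd hpb
    · obtain ⟨Ws, js, hjs, hrs⟩ := AlgSpB.exists_openSubspace US W₀.isOpen
      obtain ⟨X₁, j', f₁, sq⟩ := exists_square fS js
      have hf₁ : P f₁.hom := hW₀ Ws X₁ js j' f₁ hjs hrs sq
      obtain ⟨k, hk⟩ := (hmax Ws.obj js.hom Ws.property hjs).1
        (prop_of_iso hQ hP X₁.property (isAlgSpace_pullback hU hX Ws.property f js.hom) Ws.property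
          sq.isoPullback.symm sq.isoPullback_inv_snd hf₁)
      rw [← hrs, ← hk]
      rintro _ ⟨z, rfl⟩
      exact ⟨Points.map k z, (Points.map_comp k w z).symm⟩
  have e : Points.map G.t ⁻¹' (W₀ : Set (Points G.U)) = Points.map G.s ⁻¹' (W₀ : Set (Points G.U)) :=
    (hbc RS XS' (ObjectProperty.homMk G.t) (ObjectProperty.homMk gt) fS' ht sqt W₁ hW₁ hmax₁).symm.trans
      (hbc RS XS' (ObjectProperty.homMk G.s) (ObjectProperty.homMk gs) fS' hs sqs W₁ hW₁ hmax₁)
  intro T r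
  rw [AlgSpB.exists_factor_isOpenImmersion_iff hw, AlgSpB.exists_factor_isOpenImmersion_iff hw, hrange,
    Set.range_subset_iff, Set.range_subset_iff]
  refine forall_congr' fun x => ?_
  rw [Points.map_comp, Points.map_comp]
  exact Set.ext_iff.1 e (Points.map r x)

/-- The base change of the stabilizer along the target map is also its base change along the source map. -/
theorem exists_stabilizer_square (G : GroupoidSp B) :
    ∃ κ : pullback G.stabilizerToU G.t ⟶ G.stabilizer,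
      IsPullback κ (pullback.snd G.stabilizerToU G.t) G.stabilizerToU G.s := by
  have hst : ∀ {T : Sp S} (g : T ⟶ G.stabilizer),
      (g ≫ G.stabilizerι) ≫ G.t = g ≫ G.stabilizerToU ∧ (g ≫ G.stabilizerι) ≫ G.s = g ≫ G.stabilizerToU :=
    fun {T} g => by
      have h : G.stabilizerι ≫ G.j = G.stabilizerToU ≫ G.diag := pullback.condition
      constructor
      · have h1 := congrArg (fun k => g ≫ k ≫ pullback.fst G.pU G.pU) h
        simpa [GroupoidSp.diag, pullback.lift_fst] using h1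
      · have h1 := congrArg (fun k => g ≫ k ≫ pullback.snd G.pU G.pU) h
        simpa [GroupoidSp.diag, pullback.lift_snd] using h1
  have mk : ∀ {T : Sp S} (α : T ⟶ G.R) (v : T ⟶ G.U), α ≫ G.t = v → α ≫ G.s = v →
      ∃ g : T ⟶ G.stabilizer, g ≫ G.stabilizerι = α ∧ g ≫ G.stabilizerToU = v := fun α v h1 h2 =>
    ⟨pullback.lift α v (by apply pullback.hom_ext <;> simp [GroupoidSp.diag, pullback.lift_fst, pullback.lift_snd, h1, h2]),
      pullback.lift_fst _ _ _, pullback.lift_snd _ _ _⟩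
  have ext' : ∀ {T : Sp S} (g g' : T ⟶ G.stabilizer), g ≫ G.stabilizerι = g' ≫ G.stabilizerι → g = g' := fun g g' h => by
    refine pullback.hom_ext h ?_
    change g ≫ G.stabilizerToU = g' ≫ G.stabilizerToU
    rw [← (hst g).1, ← (hst g').1, h]
  let P := pullback G.stabilizerToU G.t
  let g : P ⟶ G.stabilizer := pullback.fst _ _
  let β : P ⟶ G.R := pullback.snd _ _
  let γ : P ⟶ G.R := g ≫ G.stabilizerι
  have hγt : γ ≫ G.t = β ≫ G.t := (hst g).1.trans pullback.condition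
  have hγs : γ ≫ G.s = β ≫ G.t := (hst g).2.trans pullback.condition
  let inner : P ⟶ G.R := AlgSpB.Gpd.comp γ β hγs
  let δ : P ⟶ G.R := AlgSpB.Gpd.comp (β ≫ G.i) inner (by rw [Category.assoc, G.i_s, AlgSpB.Gpd.comp_t, hγt])
  obtain ⟨κ, hκ₁, hκ₂⟩ := mk δ (β ≫ G.s) (by rw [AlgSpB.Gpd.comp_t, Category.assoc, G.i_t])
    (by rw [AlgSpB.Gpd.comp_s, AlgSpB.Gpd.comp_s])
  have back : ∀ c : PullbackCone G.stabilizerToU G.s, ∃ l : c.pt ⟶ P, l ≫ κ = c.fst ∧ l ≫ β = c.snd := by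
    intro c
    let h : c.pt ⟶ G.R := c.fst ≫ G.stabilizerι
    have hht : h ≫ G.t = c.snd ≫ G.s := (hst c.fst).1.trans c.condition
    have hhs : h ≫ G.s = c.snd ≫ G.s := (hst c.fst).2.trans c.condition
    have hci : h ≫ G.s = (c.snd ≫ G.i) ≫ G.t := hhs.trans (by rw [Category.assoc, G.i_t])
    obtain ⟨a, ha₁, ha₂⟩ := mk (AlgSpB.Gpd.comp c.snd (AlgSpB.Gpd.comp h (c.snd ≫ G.i)
      hci) (by rw [AlgSpB.Gpd.comp_t, hht])) (c.snd ≫ G.t)
      (AlgSpB.Gpd.comp_t _ _ _) (by rw [AlgSpB.Gpd.comp_s, AlgSpB.Gpd.comp_s, Category.assoc, G.i_s])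
    refine ⟨pullback.lift a c.snd ha₂, ext' _ _ ?_, pullback.lift_snd _ _ _⟩
    have eβ : pullback.lift a c.snd ha₂ ≫ β = c.snd := pullback.lift_snd _ _ _
    have eγ : pullback.lift a c.snd ha₂ ≫ γ = AlgSpB.Gpd.comp c.snd (AlgSpB.Gpd.comp h (c.snd ≫ G.i)
        hci) (by rw [AlgSpB.Gpd.comp_t, hht]) := by
      rw [← Category.assoc, pullback.lift_fst, ha₁]
    rw [Category.assoc, hκ₁, AlgSpB.Gpd.map_comp]
    refine (AlgSpB.Gpd.comp_congr (by rw [← Category.assoc, eβ]) ?_).trans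
      (AlgSpB.Gpd.inv_left_cancel c.snd h hht.symm)
    rw [AlgSpB.Gpd.map_comp]
    refine (AlgSpB.Gpd.comp_congr eγ eβ).trans ?_
    refine (G.assoc c.snd (AlgSpB.Gpd.comp h (c.snd ≫ G.i) hci) c.snd
      (by rw [AlgSpB.Gpd.comp_t, hht]) (by rw [AlgSpB.Gpd.comp_s, Category.assoc, G.i_s])).trans ?_
    exact AlgSpB.Gpd.comp_congr rfl (AlgSpB.Gpd.inv_right_cancel h c.snd hhs)
  choose l hl₁ hl₂ using back
  refine ⟨κ, IsPullback.of_isLimit' ⟨hκ₂⟩ (PullbackCone.IsLimit.mk _ l hl₁ hl₂ fun c m h₁ h₂ => ?_)⟩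
  refine pullback.hom_ext (ext' _ _ ?_) (h₂.trans (hl₂ c).symm)
  have rec' : γ = AlgSpB.Gpd.comp β (AlgSpB.Gpd.comp δ (β ≫ G.i)
      (by rw [AlgSpB.Gpd.comp_s, AlgSpB.Gpd.comp_s, Category.assoc, G.i_t]))
      (by rw [AlgSpB.Gpd.comp_t, AlgSpB.Gpd.comp_t, Category.assoc, G.i_t]) := by
    have e1 : AlgSpB.Gpd.comp δ (β ≫ G.i) (by rw [AlgSpB.Gpd.comp_s, AlgSpB.Gpd.comp_s, Category.assoc, G.i_t]) =
        AlgSpB.Gpd.comp (β ≫ G.i) γ (by rw [Category.assoc, G.i_s, hγt]) := by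
      refine (G.assoc (β ≫ G.i) inner (β ≫ G.i) _ (by rw [AlgSpB.Gpd.comp_s, Category.assoc, G.i_t])).trans ?_
      exact AlgSpB.Gpd.comp_congr rfl (AlgSpB.Gpd.right_inv_cancel γ β hγs)
    exact ((AlgSpB.Gpd.comp_congr rfl e1).trans (AlgSpB.Gpd.left_inv_cancel β γ hγt.symm)).symm
  have hβ : m ≫ β = l c ≫ β := h₂.trans (hl₂ c).symm
  have hδ : m ≫ δ = l c ≫ δ := by
    rw [← hκ₁, ← Category.assoc, ← Category.assoc, h₁, hl₁]
  change (m ≫ g) ≫ G.stabilizerι = (l c ≫ g) ≫ G.stabilizerι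
  rw [Category.assoc, Category.assoc]
  change m ≫ γ = l c ≫ γ
  rw [rec']
  refine (AlgSpB.Gpd.map_comp _ _ _ _).trans (Eq.trans ?_ (AlgSpB.Gpd.map_comp _ _ _ _).symm)
  refine AlgSpB.Gpd.comp_congr hβ ?_
  refine (AlgSpB.Gpd.map_comp _ _ _ _).trans (Eq.trans ?_ (AlgSpB.Gpd.map_comp _ _ _ _).symm)
  exact AlgSpB.Gpd.comp_congr hδ (by rw [← Category.assoc, hβ, Category.assoc])

end Groth.Agent.AlgSp.InvLargest
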