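import Groth.Agent.AlgSp.DescentSepLqf
import Groth.Agent.AlgSp.Quot
import Mathlib.CategoryTheory.Sites.Pullback
import Mathlib.CategoryTheory.Functor.KanExtension.Adjunction

/-!
# Algebraic spaces and change of base scheme
-/

universe u

open CategoryTheory CategoryTheory.Limits AlgebraicGeometry Opposite

set_option backward.isDefEq.respectTransparency.types false

namespace Groth.Agent.AlgSp.Jshriek

variable {S S' : Scheme.{u}} (g : S ⟶ S')

/-- Restriction. -/
noncomputable abbrev res : AlgSp.Sp S' ⥤ AlgSp.Sp S :=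
  Scheme.fppfTopology.overMapPullback (Type (u + 1)) g

/-- The left adjoint of restriction. -/
noncomputable abbrev jlow : AlgSp.Sp S ⥤ AlgSp.Sp S' :=
  (Over.map g).sheafPullback (Type (u + 1)) (AlgSp.J S) (AlgSp.J S')

/-- The adjunction. -/
noncomputable abbrev adj : jlow g ⊣ res g :=
  (Over.map g).sheafAdjunctionContinuous (Type (u + 1)) (AlgSp.J S) (AlgSp.J S')

/-- Points of the restriction. -/
noncomputable def Φ {W : Over S} {F : AlgSp.Sp S'} :
    ((AlgSp.yon S).obj W ⟶ (res g).obj F) ≃ ((AlgSp.yon S').obj ((Over.map g).obj W) ⟶ F) :=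
  yEquiv.trans (yEquiv (U := (Over.map g).obj W) (F := F)).symm

theorem Φ_comp {W : Over S} {F F' : AlgSp.Sp S'} (z : (AlgSp.yon S).obj W ⟶ (res g).obj F) (h : F ⟶ F') :
    Φ g (z ≫ (res g).map h) = Φ g z ≫ h := by
  apply yEquiv.injective
  simp only [Φ, Equiv.trans_apply, yEquiv_comp]
  exact (Equiv.apply_symm_apply _ _).trans (congrArg (h.hom.app _) (Equiv.apply_symm_apply _ _)).symm

theorem Φ_map {V W : Over S} {F : AlgSp.Sp S'} (m : V ⟶ W) (z : (AlgSp.yon S).obj W ⟶ (res g).obj F) :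
    Φ g ((AlgSp.yon S).map m ≫ z) = (AlgSp.yon S').map ((Over.map g).map m) ≫ Φ g z := by
  apply yEquiv.injective
  simp only [Φ, Equiv.trans_apply, yEquiv_map]
  exact (Equiv.apply_symm_apply _ _).trans (congrArg (F.obj.map _) (Equiv.apply_symm_apply _ _)).symm

/-- The point of `j_! F` given by a point of `F`. -/
noncomputable def tilde {W : Over S} {F : AlgSp.Sp S} (x : (AlgSp.yon S).obj W ⟶ F) :
    (AlgSp.yon S').obj ((Over.map g).obj W) ⟶ (jlow g).obj F :=
  Φ g (x ≫ (adj g).unit.app F)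

theorem tilde_map {V W : Over S} {F : AlgSp.Sp S} (m : V ⟶ W) (x : (AlgSp.yon S).obj W ⟶ F) :
    tilde g ((AlgSp.yon S).map m ≫ x) = (AlgSp.yon S').map ((Over.map g).map m) ≫ tilde g x := by
  rw [tilde, Category.assoc, Φ_map]
  rfl

theorem tilde_comp {W : Over S} {F F' : AlgSp.Sp S} (x : (AlgSp.yon S).obj W ⟶ F) (h : F ⟶ F') :
    tilde g (x ≫ h) = tilde g x ≫ (jlow g).map h := by
  rw [tilde, tilde, Category.assoc, ← Adjunction.unit_naturality, ← Category.assoc, ← Φ_comp]

theorem exists_comp_tilde_id (W : Over S) : ∃ β : (jlow g).obj ((AlgSp.yon S).obj W) ⟶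
    (AlgSp.yon S').obj ((Over.map g).obj W),
      tilde g (𝟙 _) ≫ β = 𝟙 _ ∧ β ≫ tilde g (𝟙 _) = 𝟙 _ := by
  let β := ((adj g).homEquiv _ _).symm ((Φ g).symm (𝟙 ((AlgSp.yon S').obj ((Over.map g).obj W))))
  have h1 : (adj g).unit.app _ ≫ (res g).map β = (Φ g).symm (𝟙 ((AlgSp.yon S').obj ((Over.map g).obj W))) := by
    exact ((adj g).homEquiv_unit _ _ _).symm.trans (Equiv.apply_symm_apply _ _)
  have h2 : tilde g (𝟙 ((AlgSp.yon S).obj W)) ≫ β = 𝟙 _ := by
    rw [tilde, Category.id_comp, ← Φ_comp, h1, Equiv.apply_symm_apply]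
  refine ⟨β, h2, ?_⟩
  apply ((adj g).homEquiv _ _).injective
  apply (Φ g).injective
  rw [Adjunction.homEquiv_unit, Adjunction.homEquiv_unit, Φ_comp, Φ_comp]
  change tilde g (𝟙 _) ≫ _ = tilde g (𝟙 _) ≫ _ at *
  simp only [tilde, Category.id_comp] at h2 ⊢
  rw [← Category.assoc, h2, Category.id_comp, Category.comp_id]

theorem isIso_tilde_id (W : Over S) : IsIso (tilde g (𝟙 ((AlgSp.yon S).obj W))) := by
  obtain ⟨β, h1, h2⟩ := exists_comp_tilde_id g W
  exact ⟨β, h1, h2⟩

theorem tilde_eq {W : Over S} {F : AlgSp.Sp S} (x : (AlgSp.yon S).obj W ⟶ F) :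
    tilde g x = tilde g (𝟙 _) ≫ (jlow g).map x := by
  rw [← tilde_comp, Category.id_comp]

/-- `S` as a scheme over `S'`. -/
abbrev Sg : Over S' := Over.mk g

/-- The structure map to `S`. -/
def str (W : Over S) : (Over.map g).obj W ⟶ Sg g := Over.homMk W.hom rfl

theorem map_str {V W : Over S} (m : V ⟶ W) : (Over.map g).map m ≫ str g W = str g V :=
  Over.OverMorphism.ext (Over.w m)

/-- The canonical point of the restriction of `h_S`. -/
noncomputable def δ : (AlgSp.yon S).obj (Over.mk (𝟙 S)) ⟶ (res g).obj ((AlgSp.yon S').obj (Sg g)) :=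
  (Φ g).symm ((AlgSp.yon S').map (str g _))

/-- The unique map to the final object. -/
theorem exists_toPt (F : AlgSp.Sp S) : ∃ t : F ⟶ (AlgSp.yon S).obj (Over.mk (𝟙 S)), ∀ t', t' = t := by
  let h : IsTerminal ((AlgSp.yon S).obj (Over.mk (𝟙 S))) := Over.mkIdTerminal.isTerminalObj _ _
  exact ⟨h.from F, fun t' => h.hom_ext _ _⟩

/-- The structure map of `j_! F` to `h_S`. -/
noncomputable def aF (F : AlgSp.Sp S) : (jlow g).obj F ⟶ (AlgSp.yon S').obj (Sg g) :=
  ((adj g).homEquiv _ _).symm ((exists_toPt F).choose ≫ δ g)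

theorem tilde_aF {W : Over S} {F : AlgSp.Sp S} (x : (AlgSp.yon S).obj W ⟶ F) :
    tilde g x ≫ aF g F = (AlgSp.yon S').map (str g W) := by
  let t : W ⟶ Over.mk (𝟙 S) := Over.homMk W.hom (Category.comp_id _)
  rw [tilde, ← Φ_comp, Category.assoc, ← Adjunction.homEquiv_unit, aF, Equiv.apply_symm_apply,
    ← Category.assoc]
  have e : x ≫ (exists_toPt F).choose = (AlgSp.yon S).map t := by
    obtain ⟨t₀, ht₀⟩ := exists_toPt ((AlgSp.yon S).obj W)
    rw [ht₀ (x ≫ _), ht₀ ((AlgSp.yon S).map t)]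
  rw [e, Φ_map, δ, Equiv.apply_symm_apply, ← Functor.map_comp, map_str]

theorem map_aF {F F' : AlgSp.Sp S} (h : F ⟶ F') : (jlow g).map h ≫ aF g F' = aF g F := by
  rw [aF, aF]
  apply ((adj g).homEquiv _ _).injective
  rw [Adjunction.homEquiv_naturality_left, Equiv.apply_symm_apply, Equiv.apply_symm_apply, ← Category.assoc]
  congr 1
  exact (exists_toPt F).choose_spec _

/-- Morphisms over `S'` between schemes over `S` respecting the structure maps to `S`. -/
theorem exists_map_eq {V W : Over S} (m : (Over.map g).obj V ⟶ (Over.map g).obj W)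
    (h : m ≫ str g W = str g V) : ∃ m₀ : V ⟶ W, (Over.map g).map m₀ = m :=
  ⟨Over.homMk m.left (congrArg (fun k : (Over.map g).obj V ⟶ Sg g => k.left) h), Over.OverMorphism.ext rfl⟩

theorem map_injective {V W : Over S} {a b : V ⟶ W} (h : (Over.map g).map a = (Over.map g).map b) : a = b :=
  Over.OverMorphism.ext (congrArg (fun k : (Over.map g).obj V ⟶ (Over.map g).obj W => k.left) h)

/-- An etale equivalence relation stays one over `S'`. -/
theorem isEtaleEqvRel_map {R U : Over S} {s t : R ⟶ U} (h : AlgSp.IsEtaleEqvRel s t) :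
    AlgSp.IsEtaleEqvRel ((Over.map g).map s) ((Over.map g).map t) := by
  refine ⟨⟨fun T r r' h1 h2 => ?_, fun T => ?_⟩, h.etale_left, h.etale_right⟩
  · have e1 : r.left ≫ t.left = r'.left ≫ t.left := congrArg (fun k : T ⟶ (Over.map g).obj U => k.left) h1
    have e2 : r.left ≫ s.left = r'.left ≫ s.left := congrArg (fun k : T ⟶ (Over.map g).obj U => k.left) h2
    let r₀ : Over.mk (r.left ≫ R.hom) ⟶ R := Over.homMk r.left rfl
    let r₁ : Over.mk (r.left ≫ R.hom) ⟶ R := Over.homMk r'.left (by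
      change r'.left ≫ R.hom = r.left ≫ R.hom
      rw [← Over.w t, reassoc_of% e1])
    exact Over.OverMorphism.ext (congrArg (fun k : Over.mk (r.left ≫ R.hom) ⟶ R => k.left)
      (h.injective _ r₀ r₁ (Over.OverMorphism.ext e1) (Over.OverMorphism.ext e2)))
  · have hmk : ∀ (a b : T ⟶ (Over.map g).obj U) (W : Over S) (e : W.left = T.left)
        (a₀ b₀ : W ⟶ U), a₀.left = eqToHom e ≫ a.left → b₀.left = eqToHom e ≫ b.left →
        (∃ r : W ⟶ R, r ≫ t = a₀ ∧ r ≫ s = b₀) →
        ∃ r : T ⟶ (Over.map g).obj R, r ≫ (Over.map g).map t = a ∧ r ≫ (Over.map g).map s = b := by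
      rintro a b W e a₀ b₀ ha hb ⟨r, hr1, hr2⟩
      have e1 : r.left ≫ t.left = eqToHom e ≫ a.left := (congrArg (fun k : W ⟶ U => k.left) hr1).trans ha
      have e2 : r.left ≫ s.left = eqToHom e ≫ b.left := (congrArg (fun k : W ⟶ U => k.left) hr2).trans hb
      refine ⟨Over.homMk (eqToHom e.symm ≫ r.left) ?_, Over.OverMorphism.ext ?_, Over.OverMorphism.ext ?_⟩
      · change (eqToHom e.symm ≫ r.left) ≫ R.hom ≫ g = T.hom
        rw [Category.assoc, ← Over.w t, Category.assoc, reassoc_of% e1, eqToHom_trans_assoc, eqToHom_refl,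
          Category.id_comp]
        exact Over.w a
      · change (eqToHom e.symm ≫ r.left) ≫ t.left = a.left
        rw [Category.assoc, e1, eqToHom_trans_assoc, eqToHom_refl, Category.id_comp]
      · change (eqToHom e.symm ≫ r.left) ≫ s.left = b.left
        rw [Category.assoc, e2, eqToHom_trans_assoc, eqToHom_refl, Category.id_comp]
    have hstr : ∀ {a b : T ⟶ (Over.map g).obj U},
        (∃ r : T ⟶ (Over.map g).obj R, r ≫ (Over.map g).map t = a ∧ r ≫ (Over.map g).map s = b) →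
        b.left ≫ U.hom = a.left ≫ U.hom ∧ ∀ (hb : b.left ≫ U.hom = a.left ≫ U.hom),
          ∃ r : Over.mk (a.left ≫ U.hom) ⟶ R, r ≫ t = (Over.homMk a.left rfl : Over.mk (a.left ≫ U.hom) ⟶ U) ∧
            r ≫ s = (Over.homMk b.left hb : Over.mk (a.left ≫ U.hom) ⟶ U) := by
      rintro a b ⟨r, rfl, rfl⟩
      refine ⟨by change (r.left ≫ s.left) ≫ U.hom = (r.left ≫ t.left) ≫ U.hom
                 rw [Category.assoc, Category.assoc, Over.w s, Over.w t], fun hb => ?_⟩
      refine ⟨Over.homMk r.left (by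
        change r.left ≫ R.hom = (r.left ≫ t.left) ≫ U.hom
        rw [Category.assoc, Over.w t]), Over.OverMorphism.ext rfl, Over.OverMorphism.ext rfl⟩
    refine ⟨fun a => ?_, fun {a b} hab => ?_, fun {a b d} hab hbd => ?_⟩
    · let a₀ : Over.mk (a.left ≫ U.hom) ⟶ U := Over.homMk a.left rfl
      exact hmk a a (Over.mk (a.left ≫ U.hom)) rfl a₀ a₀ (by simp [a₀]) (by simp [a₀])
        ((h.equivalence _).refl a₀)
    · obtain ⟨hb, h'⟩ := hstr hab
      exact hmk b a (Over.mk (a.left ≫ U.hom)) rfl (Over.homMk b.left hb) (Over.homMk a.left rfl) (by simp)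
        (by simp) ((h.equivalence _).symm (h' hb))
    · obtain ⟨hb, h'⟩ := hstr hab
      obtain ⟨hd, h''⟩ := hstr hbd
      obtain ⟨r, hr1, hr2⟩ := h'' hd
      let r' : Over.mk (a.left ≫ U.hom) ⟶ R := Over.homMk r.left (by
        change r.left ≫ R.hom = a.left ≫ U.hom
        rw [← hb]
        exact Over.w r)
      exact hmk a d (Over.mk (a.left ≫ U.hom)) rfl (Over.homMk a.left rfl) (Over.homMk d.left (hd.trans hb))
        (by simp) (by simp) ((h.equivalence _).trans (h' hb) ⟨r',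
          Over.OverMorphism.ext (congrArg (fun k : Over.mk (b.left ≫ U.hom) ⟶ U => k.left) hr1 :),
          Over.OverMorphism.ext (congrArg (fun k : Over.mk (b.left ≫ U.hom) ⟶ U => k.left) hr2 :)⟩)

/-- A map of sheaves which is bijective on points is an isomorphism. -/
theorem isIso_of_points {F G : AlgSp.Sp S} (θ : F ⟶ G)
    (h : ∀ (W : Over S) (y : (AlgSp.yon S).obj W ⟶ G), ∃! x : (AlgSp.yon S).obj W ⟶ F, x ≫ θ = y) : IsIso θ := by
  have : Mono θ := mono_of_yon θ fun W a b e => (h W (b ≫ θ)).unique e rfl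
  have : Sheaf.IsLocallySurjective θ := isLocallySurjective_of_fppf_lift θ fun W y => by
    obtain ⟨x, hx, -⟩ := h W y
    exact ⟨W, 𝟙 W, x, inferInstanceAs (Flat (𝟙 W.left)), inferInstanceAs (Surjective (𝟙 W.left)),
      inferInstanceAs (LocallyOfFinitePresentation (𝟙 W.left)), by rw [hx, CategoryTheory.Functor.map_id, Category.id_comp]⟩
  have : Epi θ := Sheaf.epi_of_isLocallySurjective θ
  exact isIso_of_mono_of_epi θ

section Atlas

variable {F : AlgSp.Sp S} {U R : Over S} (p : (AlgSp.yon S).obj U ⟶ F) [Sheaf.IsLocallySurjective p]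
  {t s : R ⟶ U}

theorem quot_iso (sq : IsPullback ((AlgSp.yon S).map t) ((AlgSp.yon S).map s) p p) (hE : AlgSp.IsEtaleEqvRel s t) :
    ∃ e : QuotSh.quot Scheme.fppfPrecoverage ((Over.map g).map s) ((Over.map g).map t) ≅ (jlow g).obj F,
      yπ ((Over.map g).map s) ((Over.map g).map t) ≫ e.hom = tilde g p := by
  have hE' := isEtaleEqvRel_map g hE
  have := isLocallySurjective_yπ ((Over.map g).map s) ((Over.map g).map t)
  obtain ⟨c'⟩ := isColimit_of_isPullback (yπ ((Over.map g).map s) ((Over.map g).map t))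
    (isPullback_yπ _ _ hE'.toIsEqvRel)
  obtain ⟨c⟩ := isColimit_of_isPullback p sq
  have hw : (AlgSp.yon S').map ((Over.map g).map t) ≫ tilde g p =
      (AlgSp.yon S').map ((Over.map g).map s) ≫ tilde g p := by
    rw [← tilde_map, ← tilde_map, sq.w]
  obtain ⟨f, hf⟩ : ∃ f, yπ ((Over.map g).map s) ((Over.map g).map t) ≫ f = tilde g p :=
    ⟨Cofork.IsColimit.desc c' (tilde g p) hw, Cofork.IsColimit.π_desc' c' _ _⟩
  let π := yπ ((Over.map g).map s) ((Over.map g).map t)
  let z := (Φ g).symm π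
  have hz : (AlgSp.yon S).map t ≫ z = (AlgSp.yon S).map s ≫ z := by
    apply (Φ g).injective
    simp only [z, Φ_map, Equiv.apply_symm_apply]
    exact (isPullback_yπ _ _ hE'.toIsEqvRel).w
  obtain ⟨w, hw'⟩ : ∃ w, p ≫ w = z := ⟨Cofork.IsColimit.desc c z hz, Cofork.IsColimit.π_desc' c _ _⟩
  let f' := ((adj g).homEquiv _ _).symm w
  have hf' : tilde g p ≫ f' = π := by
    rw [tilde, ← Φ_comp, Category.assoc, ← Adjunction.homEquiv_unit]
    simp only [f', Equiv.apply_symm_apply, hw', z]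
  have : Epi π := Sheaf.epi_of_isLocallySurjective π
  have : Epi p := Sheaf.epi_of_isLocallySurjective p
  have : IsIso (tilde g (𝟙 ((AlgSp.yon S).obj U))) := isIso_tilde_id g U
  have : Epi (tilde g p) := by
    have : (jlow g).IsLeftAdjoint := (adj g).isLeftAdjoint
    rw [tilde_eq]
    infer_instance
  exact ⟨⟨f, f', by rw [← cancel_epi π, ← Category.assoc, show π ≫ f = tilde g p from hf, hf', Category.comp_id], by
    rw [← cancel_epi (tilde g p), reassoc_of% hf', hf, Category.comp_id]⟩, hf⟩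

variable (sq : IsPullback ((AlgSp.yon S).map t) ((AlgSp.yon S).map s) p p) (hE : AlgSp.IsEtaleEqvRel s t)

include hE in
theorem isPullback_tilde (sq : IsPullback ((AlgSp.yon S).map t) ((AlgSp.yon S).map s) p p) :
    IsPullback ((AlgSp.yon S').map ((Over.map g).map t)) ((AlgSp.yon S').map ((Over.map g).map s))
      (tilde g p) (tilde g p) ∧ Sheaf.IsLocallySurjective (tilde g p) := by
  obtain ⟨e, he⟩ := quot_iso g p sq hE
  have := isLocallySurjective_yπ ((Over.map g).map s) ((Over.map g).map t)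
  rw [← he]
  refine ⟨IsPullback.of_iso (isPullback_yπ _ _ (isEtaleEqvRel_map g hE).toIsEqvRel) (Iso.refl _) (Iso.refl _)
    (Iso.refl _) e (by simp) (by simp) (by simp) (by simp), Sheaf.isLocallySurjective_comp _ _⟩

end Atlas

/-- An algebraic space has an atlas with etale equivalence relation. -/
theorem exists_presentation {F : AlgSp.Sp S} (hF : AlgSp.IsAlgSpace F) :
    ∃ (U R : Over S) (p : (AlgSp.yon S).obj U ⟶ F) (t s : R ⟶ U),
      Sheaf.IsLocallySurjective p ∧ AlgSp.IsEtaleEqvRel s t ∧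
      IsPullback ((AlgSp.yon S).map t) ((AlgSp.yon S).map s) p p ∧ AlgSp.RepWith @Etale p ∧
      AlgSp.RepWith @Surjective p := by
  obtain ⟨U, p, he, hs⟩ := hF.atlas
  obtain ⟨R, t, s, sq⟩ := AlgSpB.exists_pullback_yon he.1 p
  have hiff : ∀ {T : Over S} (a b : T ⟶ U), (∃ r : T ⟶ R, r ≫ t = a ∧ r ≫ s = b) ↔
      (AlgSp.yon S).map a ≫ p = (AlgSp.yon S).map b ≫ p := by
    intro T a b
    constructor
    · rintro ⟨r, rfl, rfl⟩
      rw [Functor.map_comp_assoc, Functor.map_comp_assoc, sq.w]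
    · intro h
      obtain ⟨r, h1, h2⟩ := sq.exists_lift _ _ h
      obtain ⟨r, rfl⟩ := (AlgSp.yon S).map_surjective r
      exact ⟨r, (AlgSp.yon S).map_injective (by rw [Functor.map_comp, h1]),
        (AlgSp.yon S).map_injective (by rw [Functor.map_comp, h2])⟩
  exact ⟨U, R, p, t, s, isLocallySurjective_of_etale_surjective p he hs,
    ⟨⟨fun T r r' h1 h2 => (AlgSp.yon S).map_injective (sq.hom_ext
        (by rw [← Functor.map_comp, ← Functor.map_comp, h1]) (by rw [← Functor.map_comp, ← Functor.map_comp, h2])),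
      fun T => ⟨fun a => (hiff a a).2 rfl, fun h => (hiff _ _).2 ((hiff _ _).1 h).symm,
        fun h h' => (hiff _ _).2 (((hiff _ _).1 h).trans ((hiff _ _).1 h'))⟩⟩,
      he.2 _ _ _ sq, he.2 _ _ _ sq.flip⟩, sq, he, hs⟩

theorem isAlgSpace_jlow {F : AlgSp.Sp S} (hF : AlgSp.IsAlgSpace F) : AlgSp.IsAlgSpace ((jlow g).obj F) := by
  obtain ⟨U, R, p, t, s, hp, hE, sq, -⟩ := exists_presentation hF
  obtain ⟨hsq, hl⟩ := isPullback_tilde g p hE sq
  exact (isAlgSpace_of_kernelPair (tilde g p) hsq (isEtaleEqvRel_map g hE).etale_left).1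

/-- Points of `j_! F` over `S` are points of `F`. -/
theorem existsUnique_tilde {F : AlgSp.Sp S} (hF : AlgSp.IsAlgSpace F) {W : Over S}
    (y : (AlgSp.yon S').obj ((Over.map g).obj W) ⟶ (jlow g).obj F)
    (hy : y ≫ aF g F = (AlgSp.yon S').map (str g W)) :
    ∃! x : (AlgSp.yon S).obj W ⟶ F, tilde g x = y := by
  obtain ⟨U, R, p, t, s, hp, hE, sq, -⟩ := exists_presentation hF
  obtain ⟨hsq, hl⟩ := isPullback_tilde g p hE sq
  have key : ∀ {V : Over S} (u₁ u₂ : V ⟶ U),
      (AlgSp.yon S').map ((Over.map g).map u₁) ≫ tilde g p = (AlgSp.yon S').map ((Over.map g).map u₂) ≫ tilde g p →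
      (AlgSp.yon S).map u₁ ≫ p = (AlgSp.yon S).map u₂ ≫ p := by
    intro V u₁ u₂ h
    obtain ⟨r, h1, h2⟩ := hsq.exists_lift _ _ h
    obtain ⟨r, rfl⟩ := (AlgSp.yon S').map_surjective r
    have h1 : r ≫ (Over.map g).map t = (Over.map g).map u₁ := (AlgSp.yon S').map_injective (by rw [Functor.map_comp, h1])
    have h2 : r ≫ (Over.map g).map s = (Over.map g).map u₂ := (AlgSp.yon S').map_injective (by rw [Functor.map_comp, h2])
    obtain ⟨r₀, rfl⟩ := exists_map_eq g r (by rw [← map_str g t, ← Category.assoc, h1, map_str])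
    rw [← Functor.map_comp] at h1 h2
    rw [← map_injective g h1, ← map_injective g h2, Functor.map_comp_assoc, Functor.map_comp_assoc, sq.w]
  have hinj : ∀ {V : Over S} (x₁ x₂ : (AlgSp.yon S).obj V ⟶ F), tilde g x₁ = tilde g x₂ → x₁ = x₂ := by
    intro V x₁ x₂ h
    have := isLocallySurjective_prodMap p p
    obtain ⟨P, hP, hl'⟩ := exists_cover_lift (prod.map p p) (prod.lift x₁ x₂)
    apply yEquiv.injective
    refine (((isSheaf_iff_isSheaf_of_type _ _).1 F.property).isSeparated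
      _ (mem_of_cover (T := Sieve.generate (fun W q => (AlgSp.yon S).map q ≫ x₁ = (AlgSp.yon S).map q ≫ x₂)) hP
        fun W k hk => ?_)).ext fun W q hq => ?_
    · obtain ⟨l, hl⟩ := hl' k hk
      obtain ⟨u₁, hu₁⟩ := (AlgSp.yon S).map_surjective (l ≫ prod.fst)
      obtain ⟨u₂, hu₂⟩ := (AlgSp.yon S).map_surjective (l ≫ prod.snd)
      have ha : (AlgSp.yon S).map u₁ ≫ p =
          (AlgSp.yon S).map (Over.homMk k rfl : Over.mk (k ≫ V.hom) ⟶ V) ≫ x₁ := by
        rw [hu₁, Category.assoc, ← prod.map_fst p p, ← Category.assoc, hl, Category.assoc, prod.lift_fst]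
      have hb : (AlgSp.yon S).map u₂ ≫ p =
          (AlgSp.yon S).map (Over.homMk k rfl : Over.mk (k ≫ V.hom) ⟶ V) ≫ x₂ := by
        rw [hu₂, Category.assoc, ← prod.map_snd p p, ← Category.assoc, hl, Category.assoc, prod.lift_snd]
      refine Sieve.le_generate _ _ _ ?_
      change _ = _
      rw [← ha, ← hb]
      exact key u₁ u₂ (by rw [← tilde_map, ← tilde_map, ha, hb, tilde_map, tilde_map, h])
    · obtain ⟨Z, e, q', hq', rfl⟩ := hq
      rw [← yEquiv_map, ← yEquiv_map, Functor.map_comp, Category.assoc, Category.assoc, hq']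
  refine existsUnique_of_exists_of_unique ?_ fun x₁ x₂ h₁ h₂ => hinj x₁ x₂ (h₁.trans h₂.symm)
  obtain ⟨P, hP, hl'⟩ := exists_cover_lift (tilde g p) y
  obtain ⟨ι, X, k, rfl⟩ := P.exists_eq_ofArrows
  choose u' hu' using fun i => hl' (k i) (Presieve.ofArrows.mk i)
  choose u hu using fun i => (AlgSp.yon S').map_surjective (u' i)
  let Z : ι → Over S := fun i => Over.mk (k i ≫ W.hom)
  let q : ∀ i, Z i ⟶ W := fun i => Over.homMk (k i) rfl
  have hku : ∀ i, (u i).left ≫ U.hom = k i ≫ W.hom := fun i => by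
    have e := congrArg (· ≫ aF g F) (hu' i)
    simp only [← hu, Category.assoc, tilde_aF, hy, ← Functor.map_comp] at e
    exact congrArg (fun m : Over.mk (k i ≫ ((Over.map g).obj W).hom) ⟶ Sg g => m.left) ((AlgSp.yon S').map_injective e)
  let u₀ : ∀ i, Z i ⟶ U := fun i => Over.homMk (u i).left (hku i)
  have hx : ∀ i, tilde g ((AlgSp.yon S).map (u₀ i) ≫ p) = (AlgSp.yon S').map ((Over.map g).map (q i)) ≫ y := by
    intro i
    let c : (Over.map g).obj (Z i) ⟶ Over.mk (k i ≫ ((Over.map g).obj W).hom) := Over.homMk (𝟙 _) (by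
      change 𝟙 _ ≫ k i ≫ W.hom ≫ g = (k i ≫ W.hom) ≫ g
      rw [Category.id_comp, Category.assoc])
    have e1 : (Over.map g).map (u₀ i) = c ≫ u i := Over.OverMorphism.ext (Category.id_comp _).symm
    have e2 : (Over.map g).map (q i) = c ≫ (Over.homMk (k i) rfl : Over.mk (k i ≫ ((Over.map g).obj W).hom) ⟶ _) :=
      Over.OverMorphism.ext (Category.id_comp _).symm
    rw [tilde_map, e1, e2, Functor.map_comp_assoc, Functor.map_comp_assoc, hu, hu']
  have hJ : Sieve.ofArrows Z q ∈ AlgSp.J S W := mem_of_cover hP fun Y m hm => by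
    obtain ⟨i⟩ := hm
    exact Sieve.ofArrows_mk Z q i
  have hF' : (Presieve.ofArrows Z q).IsSheafFor F.obj :=
    (Presieve.isSheafFor_iff_generate _).2 (((isSheaf_iff_isSheaf_of_type _ _).1 F.property) _ hJ)
  obtain ⟨x, hx', -⟩ := (Presieve.isSheafFor_arrows_iff F.obj q).1 hF'
    (fun i => yEquiv ((AlgSp.yon S).map (u₀ i) ≫ p)) fun i j V a b hab => by
      rw [← yEquiv_map, ← yEquiv_map]
      congr 1
      apply hinj
      rw [tilde_map g a, tilde_map g b, hx, hx, ← Functor.map_comp_assoc, ← Functor.map_comp_assoc,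
        ← Functor.map_comp, ← Functor.map_comp, hab]
  refine ⟨yEquiv.symm x, ?_⟩
  have hxi : ∀ i, (AlgSp.yon S).map (q i) ≫ yEquiv.symm x = (AlgSp.yon S).map (u₀ i) ≫ p := fun i =>
    yEquiv.injective (by rw [yEquiv_map, Equiv.apply_symm_apply]; exact hx' i)
  apply yEquiv.injective
  have hJ' : Sieve.ofArrows (fun i => (Over.map g).obj (Z i)) (fun i => (Over.map g).map (q i)) ∈
      AlgSp.J S' ((Over.map g).obj W) := mem_of_cover hP fun Y m hm => by
    obtain ⟨i⟩ := hm
    let c : Over.mk (k i ≫ ((Over.map g).obj W).hom) ⟶ (Over.map g).obj (Z i) := Over.homMk (𝟙 _) (by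
      change 𝟙 _ ≫ (k i ≫ W.hom) ≫ g = k i ≫ W.hom ≫ g
      rw [Category.id_comp, Category.assoc])
    have e : (Over.homMk (k i) rfl : Over.mk (k i ≫ ((Over.map g).obj W).hom) ⟶ _) = c ≫ (Over.map g).map (q i) :=
      Over.OverMorphism.ext (Category.id_comp _).symm
    rw [e]
    exact Sieve.downward_closed _ (Sieve.ofArrows_mk (fun i => (Over.map g).obj (Z i)) (fun i => (Over.map g).map (q i)) i) c
  refine (((isSheaf_iff_isSheaf_of_type _ _).1 ((jlow g).obj F).property).isSeparated _ hJ').ext fun V m hm => ?_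
  obtain ⟨_, c, _, ⟨i⟩, rfl⟩ := hm
  rw [← yEquiv_map, ← yEquiv_map, Functor.map_comp_assoc, Functor.map_comp_assoc, ← tilde_map, hxi, hx]

end Groth.Agent.AlgSp.Jshriek
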