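import Groth.Agent.AlgSp.Jshriek
import Mathlib.CategoryTheory.Comma.Over.Pullback

/-!
# Algebraic spaces over `S` are algebraic spaces over `S'` over `h_S`
-/

universe u

open CategoryTheory CategoryTheory.Limits AlgebraicGeometry Opposite

set_option backward.isDefEq.respectTransparency.types false

namespace Groth.Agent.AlgSp.Jshriek

variable {S S' : Scheme.{u}} (g : S ⟶ S')

/-- The base change of a chart is preserved by `j_!`. -/
theorem isPullback_tilde_of_isPullback {F : AlgSp.Sp S} (hF : AlgSp.IsAlgSpace F) {T U V : Over S}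
    {f : (AlgSp.yon S).obj T ⟶ F} {p : (AlgSp.yon S).obj U ⟶ F} {a : V ⟶ T} {b : V ⟶ U}
    (sq : IsPullback ((AlgSp.yon S).map a) ((AlgSp.yon S).map b) f p) :
    IsPullback ((AlgSp.yon S').map ((Over.map g).map a)) ((AlgSp.yon S').map ((Over.map g).map b))
      (tilde g f) (tilde g p) := by
  have hw : (AlgSp.yon S').map ((Over.map g).map a) ≫ tilde g f =
      (AlgSp.yon S').map ((Over.map g).map b) ≫ tilde g p := by
    rw [← tilde_map, ← tilde_map, sq.w]
  let θ := pullback.lift (f := tilde g f) (g := tilde g p) _ _ hw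
  have : IsIso θ := by
    refine isIso_of_yon θ fun Z x => ?_
    obtain ⟨α, hα⟩ := (AlgSp.yon S').map_surjective (x ≫ pullback.fst (tilde g f) (tilde g p))
    obtain ⟨β, hβ⟩ := (AlgSp.yon S').map_surjective (x ≫ pullback.snd (tilde g f) (tilde g p))
    have hαβ : (AlgSp.yon S').map α ≫ tilde g f = (AlgSp.yon S').map β ≫ tilde g p := by
      rw [hα, hβ, Category.assoc, Category.assoc, pullback.condition]
    have hstr : β.left ≫ U.hom = α.left ≫ T.hom := by
      have e := congrArg (· ≫ aF g F) hαβ
      simp only [Category.assoc, tilde_aF, ← Functor.map_comp] at e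
      exact congrArg (fun k : Z ⟶ Sg g => k.left) ((AlgSp.yon S').map_injective e).symm
    let W : Over S := Over.mk (α.left ≫ T.hom)
    let α₀ : W ⟶ T := Over.homMk α.left rfl
    let β₀ : W ⟶ U := Over.homMk β.left hstr
    let c : (Over.map g).obj W ⟶ Z := Over.homMk (𝟙 _) (by
      change 𝟙 _ ≫ Z.hom = (α.left ≫ T.hom) ≫ g
      rw [Category.id_comp, Category.assoc]
      exact (Over.w α).symm)
    have hcα : c ≫ α = (Over.map g).map α₀ := Over.OverMorphism.ext (Category.id_comp _)
    have hcβ : c ≫ β = (Over.map g).map β₀ := Over.OverMorphism.ext (Category.id_comp _)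
    have h0 : (AlgSp.yon S).map α₀ ≫ f = (AlgSp.yon S).map β₀ ≫ p := by
      refine (existsUnique_tilde g hF _ (tilde_aF g ((AlgSp.yon S).map β₀ ≫ p))).unique ?_ rfl
      rw [tilde_map, tilde_map, ← hcα, ← hcβ, Functor.map_comp_assoc, Functor.map_comp_assoc, hαβ]
    obtain ⟨y₀, h1, h2⟩ := sq.exists_lift _ _ h0
    obtain ⟨y₀, rfl⟩ := (AlgSp.yon S).map_surjective y₀
    have h1 : y₀ ≫ a = α₀ := (AlgSp.yon S).map_injective (by rw [Functor.map_comp, h1])
    have h2 : y₀ ≫ b = β₀ := (AlgSp.yon S).map_injective (by rw [Functor.map_comp, h2])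
    let y : Z ⟶ (Over.map g).obj V := Over.homMk y₀.left (by
      change y₀.left ≫ V.hom ≫ g = Z.hom
      rw [← Category.assoc, Over.w y₀]
      change (α.left ≫ T.hom) ≫ g = Z.hom
      rw [Category.assoc]
      exact Over.w α)
    have hy1 : y ≫ (Over.map g).map a = α :=
      Over.OverMorphism.ext (congrArg (fun k : W ⟶ T => k.left) h1 :)
    have hy2 : y ≫ (Over.map g).map b = β :=
      Over.OverMorphism.ext (congrArg (fun k : W ⟶ U => k.left) h2 :)
    refine ⟨y, ?_, fun y' hy' => ?_⟩
    · apply pullback.hom_ext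
      · simp only [θ, Category.assoc, pullback.lift_fst, ← Functor.map_comp, hy1, hα]
      · simp only [θ, Category.assoc, pullback.lift_snd, ← Functor.map_comp, hy2, hβ]
    · have e1 : y' ≫ (Over.map g).map a = α := (AlgSp.yon S').map_injective (by
        rw [hα, ← hy', Category.assoc, pullback.lift_fst, Functor.map_comp])
      have e2 : y' ≫ (Over.map g).map b = β := (AlgSp.yon S').map_injective (by
        rw [hβ, ← hy', Category.assoc, pullback.lift_snd, Functor.map_comp])
      let y₁ : W ⟶ V := Over.homMk y'.left (by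
        change y'.left ≫ V.hom = α.left ≫ T.hom
        rw [← Over.w a, ← congrArg (fun k : Z ⟶ (Over.map g).obj T => k.left) e1]
        exact (Category.assoc _ _ _).symm)
      have : y₁ = y₀ := (AlgSp.yon S).map_injective (sq.hom_ext
        (by rw [← Functor.map_comp, ← Functor.map_comp, h1]
            exact congrArg _ (Over.OverMorphism.ext (congrArg (fun k : Z ⟶ (Over.map g).obj T => k.left) e1 :)))
        (by rw [← Functor.map_comp, ← Functor.map_comp, h2]
            exact congrArg _ (Over.OverMorphism.ext (congrArg (fun k : Z ⟶ (Over.map g).obj U => k.left) e2 :))))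
      exact Over.OverMorphism.ext (congrArg (fun k : W ⟶ V => k.left) this :)
  exact IsPullback.of_iso_pullback ⟨hw⟩ (asIso θ) (pullback.lift_fst _ _ _) (pullback.lift_snd _ _ _)

/-- `j_!` preserves and reflects properties of maps out of schemes. -/
theorem repWith_jlow_map_iff {F : AlgSp.Sp S} (hF : AlgSp.IsAlgSpace F) {T : Over S}
    (f : (AlgSp.yon S).obj T ⟶ F) (P : MorphismProperty Scheme.{u}) [P.IsStableUnderBaseChange]
    [P.IsLocalAtTarget Scheme.fppfPrecoverage] :
    AlgSp.RepWith (S := S') P ((jlow g).map f) ↔ AlgSp.RepWith P f := by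
  have : IsIso (tilde g (𝟙 ((AlgSp.yon S).obj T))) := isIso_tilde_id g T
  rw [← MorphismProperty.cancel_left_of_respectsIso (AlgSp.RepWith (S := S') P) (tilde g (𝟙 _)), ← tilde_eq]
  obtain ⟨U, R, p, t, s, hp, hE, sq, -, -⟩ := exists_presentation hF
  obtain ⟨V, b, fst, sqV⟩ := Functor.relativelyRepresentable.of_diag hF.diag f p
  obtain ⟨a, rfl⟩ := (AlgSp.yon S).map_surjective fst
  have sqV' := isPullback_tilde_of_isPullback g hF sqV
  have hF' := isAlgSpace_jlow g hF
  have := (isPullback_tilde g p hE sq).2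
  constructor
  · intro h
    exact repWith_of_isPullback_of_isLocallySurjective f (Functor.relativelyRepresentable.of_diag hF.diag f) p
      _ _ sqV P ((AlgSp.repWith_yon_map_iff P b).2 (h.2 _ _ _ sqV' :))
  · intro h
    exact repWith_of_isPullback_of_isLocallySurjective _ (Functor.relativelyRepresentable.of_diag hF'.diag _)
      (tilde g p) _ _ sqV' P ((AlgSp.repWith_yon_map_iff P _).2 (h.2 _ _ _ sqV :))

/-- Morphisms over `h_S` descend to `S`. -/
theorem exists_map_eq_of_over {F G : AlgSp.Sp S} (hF : AlgSp.IsAlgSpace F) (hG : AlgSp.IsAlgSpace G)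
    (h : (jlow g).obj F ⟶ (jlow g).obj G) (hh : h ≫ aF g G = aF g F) : ∃ f : F ⟶ G, (jlow g).map f = h := by
  have hex : ∀ {W : Over S} (x : (AlgSp.yon S).obj W ⟶ F),
      ∃! y : (AlgSp.yon S).obj W ⟶ G, tilde g y = tilde g x ≫ h := fun x =>
    existsUnique_tilde g hG _ (by rw [Category.assoc, hh, tilde_aF])
  choose y hy hyu using fun (W : Over S) (x : (AlgSp.yon S).obj W ⟶ F) => hex x
  let φ : F.obj ⟶ G.obj :=
    { app := fun W => TypeCat.ofHom fun z => yEquiv (y W.unop (yEquiv.symm z))
      naturality := fun W V m => by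
        ext z
        change yEquiv (y V.unop (yEquiv.symm (F.obj.map m z))) = G.obj.map m.unop.op (yEquiv (y W.unop (yEquiv.symm z)))
        rw [← yEquiv_map]
        congr 1
        symm
        apply hyu
        have e : yEquiv.symm (F.obj.map m z) = (AlgSp.yon S).map m.unop ≫ yEquiv.symm z := yEquiv.injective (by
          rw [Equiv.apply_symm_apply, yEquiv_map, Equiv.apply_symm_apply]; rfl)
        simp only [e, tilde_map, hy, Category.assoc] }
  let f : F ⟶ G := ⟨φ⟩
  have hf : ∀ (W : Over S) (x : (AlgSp.yon S).obj W ⟶ F), x ≫ f = y W x := fun W x => by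
    apply yEquiv.injective
    rw [yEquiv_comp]
    change yEquiv (y W (yEquiv.symm (yEquiv x))) = _
    rw [Equiv.symm_apply_apply]
  obtain ⟨U, R, p, t, s, hp, hE, sq, -, -⟩ := exists_presentation hF
  have := (isPullback_tilde g p hE sq).2
  have : Epi (tilde g p) := Sheaf.epi_of_isLocallySurjective _
  refine ⟨f, ?_⟩
  rw [← cancel_epi (tilde g p), ← tilde_comp, hf, hy]

theorem map_injective_jlow {F G : AlgSp.Sp S} (hG : AlgSp.IsAlgSpace G) {f f' : F ⟶ G}
    (h : (jlow g).map f = (jlow g).map f') : f = f' := by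
  refine hom_ext_yon fun W x => ?_
  refine (existsUnique_tilde g hG _ (tilde_aF g (x ≫ f'))).unique ?_ rfl
  rw [tilde_comp, tilde_comp, h]

/-- Every algebraic space over `h_S` comes from an algebraic space over `S`. -/
theorem exists_preimage {G : AlgSp.Sp S'} (hG : AlgSp.IsAlgSpace G) (a : G ⟶ (AlgSp.yon S').obj (Sg g)) :
    ∃ (F : AlgSp.Sp S) (e : (jlow g).obj F ≅ G), AlgSp.IsAlgSpace F ∧ e.hom ≫ a = aF g F := by
  obtain ⟨U', R', q, t', s', hq, hE', sq', -, -⟩ := exists_presentation hG
  obtain ⟨σ, hσ⟩ := (AlgSp.yon S').map_surjective (q ≫ a)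
  obtain ⟨ρ, hρ⟩ := (AlgSp.yon S').map_surjective ((AlgSp.yon S').map t' ≫ q ≫ a)
  have hρt : ρ = t' ≫ σ := (AlgSp.yon S').map_injective (by rw [hρ, Functor.map_comp, hσ])
  have hρs : ρ = s' ≫ σ := (AlgSp.yon S').map_injective (by
    rw [hρ, Functor.map_comp, hσ, ← Category.assoc, sq'.w, Category.assoc])
  let U : Over S := Over.mk σ.left
  let R : Over S := Over.mk ρ.left
  let t : R ⟶ U := Over.homMk t'.left (congrArg (fun k : R' ⟶ Sg g => k.left) hρt).symm
  let s : R ⟶ U := Over.homMk s'.left (congrArg (fun k : R' ⟶ Sg g => k.left) hρs).symm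
  let iU : (Over.map g).obj U ≅ U' := Over.isoMk (Iso.refl _) (by
    change 𝟙 _ ≫ U'.hom = σ.left ≫ g
    rw [Category.id_comp]; exact (Over.w σ).symm)
  let iR : (Over.map g).obj R ≅ R' := Over.isoMk (Iso.refl _) (by
    change 𝟙 _ ≫ R'.hom = ρ.left ≫ g
    rw [Category.id_comp]; exact (Over.w ρ).symm)
  have hit : (Over.map g).map t ≫ iU.hom = iR.hom ≫ t' := Over.OverMorphism.ext
    ((Category.comp_id _).trans (Category.id_comp _).symm)
  have his : (Over.map g).map s ≫ iU.hom = iR.hom ≫ s' := Over.OverMorphism.ext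
    ((Category.comp_id _).trans (Category.id_comp _).symm)
  have hE : AlgSp.IsEtaleEqvRel s t := by
    let e : ∀ T : Over S, (Over.map g).obj T ⟶ (Over.map g).obj T := fun T => 𝟙 _
    have hiff : ∀ (T : Over S) (a b : T ⟶ U), (∃ r : T ⟶ R, r ≫ t = a ∧ r ≫ s = b) ↔
        ∃ r' : (Over.map g).obj T ⟶ R', r' ≫ t' = (Over.map g).map a ≫ iU.hom ∧
          r' ≫ s' = (Over.map g).map b ≫ iU.hom := by
      intro T a b
      constructor
      · rintro ⟨r, rfl, rfl⟩
        exact ⟨(Over.map g).map r ≫ iR.hom, by rw [Category.assoc, ← hit, Functor.map_comp, Category.assoc],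
          by rw [Category.assoc, ← his, Functor.map_comp, Category.assoc]⟩
      · rintro ⟨r', h1, h2⟩
        have e1 : r'.left ≫ t'.left = a.left :=
          (congrArg (fun k : (Over.map g).obj T ⟶ U' => k.left) h1).trans (Category.comp_id _)
        have e2 : r'.left ≫ s'.left = b.left :=
          (congrArg (fun k : (Over.map g).obj T ⟶ U' => k.left) h2).trans (Category.comp_id _)
        refine ⟨Over.homMk r'.left ?_, Over.OverMorphism.ext e1, Over.OverMorphism.ext e2⟩
        change r'.left ≫ ρ.left = T.hom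
        rw [hρt, Over.comp_left, reassoc_of% e1]
        exact Over.w a
    refine ⟨⟨fun T r r' h1 h2 => map_injective g ((cancel_mono iR.hom).1 (hE'.injective _ _ _ ?_ ?_)),
      fun T => ⟨fun a => (hiff T a a).2 ((hE'.equivalence _).refl _), fun {a b} h => (hiff T b a).2
        ((hE'.equivalence _).symm ((hiff T a b).1 h)), fun {a b d} h h' => (hiff T a d).2
        ((hE'.equivalence _).trans ((hiff T a b).1 h) ((hiff T b d).1 h'))⟩⟩, hE'.etale_left, hE'.etale_right⟩
    · rw [Category.assoc, Category.assoc, ← hit, ← Functor.map_comp_assoc, ← Functor.map_comp_assoc, h1]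
    · rw [Category.assoc, Category.assoc, ← his, ← Functor.map_comp_assoc, ← Functor.map_comp_assoc, h2]
  have := isLocallySurjective_yπ s t
  have sqF := isPullback_yπ s t hE.toIsEqvRel
  have hF := (isAlgSpace_of_kernelPair (yπ s t) sqF hE.etale_left).1
  obtain ⟨e₀, he₀⟩ := quot_iso g (yπ s t) sqF hE
  let M := yπ ((Over.map g).map s) ((Over.map g).map t)
  have := isLocallySurjective_yπ ((Over.map g).map s) ((Over.map g).map t)
  have sqM : IsPullback ((AlgSp.yon S').map ((Over.map g).map t)) ((AlgSp.yon S').map ((Over.map g).map s))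
      ((AlgSp.yon S').map iU.hom ≫ q) ((AlgSp.yon S').map iU.hom ≫ q) :=
    IsPullback.of_iso sq' ((AlgSp.yon S').mapIso iR.symm) ((AlgSp.yon S').mapIso iU.symm)
      ((AlgSp.yon S').mapIso iU.symm) (Iso.refl _)
      (by simp only [Functor.mapIso_hom, Iso.symm_hom, ← Functor.map_comp]; rfl)
      (by simp only [Functor.mapIso_hom, Iso.symm_hom, ← Functor.map_comp]; rfl)
      (by simp) (by simp)
  have : Sheaf.IsLocallySurjective ((AlgSp.yon S').map iU.hom ≫ q) := by
    have : Epi q := Sheaf.epi_of_isLocallySurjective q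
    exact (Sheaf.isLocallySurjective_iff_epi _).2 inferInstance
  obtain ⟨c1⟩ := isColimit_of_isPullback M (isPullback_yπ _ _ (isEtaleEqvRel_map g hE).toIsEqvRel)
  obtain ⟨c2⟩ := isColimit_of_isPullback ((AlgSp.yon S').map iU.hom ≫ q) sqM
  let e₁ := c1.coconePointUniqueUpToIso c2
  have he₁ : M ≫ e₁.hom = (AlgSp.yon S').map iU.hom ≫ q :=
    IsColimit.comp_coconePointUniqueUpToIso_hom c1 c2 WalkingParallelPair.one
  refine ⟨_, e₀.symm ≪≫ e₁, hF, ?_⟩
  have : Epi M := Sheaf.epi_of_isLocallySurjective M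
  rw [← cancel_epi e₀.hom, ← cancel_epi M]
  simp only [Iso.trans_hom, Iso.symm_hom, Category.assoc, Iso.hom_inv_id_assoc]
  rw [reassoc_of% he₁, ← hσ, ← Category.assoc M e₀.hom, show M ≫ e₀.hom = tilde g (yπ s t) from he₀, tilde_aF, ← Functor.map_comp]
  congr 1

/-- The functor to algebraic spaces over `h_S`. -/
noncomputable def toOver : AlgSp.Space S ⥤ Over ((AlgSp.ofScheme S').obj (Sg g)) where
  obj F := Over.mk (ObjectProperty.homMk (aF g F.obj) :
    (⟨(jlow g).obj F.obj, isAlgSpace_jlow g F.property⟩ : AlgSp.Space S') ⟶ (AlgSp.ofScheme S').obj (Sg g))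
  map f := Over.homMk (ObjectProperty.homMk ((jlow g).map f.hom)) (ObjectProperty.hom_ext _ (map_aF g f.hom))
  map_id F := Over.OverMorphism.ext (ObjectProperty.hom_ext _ ((jlow g).map_id F.obj))
  map_comp f f' := Over.OverMorphism.ext (ObjectProperty.hom_ext _ ((jlow g).map_comp f.hom f'.hom))

instance : (toOver g).Faithful where
  map_injective {F G} f f' h := ObjectProperty.hom_ext _ (map_injective_jlow g G.property
    (congrArg (fun k : (toOver g).obj F ⟶ (toOver g).obj G => k.left.hom) h :))

instance : (toOver g).Full where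
  map_surjective {F G} h := by
    obtain ⟨f, hf⟩ := exists_map_eq_of_over g F.property G.property h.left.hom
      (congrArg (fun k : ((toOver g).obj F).left ⟶ (AlgSp.ofScheme S').obj (Sg g) => k.hom) (Over.w h) :)
    exact ⟨ObjectProperty.homMk f, Over.OverMorphism.ext (ObjectProperty.hom_ext _ hf)⟩

instance : (toOver g).EssSurj where
  mem_essImage X := by
    obtain ⟨F, e, hF, he⟩ := exists_preimage g X.left.property X.hom.hom
    exact ⟨⟨F, hF⟩, ⟨Over.isoMk (ObjectProperty.isoMk _ e) (ObjectProperty.hom_ext _ he)⟩⟩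

instance : (toOver g).IsEquivalence where

/-- The unit at algebraic spaces: restricting `j_! F` along the canonical point gives `F` back. -/
theorem isAlgSpace_res_iff (F' : AlgSp.Sp S') :
    AlgSp.IsAlgSpace ((res g).obj F') ↔ AlgSp.IsAlgSpace ((AlgSp.yon S').obj (Sg g) ⨯ F') := by
  constructor
  · intro hR
    let θ : (jlow g).obj ((res g).obj F') ⟶ (AlgSp.yon S').obj (Sg g) ⨯ F' :=
      prod.lift (aF g _) ((adj g).counit.app F')
    have hθ : ∀ {W : Over S} (x : (AlgSp.yon S).obj W ⟶ (res g).obj F'),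
        tilde g x ≫ θ ≫ prod.snd = Φ g x := by
      intro W x
      rw [prod.lift_snd, tilde, ← Φ_comp, Category.assoc, Adjunction.right_triangle_components, Category.comp_id]
    have : IsIso θ := by
      refine isIso_of_points θ fun Z y => ?_
      obtain ⟨h, hh⟩ := (AlgSp.yon S').map_surjective (y ≫ prod.fst)
      let W : Over S := Over.mk h.left
      let c : (Over.map g).obj W ≅ Z := Over.isoMk (Iso.refl _) (by
        change 𝟙 _ ≫ Z.hom = h.left ≫ g
        rw [Category.id_comp]; exact (Over.w h).symm)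
      have hc : c.hom ≫ h = str g W := Over.OverMorphism.ext (Category.id_comp _)
      have hci : c.inv ≫ str g W = h := by rw [← hc, Iso.inv_hom_id_assoc]
      let x := (Φ g (W := W)).symm ((AlgSp.yon S').map c.hom ≫ y ≫ prod.snd)
      refine ⟨(AlgSp.yon S').map c.inv ≫ tilde g x, ?_, fun z hz => ?_⟩
      · change ((AlgSp.yon S').map c.inv ≫ tilde g x) ≫ θ = y
        apply prod.hom_ext
        · rw [Category.assoc, Category.assoc, prod.lift_fst, tilde_aF, ← Functor.map_comp, hci, hh]
        · rw [Category.assoc, Category.assoc, hθ, Equiv.apply_symm_apply, ← Functor.map_comp_assoc,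
            Iso.inv_hom_id, CategoryTheory.Functor.map_id, Category.id_comp]
      · obtain ⟨x', hx', -⟩ := existsUnique_tilde g hR ((AlgSp.yon S').map c.hom ≫ z) (by
          have e : z ≫ aF g _ = (AlgSp.yon S').map h := by
            rw [hh, ← hz, Category.assoc, prod.lift_fst]
          rw [Category.assoc, e, ← Functor.map_comp, hc])
        have e : z = (AlgSp.yon S').map c.inv ≫ tilde g x' := by
          rw [hx', ← Functor.map_comp_assoc, Iso.inv_hom_id, CategoryTheory.Functor.map_id, Category.id_comp]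
        rw [e]
        congr 2
        apply (Φ g).injective
        rw [← hθ, ← reassoc_of% hx'.symm]
        simp only [x, Equiv.apply_symm_apply, ← hz, Category.assoc]
    exact (isAlgSpace_jlow g hR).of_iso (asIso θ)
  · intro hG
    obtain ⟨F, e, hF, he⟩ := exists_preimage g hG prod.fst
    let ψ := (adj g).homEquiv _ _ (e.hom ≫ prod.snd)
    have hψ : ∀ {W : Over S} (x : (AlgSp.yon S).obj W ⟶ F), Φ g (x ≫ ψ) = tilde g x ≫ e.hom ≫ prod.snd := by
      intro W x
      rw [tilde, ← Φ_comp, Category.assoc, ← Adjunction.homEquiv_unit]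
    have : IsIso ψ := by
      refine isIso_of_points ψ fun W y => ?_
      let w := prod.lift ((AlgSp.yon S').map (str g W)) (Φ g y) ≫ e.inv
      obtain ⟨x, hx, hxu⟩ := existsUnique_tilde g hF w (by
        rw [Category.assoc, ← he, Iso.inv_hom_id_assoc, prod.lift_fst])
      refine ⟨x, (Φ g).injective ?_, fun x' hx' => hxu x' ?_⟩
      · rw [hψ, hx, Category.assoc, Iso.inv_hom_id_assoc, prod.lift_snd]
      · beta_reduce
        rw [← cancel_mono e.hom, Category.assoc, Iso.inv_hom_id, Category.comp_id]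
        apply prod.hom_ext
        · rw [prod.lift_fst, Category.assoc, he, tilde_aF]
        · rw [prod.lift_snd, Category.assoc, ← hψ, hx']
    exact hF.of_iso (asIso ψ)

/-- Restriction preserves algebraic spaces. -/
theorem isAlgSpace_res {F' : AlgSp.Sp S'} (hF' : AlgSp.IsAlgSpace F') : AlgSp.IsAlgSpace ((res g).obj F') := by
  rw [isAlgSpace_res_iff]
  let hT : IsTerminal ((AlgSp.yon S').obj (Over.mk (𝟙 S'))) := Over.mkIdTerminal.isTerminalObj _ _
  exact (isAlgSpace_pullback (AlgSp.IsAlgSpace.yon_obj (Over.mk (𝟙 S'))) (AlgSp.IsAlgSpace.yon_obj (Sg g)) hF'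
    (hT.from _) (hT.from _)).of_iso
    ((IsPullback.of_hasPullback (hT.from _) (hT.from _)).isoIsPullback _ _
      (IsPullback.of_is_product' (prodIsProd _ _) hT))

end Groth.Agent.AlgSp.Jshriek
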