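import Mathlib.FieldTheory.IsAlgClosed.Classification
import Mathlib.RingTheory.Unramified.Field
import Mathlib.AlgebraicGeometry.Morphisms.FormallyUnramified
import Mathlib.AlgebraicGeometry.Morphisms.Etale
import Groth.Agent.CycLib.Residue

/-!
# Embeddings into large algebraically closed fields
-/

universe u

open CategoryTheory AlgebraicGeometry
open scoped Cardinal

set_option backward.isDefEq.respectTransparency.types false
set_option autoImplicit false

namespace Groth.Agent.AlgSp.LargeField

/-- A field of smaller cardinality embeds into an algebraically closed field over any common subfield. -/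
theorem exists_ringHom {F K k : Type u} [Field F] [Field K] [Field k] [IsAlgClosed k] (φ : F →+* K)
    (ψ : F →+* k) (h : #K < #k) : ∃ θ : K →+* k, θ.comp φ = ψ := by
  algebraize [φ, ψ]
  obtain ⟨B, hB⟩ := exists_isTranscendenceBasis F K
  obtain ⟨B', hB'⟩ := exists_isTranscendenceBasis F k
  have hle : #B ≤ #B' := by
    by_contra hlt
    rw [not_le] at hlt
    have h1 : #B ≤ #K := Cardinal.mk_set_le B
    have hF : #F ≤ #K := Cardinal.mk_le_of_injective φ.injective
    have h2 : #k ≤ max #K ℵ₀ := (IsAlgClosed.cardinal_le_max_transcendence_basis' _ hB').trans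
      (max_le_max (max_le hF (hlt.le.trans h1)) le_rfl)
    have h3 : #K < ℵ₀ := by
      by_contra h4
      rw [not_lt] at h4
      rw [max_eq_left h4] at h2
      exact absurd h (not_lt.2 h2)
    have : Finite K := Cardinal.lt_aleph0_iff_finite.1 h3
    have : Module.Finite F K := Module.Finite.of_finite
    have : IsEmpty B := hB.isEmpty_iff_isAlgebraic.2 inferInstance
    rw [Cardinal.mk_eq_zero (α := B)] at hlt
    exact not_lt_zero hlt
  obtain ⟨e⟩ := hle
  have hx : AlgebraicIndependent F (fun b => (e b : k)) := hB'.1.comp e e.injective
  let R := Algebra.adjoin F (Set.range ((↑) : B → K))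
  let g : R →ₐ[F] k := (MvPolynomial.aeval fun b => (e b : k)).comp hB.1.aevalEquiv.symm.toAlgHom
  have hx' : Function.Injective (MvPolynomial.aeval (R := F) fun b => (e b : k)) := hx
  have hg : Function.Injective g := fun a b hab => hB.1.aevalEquiv.symm.injective (hx' hab)
  have : Algebra.IsAlgebraic R K := hB.isAlgebraic
  let _ : Algebra R k := g.toRingHom.toAlgebra
  have : FaithfulSMul R k := (faithfulSMul_iff_algebraMap_injective R k).2 hg
  let θ : K →ₐ[R] k := IsAlgClosed.lift
  refine ⟨θ.toRingHom, RingHom.ext fun a => ?_⟩
  exact (θ.commutes (algebraMap F R a)).trans (g.commutes a)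

/-- Residue fields in etale morphisms stay smaller than an algebraically closed field. -/
theorem card_residueField_lt {X Y : Scheme.{u}} (f : X ⟶ Y) [Etale f] (x : X) {k : Type u} [Field k]
    [IsAlgClosed k] (h : #(Y.residueField (f x)) < #k) : #(X.residueField x) < #k := by
  let _ : Algebra (Y.residueField (f x)) (X.residueField x) := (f.residueFieldMap x).hom.toAlgebra
  have hs : Algebra.IsSeparable (Y.residueField (f x)) (X.residueField x) := inferInstance
  have : Algebra.EssFiniteType (Y.residueField (f x)) (X.residueField x) :=
    Groth.Agent.CycLib.residueFieldMap_essFiniteType f x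
  have : Algebra.FormallyUnramified (Y.residueField (f x)) (X.residueField x) :=
    Algebra.FormallyUnramified.of_isSeparable _ _
  have : Module.Finite (Y.residueField (f x)) (X.residueField x) :=
    Algebra.FormallyUnramified.finite_of_free _ _
  by_cases hfin : #(Y.residueField (f x)) < ℵ₀
  · have : Finite (Y.residueField (f x)) := Cardinal.lt_aleph0_iff_finite.1 hfin
    have : Finite (X.residueField x) := Module.finite_of_finite (Y.residueField (f x))
    exact lt_of_lt_of_le (Cardinal.lt_aleph0_iff_finite.2 this) (Cardinal.aleph0_le_mk k)
  · refine lt_of_le_of_lt (Algebra.IsAlgebraic.cardinalMk_le_max (Y.residueField (f x)) (X.residueField x)) ?_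
    rw [max_eq_left (not_lt.1 hfin)]
    exact h

end Groth.Agent.AlgSp.LargeField
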