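import Groth.Agent.AlgSp.LimRepApp

/-!
# Changing the initial stage; isomorphisms and closed immersions
-/

universe u

open CategoryTheory CategoryTheory.Limits AlgebraicGeometry Opposite

set_option backward.isDefEq.respectTransparency.types false
set_option autoImplicit false

namespace Groth.Agent.AlgSp.LimRebase

open _root_.AlgSp

/-- Base changes to a later stage are base changes of the base changes to an earlier stage. -/
theorem exists_transfer {C : Type*} [Category C] [HasPullbacks C] {X₀ Y₀ B₀ B₁ B X Y : C} {f₀ : X₀ ⟶ Y₀}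
    {b₀ : Y₀ ⟶ B₀} {β : B₁ ⟶ B₀} {α : B ⟶ B₁} {γ : B ⟶ B₀} (hγ : α ≫ β = γ) {f : X ⟶ Y} {pY : Y ⟶ Y₀}
    {qY : Y ⟶ B} {pX : X ⟶ X₀} (hY : IsPullback pY qY b₀ γ) (hX : IsPullback pX f f₀ pY) :
    ∃ (u : Y ⟶ pullback b₀ β) (v : X ⟶ pullback f₀ (pullback.fst b₀ β)),
      IsPullback u qY (pullback.snd b₀ β) α ∧ IsPullback v f (pullback.snd f₀ (pullback.fst b₀ β)) u := by
  subst hγ
  let u := pullback.lift (f := b₀) (g := β) pY (qY ≫ α) (by rw [Category.assoc]; exact hY.w)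
  have hu : IsPullback u qY (pullback.snd b₀ β) α := by
    refine IsPullback.of_right ?_ (pullback.lift_snd _ _ _) (IsPullback.of_hasPullback b₀ β)
    rw [pullback.lift_fst]; exact hY
  have h1 : IsPullback pX f f₀ (u ≫ pullback.fst b₀ β) := by rw [pullback.lift_fst]; exact hX
  exact ⟨u, _, hu, IsPullback.of_right' h1 (IsPullback.of_hasPullback f₀ (pullback.fst b₀ β))⟩

variable {S : Scheme.{u}} [QuasiSeparatedSpace S] {I : Type u} [SmallCategory I] [IsCofiltered I] {D : I ⥤ Sp S}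
  (hD : ∀ i, IsAlgSpace (D.obj i)) (hDa : ∀ (i j : I) (φ : i ⟶ j), IsAffineMor (D.map φ)) {c : Cone D}
  (hc : IsLimit c) {i₀ : I} {X₀ Y₀ : Sp S} (hX₀ : IsAlgSpace X₀) (hY₀ : IsAlgSpace Y₀) (f₀ : X₀ ⟶ Y₀)
  (b₀ : Y₀ ⟶ D.obj i₀) (hXqc : IsQuasiCompactSp X₀) (hXqs : IsQuasiSeparatedSp X₀)
  (hYqc : IsQuasiCompactSp Y₀) (hYqs : IsQuasiSeparatedSp Y₀)
  {X Y : Sp S} {f : X ⟶ Y} {pY : Y ⟶ Y₀} {qY : Y ⟶ c.pt} (hY : IsPullback pY qY b₀ (c.π.app i₀))
  {pX : X ⟶ X₀} (hX : IsPullback pX f f₀ pY)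

include hD hDa hc hX₀ hY₀ hXqc hXqs hYqc hYqs hY hX in
/-- Closed immersions descend through limits. -/
theorem descend_closedImmersion (hf : RepWith @IsClosedImmersion f) (hf₀ : LocP @LocallyOfFiniteType f₀) :
    ∃ (i : I) (φ : i ⟶ i₀), ∀ (Xi Yi : Sp S) (fi : Xi ⟶ Yi) (pYi : Yi ⟶ Y₀) (qYi : Yi ⟶ D.obj i)
      (_ : IsPullback pYi qYi b₀ (D.map φ)) (pXi : Xi ⟶ X₀) (_ : IsPullback pXi fi f₀ pYi),
      RepWith @IsClosedImmersion fi := by
  have : Mono f := Groth.Agent.AlgSpB.mono_of_isClosedImmersion hf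
  obtain ⟨i₁, φ₁, h₁⟩ := LimRepApp.descend_mono hDa hc hX₀ hY₀ f₀ b₀ hXqc hXqs hYqs hY hX hf₀
  let Y₁ := pullback b₀ (D.map φ₁)
  let X₁ := pullback f₀ (pullback.fst b₀ (D.map φ₁))
  let f₁ : X₁ ⟶ Y₁ := pullback.snd f₀ (pullback.fst b₀ (D.map φ₁))
  have sqY₁ := IsPullback.of_hasPullback b₀ (D.map φ₁)
  have sqX₁ := IsPullback.of_hasPullback f₀ (pullback.fst b₀ (D.map φ₁))
  have : Mono f₁ := h₁ X₁ Y₁ f₁ _ _ sqY₁ _ sqX₁
  have hY₁ : IsAlgSpace Y₁ := Groth.Agent.AlgSp.isAlgSpace_of_isPullback' (hD i₀) hY₀ (hD i₁) sqY₁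
  have hX₁ : IsAlgSpace X₁ := Groth.Agent.AlgSp.isAlgSpace_of_isPullback' hY₀ hX₀ hY₁ sqX₁
  have hft₁ : LocP @LocallyOfFiniteType f₁ :=
    AlgSpCov.locP_baseChange AlgSpCov.etaleLocal_locallyOfFiniteType hX₀ hY₀ sqX₁ hf₀
  have hrep : Representable f₁ :=
    @Groth.Agent.AlgSpCov.UnramMono.representable_of_mono_lft S ⟨X₁, hX₁⟩ ⟨Y₁, hY₁⟩ (ObjectProperty.homMk f₁) ‹Mono f₁› hft₁
  have hqc : RepWith @QuasiCompact f₁ := (Groth.Agent.AlgSp.repWith_quasiCompact_iff hY₁ f₁ hrep).2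
    (Groth.Agent.AlgSp.isQuasiCompactMor_baseChange sqX₁
      (Groth.Agent.AlgSp.isQuasiCompactMor_of_quasiCompactSp hX₀ hY₀ f₀ hXqc hYqs))
  have hsep : RepWith @IsSeparated f₁ := (Groth.Agent.AlgSp.repWith_diagonal_iff_of_representable
    @IsClosedImmersion @IsSeparated (fun h => (isSeparated_iff h).symm) hX₁ hrep).1
    (Groth.Agent.AlgSpCov.UnramMono.isSeparatedMor_of_mono f₁)
  have hY₁qc : IsQuasiCompactSp Y₁ := by
    have ha : RepWith @IsAffineHom (pullback.fst b₀ (D.map φ₁)) :=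
      MorphismProperty.of_isPullback sqY₁.flip (LimSp.repWith_map hDa φ₁)
    have hq : RepWith @QuasiCompact (pullback.fst b₀ (D.map φ₁)) := ⟨ha.1, fun _ _ g fst snd sq =>
      haveI : IsAffineHom snd.left := ha.2 g fst snd sq
      (inferInstance : QuasiCompact snd.left)⟩
    exact Groth.Agent.AlgSp.isQuasiCompactMor_of_repWith hY₀ hq hY₀ hYqc (𝟙 Y₀) (𝟙 Y₁) (pullback.fst b₀ (D.map φ₁))
      (IsPullback.of_horiz_isIso ⟨by rw [Category.id_comp, Category.comp_id]⟩)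
  have hft : RepWith @LocallyOfFiniteType f₁ :=
    AlgSpCov.repWith_of_locP AlgSpCov.etaleLocal_locallyOfFiniteType hX₁ hY₁ hrep hft₁
  obtain ⟨u, v, hu, hv⟩ := exists_transfer (C := Sp S) (c.w φ₁) hY hX
  obtain ⟨i, φ, h⟩ := LimRep.descend_rep Groth.Agent.LimLib.descends_isClosedImmersion hDa c hc i₁ f₁
    (pullback.snd b₀ (D.map φ₁)) hY₁qc hrep hqc hsep hft f u qY hu v hv hf
  refine ⟨i, φ ≫ φ₁, fun Xi Yi fi pYi qYi hYi pXi hXi => ?_⟩
  obtain ⟨ui, vi, hui, hvi⟩ := exists_transfer (C := Sp S) (D.map_comp φ φ₁).symm hYi hXi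
  obtain ⟨W, W', r, s, h', hre, hrs, sqr, hcl⟩ := h fi ui qYi hui vi hvi
  exact @Groth.Agent.AlgSp.repWith_isClosedImmersion_of_baseChange _ _ _ _ _ fi r
    (Groth.Agent.AlgSp.isLocallySurjective_of_etale_surjective r hre hrs) _ _ sqr ((repWith_yon_map_iff _ _).2 hcl)

include hD hDa hc hX₀ hY₀ hXqc hXqs hYqc hYqs hY hX in
/-- Isomorphisms descend through limits. -/
theorem descend_isIso [IsIso f] (hf₀ : LocP @LocallyOfFinitePresentation f₀) :
    ∃ (i : I) (φ : i ⟶ i₀), ∀ (Xi Yi : Sp S) (fi : Xi ⟶ Yi) (pYi : Yi ⟶ Y₀) (qYi : Yi ⟶ D.obj i)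
      (_ : IsPullback pYi qYi b₀ (D.map φ)) (pXi : Xi ⟶ X₀) (_ : IsPullback pXi fi f₀ pYi), IsIso fi := by
  have hft : LocP @LocallyOfFiniteType f₀ := fun U V a b h ha hb w =>
    have : LocallyOfFinitePresentation h.left := hf₀ a b h ha hb w
    inferInstance
  have hfe : LocP @Etale f := AlgSpCov.locP_of_repWith AlgSpCov.etaleLocal_etale
    ⟨Functor.relativelyRepresentable.of_isIso (F := yon S) f, fun _ _ g fst snd sq => by
      have : IsIso ((yon S).map snd) := sq.isIso_snd_of_isIso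
      have : IsIso snd := isIso_of_reflects_iso _ (yon S)
      have : IsIso snd.left := inferInstanceAs (IsIso ((Over.forget S).map snd))
      exact (inferInstance : Etale snd.left)⟩
  have hfs : IsSurjectiveMor f := fun y =>
    ⟨Points.map (inv f) y, by rw [← Points.map_comp, IsIso.inv_hom_id, Points.map_id]⟩
  obtain ⟨i₁, φ₁, h₁⟩ := LimRepApp.descend_mono hDa hc hX₀ hY₀ f₀ b₀ hXqc hXqs hYqs hY hX hft
  obtain ⟨i₂, φ₂, h₂⟩ := LimDesc.descend_locP AlgSpCov.standard_etale Groth.Agent.LimLib.descends_etale hD hDa c hc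
    i₀ X₀ Y₀ hX₀ hY₀ f₀ b₀ hXqc hYqc hYqs X Y f pY qY hY pX hX hfe hf₀
  obtain ⟨i₃, φ₃, h₃⟩ := LimSurj.descend_surjective hDa c hc i₀ X₀ Y₀ hX₀ hY₀ f₀ b₀ hXqc hYqc hYqs X Y f pY qY hY
    pX hX hfs hf₀
  obtain ⟨k₁, a₁, a₂, e₁⟩ := IsCofiltered.cospan φ₁ φ₂
  obtain ⟨k, a, a₃, e₂⟩ := IsCofiltered.cospan (a₁ ≫ φ₁) φ₃
  refine ⟨k, a ≫ a₁ ≫ φ₁, fun Xi Yi fi pYi qYi hYi pXi hXi => ?_⟩
  have hYa := Groth.Agent.AlgSp.isAlgSpace_of_isPullback' (hD i₀) hY₀ (hD k) hYi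
  have hXa := Groth.Agent.AlgSp.isAlgSpace_of_isPullback' hY₀ hX₀ hYa hXi
  -- monomorphism
  have hm : Mono fi := by
    obtain ⟨u, v, -, hv⟩ := exists_transfer (C := Sp S) (α := D.map (a ≫ a₁)) (β := D.map φ₁)
      (by rw [← D.map_comp, Category.assoc]) hYi hXi
    have := h₁ _ _ _ _ _ (IsPullback.of_hasPullback b₀ (D.map φ₁)) _ (IsPullback.of_hasPullback f₀ _)
    exact (MorphismProperty.monomorphisms (Sp S)).of_isPullback hv (MorphismProperty.monomorphisms.infer_property _)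
  -- etale
  have he : LocP @Etale fi := by
    obtain ⟨u, v, -, hv⟩ := exists_transfer (C := Sp S) (α := D.map (a ≫ a₂)) (β := D.map φ₂)
      (by rw [← D.map_comp, Category.assoc, ← e₁]) hYi hXi
    have hb := Groth.Agent.AlgSp.isAlgSpace_of_isPullback' (hD i₀) hY₀ (hD i₂) (IsPullback.of_hasPullback b₀ (D.map φ₂))
    exact AlgSpCov.locP_baseChange AlgSpCov.etaleLocal_etale
      (Groth.Agent.AlgSp.isAlgSpace_of_isPullback' hY₀ hX₀ hb (IsPullback.of_hasPullback f₀ _)) hb hv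
      (h₂ _ _ _ _ _ (IsPullback.of_hasPullback b₀ (D.map φ₂)) _ (IsPullback.of_hasPullback f₀ _))
  -- surjective
  have hs : IsSurjectiveMor fi := by
    obtain ⟨u, v, -, hv⟩ := exists_transfer (C := Sp S) (α := D.map a₃) (β := D.map φ₃)
      (by rw [← D.map_comp, ← e₂]) hYi hXi
    exact Groth.Agent.AlgSp.surjective_map_of_isPullback hv
      (h₃ _ _ _ _ _ (IsPullback.of_hasPullback b₀ (D.map φ₃)) _ (IsPullback.of_hasPullback f₀ _))
  have hrep : Representable fi :=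
    @Groth.Agent.AlgSpCov.UnramMono.representable_of_mono_lft S ⟨Xi, hXa⟩ ⟨Yi, hYa⟩ (ObjectProperty.homMk fi) hm
      (AlgSpCov.locP_baseChange AlgSpCov.etaleLocal_locallyOfFiniteType hX₀ hY₀ hXi hft)
  have := Groth.Agent.AlgSp.isLocallySurjective_of_etale_surjective fi
    (AlgSpCov.repWith_of_locP AlgSpCov.etaleLocal_etale hXa hYa hrep he)
    ((Groth.Agent.AlgSp.repWith_surjective_iff _ hrep).2 hs)
  exact Groth.Agent.AlgSpCov.isIso_of_mono_locallySurjective fi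

end Groth.Agent.AlgSp.LimRebase
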