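import Groth.Agent.AlgSp.LimHom
import Groth.Agent.AlgSp.LimRebase
import Groth.Agent.LimLib.RelApprox
import Groth.Agent.LimLib.FPSystem
import Groth.Agent.LimLib.Model
import Groth.Agent.EGA43Lim.Basic

/-!
# If a limit of algebraic spaces is affine then so is some stage
-/

universe u

open CategoryTheory CategoryTheory.Limits AlgebraicGeometry Opposite

set_option backward.isDefEq.respectTransparency.types false
set_option autoImplicit false

attribute [local instance] CategoryTheory.isConnected_of_hasTerminal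

namespace Groth.Agent.AlgSp.LimAffine

open _root_.AlgSp

variable {S : Scheme.{u}} [QuasiSeparatedSpace S]

/-- An étale surjection of affine schemes over the base is a base change of one of finite presentation
over the base. -/
theorem exists_model {T U : Over S} [IsAffine T.left] [IsAffine U.left] (m : U ⟶ T) [Etale m.left]
    [Surjective m.left] :
    ∃ (W U' : Over S) (h : U' ⟶ W) (b : T ⟶ W) (q : U ⟶ U'), IsAffine W.left ∧ IsAffine U'.left ∧
      LocallyOfFinitePresentation W.hom ∧ Etale h.left ∧ Surjective h.left ∧ IsPullback q m h b := by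
  obtain ⟨P⟩ := Groth.Agent.LimLib.nonempty_fpSystem T.hom
  obtain ⟨hc⟩ := P.isLimit_cone
  have : IsAffine P.cone.pt := ‹IsAffine T.left›
  obtain ⟨i₀, hi₀⟩ := Scheme.exists_isAffine_of_isLimit P.sch P.cone hc
  let mc : U.left ⟶ P.cone.pt := m.left
  have : Etale mc := ‹Etale m.left›
  have : Surjective mc := ‹Surjective m.left›
  obtain ⟨i, X₁, f₁, g₁, hf₁, hX₁, hX₁', sq₁⟩ := Groth.Agent.LimLib.hasModel hc mc
  obtain ⟨i₁, φ₁, hi₁⟩ := Groth.Agent.LimLib.descends_etale P.sch P.cone hc (fun _ _ _ => inferInstance)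
    (fun _ => inferInstance) (fun _ => inferInstance) i X₁ f₁ hX₁ hX₁' hf₁ _ g₁ mc sq₁ ‹Etale mc›
  obtain ⟨i₂, φ₂, hi₂⟩ := Groth.Agent.EGA43Lim.descends_surjective P.sch P.cone hc (fun _ _ _ => inferInstance)
    (fun _ => inferInstance) (fun _ => inferInstance) i X₁ f₁ hX₁ hX₁' hf₁ _ g₁ mc sq₁ ‹Surjective mc›
  obtain ⟨k₁, a₁, a₂, e₁⟩ := IsCofiltered.cospan φ₁ φ₂
  obtain ⟨k, a, a₀, -⟩ := IsCofilteredOrEmpty.cone_objs k₁ i₀
  let φ := a ≫ a₁ ≫ φ₁
  have hk : IsAffine (P.sch.obj k) := @isAffine_of_isAffineHom _ _ (P.sch.map a₀) inferInstance hi₀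
  let fk := pullback.snd f₁ (P.sch.map φ)
  have hfe : Etale fk := Groth.Agent.LimLib.property_of_factor (P := @Etale) (IsPullback.of_hasPullback _ _)
    (IsPullback.of_hasPullback _ _) (P.sch.map (a ≫ a₁))
    (by rw [← P.sch.map_comp, Category.assoc]) hi₁
  have hfs : Surjective fk := Groth.Agent.LimLib.property_of_factor (P := @Surjective) (IsPullback.of_hasPullback _ _)
    (IsPullback.of_hasPullback _ _) (P.sch.map (a ≫ a₂))
    (by rw [← P.sch.map_comp, Category.assoc, ← e₁]) hi₂
  -- the square at the stage `k`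
  have hw : g₁ ≫ f₁ = (mc ≫ P.cone.π.app k) ≫ P.sch.map φ := by
    rw [Category.assoc, P.cone.w]; exact sq₁.w
  have sqk : IsPullback (pullback.lift g₁ (mc ≫ P.cone.π.app k) hw) mc fk (P.cone.π.app k) := by
    refine IsPullback.of_right ?_ (pullback.lift_snd _ _ _) (IsPullback.of_hasPullback f₁ (P.sch.map φ))
    rw [pullback.lift_fst, P.cone.w]
    exact sq₁
  have : CompactSpace ↑(pullback f₁ (P.sch.map φ)) :=
    QuasiCompact.compactSpace_of_compactSpace (pullback.fst f₁ (P.sch.map φ))
  have : QuasiSeparatedSpace ↑(pullback f₁ (P.sch.map φ)) :=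
    quasiSeparatedSpace_of_quasiSeparated (pullback.fst f₁ (P.sch.map φ))
  -- the source becomes affine
  have : IsAffine (Groth.Agent.LimLib.bcCone sqk).pt := ‹IsAffine U.left›
  have : ∀ {x y : Over k} (b : x ⟶ y), IsAffineHom ((Groth.Agent.LimLib.bcDiag P.sch k fk).map b) :=
    fun b => inferInstance
  obtain ⟨j, hj⟩ := Scheme.exists_isAffine_of_isLimit _ _ (Groth.Agent.LimLib.isLimitBcCone hc sqk)
  let hjm := pullback.snd fk (P.sch.map j.hom)
  have sqj : IsPullback ((Groth.Agent.LimLib.bcCone sqk).π.app j) mc hjm (P.cone.π.app j.left) :=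
    Groth.Agent.LimLib.isPullback_bcCone sqk j
  let W : Over S := P.D.obj j.left
  let U' : Over S := Over.mk (hjm ≫ W.hom)
  let h : U' ⟶ W := Over.homMk hjm rfl
  let b : T ⟶ W := Over.homMk (P.π.app j.left).left (Over.w (P.π.app j.left))
  have hqw : (Groth.Agent.LimLib.bcCone sqk).π.app j ≫ hjm ≫ W.hom = U.hom := by
    rw [← Category.assoc]
    exact (congrArg (fun f => f ≫ W.hom) sqj.w).trans
      ((Category.assoc _ _ _).trans ((congrArg (fun f => mc ≫ f) (Over.w (P.π.app j.left))).trans (Over.w m)))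
  let q : U ⟶ U' := Over.homMk ((Groth.Agent.LimLib.bcCone sqk).π.app j) hqw
  exact ⟨W, U', h, b, q, @isAffine_of_isAffineHom _ _ (P.sch.map j.hom) (P.isAffineHom j.hom) hk, hj,
    P.lfp j.left, MorphismProperty.pullback_snd (P := @Etale) _ _ hfe,
    MorphismProperty.pullback_snd (P := @Surjective) _ _ hfs,
    IsPullback.of_map (Over.forget S) (Over.OverMorphism.ext sqj.w) sqj⟩

omit [QuasiSeparatedSpace S] in
/-- A space quasi-separated over a quasi-separated space is quasi-separated. -/
theorem isQuasiSeparatedSp_of_mor {X Y : Sp S} (f : X ⟶ Y) (hf : RepWith @QuasiCompact (pullback.diagonal f))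
    (hY : IsQuasiSeparatedSp Y) : IsQuasiSeparatedSp X := by
  have h2 : RepWith @QuasiCompact (prod.lift (pullback.fst f f) (pullback.snd f f)) :=
    MorphismProperty.of_isPullback (Groth.Agent.AlgSp.isPullback_lift_diag (IsPullback.of_hasPullback f f)) hY
  have e : Limits.diag X = pullback.diagonal f ≫ prod.lift (pullback.fst f f) (pullback.snd f f) := by
    apply prod.hom_ext <;> simp [prod.lift_fst, prod.lift_snd]
  change RepWith @QuasiCompact (Limits.diag X)
  rw [e]
  exact (RepWith _).comp_mem _ _ hf h2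

variable {I : Type u} [SmallCategory I] [IsCofiltered I] {D : I ⥤ Sp S}
  (hD : ∀ i, IsAlgSpace (D.obj i)) (hDa : ∀ (i j : I) (φ : i ⟶ j), IsAffineMor (D.map φ))
  (hqc : ∀ i, IsQuasiCompactSp (D.obj i)) (hqs : ∀ i, IsQuasiSeparatedSp (D.obj i)) {c : Cone D} (hc : IsLimit c)

set_option maxHeartbeats 800000 in
include hD hDa hqc hqs hc in
/-- If the limit is an affine scheme then so is some stage. -/
theorem exists_affine_stage (T : Over S) [IsAffine T.left] (e : (yon S).obj T ≅ c.pt) :
    ∃ (i : I) (T' : Over S), IsAffine T'.left ∧ Nonempty ((yon S).obj T' ≅ D.obj i) := by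
  obtain ⟨i₀⟩ := IsCofiltered.nonempty (C := I)
  obtain ⟨U, p, hp, hps, hU⟩ := hqc i₀
  have := Groth.Agent.AlgSpB.compactSpace_points_of_isQuasiCompactSp ⟨U, p, hp, hps, hU⟩
  obtain ⟨Z, e₀, hZ, hze, hzs⟩ := Groth.Agent.AlgSpB.exists_affine_chart_of_compactSpace hp hps
  let g := (yon S).map e₀ ≫ p
  obtain ⟨L, lL, qZ, ⟨hL⟩, hqZ, hq, hlL, sq⟩ := LimSp.exists_isPullback hDa g c hc
  have : IsAffine L.pt.left := @isAffine_of_isAffineHom _ _ qZ.left hqZ hZ
  -- the chart over the affine limit
  obtain ⟨m, hm⟩ := (yon S).map_surjective (lL ≫ e.inv)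
  have hei : IsIso e.inv := inferInstance
  have hme : RepWith @Etale ((yon S).map m) := by
    rw [hm]
    exact (@MorphismProperty.cancel_right_of_respectsIso _ _ (RepWith @Etale : MorphismProperty (Sp S)) _ _ _ _ lL
      e.inv hei).2 (MorphismProperty.of_isPullback sq.flip hze)
  have hms : RepWith @Surjective ((yon S).map m) := by
    rw [hm]
    exact (@MorphismProperty.cancel_right_of_respectsIso _ _ (RepWith @Surjective : MorphismProperty (Sp S)) _ _ _ _
      lL e.inv hei).2 (MorphismProperty.of_isPullback sq.flip hzs)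
  have : Etale m.left := (repWith_yon_map_iff _ m).1 hme
  have : Surjective m.left := (repWith_yon_map_iff _ m).1 hms
  obtain ⟨W, U', h, b, q, hW, hU', hWfp, hhe, hhs, sqm⟩ := exists_model m
  -- the limit maps to the model
  obtain ⟨i₁, h₁, hh₁⟩ := LimHom.exists_hom_stage hD hDa hqc hqs hc W (e.inv ≫ (yon S).map b)
  obtain ⟨k₁, α, β, -⟩ := IsCofilteredOrEmpty.cone_objs i₀ i₁
  let w₁ := D.map β ≫ h₁
  have hw₁ : c.π.app k₁ ≫ w₁ = e.inv ≫ (yon S).map b := by rw [reassoc_of% (c.w β), hh₁]
  let F := LimSp.sys hDa g ⋙ Over.forget S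
  have : ∀ {x y : Over i₀} (φ : x ⟶ y), IsAffineHom (F.map φ) := fun φ => LimSp.isAffineHom_sys hDa g φ
  have hFaff : ∀ x, IsAffine (F.obj x) := fun x =>
    @isAffine_of_isAffineHom _ _ (LimSp.sysSnd hDa g x).left (LimSp.isAffineHom_sysSnd hDa g x) hZ
  have : ∀ x, CompactSpace (F.obj x) := fun x => have := hFaff x; inferInstance
  have : ∀ x, QuasiSeparatedSpace (F.obj x) := fun x => have := hFaff x; inferInstance
  let tF : F ⟶ (Functor.const (Over i₀)).obj S :=
    { app := fun x => ((LimSp.sys hDa g).obj x).hom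
      naturality := fun x y φ => by
        refine Eq.trans ?_ (Category.comp_id _).symm
        exact Over.w ((LimSp.sys hDa g).map φ) }
  have : LocallyOfFinitePresentation U'.hom := by
    rw [← Over.w h]
    infer_instance
  obtain ⟨k₂, αq, hαq, hαqw⟩ := Scheme.exists_π_app_comp_eq_of_locallyOfFinitePresentation F tF U'.hom
    ((Over.forget S).mapCone L) hL q.left (by
      ext x
      exact (Over.w (L.π.app x)).trans (Over.w q).symm)
  let αO : (LimSp.sys hDa g).obj k₂ ⟶ U' := Over.homMk αq hαqw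
  have hαO : L.π.app k₂ ≫ αO = q := Over.OverMorphism.ext hαq
  obtain ⟨k₃, u₁, u₂, -⟩ := IsCofilteredOrEmpty.cone_objs (Over.mk α) k₂
  obtain ⟨μ, hμ⟩ := (yon S).map_surjective ((LimSp.sysFst hDa g).app (Over.mk α) ≫ w₁)
  -- the two maps to the model agree at some stage
  let A₁ := (LimSp.sys hDa g).map u₂ ≫ αO ≫ h
  let A₂ := (LimSp.sys hDa g).map u₁ ≫ μ
  obtain ⟨K, φ, hK⟩ := Scheme.exists_hom_comp_eq_comp_of_locallyOfFiniteType F tF W.hom
    ((Over.forget S).mapCone L) hL (i := k₃) A₁.left A₂.left (Over.w A₁).symm (Over.w A₂).symm (by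
      have e1 : L.π.app k₃ ≫ A₁ = m ≫ b := by
        simp only [A₁, ← Category.assoc, L.w u₂, hαO]
        exact sqm.w
      have e2 : L.π.app k₃ ≫ A₂ = m ≫ b := by
        simp only [A₂, ← Category.assoc, L.w u₁]
        refine (yon S).map_injective ?_
        rw [Functor.map_comp, Functor.map_comp, hμ, hm, ← Category.assoc, Category.assoc lL, ← hw₁,
          ← Category.assoc lL]
        exact congrArg (fun f => f ≫ w₁) (hlL (Over.mk α)).symm
      exact congrArg CommaMorphism.left (e1.trans e2.symm))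
  have hK' : (LimSp.sys hDa g).map φ ≫ A₁ = (LimSp.sys hDa g).map φ ≫ A₂ := Over.OverMorphism.ext hK
  let αK := (LimSp.sys hDa g).map (φ ≫ u₂) ≫ αO
  let fK := (LimSp.sysFst hDa g).app K
  let wK : D.obj K.left ⟶ (yon S).obj W := D.map (φ ≫ u₁).left ≫ w₁
  have hwK : (yon S).map αK ≫ (yon S).map h = fK ≫ wK := by
    have hn : (yon S).map ((LimSp.sys hDa g).map (φ ≫ u₁)) ≫ (LimSp.sysFst hDa g).app (Over.mk α) =
        fK ≫ D.map (φ ≫ u₁).left := (LimSp.sysFst hDa g).naturality (φ ≫ u₁)
    have e1 : αK ≫ h = (LimSp.sys hDa g).map φ ≫ A₁ := by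
      simp only [αK, A₁, Functor.map_comp, Category.assoc]
    rw [← Functor.map_comp, e1, hK']
    simp only [A₂]
    rw [← Category.assoc, ← Functor.map_comp, Functor.map_comp, hμ, ← Category.assoc]
    exact (congrArg (fun f => f ≫ w₁) hn).trans (Category.assoc _ _ _)
  -- the comparison over the stage
  let P := pullback wK ((yon S).map h)
  let σ : (yon S).obj ((LimSp.sys hDa g).obj K) ⟶ P := pullback.lift fK ((yon S).map αK) hwK.symm
  have sqP := IsPullback.of_hasPullback wK ((yon S).map h)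
  have hhaff : IsAffineHom h.left := inferInstance
  have hbe : RepWith @Etale (pullback.fst wK ((yon S).map h)) :=
    MorphismProperty.of_isPullback sqP.flip ((repWith_yon_map_iff _ h).2 hhe)
  have hbs : RepWith @Surjective (pullback.fst wK ((yon S).map h)) :=
    MorphismProperty.of_isPullback sqP.flip ((repWith_yon_map_iff _ h).2 hhs)
  have hba : RepWith @IsAffineHom (pullback.fst wK ((yon S).map h)) :=
    MorphismProperty.of_isPullback sqP.flip ((repWith_yon_map_iff _ h).2 hhaff)
  have hPa : IsAlgSpace P :=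
    Groth.Agent.AlgSp.isAlgSpace_pullback (IsAlgSpace.yon_obj W) (hD K.left) (IsAlgSpace.yon_obj U') _ _
  have hPqc : IsQuasiCompactSp P := by
    have hq : RepWith @QuasiCompact (pullback.fst wK ((yon S).map h)) := ⟨hba.1, fun _ _ g fst snd sq =>
      haveI : IsAffineHom snd.left := hba.2 g fst snd sq
      (inferInstance : QuasiCompact snd.left)⟩
    exact Groth.Agent.AlgSp.isQuasiCompactMor_of_repWith (hD K.left) hq (hD K.left) (hqc K.left) (𝟙 _) (𝟙 P)
      (pullback.fst wK ((yon S).map h)) (IsPullback.of_horiz_isIso ⟨by rw [Category.id_comp, Category.comp_id]⟩)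
  have hPqs : IsQuasiSeparatedSp P := by
    refine isQuasiSeparatedSp_of_mor (pullback.fst wK ((yon S).map h)) ?_ (hqs K.left)
    have hd := LimMono.diagonal_of_isAffineMor hPa ((Groth.Agent.AlgSp.isAffineMor_iff _).2 hba)
    exact ⟨hd.1, fun _ _ g fst snd sq =>
      haveI : IsClosedImmersion snd.left := hd.2 g fst snd sq
      (inferInstance : QuasiCompact snd.left)⟩
  have sqK := (LimSp.repWith_map hDa K.hom).1.isPullback g
  have hfe : RepWith @Etale fK := MorphismProperty.of_isPullback sqK.flip hze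
  have : IsAffine ((LimSp.sys hDa g).obj K).left := hFaff K
  have hXqs : IsQuasiSeparatedSp ((yon S).obj ((LimSp.sys hDa g).obj K)) := by
    have hrepK := (hD K.left).representable_from_yon fK
    refine isQuasiSeparatedSp_of_mor fK ?_ (hqs K.left)
    exact (Groth.Agent.AlgSp.repWith_diagonal_iff_of_representable @QuasiCompact @QuasiSeparated
      (fun h => (quasiSeparated_iff h).symm) (IsAlgSpace.yon_obj _) hrepK).2 ⟨hrepK, fun T R g fst snd sq => by
        obtain ⟨tU, rfl⟩ := (yon S).map_surjective fst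
        have := Groth.Agent.AlgSpB.Art.isSeparated_snd sq
        exact (inferInstance : QuasiSeparated snd.left)⟩
  have hσ : LocP @LocallyOfFinitePresentation σ := by
    refine Groth.Agent.AlgSp.locP_lfp_of_comp (hD K.left) σ (pullback.fst wK ((yon S).map h)) ?_ ?_
    · rw [pullback.lift_fst]
      exact AlgSpCov.locP_of_repWith AlgSpCov.etaleLocal_locallyOfFinitePresentation ⟨hfe.1, fun _ _ g fst snd sq =>
        have : Etale snd.left := hfe.2 g fst snd sq
        (inferInstance : LocallyOfFinitePresentation snd.left)⟩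
    · exact AlgSpCov.locP_of_repWith AlgSpCov.etaleLocal_locallyOfFiniteType ⟨hbe.1, fun _ _ g fst snd sq =>
        have : Etale snd.left := hbe.2 g fst snd sq
        (inferInstance : LocallyOfFiniteType snd.left)⟩
  -- it is an isomorphism over the limit
  have sqKl := LimImm.isPullback_stage hDa hq hlL sq K
  have hsnd : ((yon S).map (L.π.app K) ≫ σ) ≫ pullback.snd wK ((yon S).map h) = (yon S).map q := by
    rw [Category.assoc, pullback.lift_snd, ← Functor.map_comp]
    simp only [αK, ← Category.assoc, L.w, hαO]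
  have hY : IsPullback ((yon S).map (L.π.app K) ≫ σ) lL (pullback.fst wK ((yon S).map h)) (c.π.app K.left) := by
    refine IsPullback.of_right (h₁₂ := pullback.snd wK ((yon S).map h)) (h₂₂ := wK) ?_
      (by rw [Category.assoc, pullback.lift_fst]; exact (hlL K).symm) sqP.flip
    rw [hsnd]
    have ec : c.π.app K.left ≫ wK = e.inv ≫ (yon S).map b := by
      simp only [wK]
      rw [reassoc_of% (c.w (φ ≫ u₁).left)]
      exact hw₁
    rw [ec]
    refine (sqm.map (yon S)).of_iso (Iso.refl _) (Iso.refl _) e (Iso.refl _) (by simp) ?_ (by simp) (by simp)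
    simp [hm]
  have hX : IsPullback ((yon S).map (L.π.app K)) (𝟙 _) σ ((yon S).map (L.π.app K) ≫ σ) := by
    refine IsPullback.of_bot ?_ (Category.id_comp _).symm hY
    rw [Category.id_comp, pullback.lift_fst]
    exact sqKl.flip
  obtain ⟨i, ψ, hiso⟩ := LimRebase.descend_isIso hD hDa hc (IsAlgSpace.yon_obj _) hPa σ
    (pullback.fst wK ((yon S).map h)) (Groth.Agent.AlgSp.isQuasiCompactSp_yon _) hXqs hPqc hPqs hY hX hσ
  -- descend affineness
  let Pi := pullback (pullback.fst wK ((yon S).map h)) (D.map ψ)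
  let Xi := pullback σ (pullback.fst (pullback.fst wK ((yon S).map h)) (D.map ψ))
  let σi : Xi ⟶ Pi := pullback.snd σ (pullback.fst (pullback.fst wK ((yon S).map h)) (D.map ψ))
  have : IsIso σi := hiso Xi Pi σi _ _ (IsPullback.of_hasPullback _ _) _ (IsPullback.of_hasPullback _ _)
  let K' : Over i₀ := Over.mk (ψ ≫ K.hom)
  have : IsAffine ((LimSp.sys hDa g).obj K').left := hFaff K'
  have hXi : IsPullback (pullback.fst σ (pullback.fst (pullback.fst wK ((yon S).map h)) (D.map ψ)))
      (σi ≫ pullback.snd _ _) fK (D.map ψ) := by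
    have := (IsPullback.of_hasPullback σ (pullback.fst (pullback.fst wK ((yon S).map h)) (D.map ψ))).paste_vert
      (IsPullback.of_hasPullback (pullback.fst wK ((yon S).map h)) (D.map ψ))
    rwa [pullback.lift_fst] at this
  have hK2 : IsPullback ((yon S).map ((LimSp.sys hDa g).map (Over.homMk ψ : K' ⟶ K)))
      ((LimSp.sysFst hDa g).app K') fK (D.map ψ) := by
    refine IsPullback.of_right (h₁₂ := (yon S).map (LimSp.sysSnd hDa g K)) (h₂₂ := D.map K.hom) ?_
      ((LimSp.sysFst hDa g).naturality (Over.homMk ψ : K' ⟶ K)) sqK.flip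
    rw [← Functor.map_comp, LimSp.map_sysSnd]
    exact (D.map_comp ψ K.hom) ▸ ((LimSp.repWith_map hDa K'.hom).1.isPullback g).flip
  let ePi : Pi ≅ (yon S).obj ((LimSp.sys hDa g).obj K') := (asIso σi).symm ≪≫ hXi.isoIsPullback _ _ hK2
  -- the stage is affine over the model
  let wi : D.obj i ⟶ (yon S).obj W := D.map ψ ≫ wK
  obtain ⟨l, hl⟩ := (yon S).map_surjective
    (ePi.inv ≫ pullback.fst (pullback.fst wK ((yon S).map h)) (D.map ψ) ≫ pullback.snd wK ((yon S).map h))
  have sqi : IsPullback (ePi.inv ≫ pullback.snd (pullback.fst wK ((yon S).map h)) (D.map ψ)) ((yon S).map l) wi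
      ((yon S).map h) := by
    refine (((IsPullback.of_hasPullback (pullback.fst wK ((yon S).map h)) (D.map ψ)).paste_horiz sqP.flip)).flip
      |>.of_iso ePi (Iso.refl _) (Iso.refl _) (Iso.refl _) (by simp) ?_ (by simp [wi]) (by simp)
    simp [hl]
  have hla : RepWith @IsAffineHom ((yon S).map l) := (repWith_yon_map_iff _ l).2 inferInstance
  have hwa : RepWith @IsAffineHom wi := @Groth.Agent.AlgSp.repWith_isAffineHom_of_baseChange _ _ _ _ _ wi
    ((yon S).map h) (Groth.Agent.AlgSp.isLocallySurjective_of_etale_surjective _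
      ((repWith_yon_map_iff _ h).2 hhe) ((repWith_yon_map_iff _ h).2 hhs)) _ _ sqi hla
  obtain ⟨T', fst', snd', sqT⟩ : ∃ (T' : Over S) (f : (yon S).obj T' ⟶ D.obj i) (s : T' ⟶ W),
      IsPullback f ((yon S).map s) wi (𝟙 _) :=
    ⟨_, hwa.1.fst (𝟙 _), hwa.1.snd (𝟙 _), hwa.1.isPullback (𝟙 _)⟩
  have : IsAffineHom snd'.left := hwa.2 _ _ _ sqT
  have : IsIso fst' := sqT.isIso_fst_of_isIso
  exact ⟨i, T', isAffine_of_isAffineHom snd'.left, ⟨asIso fst'⟩⟩

end Groth.Agent.AlgSp.LimAffine
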