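import Groth.Agent.AlgSp.LimAffineMor

/-!
# Affine morphisms descend through limits of algebraic spaces
-/

universe u

open CategoryTheory CategoryTheory.Limits AlgebraicGeometry Opposite

set_option backward.isDefEq.respectTransparency.types false
set_option backward.isDefEq.respectTransparency false
set_option autoImplicit false

attribute [local instance] CategoryTheory.isConnected_of_hasTerminal

namespace Groth.Agent.AlgSp.LimAffineDesc

open _root_.AlgSp LimSep LimAffineMor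

variable {S : Scheme.{u}} [QuasiSeparatedSpace S] {I : Type u} [SmallCategory I] [IsCofiltered I] {D : I ⥤ Sp S}

/-- Affine morphisms descend through limits. -/
theorem descend_affine (hD : ∀ i, IsAlgSpace (D.obj i)) (hDa : ∀ (i j : I) (φ : i ⟶ j), IsAffineMor (D.map φ))
    (c : Cone D) (hc : IsLimit c) (i₀ : I) (hBqc : IsQuasiCompactSp (D.obj i₀))
    (hBqs : IsQuasiSeparatedSp (D.obj i₀)) {X₀ Y₀ : Sp S} (hX₀ : IsAlgSpace X₀) (hY₀ : IsAlgSpace Y₀)
    (f₀ : X₀ ⟶ Y₀) (b₀ : Y₀ ⟶ D.obj i₀) (hXqc : IsQuasiCompactSp X₀) (hXqs : IsQuasiSeparatedSp X₀)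
    (hYqc : IsQuasiCompactSp Y₀) (hYqs : IsQuasiSeparatedSp Y₀) {X Y : Sp S} {f : X ⟶ Y} {pY : Y ⟶ Y₀}
    {qY : Y ⟶ c.pt} (hY : IsPullback pY qY b₀ (c.π.app i₀)) {pX : X ⟶ X₀} (hX : IsPullback pX f f₀ pY)
    (hf : IsAffineMor f) :
    ∃ (i : I) (φ : i ⟶ i₀), ∀ (Xi Yi : Sp S) (fi : Xi ⟶ Yi) (pYi : Yi ⟶ Y₀) (qYi : Yi ⟶ D.obj i)
      (_ : IsPullback pYi qYi b₀ (D.map φ)) (pXi : Xi ⟶ X₀) (_ : IsPullback pXi fi f₀ pYi), IsAffineMor fi := by
  obtain ⟨U, p, hp, hps, hU⟩ := hYqc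
  have := Groth.Agent.AlgSpB.compactSpace_points_of_isQuasiCompactSp ⟨U, p, hp, hps, hU⟩
  obtain ⟨Z, e, hZ, hze, hzs⟩ := Groth.Agent.AlgSpB.exists_affine_chart_of_compactSpace hp hps
  let a := (yon S).map e ≫ p
  let z := pullback.fst f₀ a ≫ f₀ ≫ b₀
  -- the chart over the limit
  have hpY : RepWith @IsAffineHom pY :=
    MorphismProperty.of_isPullback hY.flip ((Groth.Agent.AlgSp.isAffineMor_iff _).1 (LimSp.isAffineMor_π hDa c hc i₀))
  have sqT := hpY.1.isPullback a
  have : IsAffineHom (hpY.1.snd a).left := hpY.2 _ _ _ sqT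
  have hTL : IsAffine (hpY.1.pullback a).left := isAffine_of_isAffineHom (hpY.1.snd a).left
  obtain ⟨W, mW, fstW, sqW, hW⟩ := hf hTL (hpY.1.fst a)
  obtain ⟨l, q, sqz⟩ := exists_bc_square hY hX sqT sqW
  -- the system over the initial stage
  let D' : Over i₀ ⥤ Sp S := Over.forget i₀ ⋙ D
  have hBqc' : ∀ j : Over i₀, IsQuasiCompactSp (D'.obj j) := fun j => by
    have ha := LimSp.repWith_map hDa j.hom
    have hq : RepWith @QuasiCompact (D.map j.hom) := ⟨ha.1, fun _ _ g fst snd sq =>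
      haveI : IsAffineHom snd.left := ha.2 g fst snd sq
      (inferInstance : QuasiCompact snd.left)⟩
    exact Groth.Agent.AlgSp.isQuasiCompactMor_of_repWith (hD i₀) hq (hD i₀) hBqc (𝟙 _) (𝟙 _)
      (D.map j.hom) (IsPullback.of_horiz_isIso ⟨by rw [Category.id_comp, Category.comp_id]⟩)
  have hBqs' : ∀ j : Over i₀, IsQuasiSeparatedSp (D'.obj j) := fun j => by
    refine LimAffine.isQuasiSeparatedSp_of_mor (D.map j.hom) ?_ hBqs
    have hd := LimMono.diagonal_of_isAffineMor (hD j.left) (hDa _ _ j.hom)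
    exact ⟨hd.1, fun _ _ g fst snd sq =>
      haveI : IsClosedImmersion snd.left := hd.2 g fst snd sq
      (inferInstance : QuasiCompact snd.left)⟩
  let t : D' ⟶ (Functor.const (Over i₀)).obj (D.obj i₀) :=
    { app := fun j => D.map j.hom
      naturality := fun j k φ => by
        refine Eq.trans ?_ (Category.comp_id _).symm
        exact (D.map_comp _ _).symm.trans (congrArg D.map (Over.w φ)) }
  have hc' : IsLimit (c.whisker (Over.forget i₀)) := (Functor.Initial.isLimitWhiskerEquiv _ c).symm hc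
  have hPa : IsAlgSpace (pullback f₀ a) := Groth.Agent.AlgSp.isAlgSpace_pullback hY₀ hX₀ (IsAlgSpace.yon_obj Z) _ _
  have hPqc : IsQuasiCompactSp (pullback f₀ a) :=
    Groth.Agent.AlgSp.isQuasiCompactMor_of_quasiCompactSp hX₀ hY₀ f₀ hXqc hYqs (IsAlgSpace.yon_obj Z)
      (Groth.Agent.AlgSp.isQuasiCompactSp_yon Z) a _ _ (IsPullback.of_hasPullback f₀ a)
  have hPqs : IsQuasiSeparatedSp (pullback f₀ a) :=
    LimAffine.isQuasiSeparatedSp_of_mor (pullback.fst f₀ a)
      (MorphismProperty.of_isPullback (P := (RepWith @QuasiCompact : MorphismProperty (Sp S)).diagonal)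
        (IsPullback.of_hasPullback f₀ a).flip (LimRep.quasiCompact_diagonal a (isQuasiSeparatedSp_yon Z)))
      hXqs
  obtain ⟨j, T', hT', ⟨ε⟩⟩ := exists_affine_bc t z (fun j => hD j.left) (fun _ _ φ => hDa _ _ φ.left) hc'
    (g := c.π.app i₀) (fun j => c.w j.hom) (hD i₀) hBqs hBqc' hBqs' hPa hPqc hPqs W (q := q) (p := l) sqz
  refine ⟨j.left, j.hom, fun Xi Yi fi pYi qYi hYi pXi hXi => (Groth.Agent.AlgSp.isAffineMor_iff _).2 ?_⟩
  have hpi : RepWith @IsAffineHom pYi := MorphismProperty.of_isPullback hYi.flip (LimSp.repWith_map hDa j.hom)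
  have sqTi := hpi.1.isPullback a
  have : IsAffineHom (hpi.1.snd a).left := hpi.2 _ _ _ sqTi
  have hTi : IsAffine (hpi.1.pullback a).left := isAffine_of_isAffineHom (hpi.1.snd a).left
  let r := hpi.1.fst a
  obtain ⟨li, qi, sqzi⟩ := exists_bc_square hYi hXi sqTi (IsPullback.of_hasPullback fi r)
  let ι : (yon S).obj T' ≅ pullback fi r :=
    ε ≪≫ ((IsPullback.of_hasPullback (tY t j) z).isoIsPullback _ _ sqzi)
  obtain ⟨m, hm⟩ := (yon S).map_surjective (ι.hom ≫ pullback.snd fi r)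
  have sq' : IsPullback (ι.hom ≫ pullback.fst fi r) ((yon S).map m) fi r := by
    refine (IsPullback.of_hasPullback fi r).of_iso ι.symm (Iso.refl _) (Iso.refl _) (Iso.refl _)
      (by simp) ?_ (by simp) (by simp)
    simp [hm]
  exact @Groth.Agent.AlgSp.repWith_isAffineHom_of_baseChange _ _ _ _ _ fi r
    (Groth.Agent.AlgSp.isLocallySurjective_of_etale_surjective r (MorphismProperty.of_isPullback sqTi.flip hze)
      (MorphismProperty.of_isPullback sqTi.flip hzs)) _ _ sq' ((repWith_yon_map_iff _ m).2 inferInstance)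

end Groth.Agent.AlgSp.LimAffineDesc
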