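import Groth.Agent.AlgSp.LimAffine
import Groth.Agent.AlgSp.LimSepAbs

/-!
# Affine morphisms descend through limits of algebraic spaces
-/

universe u

open CategoryTheory CategoryTheory.Limits AlgebraicGeometry Opposite

set_option backward.isDefEq.respectTransparency.types false
set_option backward.isDefEq.respectTransparency false
set_option autoImplicit false

attribute [local instance] CategoryTheory.isConnected_of_hasTerminal

namespace Groth.Agent.AlgSp.LimAffineMor

open _root_.AlgSp LimSep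

variable {S : Scheme.{u}} {I : Type u} [SmallCategory I] [IsCofiltered I] {Y P : Sp S} {D : I ⥤ Sp S}
  (t : D ⟶ (Functor.const I).obj Y) (z : P ⟶ Y)

/-- The maps of base changes. -/
noncomputable def bcMap {i j : I} (a : i ⟶ j) : pullback (tY t i) z ⟶ pullback (tY t j) z :=
  pullback.map (tY t i) z (tY t j) z (D.map a) (𝟙 _) (𝟙 _) ((Category.comp_id _).trans (map_tY t a).symm)
    (by rw [Category.comp_id, Category.id_comp])

@[reassoc (attr := simp)]
theorem bcMap_fst {i j : I} (a : i ⟶ j) :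
    bcMap t z a ≫ pullback.fst (tY t j) z = pullback.fst _ _ ≫ D.map a := pullback.lift_fst _ _ _

@[reassoc (attr := simp)]
theorem bcMap_snd {i j : I} (a : i ⟶ j) : bcMap t z a ≫ pullback.snd (tY t j) z = pullback.snd _ _ :=
  (pullback.lift_snd _ _ _).trans (Category.comp_id _)

/-- The base change of a system over a base. -/
noncomputable def bcSys : I ⥤ Sp S where
  obj i := pullback (tY t i) z
  map a := bcMap t z a
  map_id i := by
    apply pullback.hom_ext
    · exact (bcMap_fst t z (𝟙 i)).trans (by simp)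
    · exact (bcMap_snd t z (𝟙 i)).trans (by simp)
  map_comp {i j k} a b := by
    apply pullback.hom_ext
    · exact (bcMap_fst t z (a ≫ b)).trans (by simp)
    · exact (bcMap_snd t z (a ≫ b)).trans (by simp)

theorem isPullback_bcMap {i j : I} (a : i ⟶ j) :
    IsPullback (bcMap t z a) (pullback.fst (tY t i) z) (pullback.fst (tY t j) z) (D.map a) := by
  refine IsPullback.of_right ?_ (bcMap_fst t z a) (IsPullback.of_hasPullback (tY t j) z).flip
  rw [bcMap_snd, map_tY]
  exact (IsPullback.of_hasPullback (tY t i) z).flip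

theorem isAffineMor_bcSys (hDa : ∀ (i j : I) (φ : i ⟶ j), IsAffineMor (D.map φ)) (i j : I) (a : i ⟶ j) :
    IsAffineMor ((bcSys t z).map a) :=
  (Groth.Agent.AlgSp.isAffineMor_iff _).2
    (MorphismProperty.of_isPullback (isPullback_bcMap t z a).flip (LimSp.repWith_map hDa a))

/-- The base change of the limit is the limit of the base changes. -/
theorem exists_limit {c : Cone D} (hc : IsLimit c) {g : c.pt ⟶ Y} (hg : ∀ i, c.π.app i ≫ tY t i = g)
    {Q : Sp S} {q : Q ⟶ c.pt} {p : Q ⟶ P} (sq : IsPullback q p g z) :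
    ∃ C : Cone (bcSys t z), Nonempty (IsLimit C) ∧ C.pt = Q := by
  let π : ∀ i, Q ⟶ pullback (tY t i) z := fun i =>
    pullback.lift (q ≫ c.π.app i) p (by rw [Category.assoc, hg, sq.w])
  let C : Cone (bcSys t z) :=
    { pt := Q
      π :=
        { app := π
          naturality := fun i j a => by
            refine (Category.id_comp _).trans ?_
            change _ = _ ≫ bcMap t z a
            apply pullback.hom_ext <;> simp [π] } }
  let p1 : bcSys t z ⟶ D :=
    { app := fun i => pullback.fst (tY t i) z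
      naturality := fun i j a => bcMap_fst t z a }
  obtain ⟨i₀⟩ := IsCofiltered.nonempty (C := I)
  have hw : ∀ s : Cone (bcSys t z),
      hc.lift ((Cone.postcompose p1).obj s) ≫ g = (s.π.app i₀ ≫ pullback.snd (tY t i₀) z) ≫ z := fun s => by
    rw [← hg i₀, hc.fac_assoc]
    simp only [Cone.postcompose_obj_π, NatTrans.comp_app, Category.assoc, p1]
    exact congrArg (fun k => s.π.app i₀ ≫ k) pullback.condition
  have hconst : ∀ (s : Cone (bcSys t z)) (j : I),
      s.π.app j ≫ pullback.snd (tY t j) z = s.π.app i₀ ≫ pullback.snd (tY t i₀) z := fun s j => by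
    obtain ⟨k, a, b, -⟩ := IsCofilteredOrEmpty.cone_objs j i₀
    rw [← s.w a, ← s.w b]
    change (s.π.app k ≫ bcMap t z a) ≫ _ = (s.π.app k ≫ bcMap t z b) ≫ _
    simp
  refine ⟨C, ⟨IsLimit.mk (fun s => sq.lift _ _ (hw s)) (fun s j => ?_) (fun s m hm => ?_)⟩, rfl⟩
  · apply pullback.hom_ext
    · simp only [C, π, Category.assoc, pullback.lift_fst, IsPullback.lift_fst_assoc]
      exact hc.fac _ j
    · simp only [C, π, Category.assoc, pullback.lift_snd, IsPullback.lift_snd]
      exact (hconst s j).symm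
  · apply sq.hom_ext
    · rw [IsPullback.lift_fst]
      refine hc.hom_ext fun j => ?_
      rw [hc.fac, Category.assoc]
      simp only [Cone.postcompose_obj_π, NatTrans.comp_app, p1]
      rw [← hm j]
      simp [C, π]
    · rw [IsPullback.lift_snd, ← hm i₀]
      simp [C, π]

variable [QuasiSeparatedSpace S] (hD : ∀ i, IsAlgSpace (D.obj i))
  (hDa : ∀ (i j : I) (φ : i ⟶ j), IsAffineMor (D.map φ)) {c : Cone D} (hc : IsLimit c) {g : c.pt ⟶ Y}
  (hg : ∀ i, c.π.app i ≫ tY t i = g) (hY : IsAlgSpace Y) (hYqs : IsQuasiSeparatedSp Y)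

include hD hDa hc hg hY hYqs in
/-- If the base change of the limit is an affine scheme then so is that of some stage. -/
theorem exists_affine_bc (hqc : ∀ i, IsQuasiCompactSp (D.obj i)) (hqs : ∀ i, IsQuasiSeparatedSp (D.obj i))
    (hP : IsAlgSpace P) (hPqc : IsQuasiCompactSp P) (hPqs : IsQuasiSeparatedSp P)
    (T : Over S) [IsAffine T.left] {q : (yon S).obj T ⟶ c.pt} {p : (yon S).obj T ⟶ P}
    (sq : IsPullback q p g z) :
    ∃ (i : I) (T' : Over S), IsAffine T'.left ∧ Nonempty ((yon S).obj T' ≅ pullback (tY t i) z) := by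
  obtain ⟨C, ⟨hC⟩, hpt⟩ := exists_limit t z hc hg sq
  refine LimAffine.exists_affine_stage (D := bcSys t z)
    (fun i => Groth.Agent.AlgSp.isAlgSpace_pullback hY (hD i) hP _ _) (isAffineMor_bcSys t z hDa) (fun i => ?_)
    (fun i => ?_) hC T (eqToIso hpt.symm)
  · exact Groth.Agent.AlgSp.isQuasiCompactMor_of_quasiCompactSp (hD i) hY (tY t i) (hqc i) hYqs hP hPqc z _ _
      (IsPullback.of_hasPullback (tY t i) z)
  · exact LimAffine.isQuasiSeparatedSp_of_mor (pullback.fst (tY t i) z)
      (MorphismProperty.of_isPullback (P := (RepWith @QuasiCompact : MorphismProperty (Sp S)).diagonal)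
        (IsPullback.of_hasPullback (tY t i) z).flip (LimRep.quasiCompact_diagonal z hPqs))
      (hqs i)

omit [IsCofiltered I] in
/-- A scheme with quasi-separated underlying space is a quasi-separated space. -/
theorem isQuasiSeparatedSp_yon (Z : Over S) [QuasiSeparatedSpace Z.left] : IsQuasiSeparatedSp ((yon S).obj Z) := by
  let hT := LimSepAbs.isTerminalBase (S := S)
  refine (LimSepAbs.diag_prop_iff @QuasiCompact _ hT (hT.from _)).1 ?_
  obtain ⟨m, hm⟩ := (yon S).map_surjective (hT.from ((yon S).obj Z))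
  rw [← hm]
  have hq : RepWith @QuasiSeparated ((yon S).map m) := (repWith_yon_map_iff _ m).2 (by
    have : QuasiSeparated (m.left ≫ (Over.mk (𝟙 S)).hom) := by rw [Over.w]; infer_instance
    exact QuasiSeparated.of_comp m.left (Over.mk (𝟙 S)).hom)
  exact (Groth.Agent.AlgSp.repWith_diagonal_iff_of_representable @QuasiCompact @QuasiSeparated
      (fun h => (quasiSeparated_iff h).symm) (IsAlgSpace.yon_obj _) hq.1).2 hq

include hD hDa hc hg hY hYqs in
/-- If the limit is affine over the base then so are the small stages. -/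
theorem eventually_affine (hqc : ∀ i, IsQuasiCompactSp (D.obj i)) (hqs : ∀ i, IsQuasiSeparatedSp (D.obj i))
    (hYqc : IsQuasiCompactSp Y) (hX : IsAffineMor g) :
    ∃ i₀ : I, ∀ (i : I) (_ : i ⟶ i₀), IsAffineMor (t.app i) := by
  obtain ⟨U, p, hp, hps, hU⟩ := hYqc
  have := Groth.Agent.AlgSpB.compactSpace_points_of_isQuasiCompactSp ⟨U, p, hp, hps, hU⟩
  obtain ⟨Z, e, hZ, hze, hzs⟩ := Groth.Agent.AlgSpB.exists_affine_chart_of_compactSpace hp hps
  let a := (yon S).map e ≫ p
  obtain ⟨T, m, fst, sqT, hT⟩ := hX hZ a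
  obtain ⟨i, T', hT', ⟨ε⟩⟩ := exists_affine_bc t a hD hDa hc hg hY hYqs hqc hqs (IsAlgSpace.yon_obj Z)
    (Groth.Agent.AlgSp.isQuasiCompactSp_yon Z) (isQuasiSeparatedSp_yon Z) T sqT
  obtain ⟨l, hl⟩ := (yon S).map_surjective (ε.hom ≫ pullback.snd (tY t i) a)
  have sq' : IsPullback (ε.hom ≫ pullback.fst (tY t i) a) ((yon S).map l) (tY t i) a := by
    refine (IsPullback.of_hasPullback (tY t i) a).of_iso ε.symm (Iso.refl _) (Iso.refl _) (Iso.refl _)
      (by simp) ?_ (by simp) (by simp)
    simp [hl]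
  have hti : RepWith @IsAffineHom (tY t i) := @Groth.Agent.AlgSp.repWith_isAffineHom_of_baseChange _ _ _ _ _
    (tY t i) a (Groth.Agent.AlgSp.isLocallySurjective_of_etale_surjective a hze hzs) _ _ sq'
    ((repWith_yon_map_iff _ l).2 inferInstance)
  refine ⟨i, fun k α => (Groth.Agent.AlgSp.isAffineMor_iff _).2 ?_⟩
  change RepWith @IsAffineHom (tY t k)
  rw [← map_tY t α]
  exact AlgSpCov.repWith_comp (LimSp.repWith_map hDa α) hti

omit [IsCofiltered I] in
/-- The square computing the base change of a base change to a chart. -/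
theorem exists_bc_square {C : Type*} [Category C] [HasPullbacks C] {X₀ Y₀ B₀ B X Y Z T W : C} {f₀ : X₀ ⟶ Y₀}
    {b₀ : Y₀ ⟶ B₀} {β : B ⟶ B₀} {f : X ⟶ Y} {pY : Y ⟶ Y₀} {qY : Y ⟶ B} {pX : X ⟶ X₀} {a : Z ⟶ Y₀}
    {r : T ⟶ Y} {qT : T ⟶ Z} {fstW : W ⟶ X} {mW : W ⟶ T} (hY : IsPullback pY qY b₀ β)
    (hX : IsPullback pX f f₀ pY) (sqT : IsPullback r qT pY a) (sqW : IsPullback fstW mW f r) :
    ∃ (l : W ⟶ pullback f₀ a) (q : W ⟶ B), IsPullback q l β (pullback.fst f₀ a ≫ f₀ ≫ b₀) := by
  have h1 : IsPullback fstW (mW ≫ qT) (pX ≫ f₀) a := by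
    rw [hX.w]
    exact sqW.paste_vert sqT
  let l := pullback.lift (f := f₀) (g := a) (fstW ≫ pX) (mW ≫ qT) (by rw [Category.assoc]; exact h1.w)
  have h2 : IsPullback l fstW (pullback.fst f₀ a) pX := by
    refine IsPullback.of_right ?_ (pullback.lift_fst _ _ _) (IsPullback.of_hasPullback f₀ a).flip
    rw [pullback.lift_snd]
    exact h1.flip
  exact ⟨l, fstW ≫ f ≫ qY, (h2.paste_vert (hX.paste_vert hY)).flip⟩

end Groth.Agent.AlgSp.LimAffineMor
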