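import Groth.Agent.AlgSp.LimSp
import Groth.Agent.AlgSp.LocPFin
import Groth.Agent.AlgSpCov.Listed
import Groth.Agent.AlgSpB.Charts
import Groth.Agent.LimLib.ClosedApprox
import Groth.Agent.AlgSpB.RedInduced

/-!
# Systems with closed immersions as transition maps
-/

universe u

open CategoryTheory CategoryTheory.Limits AlgebraicGeometry Opposite

set_option backward.isDefEq.respectTransparency.types false
set_option autoImplicit false

attribute [local instance] CategoryTheory.isConnected_of_hasTerminal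

namespace Groth.Agent.AlgSp.LimClosed

/-- A limit of closed subschemes of an affine scheme which is of finite presentation is reached at a stage. -/
theorem exists_isIso_π {J : Type u} [SmallCategory J] [IsCofiltered J] {F : J ⥤ Scheme.{u}} {L : Cone F}
    (hL : IsLimit L) (j₀ : J) [IsAffine (F.obj j₀)] (hc : ∀ {j k : J} (a : j ⟶ k), IsClosedImmersion (F.map a))
    (hfp : LocallyOfFinitePresentation (L.π.app j₀)) :
    ∃ (j : J) (a : j ⟶ j₀), ∀ (i : J) (_ : i ⟶ j), IsIso (L.π.app i) := by
  have : ∀ {j k : J} (a : j ⟶ k), IsAffineHom (F.map a) := fun a => by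
    have := hc a; infer_instance
  have haff : ∀ j (_ : j ⟶ j₀), IsAffine (F.obj j) := fun j a => isAffine_of_isAffineHom (F.map a)
  have hπaff : IsAffineHom (L.π.app j₀) := isAffineHom_π_app F L hL j₀
  have : IsAffine L.pt := isAffine_of_isAffineHom (L.π.app j₀)
  -- every function on the limit comes from the first stage
  have hsurj : Function.Surjective (L.π.app j₀).appTop := fun s => by
    obtain ⟨j, a, s', hs'⟩ : ∃ (j : J) (a : j ⟶ j₀) (s' : Γ(F.obj j, ⊤)), (L.π.app j).appTop s' = s := by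
      have : ∀ j, CompactSpace ((Over.forget j₀ ⋙ F).obj j) := fun j => by
        have := haff j.left j.hom
        change CompactSpace (F.obj j.left)
        infer_instance
      have : ∀ j, QuasiSeparatedSpace ((Over.forget j₀ ⋙ F).obj j) := fun j => by
        have := haff j.left j.hom
        change QuasiSeparatedSpace (F.obj j.left)
        infer_instance
      have : ∀ {i k : Over j₀} (f : i ⟶ k), IsAffineHom ((Over.forget j₀ ⋙ F).map f) := fun f =>
        inferInstanceAs (IsAffineHom (F.map f.left))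
      obtain ⟨j, s', hs'⟩ := exists_appTop_π_eq_of_isLimit (Over.forget j₀ ⋙ F) _
        ((Functor.Initial.isLimitWhiskerEquiv (Over.forget j₀) L).symm hL) s
      exact ⟨j.left, j.hom, s', hs'.symm⟩
    have := hc a
    have := this
    obtain ⟨s₀, rfl⟩ := (F.map a).app_surjective ⊤ (isAffineOpen_top _) s'
    refine ⟨s₀, ?_⟩
    rw [← L.w a, Scheme.Hom.comp_appTop, CategoryTheory.comp_apply]
    exact hs'
  have : IsClosedImmersion (L.π.app j₀) :=
    @IsClosedImmersion.of_surjective_of_isAffine L.pt (F.obj j₀) _ _ (L.π.app j₀) hsurj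
  -- the generators of the kernel die at a stage
  have hfg : (RingHom.ker (L.π.app j₀).appTop.hom).FG := by
    have h := Groth.Agent.LimLib.fg_ker_ideal (L.π.app j₀) ⟨⊤, isAffineOpen_top _⟩
    rw [Scheme.Hom.ker_apply] at h
    exact h
  obtain ⟨s, hs⟩ := hfg
  have hex : ∀ x ∈ s, ∃ (j : J) (a : j ⟶ j₀), (F.map a).appTop x = 0 := fun x hx =>
    exists_appTop_map_eq_zero_of_isLimit F L hL x
      (RingHom.mem_ker.1 (hs.le (Ideal.subset_span hx)))
  classical
  have hcom : ∃ (j : J) (a : j ⟶ j₀), ∀ x ∈ s, (F.map a).appTop x = 0 := by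
    clear hs
    induction s using Finset.induction with
    | empty => exact ⟨j₀, 𝟙 _, by simp⟩
    | insert x t _ ih =>
      obtain ⟨j₁, a₁, h₁⟩ := ih fun y hy => hex y (Finset.mem_insert_of_mem hy)
      obtain ⟨j₂, a₂, h₂⟩ := hex x (Finset.mem_insert_self x t)
      obtain ⟨j, b₁, b₂, hb⟩ := IsCofiltered.cospan a₁ a₂
      refine ⟨j, b₁ ≫ a₁, fun y hy => ?_⟩
      rcases Finset.mem_insert.1 hy with rfl | hy
      · rw [hb, F.map_comp, Scheme.Hom.comp_appTop, CategoryTheory.comp_apply, h₂, map_zero]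
      · rw [F.map_comp, Scheme.Hom.comp_appTop, CategoryTheory.comp_apply, h₁ y hy, map_zero]
  obtain ⟨j, a, hja⟩ := hcom
  refine ⟨j, a, fun i b => ?_⟩
  have : IsAffine (F.obj i) := haff i (b ≫ a)
  have hw : (L.π.app j₀).appTop = (F.map (b ≫ a)).appTop ≫ (L.π.app i).appTop := by
    rw [← Scheme.Hom.comp_appTop, L.w]
  have hsi : Function.Surjective (L.π.app i).appTop := fun s => by
    obtain ⟨s₀, hs₀⟩ := hsurj s
    refine ⟨(F.map (b ≫ a)).appTop s₀, ?_⟩
    rw [← CategoryTheory.comp_apply, ← hw, hs₀]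
  have hinj : Function.Injective (L.π.app i).appTop.hom := by
    rw [injective_iff_map_eq_zero]
    intro x hx
    have := hc (b ≫ a)
    obtain ⟨x₀, rfl⟩ := (F.map (b ≫ a)).app_surjective ⊤ (isAffineOpen_top _) x
    have h0 : x₀ ∈ RingHom.ker (L.π.app j₀).appTop.hom := by
      rw [RingHom.mem_ker, hw]
      exact hx
    refine RingHom.mem_ker.1 ((hs.ge.trans (Ideal.span_le.2 fun y hy => ?_)) h0)
    change y ∈ RingHom.ker (F.map (b ≫ a)).appTop.hom
    rw [RingHom.mem_ker, F.map_comp, Scheme.Hom.comp_appTop]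
    exact (congrArg (F.map b).appTop (hja y hy)).trans (map_zero _)
  have : IsIso (L.π.app i).appTop := (ConcreteCategory.isIso_iff_bijective _).2 ⟨hinj, hsi⟩
  have : IsIso (Spec.map (L.π.app i).appTop) := inferInstance
  exact ((MorphismProperty.isomorphisms Scheme).arrow_mk_iso_iff (@arrowIsoSpecΓOfIsAffine L.pt (F.obj i) _ _ (L.π.app i))).2 this

open _root_.AlgSp

variable {S : Scheme.{u}} {I : Type u} [SmallCategory I] [IsCofiltered I] {D : I ⥤ Sp S}

/-- A system with closed immersions as transition maps and a limit of finite presentation is eventually constant. -/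
theorem eventually_isIso (B : Sp S) (hB : IsAlgSpace B) (t : D ⟶ (Functor.const I).obj B)
    (hD : ∀ i, IsAlgSpace (D.obj i)) (hDc : ∀ (i j : I) (φ : i ⟶ j), RepWith @IsClosedImmersion (D.map φ))
    (c : Cone D) (hc : IsLimit c) (i₁ : I) (hqc : IsQuasiCompactSp (D.obj i₁))
    (hft : LocP @LocallyOfFiniteType (t.app i₁))
    (hX : LocP @LocallyOfFinitePresentation (c.π.app i₁ ≫ t.app i₁)) :
    ∃ i₀ : I, ∀ (i : I) (_ : i ⟶ i₀), IsIso (c.π.app i) := by
  have hDa : ∀ (i j : I) (φ : i ⟶ j), IsAffineMor (D.map φ) := fun i j φ =>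
    (Groth.Agent.AlgSp.isAffineMor_iff _).2 ⟨(hDc i j φ).1, fun _ _ g fst snd sq =>
      haveI : IsClosedImmersion snd.left := (hDc i j φ).2 g fst snd sq
      (inferInstance : IsAffineHom snd.left)⟩
  have hπ : RepWith @LocallyOfFinitePresentation (c.π.app i₁) :=
    AlgSpCov.repWith_of_locP AlgSpCov.etaleLocal_locallyOfFinitePresentation (LimSp.isAlgSpace_pt hDa hD c hc)
      (hD i₁) ((Groth.Agent.AlgSp.isAffineMor_iff _).1 (LimSp.isAffineMor_π hDa c hc i₁)).1
      (locP_lfp_of_comp hB (c.π.app i₁) (t.app i₁) hX hft)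
  obtain ⟨U, p, hp, hps, hU⟩ := hqc
  have := Groth.Agent.AlgSpB.compactSpace_points_of_isQuasiCompactSp ⟨U, p, hp, hps, hU⟩
  obtain ⟨Z, e, hZ, hge, hgs⟩ := Groth.Agent.AlgSpB.exists_affine_chart_of_compactSpace hp hps
  let g := (yon S).map e ≫ p
  obtain ⟨L, l, q, ⟨hL⟩, -, hq, hl, sq⟩ := LimSp.exists_isPullback hDa g c hc
  let F := LimSp.sys hDa g ⋙ Over.forget S
  have hFc : ∀ {j k : Over i₁} (a : j ⟶ k), IsClosedImmersion (F.map a) := fun {j k} a => by
    have h1 : IsClosedImmersion (LimSp.sysSnd hDa g k).left :=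
      (hDc _ _ k.hom).2 _ _ _ ((LimSp.repWith_map hDa k.hom).1.isPullback g)
    have h2 : IsClosedImmersion (((LimSp.sys hDa g).map a).left ≫ (LimSp.sysSnd hDa g k).left) := by
      rw [← Over.comp_left, LimSp.map_sysSnd]
      exact (hDc _ _ j.hom).2 _ _ _ ((LimSp.repWith_map hDa j.hom).1.isPullback g)
    exact @IsClosedImmersion.of_comp _ _ _ ((LimSp.sys hDa g).map a).left (LimSp.sysSnd hDa g k).left h2 inferInstance
  let top : Over i₁ := Over.mk (𝟙 i₁)
  have hkey : IsIso (LimSp.sysSnd hDa g top).left := by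
    have h0 : D.map top.hom = 𝟙 _ := D.map_id i₁
    have : IsIso (D.map top.hom) := by rw [h0]; infer_instance
    have : IsIso ((yon S).map (LimSp.sysSnd hDa g top)) :=
      ((LimSp.repWith_map hDa top.hom).1.isPullback g).isIso_snd_of_isIso
    have : IsIso (LimSp.sysSnd hDa g top) := isIso_of_reflects_iso _ (yon S)
    exact inferInstanceAs (IsIso ((Over.forget S).map (LimSp.sysSnd hDa g top)))
  have hkey' : IsAffineHom (LimSp.sysSnd hDa g top).left := LimSp.isAffineHom_sysSnd hDa g top
  have : IsAffine (F.obj top) := @isAffine_of_isAffineHom _ _ (LimSp.sysSnd hDa g top).left hkey' hZ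
  have hfp : LocallyOfFinitePresentation (L.π.app top).left := by
    have h := hπ.2 _ _ _ sq
    rw [← hq top] at h
    change LocallyOfFinitePresentation ((L.π.app top).left ≫ (LimSp.sysSnd hDa g top).left) at h
    exact (MorphismProperty.cancel_right_of_respectsIso @LocallyOfFinitePresentation _ _).1 h
  obtain ⟨j₀, -, hj₀⟩ := exists_isIso_π hL top hFc hfp
  have hmono : ∀ i, Mono (c.π.app i) := fun i => ⟨fun {Q} x y hxy => hc.hom_ext fun j => by
    obtain ⟨k, ⟨a⟩, ⟨b⟩⟩ : ∃ k, Nonempty (k ⟶ i) ∧ Nonempty (k ⟶ j) :=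
      ⟨IsCofiltered.min i j, ⟨IsCofiltered.minToLeft i j⟩, ⟨IsCofiltered.minToRight i j⟩⟩
    have := Groth.Agent.AlgSpB.mono_of_isClosedImmersion (hDc k i a)
    have h1 : x ≫ c.π.app k = y ≫ c.π.app k := by
      rw [← cancel_mono (D.map a), Category.assoc, Category.assoc, c.w a, hxy]
    rw [← c.w b, reassoc_of% h1]⟩
  refine ⟨j₀.left, fun i b => ?_⟩
  let j : Over i₁ := Over.mk (b ≫ j₀.hom)
  have := hmono i
  let a : j ⟶ j₀ := Over.homMk b
  have hiso : IsIso (L.π.app j).left := hj₀ j a
  have : IsIso ((Over.forget S).map (L.π.app j)) := hiso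
  have : IsIso (L.π.app j) := isIso_of_reflects_iso _ (Over.forget S)
  have sqj := (LimSp.repWith_map hDa j.hom).1.isPullback g
  have hfst : RepWith @Etale ((LimSp.sysFst hDa g).app j) := MorphismProperty.of_isPullback sqj.flip hge
  have hfsts : RepWith @Surjective ((LimSp.sysFst hDa g).app j) := MorphismProperty.of_isPullback sqj.flip hgs
  have := Groth.Agent.AlgSp.isLocallySurjective_of_etale_surjective _ hfst hfsts
  have hepi : Epi ((LimSp.sysFst hDa g).app j) := (Sheaf.isLocallySurjective_iff_epi _).1 inferInstance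
  have : Epi (c.π.app i) := by
    have h2 : Epi ((yon S).map (L.π.app j) ≫ (LimSp.sysFst hDa g).app j) := epi_comp _ _
    have h3 : Epi (l ≫ c.π.app i) := by
      rw [show l ≫ c.π.app i = _ from hl j]
      exact h2
    exact epi_of_epi l (c.π.app i)
  exact isIso_of_mono_of_epi _

end Groth.Agent.AlgSp.LimClosed
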