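import Groth.Agent.AlgSp.LimImm
import Groth.Agent.LimLib.Smooth

/-!
# Properties local for the etale topology descend through limits of algebraic spaces
-/

universe u

open CategoryTheory CategoryTheory.Limits AlgebraicGeometry Opposite

set_option backward.isDefEq.respectTransparency.types false
set_option autoImplicit false

attribute [local instance] CategoryTheory.isConnected_of_hasTerminal

namespace Groth.Agent.AlgSp.LimDesc

open _root_.AlgSp

variable {S : Scheme.{u}} {I : Type u} [SmallCategory I] [IsCofiltered I] {D : I ⥤ Sp S}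

/-- Affine charts for a morphism of quasi-compact spaces. -/
theorem exists_charts [QuasiSeparatedSpace S] {X₀ Y₀ : Sp S} (hX₀ : IsAlgSpace X₀) (hY₀ : IsAlgSpace Y₀)
    (f₀ : X₀ ⟶ Y₀) (hXqc : IsQuasiCompactSp X₀) (hYqc : IsQuasiCompactSp Y₀)
    (hYqs : IsQuasiSeparatedSp Y₀) :
    ∃ (Z V : Over S) (a : (yon S).obj Z ⟶ Y₀) (v : (yon S).obj V ⟶ pullback f₀ a) (m : V ⟶ Z),
      IsAffine Z.left ∧ IsAffine V.left ∧ RepWith @Etale a ∧ RepWith @Surjective a ∧ RepWith @Etale v ∧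
        RepWith @Surjective v ∧ v ≫ pullback.snd f₀ a = (yon S).map m := by
  obtain ⟨U, p, hp, hps, hU⟩ := hYqc
  have := Groth.Agent.AlgSpB.compactSpace_points_of_isQuasiCompactSp ⟨U, p, hp, hps, hU⟩
  obtain ⟨Z, e, hZ, hge, hgs⟩ := Groth.Agent.AlgSpB.exists_affine_chart_of_compactSpace hp hps
  let a := (yon S).map e ≫ p
  have hPc : IsQuasiCompactSp (pullback f₀ a) :=
    Groth.Agent.AlgSp.isQuasiCompactMor_of_quasiCompactSp hX₀ hY₀ f₀ hXqc hYqs (IsAlgSpace.yon_obj Z)
      (Groth.Agent.AlgSp.isQuasiCompactSp_yon Z) a _ _ (IsPullback.of_hasPullback f₀ a)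
  obtain ⟨U', p', hp', hps', hU'⟩ := hPc
  have := Groth.Agent.AlgSpB.compactSpace_points_of_isQuasiCompactSp ⟨U', p', hp', hps', hU'⟩
  obtain ⟨V, e', hV, hve, hvs⟩ := Groth.Agent.AlgSpB.exists_affine_chart_of_compactSpace hp' hps'
  obtain ⟨m, hm⟩ := (yon S).map_surjective (((yon S).map e' ≫ p') ≫ pullback.snd f₀ a)
  exact ⟨Z, V, a, _, m, hZ, hV, hge, hgs, hve, hvs, hm.symm⟩

/-- A chart of a base change of a morphism from a chart of the morphism. -/
theorem exists_chart_bc {X₀ Y₀ : Sp S} {f₀ : X₀ ⟶ Y₀} {Z V : Over S} {a : (yon S).obj Z ⟶ Y₀}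
    {v : (yon S).obj V ⟶ pullback f₀ a} {m : V ⟶ Z} (hve : RepWith @Etale v) (hvs : RepWith @Surjective v)
    (hm : v ≫ pullback.snd f₀ a = (yon S).map m) {X' Y' : Sp S} {f' : X' ⟶ Y'} {pY : Y' ⟶ Y₀} {pX : X' ⟶ X₀}
    (hX : IsPullback pX f' f₀ pY) {W VW : Over S} {q : W ⟶ Z} {r : (yon S).obj W ⟶ Y'}
    (sqr : IsPullback r ((yon S).map q) pY a) (hre : RepWith @Etale r) (hrs : RepWith @Surjective r)
    {qV : VW ⟶ V} {fW : VW ⟶ W} (sqV : IsPullback qV fW m q) :
    ∃ s : (yon S).obj VW ⟶ X', RepWith @Etale s ∧ RepWith @Surjective s ∧ s ≫ f' = (yon S).map fW ≫ r := by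
  let PW := pullback f' r
  have h1 : IsPullback (pullback.fst f' r ≫ pX) (pullback.snd f' r) f₀ ((yon S).map q ≫ a) := by
    rw [← sqr.w]
    exact (IsPullback.of_hasPullback f' r).paste_horiz hX
  let σ : PW ⟶ pullback f₀ a := pullback.lift (pullback.fst f' r ≫ pX) (pullback.snd f' r ≫ (yon S).map q)
    (by rw [Category.assoc _ ((yon S).map q) a]; exact h1.w)
  have hσ : IsPullback σ (pullback.snd f' r) (pullback.snd f₀ a) ((yon S).map q) := by
    refine IsPullback.of_right ?_ (pullback.lift_snd _ _ _) (IsPullback.of_hasPullback f₀ a)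
    rw [pullback.lift_fst]
    exact h1
  have hV := sqV.map (yon S)
  let μ : (yon S).obj VW ⟶ PW := hσ.lift ((yon S).map qV ≫ v) ((yon S).map fW)
    (by rw [Category.assoc, hm]; exact hV.w)
  have hμ : IsPullback ((yon S).map qV) μ v σ := by
    refine IsPullback.of_bot ?_ (hσ.lift_fst _ _ _).symm hσ
    rw [IsPullback.lift_snd, hm]
    exact hV
  have hfst := (IsPullback.of_hasPullback f' r).flip
  refine ⟨μ ≫ pullback.fst f' r, ?_, ?_, ?_⟩
  · exact AlgSpCov.repWith_comp (MorphismProperty.of_isPullback hμ hve) (MorphismProperty.of_isPullback (IsPullback.of_hasPullback f' r).flip hre)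
  · exact AlgSpCov.repWith_comp (MorphismProperty.of_isPullback hμ hvs) (MorphismProperty.of_isPullback (IsPullback.of_hasPullback f' r).flip hrs)
  · rw [Category.assoc, pullback.condition, reassoc_of% (hσ.lift_snd _ _ _)]

/-- A property local for the etale topology which descends for schemes descends for algebraic spaces. -/
theorem descend_locP' [QuasiSeparatedSpace S] {P Q : MorphismProperty Scheme.{u}}
    [Q.IsStableUnderBaseChange] (hP : AlgSpCov.Standard P)
    (hQ : AlgSpCov.EtaleLocal Q) (hdesc : Groth.Agent.LimLib.Descends P Q)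
    (hD : ∀ i, IsAlgSpace (D.obj i)) (hDa : ∀ (i j : I) (φ : i ⟶ j), IsAffineMor (D.map φ)) (c : Cone D)
    (hc : IsLimit c) (i₀ : I) (X₀ Y₀ : Sp S) (hX₀ : IsAlgSpace X₀) (hY₀ : IsAlgSpace Y₀) (f₀ : X₀ ⟶ Y₀)
    (b₀ : Y₀ ⟶ D.obj i₀) (hXqc : IsQuasiCompactSp X₀) (hYqc : IsQuasiCompactSp Y₀)
    (hYqs : IsQuasiSeparatedSp Y₀) (X Y : Sp S) (f : X ⟶ Y) (pY : Y ⟶ Y₀) (qY : Y ⟶ c.pt)
    (hY : IsPullback pY qY b₀ (c.π.app i₀)) (pX : X ⟶ X₀) (hX : IsPullback pX f f₀ pY) (hf : LocP P f)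
    (hf₀ : LocP Q f₀) :
    ∃ (i : I) (φ : i ⟶ i₀), ∀ (Xi Yi : Sp S) (fi : Xi ⟶ Yi) (pYi : Yi ⟶ Y₀) (qYi : Yi ⟶ D.obj i)
      (_ : IsPullback pYi qYi b₀ (D.map φ)) (pXi : Xi ⟶ X₀) (_ : IsPullback pXi fi f₀ pYi), LocP P fi := by
  have := hP.bc
  have := hP.comp
  obtain ⟨Z, V, a, v, m, hZ, hV, hae, has, hve, hvs, hm⟩ := exists_charts hX₀ hY₀ f₀ hXqc hYqc hYqs
  have hmQ : Q m.left :=
    (AlgSpCov.locP_baseChange hQ hX₀ hY₀
      (IsPullback.of_hasPullback f₀ a) hf₀) v (𝟙 _) m hve (MorphismProperty.id_mem _ _)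
      (by rw [Category.comp_id, hm])
  let g := a ≫ b₀
  obtain ⟨L, l, q, ⟨hL⟩, -, hq, hl, sq⟩ := LimSp.exists_isPullback hDa g c hc
  let F := LimSp.sys hDa g ⋙ Over.forget S
  let top : Over i₀ := Over.mk (𝟙 i₀)
  have hFaff : ∀ j, IsAffine (F.obj j) := fun j =>
    @isAffine_of_isAffineHom _ _ (LimSp.sysSnd hDa g j).left (LimSp.isAffineHom_sysSnd hDa g j) hZ
  -- the limit
  let VL : Over S := Over.mk (pullback.fst m.left q.left ≫ V.hom)
  let qV : VL ⟶ V := Over.homMk (pullback.fst m.left q.left) rfl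
  let fL : VL ⟶ L.pt := Over.homMk (pullback.snd m.left q.left) (by
    change pullback.snd m.left q.left ≫ L.pt.hom = pullback.fst m.left q.left ≫ V.hom
    rw [← Over.w q, ← Over.w m, pullback.condition_assoc])
  have sqV : IsPullback qV fL m q :=
    IsPullback.of_map (Over.forget S) (Over.OverMorphism.ext pullback.condition)
      (IsPullback.of_hasPullback m.left q.left)
  have hPL : P fL.left := by
    let r : (yon S).obj L.pt ⟶ Y := hY.lift ((yon S).map q ≫ a) l (by rw [Category.assoc]; exact sq.w.symm)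
    have sqr : IsPullback r ((yon S).map q) pY a := by
      refine IsPullback.of_right (h₁₂ := qY) (h₂₂ := b₀) ?_ (hY.lift_fst ..) hY.flip
      rw [IsPullback.lift_snd]
      exact sq
    have hre : RepWith @Etale r := MorphismProperty.of_isPullback sqr.flip hae
    have hrs : RepWith @Surjective r := MorphismProperty.of_isPullback sqr.flip has
    obtain ⟨s, hs, -, hw⟩ := exists_chart_bc hve hvs hm hX sqr hre hrs sqV
    exact hf s r fL hs hre hw
  -- descend on the charts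
  let stop := (LimSp.sysSnd hDa g top).left
  let m₀ := pullback.snd m.left stop
  have hm₀ : Q m₀ :=
    MorphismProperty.pullback_snd (P := Q) _ _ hmQ
  have hsa : IsAffineHom stop := LimSp.isAffineHom_sysSnd hDa g top
  have : IsAffine (pullback m.left stop) := isAffine_of_isAffineHom (pullback.fst m.left stop)
  have hqt : (L.π.app top).left ≫ stop = q.left :=
    (Over.comp_left _ _ _ _ _).symm.trans (congrArg CommaMorphism.left (hq top))
  have sqm : IsPullback (pullback.lift (pullback.fst m.left q.left) (pullback.snd m.left q.left ≫ (L.π.app top).left)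
      (by rw [Category.assoc, hqt]; exact pullback.condition)) (pullback.snd m.left q.left) m₀
      (L.π.app top).left := by
    refine IsPullback.of_right ?_ (pullback.lift_snd _ _ _) (IsPullback.of_hasPullback m.left stop)
    rw [pullback.lift_fst, hqt]
    exact IsPullback.of_hasPullback m.left q.left
  obtain ⟨j, φ, hj⟩ := hdesc F ((Over.forget S).mapCone L) hL (fun _ _ b => LimSp.isAffineHom_sys hDa g b)
    (fun j => have := hFaff j; inferInstance) (fun j => have := hFaff j; inferInstance) top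
    (pullback m.left stop) m₀ inferInstance inferInstance hm₀ _ _ _ sqm hPL
  refine ⟨j.left, j.hom, fun Xi Yi fi pYi qYi hYi pXi hXi => ?_⟩
  have hφ : F.map φ ≫ stop = (LimSp.sysSnd hDa g j).left :=
    (Over.comp_left _ _ _ _ _).symm.trans (congrArg CommaMorphism.left (LimSp.map_sysSnd hDa g φ))
  have hsq := (IsPullback.of_hasPullback m₀ (F.map φ)).paste_horiz (IsPullback.of_hasPullback m.left stop)
  replace hsq : IsPullback (pullback.fst m₀ (F.map φ) ≫ pullback.fst m.left stop) (pullback.snd m₀ (F.map φ))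
      m.left (LimSp.sysSnd hDa g j).left := hφ ▸ hsq
  let Wj := (LimSp.sys hDa g).obj j
  let Vj : Over S := Over.mk ((pullback.fst m₀ (F.map φ) ≫ pullback.fst m.left stop) ≫ V.hom)
  let qj : Vj ⟶ V := Over.homMk (pullback.fst m₀ (F.map φ) ≫ pullback.fst m.left stop) rfl
  let fj : Vj ⟶ Wj := Over.homMk (pullback.snd m₀ (F.map φ)) (by
    change pullback.snd m₀ (F.map φ) ≫ Wj.hom =
      (pullback.fst m₀ (F.map φ) ≫ pullback.fst m.left stop) ≫ V.hom
    rw [← Over.w (LimSp.sysSnd hDa g j), ← Over.w m]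
    exact (Category.assoc _ _ _).symm.trans ((congrArg (fun k => k ≫ Z.hom) hsq.w.symm).trans
      (Category.assoc _ _ _)))
  have sqj : IsPullback qj fj m (LimSp.sysSnd hDa g j) :=
    IsPullback.of_map (Over.forget S) (Over.OverMorphism.ext hsq.w) hsq
  have sqs := (LimSp.repWith_map hDa j.hom).1.isPullback g
  let r : (yon S).obj Wj ⟶ Yi := hYi.lift ((yon S).map (LimSp.sysSnd hDa g j) ≫ a)
    ((LimSp.repWith_map hDa j.hom).1.fst g) (by rw [Category.assoc]; exact sqs.w.symm)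
  have sqr : IsPullback r ((yon S).map (LimSp.sysSnd hDa g j)) pYi a := by
    refine IsPullback.of_right (h₁₂ := qYi) (h₂₂ := b₀) ?_ (hYi.lift_fst ..) hYi.flip
    rw [IsPullback.lift_snd]
    exact sqs
  have hre : RepWith @Etale r := MorphismProperty.of_isPullback sqr.flip hae
  have hrs : RepWith @Surjective r := MorphismProperty.of_isPullback sqr.flip has
  obtain ⟨s, hs, hss, hw⟩ := exists_chart_bc hve hvs hm hXi sqr hre hrs sqj
  have hYia : IsAlgSpace Yi :=
    Groth.Agent.AlgSp.isAlgSpace_of_isPullback' (hD i₀) hY₀ (hD j.left) hYi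
  exact AlgSpCov.locP_of_one_chart hP.etaleLocal hP.of_etale hYia hs hss hre hw hj

/-- A property local for the etale topology which descends for schemes descends for algebraic spaces. -/
theorem descend_locP [QuasiSeparatedSpace S] {P : MorphismProperty Scheme.{u}} (hP : AlgSpCov.Standard P)
    (hdesc : Groth.Agent.LimLib.Descends P @LocallyOfFinitePresentation)
    (hD : ∀ i, IsAlgSpace (D.obj i)) (hDa : ∀ (i j : I) (φ : i ⟶ j), IsAffineMor (D.map φ)) (c : Cone D)
    (hc : IsLimit c) (i₀ : I) (X₀ Y₀ : Sp S) (hX₀ : IsAlgSpace X₀) (hY₀ : IsAlgSpace Y₀) (f₀ : X₀ ⟶ Y₀)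
    (b₀ : Y₀ ⟶ D.obj i₀) (hXqc : IsQuasiCompactSp X₀) (hYqc : IsQuasiCompactSp Y₀)
    (hYqs : IsQuasiSeparatedSp Y₀) (X Y : Sp S) (f : X ⟶ Y) (pY : Y ⟶ Y₀) (qY : Y ⟶ c.pt)
    (hY : IsPullback pY qY b₀ (c.π.app i₀)) (pX : X ⟶ X₀) (hX : IsPullback pX f f₀ pY) (hf : LocP P f)
    (hf₀ : LocP @LocallyOfFinitePresentation f₀) :
    ∃ (i : I) (φ : i ⟶ i₀), ∀ (Xi Yi : Sp S) (fi : Xi ⟶ Yi) (pYi : Yi ⟶ Y₀) (qYi : Yi ⟶ D.obj i)
      (_ : IsPullback pYi qYi b₀ (D.map φ)) (pXi : Xi ⟶ X₀) (_ : IsPullback pXi fi f₀ pYi), LocP P fi :=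
  descend_locP' hP AlgSpCov.etaleLocal_locallyOfFinitePresentation hdesc hD hDa c hc i₀ X₀ Y₀ hX₀ hY₀ f₀ b₀ hXqc
    hYqc hYqs X Y f pY qY hY pX hX hf hf₀

end Groth.Agent.AlgSp.LimDesc
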