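import Groth.Agent.AlgSp.LimAffineMor
import Groth.Agent.AlgSp.InfDescent
import Groth.Agent.LimLib.Eventual
import Groth.Agent.FpqcDesc.Props
import Groth.Agent.AlgSpCov.AffineFamily
import Groth.Agent.AlgSpD.IntegralMor

/-!
# Finite morphisms and closed immersions to a fixed base appear at a stage
-/

universe u

open CategoryTheory CategoryTheory.Limits AlgebraicGeometry Opposite

set_option backward.isDefEq.respectTransparency.types false
set_option autoImplicit false

attribute [local instance] CategoryTheory.isConnected_of_hasTerminal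

namespace Groth.Agent.AlgSp.LimEvFinite

open _root_.AlgSp LimSep

variable {S : Scheme.{u}} {I : Type u} [SmallCategory I] [IsCofiltered I] {Y : Sp S} {D : I ⥤ Sp S}

/-- The transition maps of the system of schemes are base changes of the transition maps. -/
theorem prop_sys {P : MorphismProperty Scheme.{u}} (hDa : ∀ (i j : I) (φ : i ⟶ j), IsAffineMor (D.map φ))
    (hP : ∀ (i j : I) (φ : i ⟶ j), RepWith P (D.map φ)) {i₁ : I} {T : Over S} (r : (yon S).obj T ⟶ D.obj i₁)
    {j k : Over i₁} (φ : j ⟶ k) : P ((LimSp.sys hDa r).map φ).left := by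
  have sqk := (LimSp.repWith_map hDa k.hom).1.isPullback r
  have sqj := (LimSp.repWith_map hDa j.hom).1.isPullback r
  refine (hP _ _ φ.left).2 _ _ _ (IsPullback.of_right (h₁₂ := (yon S).map (LimSp.sysSnd hDa r k))
    (h₂₂ := D.map k.hom) ?_ ((LimSp.sysFst hDa r).naturality φ) sqk.flip).flip
  change IsPullback ((yon S).map ((LimSp.sys hDa r).map φ) ≫ (yon S).map (LimSp.sysSnd hDa r k))
    ((LimSp.sysFst hDa r).app j) r (D.map φ.left ≫ D.map k.hom)
  rw [← Functor.map_comp, LimSp.map_sysSnd]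
  exact ((D.map_comp φ.left k.hom).symm.trans (congrArg D.map (Over.w φ))).symm ▸ sqj.flip

variable [QuasiSeparatedSpace S] (t : D ⟶ (Functor.const I).obj Y)

/-- An eventual property of structure maps of systems of schemes gives one for spaces. -/
theorem eventually_of_scheme {P R Q : MorphismProperty Scheme.{u}} [P.IsStableUnderBaseChange]
    [R.IsStableUnderBaseChange] [R.IsStableUnderComposition] [IsZariskiLocalAtTarget R]
    [R.DescendsAlong (@Surjective ⊓ @Flat ⊓ @QuasiCompact)]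
    (hPR : P ≤ R) (hQA : Q ≤ @IsAffineHom) (hPA : P ≤ @IsAffineHom)
    (hev : ∀ {J : Type u} [SmallCategory J] [IsCofiltered J] {V : Scheme.{u}} [IsAffine V] {F : J ⥤ Scheme.{u}}
      (_ : ∀ j, IsAffine (F.obj j)) (s : F ⟶ (Functor.const J).obj V) {e : Cone F} (_ : IsLimit e)
      (_ : ∀ (i j : J) (a : i ⟶ j), P (F.map a)) (j₀ : J), LocallyOfFiniteType (s.app j₀) →
      Q (e.π.app j₀ ≫ s.app j₀) → ∃ j, R (s.app j))
    (hD : ∀ i, IsAlgSpace (D.obj i)) (hDP : ∀ (i j : I) (φ : i ⟶ j), RepWith P (D.map φ)) {c : Cone D}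
    (hc : IsLimit c) {g : c.pt ⟶ Y} (hg : ∀ i, c.π.app i ≫ t.app i = g) (hY : IsAlgSpace Y)
    (hYqs : IsQuasiSeparatedSp Y) (hqc : ∀ i, IsQuasiCompactSp (D.obj i))
    (hqs : ∀ i, IsQuasiSeparatedSp (D.obj i)) (hYqc : IsQuasiCompactSp Y)
    (hft : ∀ i, LocP @LocallyOfFiniteType (t.app i)) (hX : RepWith Q g) :
    ∃ i₀ : I, ∀ (i : I) (_ : i ⟶ i₀), RepWith R (t.app i) := by
  have hDa : ∀ (i j : I) (φ : i ⟶ j), IsAffineMor (D.map φ) := fun i j φ =>
    (Groth.Agent.AlgSp.isAffineMor_iff _).2 ⟨(hDP i j φ).1, fun _ _ g fst snd sq => hPA _ ((hDP i j φ).2 g fst snd sq)⟩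
  obtain ⟨i₁, h₁⟩ := LimAffineMor.eventually_affine t hD hDa hc hg hY hYqs hqc hqs hYqc
    ((Groth.Agent.AlgSp.isAffineMor_iff _).2 ⟨hX.1, fun _ _ g fst snd sq => hQA _ (hX.2 g fst snd sq)⟩)
  obtain ⟨U, p, hp, hps, hU⟩ := hYqc
  have := Groth.Agent.AlgSpB.compactSpace_points_of_isQuasiCompactSp ⟨U, p, hp, hps, hU⟩
  obtain ⟨Z, e, hZ, hze, hzs⟩ := Groth.Agent.AlgSpB.exists_affine_chart_of_compactSpace hp hps
  let a := (yon S).map e ≫ p
  have ht₁ : RepWith @IsAffineHom (tY t i₁) := (Groth.Agent.AlgSp.isAffineMor_iff _).1 (h₁ i₁ (𝟙 _))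
  have sqT := ht₁.1.isPullback a
  let m := ht₁.1.snd a
  let r := ht₁.1.fst a
  have : IsAffineHom m.left := ht₁.2 _ _ _ sqT
  have : LocallyOfFiniteType m.left :=
    (AlgSpCov.repWith_of_locP AlgSpCov.etaleLocal_locallyOfFiniteType (hD i₁) hY ht₁.1 (hft i₁)).2 _ _ _ sqT
  have hT : IsAffine (ht₁.1.pullback a).left := isAffine_of_isAffineHom m.left
  obtain ⟨L, lL, q, ⟨hL⟩, -, hq, -, sq⟩ := LimSp.exists_isPullback hDa r c hc
  let F := LimSp.sys hDa r ⋙ Over.forget S
  let s : F ⟶ (Functor.const (Over i₁)).obj Z.left :=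
    { app := fun j => (LimSp.sysSnd hDa r j).left ≫ m.left
      naturality := fun j k φ => by
        refine Eq.trans ?_ (Category.comp_id _).symm
        exact (Category.assoc _ _ _).symm.trans (congrArg (fun f => f ≫ m.left)
          ((Over.comp_left _ _ _ _ _).symm.trans (congrArg CommaMorphism.left (LimSp.map_sysSnd hDa r φ)))) }
  let top : Over i₁ := Over.mk (𝟙 i₁)
  have hlft : LocallyOfFiniteType (s.app top) := by
    have h2 : LocallyOfFiniteType (LimSp.sysSnd hDa r top).left := by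
      have hI : IsPullback (𝟙 _) r r (D.map (𝟙 i₁)) := by
        rw [D.map_id]; exact IsPullback.of_horiz_isIso ⟨by rw [Category.id_comp, Category.comp_id]⟩
      have sqt := (LimSp.repWith_map hDa top.hom).1.isPullback r
      have : IsIso ((yon S).map (LimSp.sysSnd hDa r top)) := by
        have hi : IsIso (D.map top.hom) := by
          change IsIso (D.map (𝟙 i₁)); rw [D.map_id]; infer_instance
        exact sqt.isIso_snd_of_isIso
      have : IsIso (LimSp.sysSnd hDa r top) := isIso_of_reflects_iso _ (yon S)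
      have : IsIso (LimSp.sysSnd hDa r top).left :=
        inferInstanceAs (IsIso ((Over.forget S).map (LimSp.sysSnd hDa r top)))
      infer_instance
    exact (inferInstance : LocallyOfFiniteType ((LimSp.sysSnd hDa r top).left ≫ m.left))
  have hQ : Q (((Over.forget S).mapCone L).π.app top ≫ s.app top) := by
    have e : g = c.π.app i₁ ≫ tY t i₁ := (hg i₁).symm
    have h := hX.2 a lL (q ≫ m) (by rw [e, Functor.map_comp]; exact sq.paste_vert sqT)
    rw [← hq top] at h
    exact (Category.assoc (L.π.app top).left (LimSp.sysSnd hDa r top).left m.left) ▸ h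
  obtain ⟨j, hj⟩ := hev (fun j => @isAffine_of_isAffineHom _ _ (LimSp.sysSnd hDa r j).left
    (LimSp.isAffineHom_sysSnd hDa r j) hT) s hL (fun _ _ φ => prop_sys hDa hDP r φ) top hlft hQ
  have hti : RepWith R (tY t j.left) := by
    have sqj : IsPullback ((LimSp.sysFst hDa r).app j) ((yon S).map (LimSp.sysSnd hDa r j ≫ m)) (tY t j.left) a := by
      rw [← map_tY t j.hom, Functor.map_comp]
      exact ((LimSp.repWith_map hDa j.hom).1.isPullback r).paste_vert sqT
    refine InfDescent.repWith_of_baseChange R ?_ hze hzs sqj ((repWith_yon_map_iff _ _).2 hj)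
    rw [← map_tY t j.hom]
    exact MorphismProperty.comp_mem _ _ _ (hDP _ _ j.hom).1 ht₁.1
  refine ⟨j.left, fun i α => ?_⟩
  change RepWith R (tY t i)
  rw [← map_tY t α]
  exact AlgSpCov.repWith_comp ⟨(hDP _ _ α).1, fun _ _ g fst snd sq => hPR _ ((hDP _ _ α).2 g fst snd sq)⟩ hti

/-- Finiteness over a base appears at a stage. -/
theorem eventually_finite (hD : ∀ i, IsAlgSpace (D.obj i))
    (hDP : ∀ (i j : I) (φ : i ⟶ j), RepWith @IsFinite (D.map φ)) {c : Cone D}
    (hc : IsLimit c) {g : c.pt ⟶ Y} (hg : ∀ i, c.π.app i ≫ t.app i = g) (hY : IsAlgSpace Y)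
    (hYqs : IsQuasiSeparatedSp Y) (hqc : ∀ i, IsQuasiCompactSp (D.obj i))
    (hqs : ∀ i, IsQuasiSeparatedSp (D.obj i)) (hYqc : IsQuasiCompactSp Y)
    (hft : ∀ i, LocP @LocallyOfFiniteType (t.app i)) (hX : RepWith @IsIntegralHom g) :
    ∃ i₀ : I, ∀ (i : I) (_ : i ⟶ i₀), RepWith @IsFinite (t.app i) := by
  haveI : MorphismProperty.DescendsAlong @IsFinite (@Surjective ⊓ @Flat ⊓ @QuasiCompact : MorphismProperty Scheme.{u}) :=
    Groth.Agent.FpqcDesc.descendsAlong_isFinite
  refine eventually_of_scheme t (P := @IsFinite) (R := @IsFinite) (Q := @IsIntegralHom) le_rfl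
    (fun _ _ f hf => have : IsIntegralHom f := hf; inferInstance)
    (fun _ _ f hf => have : IsFinite f := hf; inferInstance) ?_ hD hDP hc hg hY hYqs hqc hqs hYqc hft hX
  intro J _ _ V _ F hF s e he htr j₀ hft hQ
  have : ∀ (i j : J) (a : i ⟶ j), IsAffineHom (F.map a) := fun i j a =>
    have : IsFinite (F.map a) := htr i j a
    inferInstance
  have : ∀ j, CompactSpace (F.obj j) := fun j => have := hF j; inferInstance
  have : ∀ j, QuasiSeparatedSpace (F.obj j) := fun j => have := hF j; inferInstance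
  have : IsIntegralHom (e.π.app j₀ ≫ s.app j₀) := hQ
  obtain ⟨j, h⟩ := Groth.Agent.LimLib.eventually_isFinite s he htr j₀
  exact ⟨j, h j (𝟙 j)⟩

/-- Closed immersions into a base appear at a stage. -/
theorem eventually_closed (hD : ∀ i, IsAlgSpace (D.obj i))
    (hDP : ∀ (i j : I) (φ : i ⟶ j), RepWith @IsClosedImmersion (D.map φ)) {c : Cone D}
    (hc : IsLimit c) {g : c.pt ⟶ Y} (hg : ∀ i, c.π.app i ≫ t.app i = g) (hY : IsAlgSpace Y)
    (hYqs : IsQuasiSeparatedSp Y) (hqc : ∀ i, IsQuasiCompactSp (D.obj i))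
    (hqs : ∀ i, IsQuasiSeparatedSp (D.obj i)) (hYqc : IsQuasiCompactSp Y)
    (hft : ∀ i, LocP @LocallyOfFiniteType (t.app i)) (hX : RepWith @IsClosedImmersion g) :
    ∃ i₀ : I, ∀ (i : I) (_ : i ⟶ i₀), RepWith @IsClosedImmersion (t.app i) := by
  haveI : MorphismProperty.DescendsAlong @IsClosedImmersion
      (@Surjective ⊓ @Flat ⊓ @QuasiCompact : MorphismProperty Scheme.{u}) :=
    Groth.Agent.FpqcDesc.descendsAlong_isClosedImmersion
  refine eventually_of_scheme t (P := @IsClosedImmersion) (R := @IsClosedImmersion) (Q := @IsClosedImmersion) le_rfl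
    (fun _ _ f hf => have : IsClosedImmersion f := hf; inferInstance)
    (fun _ _ f hf => have : IsClosedImmersion f := hf; inferInstance) ?_ hD hDP hc hg hY hYqs hqc hqs hYqc hft hX
  intro J _ _ V _ F hF s e he htr j₀ hft hQ
  have : ∀ (i j : J) (a : i ⟶ j), IsAffineHom (F.map a) := fun i j a =>
    have : IsClosedImmersion (F.map a) := htr i j a
    inferInstance
  have : ∀ j, CompactSpace (F.obj j) := fun j => have := hF j; inferInstance
  have : ∀ j, QuasiSeparatedSpace (F.obj j) := fun j => have := hF j; inferInstance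
  have : IsClosedImmersion (e.π.app j₀ ≫ s.app j₀) := hQ
  obtain ⟨j, h⟩ := Groth.Agent.LimLib.eventually_isClosedImmersion s he htr j₀
  exact ⟨j, h j (𝟙 j)⟩

end Groth.Agent.AlgSp.LimEvFinite
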