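import Groth.Agent.AlgSp.LimRebase
import Groth.Agent.AlgSp.InfDescent
import Groth.Agent.AlgSpB.LqfSep
import Groth.Agent.AlgSpCov.AffineFamily
import Groth.Agent.AlgSpCov.Listed
import Groth.Agent.LimLib.Props
import Groth.Agent.EGA43Lim.Basic
import Groth.Agent.FpqcDesc.Props

/-!
# Finite morphisms descend through limits of algebraic spaces
-/

universe u

open CategoryTheory CategoryTheory.Limits AlgebraicGeometry Opposite

set_option backward.isDefEq.respectTransparency.types false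
set_option autoImplicit false

namespace Groth.Agent.AlgSp.LimFinite

open _root_.AlgSp

/-- The combined property descends. -/
theorem descends_lqf :
    Groth.Agent.LimLib.Descends.{u} (@LocallyQuasiFinite ⊓ @LocallyOfFiniteType) @LocallyOfFiniteType := by
  intro I _ _ D c hc hD hqc hqs i X₀ f₀ h₁ h₂ hQ X q f hf hP
  obtain ⟨j, φ, h⟩ :=
    Groth.Agent.EGA43Lim.descends_locallyQuasiFinite D c hc hD hqc hqs i X₀ f₀ h₁ h₂ hQ X q f hf hP.1
  exact ⟨j, φ, h, MorphismProperty.pullback_snd (P := @LocallyOfFiniteType) _ _ hQ⟩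

variable {S : Scheme.{u}} [QuasiSeparatedSpace S] {I : Type u} [SmallCategory I] [IsCofiltered I] {D : I ⥤ Sp S}
  (hD : ∀ i, IsAlgSpace (D.obj i)) (hDa : ∀ (i j : I) (φ : i ⟶ j), IsAffineMor (D.map φ)) {c : Cone D}
  (hc : IsLimit c) {i₀ : I} {X₀ Y₀ : Sp S} (hX₀ : IsAlgSpace X₀) (hY₀ : IsAlgSpace Y₀) (f₀ : X₀ ⟶ Y₀)
  (b₀ : Y₀ ⟶ D.obj i₀) (hXqc : IsQuasiCompactSp X₀) (hXqs : IsQuasiSeparatedSp X₀)
  (hYqc : IsQuasiCompactSp Y₀) (hYqs : IsQuasiSeparatedSp Y₀)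
  {X Y : Sp S} {f : X ⟶ Y} {pY : Y ⟶ Y₀} {qY : Y ⟶ c.pt} (hY : IsPullback pY qY b₀ (c.π.app i₀))
  {pX : X ⟶ X₀} (hX : IsPullback pX f f₀ pY)

include hD hDa hc hX₀ hY₀ hXqc hXqs hYqc hYqs hY hX in
/-- Finite morphisms descend through limits. -/
theorem descend_finite (hf : RepWith @IsFinite f) (hf₀ : LocP @LocallyOfFiniteType f₀) :
    ∃ (i : I) (φ : i ⟶ i₀), ∀ (Xi Yi : Sp S) (fi : Xi ⟶ Yi) (pYi : Yi ⟶ Y₀) (qYi : Yi ⟶ D.obj i)
      (_ : IsPullback pYi qYi b₀ (D.map φ)) (pXi : Xi ⟶ X₀) (_ : IsPullback pXi fi f₀ pYi),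
      RepWith @IsFinite fi := by
  have hca := LimSp.isAlgSpace_pt hDa hD c hc
  have hYa := Groth.Agent.AlgSp.isAlgSpace_of_isPullback' (hD i₀) hY₀ hca hY
  have hXa := Groth.Agent.AlgSp.isAlgSpace_of_isPullback' hY₀ hX₀ hYa hX
  have hlqf : LocP (@LocallyQuasiFinite ⊓ @LocallyOfFiniteType) f :=
    AlgSpCov.locP_of_repWith AlgSpCov.standard_locallyQuasiFinite.etaleLocal
      ⟨hf.1, fun _ _ g fst snd sq =>
        have : IsFinite snd.left := hf.2 g fst snd sq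
        ⟨(inferInstance : LocallyQuasiFinite snd.left), (inferInstance : LocallyOfFiniteType snd.left)⟩⟩
  have hfs : IsSeparatedMor f := (Groth.Agent.AlgSp.repWith_diagonal_iff_of_representable
    @IsClosedImmersion @IsSeparated (fun h => (isSeparated_iff h).symm) hXa hf.1).2
    ⟨hf.1, fun _ _ g fst snd sq =>
      have : IsFinite snd.left := hf.2 g fst snd sq
      (inferInstance : IsSeparated snd.left)⟩
  obtain ⟨i₂, φ₂, h₂⟩ := LimDesc.descend_locP' AlgSpCov.standard_locallyQuasiFinite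
    AlgSpCov.etaleLocal_locallyOfFiniteType descends_lqf hD hDa c hc i₀ X₀ Y₀ hX₀ hY₀ f₀ b₀ hXqc hYqc hYqs X Y f
    pY qY hY pX hX hlqf hf₀
  obtain ⟨i₃, φ₃, h₃⟩ := LimRepApp.descend_separated hDa hc hX₀ hY₀ f₀ b₀ hXqc hXqs hYqs hY hX hfs
  obtain ⟨i₁, a₂, a₃, e⟩ := IsCofiltered.cospan φ₂ φ₃
  let φ₁ := a₂ ≫ φ₂
  let Y₁ := pullback b₀ (D.map φ₁)
  let X₁ := pullback f₀ (pullback.fst b₀ (D.map φ₁))
  let f₁ : X₁ ⟶ Y₁ := pullback.snd f₀ (pullback.fst b₀ (D.map φ₁))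
  have sqY₁ := IsPullback.of_hasPullback b₀ (D.map φ₁)
  have sqX₁ := IsPullback.of_hasPullback f₀ (pullback.fst b₀ (D.map φ₁))
  have hY₁ : IsAlgSpace Y₁ := Groth.Agent.AlgSp.isAlgSpace_of_isPullback' (hD i₀) hY₀ (hD i₁) sqY₁
  have hX₁ : IsAlgSpace X₁ := Groth.Agent.AlgSp.isAlgSpace_of_isPullback' hY₀ hX₀ hY₁ sqX₁
  have hft₁ : LocP @LocallyOfFiniteType f₁ :=
    AlgSpCov.locP_baseChange AlgSpCov.etaleLocal_locallyOfFiniteType hX₀ hY₀ sqX₁ hf₀
  have hqf₁ : LocP (@LocallyQuasiFinite ⊓ @LocallyOfFiniteType) f₁ := by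
    obtain ⟨u, v, -, hv⟩ := LimRebase.exists_transfer (C := Sp S) (α := D.map a₂) (β := D.map φ₂)
      (D.map_comp a₂ φ₂).symm sqY₁ sqX₁
    have hb := Groth.Agent.AlgSp.isAlgSpace_of_isPullback' (hD i₀) hY₀ (hD i₂) (IsPullback.of_hasPullback b₀ (D.map φ₂))
    exact AlgSpCov.locP_baseChange AlgSpCov.standard_locallyQuasiFinite.etaleLocal
      (Groth.Agent.AlgSp.isAlgSpace_of_isPullback' hY₀ hX₀ hb (IsPullback.of_hasPullback f₀ _)) hb hv
      (h₂ _ _ _ _ _ (IsPullback.of_hasPullback b₀ (D.map φ₂)) _ (IsPullback.of_hasPullback f₀ _))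
  have hs₁ : IsSeparatedMor f₁ := by
    obtain ⟨u, v, -, hv⟩ := LimRebase.exists_transfer (C := Sp S) (α := D.map a₃) (β := D.map φ₃)
      ((D.map_comp a₃ φ₃).symm.trans (congrArg D.map e.symm)) sqY₁ sqX₁
    exact MorphismProperty.of_isPullback
      (P := (RepWith @IsClosedImmersion : MorphismProperty (Sp S)).diagonal) hv
      (h₃ _ _ _ _ _ (IsPullback.of_hasPullback b₀ (D.map φ₃)) _ (IsPullback.of_hasPullback f₀ _))
  have hrep : Representable f₁ := Groth.Agent.AlgSpB.representable_of_lqf_sep hX₁ hY₁ f₁ hqf₁ hs₁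
  have hqc : RepWith @QuasiCompact f₁ := (Groth.Agent.AlgSp.repWith_quasiCompact_iff hY₁ f₁ hrep).2
    (Groth.Agent.AlgSp.isQuasiCompactMor_baseChange sqX₁
      (Groth.Agent.AlgSp.isQuasiCompactMor_of_quasiCompactSp hX₀ hY₀ f₀ hXqc hYqs))
  have hsep : RepWith @IsSeparated f₁ := (Groth.Agent.AlgSp.repWith_diagonal_iff_of_representable
    @IsClosedImmersion @IsSeparated (fun h => (isSeparated_iff h).symm) hX₁ hrep).1 hs₁
  have hY₁qc : IsQuasiCompactSp Y₁ := by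
    have ha : RepWith @IsAffineHom (pullback.fst b₀ (D.map φ₁)) :=
      MorphismProperty.of_isPullback sqY₁.flip (LimSp.repWith_map hDa φ₁)
    have hq : RepWith @QuasiCompact (pullback.fst b₀ (D.map φ₁)) := ⟨ha.1, fun _ _ g fst snd sq =>
      haveI : IsAffineHom snd.left := ha.2 g fst snd sq
      (inferInstance : QuasiCompact snd.left)⟩
    exact Groth.Agent.AlgSp.isQuasiCompactMor_of_repWith hY₀ hq hY₀ hYqc (𝟙 Y₀) (𝟙 Y₁) (pullback.fst b₀ (D.map φ₁))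
      (IsPullback.of_horiz_isIso ⟨by rw [Category.id_comp, Category.comp_id]⟩)
  have hft : RepWith @LocallyOfFiniteType f₁ :=
    AlgSpCov.repWith_of_locP AlgSpCov.etaleLocal_locallyOfFiniteType hX₁ hY₁ hrep hft₁
  obtain ⟨u, v, hu, hv⟩ := LimRebase.exists_transfer (C := Sp S) (c.w φ₁) hY hX
  obtain ⟨i, φ, h⟩ := LimRep.descend_rep Groth.Agent.LimLib.descends_isFinite hDa c hc i₁ f₁
    (pullback.snd b₀ (D.map φ₁)) hY₁qc hrep hqc hsep hft f u qY hu v hv hf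
  refine ⟨i, φ ≫ φ₁, fun Xi Yi fi pYi qYi hYi pXi hXi => ?_⟩
  obtain ⟨ui, vi, hui, hvi⟩ := LimRebase.exists_transfer (C := Sp S) (D.map_comp φ φ₁).symm hYi hXi
  have hrepi : Representable fi :=
    (MorphismProperty.of_isPullback hvi (hqc : RepWith @QuasiCompact f₁)).1
  obtain ⟨W, W', r, s, h', hre, hrs, sqr, hfin⟩ := h fi ui qYi hui vi hvi
  haveI : MorphismProperty.DescendsAlong @IsFinite (@Surjective ⊓ @Flat ⊓ @QuasiCompact : MorphismProperty Scheme.{u}) :=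
    Groth.Agent.FpqcDesc.descendsAlong_isFinite
  exact InfDescent.repWith_of_baseChange @IsFinite hrepi hre hrs sqr ((repWith_yon_map_iff _ _).2 hfin)

end Groth.Agent.AlgSp.LimFinite
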