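import Groth.Agent.AlgSp.LimOpen
import Groth.Agent.AlgSp.InfSpace
import Groth.Agent.AlgSpB.Art.Pieces

/-!
# Maps from a limit of algebraic spaces to a scheme locally of finite presentation
-/

universe u

open CategoryTheory CategoryTheory.Limits AlgebraicGeometry Opposite

set_option backward.isDefEq.respectTransparency.types false
set_option autoImplicit false

attribute [local instance] CategoryTheory.isConnected_of_hasTerminal

namespace Groth.Agent.AlgSp.LimHom

open _root_.AlgSp

variable {S : Scheme.{u}} [QuasiSeparatedSpace S] {I : Type u} [SmallCategory I] [IsCofiltered I] {D : I ⥤ Sp S}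
  (hD : ∀ i, IsAlgSpace (D.obj i)) (hDa : ∀ (i j : I) (φ : i ⟶ j), IsAffineMor (D.map φ))
  (hqc : ∀ i, IsQuasiCompactSp (D.obj i)) (hqs : ∀ i, IsQuasiSeparatedSp (D.obj i)) {c : Cone D} (hc : IsLimit c)

include hD hDa hqc hqs hc in
/-- A map from the limit to a scheme locally of finite presentation factors through a stage. -/
theorem exists_hom_stage (W : Over S) [LocallyOfFinitePresentation W.hom] (a : c.pt ⟶ (yon S).obj W) :
    ∃ (i : I) (h : D.obj i ⟶ (yon S).obj W), c.π.app i ≫ h = a := by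
  obtain ⟨i₀⟩ := IsCofiltered.nonempty (C := I)
  obtain ⟨U, p, hp, hps, hU⟩ := hqc i₀
  have := Groth.Agent.AlgSpB.compactSpace_points_of_isQuasiCompactSp ⟨U, p, hp, hps, hU⟩
  obtain ⟨Z, e, hZ, hze, hzs⟩ := Groth.Agent.AlgSpB.exists_affine_chart_of_compactSpace hp hps
  let g := (yon S).map e ≫ p
  obtain ⟨L, lL, q, ⟨hL⟩, -, hq, hlL, sq⟩ := LimSp.exists_isPullback hDa g c hc
  let F := LimSp.sys hDa g ⋙ Over.forget S
  have : ∀ {x y : Over i₀} (φ : x ⟶ y), IsAffineHom (F.map φ) := fun φ => LimSp.isAffineHom_sys hDa g φ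
  have hFaff : ∀ x, IsAffine (F.obj x) := fun x =>
    @isAffine_of_isAffineHom _ _ (LimSp.sysSnd hDa g x).left (LimSp.isAffineHom_sysSnd hDa g x) hZ
  have : ∀ x, CompactSpace (F.obj x) := fun x => have := hFaff x; inferInstance
  have : ∀ x, QuasiSeparatedSpace (F.obj x) := fun x => have := hFaff x; inferInstance
  let tF : F ⟶ (Functor.const (Over i₀)).obj S :=
    { app := fun x => ((LimSp.sys hDa g).obj x).hom
      naturality := fun x y φ => by
        refine Eq.trans ?_ (Category.comp_id _).symm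
        exact Over.w ((LimSp.sys hDa g).map φ) }
  -- the map on the limit of the charts
  obtain ⟨α, hα⟩ := (yon S).map_surjective (lL ≫ a)
  obtain ⟨k, αk, hαk, hαkw⟩ := Scheme.exists_π_app_comp_eq_of_locallyOfFinitePresentation F tF W.hom
    ((Over.forget S).mapCone L) hL α.left (by
      ext x
      change (L.π.app x).left ≫ ((LimSp.sys hDa g).obj x).hom = α.left ≫ W.hom
      exact (Over.w (L.π.app x)).trans (Over.w α).symm)
  let Wk := (LimSp.sys hDa g).obj k
  let αO : Wk ⟶ W := Over.homMk αk hαkw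
  have hαO : L.π.app k ≫ αO = α := Over.OverMorphism.ext hαk
  let fst := (LimSp.sysFst hDa g).app k
  have sqk := LimImm.isPullback_stage hDa hq hlL sq k
  -- the relation of the chart
  have hrep := (hD k.left).representable_from_yon fst
  obtain ⟨R, r₁, r₂, sqR⟩ := Groth.Agent.AlgSpB.exists_pullback_yon hrep fst
  have : IsAffine Wk.left := hFaff k
  have : Wk.left.IsSeparated := inferInstance
  have hr₂ : IsSeparated r₂.left := Groth.Agent.AlgSpB.Art.isSeparated_snd sqR
  have : CompactSpace R.left := LimOpen.compactSpace_of_isQuasiCompactSp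
    (Groth.Agent.AlgSp.isQuasiCompactMor_of_quasiCompactSp (IsAlgSpace.yon_obj Wk) (hD k.left) fst
      (have : CompactSpace Wk.left := ‹∀ x, CompactSpace (F.obj x)› k
       Groth.Agent.AlgSp.isQuasiCompactSp_yon Wk) (hqs k.left) (IsAlgSpace.yon_obj Wk)
      (have : CompactSpace Wk.left := ‹∀ x, CompactSpace (F.obj x)› k
       Groth.Agent.AlgSp.isQuasiCompactSp_yon Wk) fst _ _ sqR)
  have : QuasiSeparatedSpace R.left :=
    have : QuasiSeparatedSpace Wk.left := ‹∀ x, QuasiSeparatedSpace (F.obj x)› k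
    quasiSeparatedSpace_of_quasiSeparated r₂.left
  let gR : (yon S).obj R ⟶ D.obj k.left := (yon S).map r₁ ≫ fst
  obtain ⟨L', l', q', ⟨hL'⟩, -, hq', -, sq'⟩ := LimSp.exists_isPullback hDa gR c hc
  have key : ∀ r : R ⟶ Wk, (yon S).map r ≫ fst = gR → (yon S).map (q' ≫ r ≫ αO) = l' ≫ a := by
    intro r hr
    let u := sqk.lift l' ((yon S).map (q' ≫ r))
      (by rw [Functor.map_comp, Category.assoc]; exact sq'.w.trans (congrArg (fun m => (yon S).map q' ≫ m) hr.symm))
    have h1 : u ≫ lL = l' := sqk.lift_fst _ _ _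
    have h2 : u ≫ (yon S).map (L.π.app k) = (yon S).map (q' ≫ r) := sqk.lift_snd _ _ _
    rw [← Category.assoc, Functor.map_comp, ← h2, Category.assoc, ← Functor.map_comp, hαO, hα,
      ← Category.assoc, h1]
  let F' := LimSp.sys hDa gR ⋙ Over.forget S
  have : ∀ {x y : Over k.left} (φ : x ⟶ y), IsAffineHom (F'.map φ) := fun φ => LimSp.isAffineHom_sys hDa gR φ
  have hF'c : ∀ x, CompactSpace (F'.obj x) := fun x =>
    @QuasiCompact.compactSpace_of_compactSpace _ _ (LimSp.sysSnd hDa gR x).left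
      (have := LimSp.isAffineHom_sysSnd hDa gR x; inferInstanceAs (QuasiCompact (LimSp.sysSnd hDa gR x).left))
      ‹CompactSpace R.left›
  have hF'q : ∀ x, QuasiSeparatedSpace (F'.obj x) := fun x =>
    @quasiSeparatedSpace_of_quasiSeparated _ _ (LimSp.sysSnd hDa gR x).left
      ‹QuasiSeparatedSpace R.left›
      (have := LimSp.isAffineHom_sysSnd hDa gR x; inferInstanceAs (QuasiSeparated (LimSp.sysSnd hDa gR x).left))
  let tF' : F' ⟶ (Functor.const (Over k.left)).obj S :=
    { app := fun x => ((LimSp.sys hDa gR).obj x).hom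
      naturality := fun x y φ => by
        refine Eq.trans ?_ (Category.comp_id _).symm
        exact Over.w ((LimSp.sys hDa gR).map φ) }
  let top : Over k.left := Over.mk (𝟙 k.left)
  let A₁ := LimSp.sysSnd hDa gR top ≫ r₁ ≫ αO
  let A₂ := LimSp.sysSnd hDa gR top ≫ r₂ ≫ αO
  obtain ⟨j, φ, hj⟩ := Scheme.exists_hom_comp_eq_comp_of_locallyOfFiniteType F' tF' W.hom
    ((Over.forget S).mapCone L') hL' (i := top) A₁.left A₂.left (Over.w A₁).symm (Over.w A₂).symm (by
      have e : ∀ r : R ⟶ Wk, L'.π.app top ≫ LimSp.sysSnd hDa gR top ≫ r ≫ αO = q' ≫ r ≫ αO := fun r =>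
        (Category.assoc _ _ _).symm.trans (congrArg (fun f => f ≫ r ≫ αO) (hq' top))
      have : L'.π.app top ≫ A₁ = L'.π.app top ≫ A₂ := (e r₁).trans (((yon S).map_injective
        ((key r₁ rfl).trans (key r₂ sqR.w.symm).symm)).trans (e r₂).symm)
      exact congrArg CommaMorphism.left this)
  have hj' : (LimSp.sys hDa gR).map φ ≫ A₁ = (LimSp.sys hDa gR).map φ ≫ A₂ := Over.OverMorphism.ext hj
  have hj'' : LimSp.sysSnd hDa gR j ≫ r₁ ≫ αO = LimSp.sysSnd hDa gR j ≫ r₂ ≫ αO := by
    rw [← LimSp.map_sysSnd hDa gR φ, Category.assoc, Category.assoc]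
    exact hj'
  -- the chart at the new stage
  let K : Over i₀ := Over.mk (j.hom ≫ k.hom)
  let ψ : K ⟶ k := Over.homMk j.hom
  let fK := (LimSp.sysFst hDa g).app K
  let β : (yon S).obj ((LimSp.sys hDa g).obj K) ⟶ (yon S).obj W := (yon S).map ((LimSp.sys hDa g).map ψ ≫ αO)
  have sqK := (LimSp.repWith_map hDa K.hom).1.isPullback g
  have hfe : RepWith @Etale fK := MorphismProperty.of_isPullback sqK.flip hze
  have hfs : RepWith @Surjective fK := MorphismProperty.of_isPullback sqK.flip hzs
  have hn : (yon S).map ((LimSp.sys hDa g).map ψ) ≫ fst = fK ≫ D.map j.hom := (LimSp.sysFst hDa g).naturality ψ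
  obtain ⟨h, hh⟩ := InfSpace.exists_desc hfe hfs β (fun T x y hxy => by
    let m := (yon S).map ((LimSp.sys hDa g).map ψ)
    have w : (x ≫ m) ≫ fst = (y ≫ m) ≫ fst := by
      rw [Category.assoc, Category.assoc]
      exact (congrArg (fun f => x ≫ f) hn).trans ((Category.assoc _ _ _).symm.trans
        ((congrArg (fun f => f ≫ D.map j.hom) hxy).trans ((Category.assoc _ _ _).trans
          (congrArg (fun f => y ≫ f) hn.symm))))
    obtain ⟨z, hz⟩ := (yon S).map_surjective (sqR.lift (x ≫ m) (y ≫ m) w)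
    have h1 : (yon S).map z ≫ (yon S).map r₁ = x ≫ m := by rw [hz]; exact sqR.lift_fst _ _ _
    have h2 : (yon S).map z ≫ (yon S).map r₂ = y ≫ m := by rw [hz]; exact sqR.lift_snd _ _ _
    have w' : (x ≫ fK) ≫ D.map j.hom = (yon S).map z ≫ gR := by
      rw [Category.assoc, ← Category.assoc ((yon S).map z), h1, Category.assoc]
      exact congrArg (fun f => x ≫ f) hn.symm
    obtain ⟨v, hv⟩ := (yon S).map_surjective (((LimSp.repWith_map hDa j.hom).1.isPullback gR).lift _ _ w')
    have hv2 : (yon S).map v ≫ (yon S).map (LimSp.sysSnd hDa gR j) = (yon S).map z := by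
      rw [hv]; exact IsPullback.lift_snd _ _ _ _
    have e1 : x ≫ β = (yon S).map (v ≫ LimSp.sysSnd hDa gR j ≫ r₁ ≫ αO) := by
      simp only [Functor.map_comp, β]
      rw [← Category.assoc ((yon S).map v), hv2, ← Category.assoc ((yon S).map z), h1, Category.assoc]
    have e2 : y ≫ β = (yon S).map (v ≫ LimSp.sysSnd hDa gR j ≫ r₂ ≫ αO) := by
      simp only [Functor.map_comp, β]
      rw [← Category.assoc ((yon S).map v), hv2, ← Category.assoc ((yon S).map z), h2, Category.assoc]
    exact e1.trans ((congrArg (fun f => (yon S).map (v ≫ f)) hj'').trans e2.symm))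
  refine ⟨j.left, h, InfSpace.hom_ext_cover_sp (p := lL) ?_ ?_ ?_⟩
  · exact MorphismProperty.of_isPullback sq.flip hze
  · exact MorphismProperty.of_isPullback sq.flip hzs
  · have e1 : lL ≫ c.π.app j.left = (yon S).map (L.π.app K) ≫ fK := hlL K
    refine (Category.assoc _ _ _).symm.trans ((congrArg (fun f => f ≫ h) e1).trans ?_)
    rw [Category.assoc, hh, ← hα, ← hαO]
    simp only [β]
    rw [← Functor.map_comp, ← Category.assoc, L.w ψ]

end Groth.Agent.AlgSp.LimHom
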