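import Groth.Agent.AlgSp.LimMono
import Groth.Agent.LimLib.Immersion

/-!
# Closed subspaces of limits come from closed subspaces of a stage
-/

universe u

open CategoryTheory CategoryTheory.Limits AlgebraicGeometry Opposite

set_option backward.isDefEq.respectTransparency.types false
set_option autoImplicit false

attribute [local instance] CategoryTheory.isConnected_of_hasTerminal

namespace Groth.Agent.AlgSp.LimImm

open _root_.AlgSp

variable {S : Scheme.{u}} {I : Type u} [SmallCategory I] [IsCofiltered I] {D : I ⥤ Sp S}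
  (hDa : ∀ (i j : I) (φ : i ⟶ j), IsAffineMor (D.map φ)) {i₀ : I} {Z : Over S}
  {g : (yon S).obj Z ⟶ D.obj i₀} {c : Cone D} {L : Cone (LimSp.sys hDa g)}
  {l : (yon S).obj L.pt ⟶ c.pt} {q : L.pt ⟶ Z}

omit [IsCofiltered I] in
/-- The limit of the system is the fibre product of the limit with every stage of the system. -/
theorem isPullback_stage (hq : ∀ j, L.π.app j ≫ LimSp.sysSnd hDa g j = q)
    (hl : ∀ j, l ≫ c.π.app j.left = (yon S).map (L.π.app j) ≫ (LimSp.sysFst hDa g).app j)
    (sq : IsPullback l ((yon S).map q) (c.π.app i₀) g) (k : Over i₀) :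
    IsPullback l ((yon S).map (L.π.app k)) (c.π.app k.left) ((LimSp.sysFst hDa g).app k) := by
  refine IsPullback.of_bot (v₂₁ := (yon S).map (LimSp.sysSnd hDa g k)) (v₂₂ := D.map k.hom) ?_ (hl k)
    ((LimSp.repWith_map hDa k.hom).1.isPullback g)
  rw [c.w k.hom, ← Functor.map_comp, hq k]
  exact sq

include hDa in
/-- A closed subspace of finite type of the limit is eventually a closed subspace of the stages. -/
theorem eventually_closedImmersion (B : Sp S) (hB : IsAlgSpace B) (t : D ⟶ (Functor.const I).obj B)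
    (hD : ∀ i, IsAlgSpace (D.obj i)) (hc : IsLimit c) (i₁ : I) (hqc : IsQuasiCompactSp (D.obj i₁))
    (Y : Sp S) (hY : IsAlgSpace Y) (y : Y ⟶ c.pt) (hy : RepWith @IsClosedImmersion y)
    (hYB : LocP @LocallyOfFiniteType (y ≫ c.π.app i₁ ≫ t.app i₁)) :
    ∃ j : I, ∀ (i : I) (_ : i ⟶ j), RepWith @IsClosedImmersion (y ≫ c.π.app i) := by
  obtain ⟨U, p, hp, hps, hU⟩ := hqc
  have := Groth.Agent.AlgSpB.compactSpace_points_of_isQuasiCompactSp ⟨U, p, hp, hps, hU⟩
  obtain ⟨Z, e, hZ, hge, hgs⟩ := Groth.Agent.AlgSpB.exists_affine_chart_of_compactSpace hp hps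
  let g := (yon S).map e ≫ p
  obtain ⟨L, l, q, ⟨hL⟩, -, hq, hl, sq⟩ := LimSp.exists_isPullback hDa g c hc
  let F := LimSp.sys hDa g ⋙ Over.forget S
  have : ∀ j, IsAffine (F.obj j) := fun j =>
    @isAffine_of_isAffineHom _ _ (LimSp.sysSnd hDa g j).left (LimSp.isAffineHom_sysSnd hDa g j) hZ
  let a := hy.1.fst l
  let m := hy.1.snd l
  have sqY : IsPullback a ((yon S).map m) y l := hy.1.isPullback l
  have : IsClosedImmersion m.left := hy.2 _ _ _ sqY
  let tF : F ⟶ (Functor.const (Over i₁)).obj Z.left :=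
    { app := fun j => (LimSp.sysSnd hDa g j).left
      naturality := fun j k b => by
        refine Eq.trans ?_ (Category.comp_id _).symm
        exact (Over.comp_left _ _ _ _ _).symm.trans (congrArg CommaMorphism.left (LimSp.map_sysSnd hDa g b)) }
  let top : Over i₁ := Over.mk (𝟙 i₁)
  have hrep : Representable (y ≫ c.π.app i₁) :=
    MorphismProperty.comp_mem (yon S).relativelyRepresentable _ _ hy.1
      ((Groth.Agent.AlgSp.isAffineMor_iff _).1 (LimSp.isAffineMor_π hDa c hc i₁)).1
  have hyft : RepWith @LocallyOfFiniteType (y ≫ c.π.app i₁) :=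
    AlgSpCov.repWith_of_locP AlgSpCov.etaleLocal_locallyOfFiniteType hY (hD i₁) hrep
      (locP_lft_of_comp hB _ (t.app i₁) (by rw [Category.assoc]; exact hYB))
  have : LocallyOfFiniteType (m.left ≫ (L.π.app top).left ≫ tF.app top) := by
    have h := hyft.2 g a (m ≫ q) (by rw [Functor.map_comp]; exact sqY.paste_vert sq)
    rw [← hq top] at h
    exact h
  let mL : (hy.1.pullback l).left ⟶ ((Over.forget S).mapCone L).pt := m.left
  have : IsClosedImmersion mL := ‹IsClosedImmersion m.left›
  have : LocallyOfFiniteType (mL ≫ ((Over.forget S).mapCone L).π.app top ≫ tF.app top) :=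
    ‹LocallyOfFiniteType (m.left ≫ (L.π.app top).left ≫ tF.app top)›
  obtain ⟨j, -, hj⟩ := Groth.Agent.LimLib.exists_isClosedImmersion_π_of_isAffine
    (E := F) (e := (Over.forget S).mapCone L) hL tF mL top
  refine ⟨j.left, fun i b => ?_⟩
  let k : Over i₁ := Over.mk (b ≫ j.hom)
  let bk : k ⟶ j := Over.homMk b
  have hk : IsClosedImmersion (m.left ≫ (L.π.app k).left) := by
    have : IsClosedImmersion ((m.left ≫ (L.π.app k).left) ≫ F.map bk) := by
      have e : (L.π.app k).left ≫ F.map bk = (L.π.app j).left :=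
        (Over.comp_left _ _ _ _ _).symm.trans (congrArg CommaMorphism.left (L.w bk))
      rw [Category.assoc]
      exact (congrArg (fun f => IsClosedImmersion (m.left ≫ f)) e).mpr hj
    exact @IsClosedImmersion.of_comp _ _ _ (m.left ≫ (L.π.app k).left) (F.map bk) this
      (have : IsAffineHom (F.map bk) := LimSp.isAffineHom_sys hDa g bk
       (inferInstance : IsSeparated (F.map bk)))
  have sqk := sqY.paste_vert (isPullback_stage hDa hq hl sq k)
  rw [← Functor.map_comp] at sqk
  have sqj := (LimSp.repWith_map hDa k.hom).1.isPullback g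
  have hfst : RepWith @Etale ((LimSp.sysFst hDa g).app k) := MorphismProperty.of_isPullback sqj.flip hge
  have hfsts : RepWith @Surjective ((LimSp.sysFst hDa g).app k) := MorphismProperty.of_isPullback sqj.flip hgs
  have := Groth.Agent.AlgSp.isLocallySurjective_of_etale_surjective _ hfst hfsts
  exact @Groth.Agent.AlgSp.repWith_isClosedImmersion_of_baseChange _ _ _ _ _ (y ≫ c.π.app i)
    ((LimSp.sysFst hDa g).app k) this _ _ sqk ((repWith_yon_map_iff _ _).2 hk)

end Groth.Agent.AlgSp.LimImm
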