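import Groth.Agent.AlgSp.LimImm
import Groth.Agent.AlgSp.DescentImm
import Groth.Agent.AlgSpB.Open
import Groth.Agent.LimLib.Smooth

/-!
# Subspaces of limits come from subspaces of a stage
-/

universe u

open CategoryTheory CategoryTheory.Limits AlgebraicGeometry Opposite

set_option backward.isDefEq.respectTransparency.types false
set_option autoImplicit false

attribute [local instance] CategoryTheory.isConnected_of_hasTerminal

namespace Groth.Agent.AlgSp.LimImm

open _root_.AlgSp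

variable {S : Scheme.{u}}

/-- A compact set of points lies in the image of an affine etale chart. -/
theorem exists_affine_chart_of_isCompact {F : Sp S} (hF : IsAlgSpace F) {K : Set (Points F)}
    (hK : IsCompact K) :
    ∃ (Z : Over S) (g : (yon S).obj Z ⟶ F), IsAffine Z.left ∧ RepWith @Etale g ∧
      K ⊆ Set.range (Points.ofPt g) := by
  obtain ⟨U, p, hp, hs⟩ := hF.atlas
  let W : U.left.affineOpens → Set (Points F) := fun V => Points.ofPt p '' (V.1 : Set ↥U.left)
  have hWo : ∀ V, IsOpen (W V) := fun V => Groth.Agent.AlgSpB.isOpenMap_ofPt hp _ V.1.isOpen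
  have hWc : K ⊆ ⋃ V, W V := by
    intro x _
    obtain ⟨u, rfl⟩ := Groth.Agent.AlgSpB.surjective_ofPt hs x
    obtain ⟨V, hV, hu, -⟩ := exists_isAffineOpen_mem_and_subset (x := u) (U := ⊤) trivial
    exact Set.mem_iUnion.2 ⟨⟨V, hV⟩, u, hu, rfl⟩
  obtain ⟨t, ht⟩ := hK.elim_finite_subcover W hWo hWc
  let X : {i // i ∈ t} → Scheme.{u} := fun i => (i.1.1 : Scheme.{u})
  have hX : ∀ i, IsAffine (X i) := fun i => i.1.2
  let q : (∐ X) ⟶ U.left := Sigma.desc fun i : {i // i ∈ t} => i.1.1.ι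
  have hq : Etale q :=
    IsZariskiLocalAtSource.sigmaDesc (P := @Etale) fun i =>
      (inferInstance : Etale (i.1.1 : U.left.Opens).ι)
  let V : Over S := Over.mk (q ≫ U.hom)
  let g : V ⟶ U := Over.homMk q rfl
  have : Etale g.left := hq
  refine ⟨V, (yon S).map g ≫ p, inferInstanceAs (IsAffine (∐ X)),
    Groth.Agent.AlgSpB.repWith_etale_map_comp g hp, fun x hx => ?_⟩
  obtain ⟨i, hi⟩ := Set.mem_iUnion₂.1 (ht hx)
  obtain ⟨u, hu, rfl⟩ := hi.2
  refine ⟨Sigma.ι X ⟨i, hi.1⟩ ⟨u, hu⟩, ?_⟩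
  rw [Groth.Agent.AlgSpB.ofPt_map_comp]
  congr 1
  change q (Sigma.ι X ⟨i, hi.1⟩ ⟨u, hu⟩) = u
  rw [← Scheme.Hom.comp_apply, Sigma.ι_desc]
  rfl

/-- A compact subscheme of finite type of a limit of schemes is eventually a subscheme of the stages. -/
theorem exists_isImmersion_π {J : Type u} [SmallCategory J] [IsCofiltered J] {F : J ⥤ Scheme.{u}}
    [∀ (i j : J) (b : i ⟶ j), IsAffineHom (F.map b)] [∀ j, CompactSpace (F.obj j)]
    [∀ j, QuasiSeparatedSpace (F.obj j)] {e : Cone F}
    (he : IsLimit e) {T : Scheme.{u}} (t : F ⟶ (Functor.const J).obj T) {Y : Scheme.{u}} (m : Y ⟶ e.pt)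
    [IsImmersion m] [CompactSpace Y] (j₀ : J) [LocallyOfFiniteType (m ≫ e.π.app j₀ ≫ t.app j₀)] :
    ∃ j : J, ∀ (i : J) (_ : i ⟶ j), IsImmersion (m ≫ e.π.app i) := by
  obtain ⟨O, hOc, hmO, hOU⟩ := Groth.Agent.LimLib.exists_isCompact_opens_between
    (isCompact_range m.continuous) m.coborderRange subset_coborder
  obtain ⟨i₁, V₁, hV₁c, hV₁⟩ := exists_preimage_eq F e he O hOc
  obtain ⟨i₀, a₁, a₂, -⟩ : ∃ (i₀ : J) (_ : i₀ ⟶ i₁) (_ : i₀ ⟶ j₀), True :=
    ⟨_, IsCofiltered.minToLeft i₁ j₀, IsCofiltered.minToRight i₁ j₀, trivial⟩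
  obtain ⟨V, hVc, hV⟩ : ∃ V : (F.obj i₀).Opens, IsCompact (V : Set (F.obj i₀)) ∧ e.π.app i₀ ⁻¹ᵁ V = O := by
    refine ⟨F.map a₁ ⁻¹ᵁ V₁, ?_, by rw [← Scheme.Hom.comp_preimage, e.w, hV₁]⟩
    exact QuasiCompact.isCompact_preimage _ V₁.2 hV₁c
  subst hV
  let W := e.π.app i₀ ⁻¹ᵁ V
  have hpre : m ⁻¹ᵁ W = ⊤ := top_le_iff.mp fun x _ => hmO ⟨x, rfl⟩
  let m' : Y ⟶ (W : Scheme.{u}) := IsOpenImmersion.lift W.ι m (by rw [Scheme.Opens.range_ι]; exact hmO)
  have hm' : m' ≫ W.ι = m := IsOpenImmersion.lift_fac _ _ _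
  have : IsImmersion (m' ≫ W.ι) := by rw [hm']; infer_instance
  have : IsImmersion m' := IsImmersion.of_comp m' W.ι
  have : IsClosedImmersion m' := by
    refine IsClosedImmersion.of_isPreimmersion _ ?_
    have h₁ : IsClosed (Subtype.val ⁻¹' Set.range m : Set (coborder (Set.range m))) :=
      isClosed_preimage_val_coborder
    have h₂ : Continuous fun x : W => (⟨x.1, hOU x.2⟩ : coborder (Set.range m)) :=
      continuous_subtype_val.subtype_mk _
    suffices e' : Set.range m' = (fun x : (W : Scheme.{u}) =>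
        (⟨x.1, hOU x.2⟩ : coborder (Set.range m))) ⁻¹' (Subtype.val ⁻¹' Set.range m) by
      rw [e']; exact h₁.preimage h₂
    ext x
    constructor
    · rintro ⟨y, rfl⟩
      exact ⟨y, ((Scheme.Hom.comp_apply m' W.ι y).symm.trans congr($hm' y)).symm⟩
    · rintro ⟨y, hy⟩
      exact ⟨y, Subtype.ext (((Scheme.Hom.comp_apply m' W.ι y).symm.trans congr($hm' y)).trans hy)⟩
  -- the subsystem over `T`
  let G : Over i₀ ⥤ Over T :=
    { obj := fun j => Over.mk (show (opensDiagram F i₀ V).obj j ⟶ T from (F.map j.hom ⁻¹ᵁ V).ι ≫ t.app j.left)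
      map := fun {j k} b => Over.homMk ((opensDiagram F i₀ V).map b) (by
        have hn : F.map b.left ≫ t.app k.left = t.app j.left := (t.naturality b.left).trans (Category.comp_id _)
        change (F.map b.left).resLE _ _ _ ≫ (F.map k.hom ⁻¹ᵁ V).ι ≫ t.app k.left = _
        rw [Scheme.Hom.resLE_comp_ι_assoc, hn]
        rfl)
      map_id := fun j => Over.OverMorphism.ext ((opensDiagram F i₀ V).map_id j)
      map_comp := fun b b' => Over.OverMorphism.ext ((opensDiagram F i₀ V).map_comp b b') }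
  let top : Over i₀ := Over.mk (𝟙 i₀)
  let cG : Cone G :=
    { pt := Over.mk ((opensCone F e i₀ V).π.app top ≫ (F.map top.hom ⁻¹ᵁ V).ι ≫ t.app i₀)
      π :=
        { app := fun j => Over.homMk ((opensCone F e i₀ V).π.app j) (by
            have hw := (opensCone F e i₀ V).w (Over.homMk j.hom : j ⟶ top)
            change (opensCone F e i₀ V).π.app j ≫ (G.obj j).hom = (opensCone F e i₀ V).π.app top ≫ (G.obj top).hom
            have hG : (opensDiagram F i₀ V).map (Over.homMk j.hom : j ⟶ top) ≫ (G.obj top).hom = (G.obj j).hom :=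
              Over.w (G.map (Over.homMk j.hom : j ⟶ top))
            rw [← hG, ← hw, Category.assoc])
          naturality := fun j k b => Over.OverMorphism.ext ((opensCone F e i₀ V).π.naturality b) } }
  have hG : IsLimit cG := isLimitOfReflects (Over.forget T)
    (IsLimit.ofIsoLimit (isLimitOpensCone F e he i₀ V) (Cone.ext (Iso.refl _) fun j => (Category.id_comp _).symm))
  have : ∀ (i j : Over i₀) (b : i ⟶ j), IsAffineHom (G.map b).left := fun i j b =>
    (inferInstance : IsAffineHom ((opensDiagram F i₀ V).map b))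
  have : ∀ j, CompactSpace (G.obj j).left := fun j =>
    isCompact_iff_compactSpace.mp (QuasiCompact.isCompact_preimage _ V.2 hVc)
  have : LocallyOfFiniteType (m' ≫ cG.pt.hom) := by
    have hn : F.map a₂ ≫ t.app j₀ = t.app i₀ := (t.naturality a₂).trans (Category.comp_id _)
    have e1 : m' ≫ cG.pt.hom = m ≫ e.π.app j₀ ≫ t.app j₀ := by
      change m' ≫ (e.π.app i₀).resLE _ _ _ ≫ (F.map top.hom ⁻¹ᵁ V).ι ≫ t.app i₀ = _
      rw [Scheme.Hom.resLE_comp_ι_assoc, ← e.w a₂, ← hn, Category.assoc]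
      exact (Category.assoc _ _ _).symm.trans (congrArg (fun k => k ≫ e.π.app i₀ ≫ F.map a₂ ≫ t.app j₀) hm')
    rw [e1]; infer_instance
  have hcl : @IsClosedImmersion Y cG.pt.left m' := ‹IsClosedImmersion m'›
  obtain ⟨j, hj⟩ := @Groth.Agent.LimLib.exists_isClosedImmersion_π (Over i₀) _ _ T G cG hG _ _ Y m' hcl ‹_›
  refine ⟨j.left, fun i b => ?_⟩
  let k : Over i₀ := Over.mk (b ≫ j.hom)
  let bk : k ⟶ j := Over.homMk b
  have hk : IsClosedImmersion (m' ≫ (opensCone F e i₀ V).π.app k) := by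
    have : IsClosedImmersion ((m' ≫ (opensCone F e i₀ V).π.app k) ≫ (opensDiagram F i₀ V).map bk) := by
      exact ((congrArg (fun f => IsClosedImmersion f) ((Category.assoc _ _ _).trans
        (congrArg (fun f => m' ≫ f) ((opensCone F e i₀ V).w bk))))).mpr hj
    exact IsClosedImmersion.of_comp _ ((opensDiagram F i₀ V).map bk)
  have e2 : m ≫ e.π.app i = (m' ≫ (opensCone F e i₀ V).π.app k) ≫ (F.map k.hom ⁻¹ᵁ V).ι := by
    change _ = (m' ≫ (e.π.app i).resLE _ _ _) ≫ _
    rw [Category.assoc, Scheme.Hom.resLE_comp_ι, ← Category.assoc]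
    exact congrArg (fun l => l ≫ e.π.app i) hm'.symm
  rw [e2]
  have : IsImmersion (m' ≫ (opensCone F e i₀ V).π.app k) := inferInstance
  exact MorphismProperty.comp_mem @IsImmersion _ _ this (inferInstanceAs (IsImmersion (F.map k.hom ⁻¹ᵁ V).ι))

variable {I : Type u} [SmallCategory I] [IsCofiltered I] {D : I ⥤ Sp S}
  (hDa : ∀ (i j : I) (φ : i ⟶ j), IsAffineMor (D.map φ)) {c : Cone D}

include hDa in
/-- A subspace of finite type of the limit is eventually a subspace of the stages. -/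
theorem eventually_immersion [QuasiSeparatedSpace S] (B : Sp S) (hB : IsAlgSpace B)
    (t : D ⟶ (Functor.const I).obj B) (hD : ∀ i, IsAlgSpace (D.obj i)) (hc : IsLimit c)
    (hqs : ∀ i, IsQuasiSeparatedSp (D.obj i)) (Y : Sp S) (hY : IsAlgSpace Y) (hYqc : IsQuasiCompactSp Y)
    (y : Y ⟶ c.pt) (hy : RepWith @IsImmersion y) (i₁ : I)
    (hYB : LocP @LocallyOfFiniteType (y ≫ c.π.app i₁ ≫ t.app i₁)) :
    ∃ j : I, ∀ (i : I) (_ : i ⟶ j), RepWith @IsImmersion (y ≫ c.π.app i) := by
  have := Groth.Agent.AlgSpB.compactSpace_points_of_isQuasiCompactSp hYqc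
  let y₁ := y ≫ c.π.app i₁
  obtain ⟨Z, g, hZ, hge, hKg⟩ := exists_affine_chart_of_isCompact (hD i₁)
    (isCompact_range (Points.continuous_map y₁))
  obtain ⟨L, l, q, ⟨hL⟩, -, hq, hl, sq⟩ := LimSp.exists_isPullback hDa g c hc
  let F := LimSp.sys hDa g ⋙ Over.forget S
  have hFaff : ∀ j, IsAffine (F.obj j) := fun j =>
    @isAffine_of_isAffineHom _ _ (LimSp.sysSnd hDa g j).left (LimSp.isAffineHom_sysSnd hDa g j) hZ
  have : ∀ (i j : Over i₁) (b : i ⟶ j), IsAffineHom (F.map b) := fun _ _ b => LimSp.isAffineHom_sys hDa g b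
  let a := hy.1.fst l
  let m := hy.1.snd l
  have sqY : IsPullback a ((yon S).map m) y l := hy.1.isPullback l
  have : IsImmersion m.left := hy.2 _ _ _ sqY
  have hrep : Representable y₁ :=
    MorphismProperty.comp_mem (yon S).relativelyRepresentable _ _ hy.1
      ((Groth.Agent.AlgSp.isAffineMor_iff _).1 (LimSp.isAffineMor_π hDa c hc i₁)).1
  have hyft : RepWith @LocallyOfFiniteType y₁ :=
    AlgSpCov.repWith_of_locP AlgSpCov.etaleLocal_locallyOfFiniteType hY (hD i₁) hrep
      (locP_lft_of_comp hB _ (t.app i₁) (by simpa only [y₁, Category.assoc] using hYB))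
  have sqZ : IsPullback a ((yon S).map (m ≫ q)) y₁ g := by
    rw [Functor.map_comp]; exact sqY.paste_vert sq
  have hyqc : RepWith @QuasiCompact y₁ :=
    (Groth.Agent.AlgSp.repWith_quasiCompact_iff (hD i₁) y₁ hrep).2
      (Groth.Agent.AlgSp.isQuasiCompactMor_of_quasiCompactSp hY (hD i₁) y₁ hYqc (hqs i₁))
  have : QuasiCompact (m ≫ q).left := hyqc.2 _ _ _ sqZ
  have : CompactSpace (hy.1.pullback l).left := QuasiCompact.compactSpace_of_compactSpace (m ≫ q).left
  let tF : F ⟶ (Functor.const (Over i₁)).obj Z.left :=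
    { app := fun j => (LimSp.sysSnd hDa g j).left
      naturality := fun j k b => by
        refine Eq.trans ?_ (Category.comp_id _).symm
        exact (Over.comp_left _ _ _ _ _).symm.trans (congrArg CommaMorphism.left (LimSp.map_sysSnd hDa g b)) }
  let top : Over i₁ := Over.mk (𝟙 i₁)
  let mL : (hy.1.pullback l).left ⟶ ((Over.forget S).mapCone L).pt := m.left
  have : IsImmersion mL := ‹IsImmersion m.left›
  have : LocallyOfFiniteType (mL ≫ ((Over.forget S).mapCone L).π.app top ≫ tF.app top) := by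
    have h := hyft.2 g a (m ≫ q) sqZ
    rw [← hq top] at h
    exact h
  have : ∀ j, CompactSpace (F.obj j) := fun j => have := hFaff j; inferInstance
  have : ∀ j, QuasiSeparatedSpace (F.obj j) := fun j => have := hFaff j; inferInstance
  obtain ⟨j, hj⟩ := exists_isImmersion_π (F := F) hL tF mL top
  refine ⟨j.left, fun i b => ?_⟩
  let k : Over i₁ := Over.mk (b ≫ j.hom)
  have hk : IsImmersion (m.left ≫ (L.π.app k).left) := hj k (Over.homMk b)
  have sqk := sqY.paste_vert (isPullback_stage hDa hq hl sq k)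
  rw [← Functor.map_comp] at sqk
  have sqj := (LimSp.repWith_map hDa k.hom).1.isPullback g
  let fk : (yon S).obj ((LimSp.sys hDa g).obj k) ⟶ D.obj i := (LimSp.sysFst hDa g).app k
  have hfst : RepWith @Etale fk := MorphismProperty.of_isPullback sqj.flip hge
  -- the open subspace which is the image of the chart
  have hopen : IsOpen (Set.range (Points.ofPt fk)) := (Groth.Agent.AlgSpB.isOpenMap_ofPt hfst).isOpen_range
  let W := AlgSpB.openSub (D.obj i) (Set.range (Points.ofPt fk))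
  let jW : W ⟶ D.obj i := AlgSpB.openSubι (D.obj i) (Set.range (Points.ofPt fk))
  have hjW : RepWith @IsOpenImmersion jW := AlgSpB.repWith_openSubι hopen
  have := Groth.Agent.AlgSpB.mono_of_isOpenImmersion hjW
  obtain ⟨v, hv⟩ : ∃ v : (yon S).obj ((LimSp.sys hDa g).obj k) ⟶ W, v ≫ jW = fk :=
    (AlgSpB.exists_lift_openSub_iff (Set.range (Points.ofPt fk)) fk).2 fun z => ⟨z, rfl⟩
  obtain ⟨y', hy'⟩ := (AlgSpB.exists_factor_isOpenImmersion_iff hjW (y ≫ c.π.app i)).2 (by
    rw [AlgSpB.range_openSubι]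
    rintro _ ⟨x, rfl⟩
    obtain ⟨z, hz⟩ := hKg ⟨x, rfl⟩
    have h1 : Points.map (D.map k.hom) (Points.map (y ≫ c.π.app i) x) = Points.map g (Points.ofScheme Z z) := by
      rw [← Points.ofPt_eq_map_ofScheme, hz, ← Points.map_comp, Category.assoc]
      exact congrArg (fun h => Points.map (y ≫ h) x) (c.w k.hom)
    obtain ⟨w, hw, -⟩ := AlgSpB.exists_of_isPullback sqj _ _ h1
    exact ⟨Points.toScheme _ w, by rw [Points.ofPt_eq_map_ofScheme, Points.ofScheme_toScheme]; exact hw⟩)
  have hvsq : IsPullback (𝟙 _) v fk jW := by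
    refine IsPullback.of_isLimit' ⟨by rw [hv]; exact Category.id_comp _⟩ (PullbackCone.IsLimit.mk _ (fun s => s.fst)
      (fun s => Category.comp_id _) (fun s => ?_) fun s l h _ => (Category.comp_id _).symm.trans h)
    rw [← cancel_mono jW, Category.assoc, hv, s.condition]
  have hve : RepWith @Etale v := MorphismProperty.of_isPullback hvsq hfst
  have hvs : RepWith @Surjective v := by
    refine Groth.Agent.AlgSpB.repWith_surjective_of_surjective_ofPt hve.1 fun w => ?_
    obtain ⟨z, hz⟩ : Points.map jW w ∈ Set.range (Points.ofPt fk) :=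
      (AlgSpB.range_openSubι (Set.range (Points.ofPt fk))).le ⟨w, rfl⟩
    refine ⟨z, AlgSpB.injective_map_of_mono jW ?_⟩
    rw [Points.map_ofPt, hv, hz]
  have := Groth.Agent.AlgSp.isLocallySurjective_of_etale_surjective _ hve hvs
  have sqv : IsPullback (hy.1.fst l) ((yon S).map (m ≫ L.π.app k)) y' v := by
    have hsq' : IsPullback (hy.1.fst l) ((yon S).map (m ≫ L.π.app k)) (y' ≫ jW) fk := by
      rw [hy']; exact sqk
    refine IsPullback.of_bot (v₂₁ := 𝟙 _) (v₂₂ := jW) (h₃₁ := fk) ?_ ?_ ?_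
    · rw [Category.comp_id]; exact hsq'
    · rw [← cancel_mono jW, Category.assoc, Category.assoc, hv]
      exact hsq'.w
    · refine IsPullback.of_isLimit' ⟨hv.trans (Category.id_comp _).symm⟩ (PullbackCone.IsLimit.mk _ (fun s => s.snd)
        (fun s => ?_) (fun s => Category.comp_id _) fun s l _ h => (Category.comp_id _).symm.trans h)
      rw [← cancel_mono jW, Category.assoc, hv, s.condition]
  have hy'' : RepWith @IsImmersion y' :=
    @Groth.Agent.AlgSp.repWith_isImmersion_of_baseChange _ _ _ _ _ y' v this _ _ sqv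
      ((repWith_yon_map_iff _ _).2 hk)
  have hjW' : RepWith @IsImmersion jW := ⟨hjW.1, fun _ _ g fst snd sq =>
    haveI : IsOpenImmersion snd.left := hjW.2 g fst snd sq
    (inferInstance : IsImmersion snd.left)⟩
  exact hy' ▸ AlgSpCov.repWith_comp hy'' hjW'

end Groth.Agent.AlgSp.LimImm
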