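import Groth.Agent.AlgSp.LimImm
import Mathlib.AlgebraicGeometry.Morphisms.FinitePresentation

/-!
# Surjectivity descends through limits
-/

universe u

open CategoryTheory CategoryTheory.Limits AlgebraicGeometry Opposite Topology

set_option backward.isDefEq.respectTransparency.types false
set_option autoImplicit false

attribute [local instance] CategoryTheory.isConnected_of_hasTerminal

namespace Groth.Agent.AlgSp.LimSurj

open _root_.AlgSp

variable {S : Scheme.{u}}

/-- A constructible subset of an affine scheme is the range of an affine scheme. -/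
theorem exists_affine_range {Z : Over S} [IsAffine Z.left] {T : Set Z.left} (hT : IsConstructible T) :
    ∃ (Z' : Over S) (e : Z' ⟶ Z), IsAffine Z'.left ∧ Set.range e.left = T := by
  obtain ⟨R, _, f, hf⟩ := PrimeSpectrum.exists_range_eq_of_isConstructible
    (Z.left.isoSpec.inv.isConstructible_preimage hT :
      IsConstructible (X := PrimeSpectrum Γ(Z.left, ⊤)) (Z.left.isoSpec.inv ⁻¹' T))
  let e₀ : Spec (CommRingCat.of R) ⟶ Z.left := Spec.map (CommRingCat.ofHom f) ≫ Z.left.isoSpec.inv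
  refine ⟨Over.mk (e₀ ≫ Z.hom), Over.homMk e₀ rfl, inferInstanceAs (IsAffine (Spec (CommRingCat.of R))), ?_⟩
  change Set.range e₀ = T
  rw [Scheme.Hom.comp_base, TopCat.coe_comp, Set.range_comp]
  erw [hf]
  exact Set.image_preimage_eq T Z.left.isoSpec.inv.homeomorph.surjective

variable {I : Type u} [SmallCategory I] [IsCofiltered I] {D : I ⥤ Sp S}

/-- A morphism of finite presentation which becomes surjective over the limit is surjective over a stage. -/
theorem descend_surjective [QuasiSeparatedSpace S]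
    (hDa : ∀ (i j : I) (φ : i ⟶ j), IsAffineMor (D.map φ)) (c : Cone D) (hc : IsLimit c) (i₀ : I)
    (X₀ Y₀ : Sp S) (hX₀ : IsAlgSpace X₀) (hY₀ : IsAlgSpace Y₀) (f₀ : X₀ ⟶ Y₀) (b₀ : Y₀ ⟶ D.obj i₀)
    (hXqc : IsQuasiCompactSp X₀) (hYqc : IsQuasiCompactSp Y₀) (hYqs : IsQuasiSeparatedSp Y₀)
    (X Y : Sp S) (f : X ⟶ Y) (pY : Y ⟶ Y₀) (qY : Y ⟶ c.pt) (hY : IsPullback pY qY b₀ (c.π.app i₀))
    (pX : X ⟶ X₀) (hX : IsPullback pX f f₀ pY) (hf : IsSurjectiveMor f)
    (hf₀ : LocP @LocallyOfFinitePresentation f₀) :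
    ∃ (i : I) (φ : i ⟶ i₀), ∀ (Xi Yi : Sp S) (fi : Xi ⟶ Yi) (pYi : Yi ⟶ Y₀) (qYi : Yi ⟶ D.obj i)
      (_ : IsPullback pYi qYi b₀ (D.map φ)) (pXi : Xi ⟶ X₀) (_ : IsPullback pXi fi f₀ pYi),
      IsSurjectiveMor fi := by
  obtain ⟨U, p, hp, hps, hU⟩ := hYqc
  have := Groth.Agent.AlgSpB.compactSpace_points_of_isQuasiCompactSp ⟨U, p, hp, hps, hU⟩
  obtain ⟨Z, e, hZ, hge, hgs⟩ := Groth.Agent.AlgSpB.exists_affine_chart_of_compactSpace hp hps
  let a := (yon S).map e ≫ p
  have hPD : IsAlgSpace (pullback f₀ a) :=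
    Groth.Agent.AlgSp.isAlgSpace_pullback hY₀ hX₀ (IsAlgSpace.yon_obj Z) _ _
  have : CompactSpace Z.left := inferInstance
  have hPc : IsQuasiCompactSp (pullback f₀ a) :=
    Groth.Agent.AlgSp.isQuasiCompactMor_of_quasiCompactSp hX₀ hY₀ f₀ hXqc hYqs (IsAlgSpace.yon_obj Z)
      (Groth.Agent.AlgSp.isQuasiCompactSp_yon Z) a _ _ (IsPullback.of_hasPullback f₀ a)
  obtain ⟨U', p', hp', hps', hU'⟩ := hPc
  have := Groth.Agent.AlgSpB.compactSpace_points_of_isQuasiCompactSp ⟨U', p', hp', hps', hU'⟩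
  obtain ⟨V, e', hV, hve, hvs⟩ := Groth.Agent.AlgSpB.exists_affine_chart_of_compactSpace hp' hps'
  let v := (yon S).map e' ≫ p'
  obtain ⟨m, hm⟩ := (yon S).map_surjective (v ≫ pullback.snd f₀ a)
  have : LocallyOfFinitePresentation m.left :=
    (AlgSpCov.locP_baseChange AlgSpCov.etaleLocal_locallyOfFinitePresentation hX₀ hY₀
      (IsPullback.of_hasPullback f₀ a) hf₀) v (𝟙 _) m hve (MorphismProperty.id_mem _ _)
      (by rw [Category.comp_id, hm])
  have : QuasiCompact m.left := inferInstance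
  have hcons : IsConstructible ((Set.range m.left)ᶜ : Set Z.left) := by
    rw [← Set.image_univ]
    exact (m.left.isConstructible_image IsConstructible.univ).compl
  obtain ⟨Z', e₁, hZ', hr⟩ := exists_affine_range hcons
  let g' := (yon S).map e₁ ≫ a ≫ b₀
  have hrange : ∀ (x : Points X₀) (z : Z.left), Points.map f₀ x = Points.ofPt a z →
      z ∈ Set.range m.left := by
    intro x z h
    rw [Points.ofPt_eq_map_ofScheme] at h
    obtain ⟨P, -, hP⟩ := Groth.Agent.AlgSpB.exists_of_isPullback (IsPullback.of_hasPullback f₀ a) x _ h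
    obtain ⟨w, rfl⟩ := Groth.Agent.AlgSpB.surjective_ofPt hvs P
    refine ⟨w, ?_⟩
    rw [← Points.toScheme_ofScheme Z z, ← hP, Points.map_ofPt, ← hm, Points.toScheme_ofPt]
  obtain ⟨k, hk⟩ : ∃ k : Over i₀, IsEmpty ((LimSp.sys hDa g').obj k).left := by
    by_contra hcon
    obtain ⟨L, l, q, ⟨hL⟩, -, -, -, sq⟩ := LimSp.exists_isPullback hDa g' c hc
    let F := LimSp.sys hDa g' ⋙ Over.forget S
    have : ∀ {j k : Over i₀} (b : j ⟶ k), IsAffineHom (F.map b) := fun b => LimSp.isAffineHom_sys hDa g' b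
    have : ∀ j, CompactSpace (F.obj j) := fun j =>
      have : IsAffine (F.obj j) :=
        @isAffine_of_isAffineHom _ _ (LimSp.sysSnd hDa g' j).left (LimSp.isAffineHom_sysSnd hDa g' j) hZ'
      inferInstance
    have : ∀ j, Nonempty (F.obj j) := fun j => not_isEmpty_iff.1 fun h => hcon ⟨j, h⟩
    obtain ⟨x⟩ := Scheme.nonempty_of_isLimit F _ hL
    let z := e₁.left (q.left x)
    have hz : z ∈ ((Set.range m.left)ᶜ : Set Z.left) := hr.le ⟨_, rfl⟩
    have h1 : Points.map b₀ (Points.ofPt a z) = Points.map (c.π.app i₀) (Points.ofPt l x) := by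
      rw [Points.map_ofPt, Points.map_ofPt, sq.w, Groth.Agent.AlgSpB.ofPt_map_comp,
        Groth.Agent.AlgSpB.ofPt_map_comp]
    obtain ⟨y, hy, -⟩ := Groth.Agent.AlgSpB.exists_of_isPullback hY _ _ h1
    obtain ⟨x', rfl⟩ := hf y
    refine hz (hrange (Points.map pX x') z ?_)
    rw [← Points.map_comp, hX.w, Points.map_comp, hy]
  refine ⟨k.left, k.hom, fun Xi Yi fi pYi qYi hYi pXi hXi y => ?_⟩
  obtain ⟨z, hz⟩ := Groth.Agent.AlgSpB.surjective_ofPt hgs (Points.map pYi y)
  have hzm : z ∈ Set.range m.left := by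
    by_contra hn
    obtain ⟨z', hz'⟩ := hr.ge hn
    have h1 : Points.map (D.map k.hom) (Points.map qYi y) = Points.map g' (Points.ofScheme Z' z') := by
      rw [← Points.ofPt_eq_map_ofScheme]
      simp only [g']
      rw [Groth.Agent.AlgSpB.ofPt_map_comp, hz', ← Points.map_ofPt, hz, ← Points.map_comp, ← Points.map_comp,
        hYi.w]
    obtain ⟨w, -, -⟩ := Groth.Agent.AlgSpB.exists_of_isPullback
      ((LimSp.repWith_map hDa k.hom).1.isPullback g') _ _ h1
    exact hk.false (Points.toScheme _ w)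
  obtain ⟨w, rfl⟩ := hzm
  have hx : Points.map f₀ (Points.ofPt (v ≫ pullback.fst f₀ a) w) = Points.map pYi y := by
    rw [Points.map_ofPt, Category.assoc, pullback.condition, ← Category.assoc, ← hm,
      Groth.Agent.AlgSpB.ofPt_map_comp, hz]
  obtain ⟨P, -, hP⟩ := Groth.Agent.AlgSpB.exists_of_isPullback hXi _ _ hx
  exact ⟨P, hP⟩

end Groth.Agent.AlgSp.LimSurj
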