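import Groth.Agent.AlgSp.PointsMor
import Groth.Prelude.Def_AlgSpDec
import Mathlib.AlgebraicGeometry.Morphisms.FlatMono
import Mathlib.AlgebraicGeometry.Morphisms.UniversallyInjective

/-!
# Universally injective morphisms of algebraic spaces
-/

universe u

open CategoryTheory CategoryTheory.Limits AlgebraicGeometry Opposite Topology

set_option backward.isDefEq.respectTransparency.types false

namespace Groth.Agent.AlgSp

open Groth.Agent.AlgSpB (exists_of_isPullback ofPt_map_comp exists_eq_ofPt_toHom)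

variable {S : Scheme.{u}}

/-- Two points of spectra of fields define the same point exactly when they agree over a common field. -/
theorem exists_field_of_eq {F : AlgSp.Sp S} {K L : Type u} [Field K] [Field L]
    {σ : Spec (CommRingCat.of K) ⟶ S} {τ : Spec (CommRingCat.of L) ⟶ S}
    (a : (AlgSp.yon S).obj (Over.mk σ) ⟶ F) (b : (AlgSp.yon S).obj (Over.mk τ) ⟶ F)
    (h : AlgSp.Points.ofPt a (IsLocalRing.closedPoint K) = AlgSp.Points.ofPt b (IsLocalRing.closedPoint L)) :
    ∃ (Ω : Type u) (_ : Field Ω) (w : Spec (CommRingCat.of Ω) ⟶ S) (i : Over.mk w ⟶ Over.mk σ)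
      (j : Over.mk w ⟶ Over.mk τ), (AlgSp.yon S).map i ≫ a = (AlgSp.yon S).map j ≫ b := by
  rw [AlgSp.Points.ofPt_eq_map_ofScheme, AlgSp.Points.ofPt_eq_map_ofScheme] at h
  obtain ⟨p, -, -⟩ := exists_of_isPullback (IsPullback.of_hasPullback a b) _ _ h
  obtain ⟨q, -⟩ := exists_eq_ofPt_toHom p
  obtain ⟨i, hi⟩ := (AlgSp.yon S).map_surjective (q.toHom ≫ pullback.fst a b)
  obtain ⟨j, hj⟩ := (AlgSp.yon S).map_surjective (q.toHom ≫ pullback.snd a b)
  exact ⟨q.K, q.field, q.str, i, j, by rw [hi, hj, Category.assoc, Category.assoc, pullback.condition]⟩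

theorem ofPt_eq_of_map_eq {F : AlgSp.Sp S} {K L Ω : Type u} [Field K] [Field L] [Field Ω]
    {σ : Spec (CommRingCat.of K) ⟶ S} {τ : Spec (CommRingCat.of L) ⟶ S} {w : Spec (CommRingCat.of Ω) ⟶ S}
    (a : (AlgSp.yon S).obj (Over.mk σ) ⟶ F) (b : (AlgSp.yon S).obj (Over.mk τ) ⟶ F)
    (i : Over.mk w ⟶ Over.mk σ) (j : Over.mk w ⟶ Over.mk τ)
    (h : (AlgSp.yon S).map i ≫ a = (AlgSp.yon S).map j ≫ b) :
    AlgSp.Points.ofPt a (IsLocalRing.closedPoint K) = AlgSp.Points.ofPt b (IsLocalRing.closedPoint L) := by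
  have e := congrArg (fun z => AlgSp.Points.ofPt z (IsLocalRing.closedPoint Ω)) h
  rw [ofPt_map_comp, ofPt_map_comp] at e
  have : Subsingleton (Over.mk σ).left := inferInstanceAs (Subsingleton (PrimeSpectrum K))
  have : Subsingleton (Over.mk τ).left := inferInstanceAs (Subsingleton (PrimeSpectrum L))
  rwa [show i.left (IsLocalRing.closedPoint Ω) = IsLocalRing.closedPoint K from Subsingleton.elim _ _,
    show j.left (IsLocalRing.closedPoint Ω) = IsLocalRing.closedPoint L from Subsingleton.elim _ _] at e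

/-- An algebraic space sees field extensions as epimorphisms. -/
theorem eq_of_field_extension {X : AlgSp.Sp S} (hX : AlgSp.IsAlgSpace X) {K Ω : Type u} [Field K] [Field Ω]
    {σ : Spec (CommRingCat.of K) ⟶ S} {w : Spec (CommRingCat.of Ω) ⟶ S} (i : Over.mk w ⟶ Over.mk σ)
    (x y : (AlgSp.yon S).obj (Over.mk σ) ⟶ X)
    (h : (AlgSp.yon S).map i ≫ x = (AlgSp.yon S).map i ≫ y) : x = y := by
  have hl := repWith_diag_lft X hX
  have hm := repWith_diag_mono X hX.diag
  let g := prod.lift x y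
  have sq := hl.1.isPullback g
  have : LocallyOfFiniteType (hl.1.snd g).left := hl.2 _ _ _ sq
  have : Mono (hl.1.snd g).left := hm.2 _ _ _ sq
  have w' : ((AlgSp.yon S).map i ≫ x) ≫ Limits.diag X = (AlgSp.yon S).map i ≫ g := by
    apply prod.hom_ext
    · simp [g, prod.lift_fst]
    · simp [g, prod.lift_snd, h]
  obtain ⟨v, hv⟩ := (AlgSp.yon S).map_surjective (sq.lift _ _ w')
  let E := hl.1.pullback g
  have : Subsingleton (Over.mk σ).left := inferInstanceAs (Subsingleton (PrimeSpectrum K))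
  have : IsIntegral (Over.mk σ).left := inferInstanceAs (IsIntegral (Spec (CommRingCat.of K)))
  have : Nonempty E.left := ⟨v.left (IsLocalRing.closedPoint Ω)⟩
  have hs : Surjective (hl.1.snd g).left := ⟨fun t => ⟨v.left (IsLocalRing.closedPoint Ω), Subsingleton.elim _ _⟩⟩
  have : Subsingleton E.left := (hl.1.snd g).left.injective.subsingleton
  have : CompactSpace E.left := Finite.compactSpace
  have : IsAffine (Over.mk σ).left := inferInstanceAs (IsAffine (Spec (CommRingCat.of K)))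
  have hflat : Flat (hl.1.snd g).left := by
    have : Flat ((hl.1.snd g).left : E.left ⟶ Spec (CommRingCat.of K)) := inferInstance
    exact this
  have : QuasiCompact (hl.1.snd g).left := inferInstance
  have : IsIso (hl.1.snd g).left := Flat.isIso_of_surjective_of_mono _
  have : IsIso (hl.1.snd g) := by
    have : IsIso ((Over.forget S).map (hl.1.snd g)) := this
    exact isIso_of_reflects_iso _ (Over.forget S)
  have e := sq.w
  have e2 : (inv ((AlgSp.yon S).map (hl.1.snd g)) ≫ hl.1.fst g) ≫ Limits.diag X = g := by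
    rw [Category.assoc, e, IsIso.inv_hom_id_assoc]
  have e3 := congrArg (· ≫ prod.fst) e2
  have e4 := congrArg (· ≫ prod.snd) e2
  simp only [g, Category.assoc, prod.lift_fst, prod.lift_snd, Category.comp_id] at e3 e4
  exact e3.symm.trans e4

/-- Field-valued points of `X` are separated by `f`. -/
def FieldInj {X Y : AlgSp.Sp S} (f : X ⟶ Y) : Prop :=
  ∀ (K : Type u) [Field K] (str : Spec (CommRingCat.of K) ⟶ S),
    Function.Injective (fun a : (AlgSp.yon S).obj (Over.mk str) ⟶ X => a ≫ f)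

theorem surjective_diagonal_of_fieldInj {X Y : AlgSp.Sp S} (f : X ⟶ Y) (h : FieldInj f) :
    AlgSp.IsSurjectiveMor (pullback.diagonal f) := by
  intro p
  obtain ⟨q, hq⟩ := exists_eq_ofPt_toHom p
  have e : q.toHom ≫ pullback.fst f f = q.toHom ≫ pullback.snd f f := h q.K q.str (by
    simp only [Category.assoc, pullback.condition])
  refine ⟨AlgSp.Points.ofPt (q.toHom ≫ pullback.fst f f) (IsLocalRing.closedPoint q.K), ?_⟩
  rw [AlgSp.Points.map_ofPt, ← hq (IsLocalRing.closedPoint q.K)]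
  congr 1
  apply pullback.hom_ext <;> simp [e]

theorem isUnivInjectiveMor_of_surjective_diagonal {X Y : AlgSp.Sp S} (f : X ⟶ Y)
    (h : AlgSp.IsSurjectiveMor (pullback.diagonal f)) : AlgSp.IsUnivInjectiveMor f := by
  intro Z Z' _ g fst snd sq z₁ z₂ hz
  obtain ⟨p, rfl, rfl⟩ := exists_of_isPullback (IsPullback.of_hasPullback snd snd) z₁ z₂ hz
  obtain ⟨q, hq⟩ := exists_eq_ofPt_toHom p
  obtain ⟨a, ha⟩ : ∃ a, a = q.toHom ≫ pullback.fst snd snd := ⟨_, rfl⟩
  obtain ⟨b, hb⟩ : ∃ b, b = q.toHom ≫ pullback.snd snd snd := ⟨_, rfl⟩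
  have hab : a ≫ snd = b ≫ snd := by simp only [ha, hb, Category.assoc, pullback.condition]
  have hc : (a ≫ fst) ≫ f = (b ≫ fst) ≫ f := by
    rw [Category.assoc, Category.assoc, sq.w, reassoc_of% hab]
  obtain ⟨x, hx⟩ := h (AlgSp.Points.ofPt (pullback.lift (a ≫ fst) (b ≫ fst) hc) (IsLocalRing.closedPoint q.K))
  obtain ⟨r, hr⟩ := exists_eq_ofPt_toHom x
  rw [← hr (IsLocalRing.closedPoint r.K), AlgSp.Points.map_ofPt] at hx
  obtain ⟨Ω, _, w, i, j, hij⟩ := exists_field_of_eq _ _ hx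
  have h1 := congrArg (· ≫ pullback.fst f f) hij
  have h2 := congrArg (· ≫ pullback.snd f f) hij
  simp only [Category.assoc, pullback.diagonal_fst, pullback.diagonal_snd, pullback.lift_fst,
    pullback.lift_snd, Category.comp_id] at h1 h2
  have key : (AlgSp.yon S).map j ≫ a = (AlgSp.yon S).map j ≫ b := by
    apply sq.hom_ext
    · rw [Category.assoc, Category.assoc, ← h1, ← h2]
    · rw [Category.assoc, Category.assoc, hab]
  rw [← hq (IsLocalRing.closedPoint q.K), AlgSp.Points.map_ofPt, AlgSp.Points.map_ofPt, ← ha, ← hb]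
  exact ofPt_eq_of_map_eq a b j j key

theorem fieldInj_of_isUnivInjectiveMor {X Y : AlgSp.Sp S} (hX : AlgSp.IsAlgSpace X) (f : X ⟶ Y)
    (h : AlgSp.IsUnivInjectiveMor f) : FieldInj f := by
  intro K _ str x y e
  have e' : x ≫ f = y ≫ f := e
  have sq := IsPullback.of_hasPullback f (x ≫ f)
  let a := sq.lift x (𝟙 _) (by rw [Category.id_comp])
  let b := sq.lift y (𝟙 _) (by rw [Category.id_comp, e'])
  have hp : AlgSp.Points.ofPt a (IsLocalRing.closedPoint K) = AlgSp.Points.ofPt b (IsLocalRing.closedPoint K) := by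
    apply h (AlgSp.IsAlgSpace.yon_obj _) _ _ _ sq
    rw [AlgSp.Points.map_ofPt, AlgSp.Points.map_ofPt, sq.lift_snd, sq.lift_snd]
  obtain ⟨Ω, _, w, i, j, hij⟩ := exists_field_of_eq a b hp
  have hi : i = j := (AlgSp.yon S).map_injective (by
    simpa [a, b] using congrArg (· ≫ pullback.snd f (x ≫ f)) hij)
  subst hi
  refine eq_of_field_extension hX i x y ?_
  simpa [a, b] using congrArg (· ≫ pullback.fst f (x ≫ f)) hij

theorem univInjective_tfae {X Y : AlgSp.Sp S} (hX : AlgSp.IsAlgSpace X) (f : X ⟶ Y) :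
    (FieldInj f ↔ AlgSp.IsUnivInjectiveMor f) ∧
    (AlgSp.IsUnivInjectiveMor f ↔ AlgSp.IsSurjectiveMor (pullback.diagonal f)) :=
  ⟨⟨fun h => isUnivInjectiveMor_of_surjective_diagonal f (surjective_diagonal_of_fieldInj f h),
      fieldInj_of_isUnivInjectiveMor hX f⟩,
    ⟨fun h => surjective_diagonal_of_fieldInj f (fieldInj_of_isUnivInjectiveMor hX f h),
      isUnivInjectiveMor_of_surjective_diagonal f⟩⟩

theorem repWith_universallyInjective_iff {X Y : AlgSp.Sp S} (hX : AlgSp.IsAlgSpace X) (f : X ⟶ Y)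
    (hf : AlgSp.Representable f) : AlgSp.RepWith @UniversallyInjective f ↔ FieldInj f := by
  rw [(univInjective_tfae hX f).1]
  constructor
  · intro h Z Z' _ g fst snd sq z₁ z₂ hz
    have h' := MorphismProperty.of_isPullback sq h
    obtain ⟨p, rfl, rfl⟩ := exists_of_isPullback (IsPullback.of_hasPullback snd snd) z₁ z₂ hz
    obtain ⟨q, hq⟩ := exists_eq_ofPt_toHom p
    obtain ⟨a, ha⟩ : ∃ a, a = q.toHom ≫ pullback.fst snd snd := ⟨_, rfl⟩
    obtain ⟨b, hb⟩ : ∃ b, b = q.toHom ≫ pullback.snd snd snd := ⟨_, rfl⟩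
    have hab : b ≫ snd = a ≫ snd := by simp only [ha, hb, Category.assoc, pullback.condition]
    have sqV := h'.1.isPullback (a ≫ snd)
    let la := h'.1.lift (g := a ≫ snd) a (𝟙 _) (by simp)
    let lb := h'.1.lift (g := a ≫ snd) b (𝟙 _) (by simp [hab])
    have : UniversallyInjective (h'.1.snd (a ≫ snd)).left := h'.2 _ _ _ sqV
    have : Subsingleton q.pt.left := inferInstanceAs (Subsingleton (PrimeSpectrum q.K))
    have : Subsingleton (h'.1.pullback (a ≫ snd)).left := (h'.1.snd (a ≫ snd)).left.injective.subsingleton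
    rw [← hq (IsLocalRing.closedPoint q.K), AlgSp.Points.map_ofPt, AlgSp.Points.map_ofPt]
    rw [← ha, ← hb]
    rw [show a = (AlgSp.yon S).map la ≫ h'.1.fst _ from (h'.1.lift_fst _ _ _).symm, ofPt_map_comp,
      show b = (AlgSp.yon S).map lb ≫ h'.1.fst _ from (h'.1.lift_fst _ _ _).symm, ofPt_map_comp,
      Subsingleton.elim (la.left (IsLocalRing.closedPoint q.K)) (lb.left (IsLocalRing.closedPoint q.K))]
  · intro h
    exact repWith_mono (fun g hg => ⟨hg⟩) (universally_of_points hf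
      (Q := topologically (Function.Injective ·)) (fun φ hφ => (injective_map_iff_of_schemes φ).1 hφ) h)

theorem isUnivInjectiveMor_of_surjective_baseChange {X Y Z : AlgSp.Sp S} (hX : AlgSp.IsAlgSpace X)
    (f : X ⟶ Y) (g : Z ⟶ Y) (hg : AlgSp.IsSurjectiveMor g) {P : AlgSp.Sp S} (hP : AlgSp.IsAlgSpace P)
    {fst : P ⟶ X} {snd : P ⟶ Z} (sq : IsPullback fst snd f g)
    (h : AlgSp.IsUnivInjectiveMor snd) : AlgSp.IsUnivInjectiveMor f := by
  refine (univInjective_tfae hX f).1.1 fun K _ str x y e => ?_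
  have e' : x ≫ f = y ≫ f := e
  obtain ⟨z, hz⟩ := hg (AlgSp.Points.ofPt (x ≫ f) (IsLocalRing.closedPoint K))
  obtain ⟨r, hr⟩ := exists_eq_ofPt_toHom z
  rw [← hr (IsLocalRing.closedPoint r.K), AlgSp.Points.map_ofPt] at hz
  obtain ⟨Ω, _, w, i, j, hij⟩ := exists_field_of_eq _ _ hz
  have w1 : ((AlgSp.yon S).map j ≫ x) ≫ f = ((AlgSp.yon S).map i ≫ r.toHom) ≫ g := by
    rw [Category.assoc, Category.assoc, ← hij]
  have w2 : ((AlgSp.yon S).map j ≫ y) ≫ f = ((AlgSp.yon S).map i ≫ r.toHom) ≫ g := by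
    rw [Category.assoc, Category.assoc, ← e', ← hij]
  have := fieldInj_of_isUnivInjectiveMor hP snd h Ω w (a₁ := sq.lift _ _ w1) (a₂ := sq.lift _ _ w2) (by simp)
  exact eq_of_field_extension hX j x y (by simpa using congrArg (· ≫ fst) this)

end Groth.Agent.AlgSp
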