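import Groth.Agent.AlgSp.LimRep
import Groth.Agent.AlgSp.LimSurj
import Groth.Agent.AlgSp.UnivInj
import Groth.Agent.AlgSp.PointsMor
import Groth.Agent.AlgSpCov.UnramMono
import Groth.Agent.EGA43Lim.Basic

/-!
# Descent of monomorphisms, separatedness and related properties through limits of spaces
-/

universe u

open CategoryTheory CategoryTheory.Limits AlgebraicGeometry Opposite

set_option backward.isDefEq.respectTransparency.types false
set_option autoImplicit false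

namespace Groth.Agent.AlgSp.LimRepApp

open _root_.AlgSp

variable {S : Scheme.{u}} [QuasiSeparatedSpace S] {I : Type u} [SmallCategory I] [IsCofiltered I] {D : I ⥤ Sp S}
  (hD : ∀ i, IsAlgSpace (D.obj i)) (hDa : ∀ (i j : I) (φ : i ⟶ j), IsAffineMor (D.map φ)) {c : Cone D}
  (hc : IsLimit c) {i₀ : I} {X₀ Y₀ : Sp S} (hX₀ : IsAlgSpace X₀) (hY₀ : IsAlgSpace Y₀) (f₀ : X₀ ⟶ Y₀)
  (b₀ : Y₀ ⟶ D.obj i₀) (hXqc : IsQuasiCompactSp X₀) (hXqs : IsQuasiSeparatedSp X₀)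
  (hYqc : IsQuasiCompactSp Y₀) (hYqs : IsQuasiSeparatedSp Y₀)
  {X Y : Sp S} {f : X ⟶ Y} {pY : Y ⟶ Y₀} {qY : Y ⟶ c.pt} (hY : IsPullback pY qY b₀ (c.π.app i₀))
  {pX : X ⟶ X₀} (hX : IsPullback pX f f₀ pY)

include hX₀ hY₀ hXqc hYqs in
/-- The kernel pair of a morphism of quasi-compact spaces is quasi-compact. -/
theorem isQuasiCompactSp_pullback : IsQuasiCompactSp (pullback f₀ f₀) :=
  Groth.Agent.AlgSp.isQuasiCompactMor_of_quasiCompactSp hX₀ hY₀ f₀ hXqc hYqs hX₀ hXqc f₀ _ _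
    (IsPullback.of_hasPullback f₀ f₀)

include hDa hc hX₀ hY₀ hXqc hXqs hYqs hY hX in
/-- Properties of diagonals descend to a chart of a stage. -/
theorem descend_diagonal {P Q : MorphismProperty Scheme.{u}} [P.RespectsIso] [Q.IsStableUnderBaseChange]
    (hdesc : Groth.Agent.LimLib.Descends P Q) (hQ : RepWith Q (pullback.diagonal f₀))
    (hf : RepWith P (pullback.diagonal f)) :
    ∃ (i : I) (φ : i ⟶ i₀), ∀ {Xi Yi : Sp S} (fi : Xi ⟶ Yi) (pYi : Yi ⟶ Y₀) (qYi : Yi ⟶ D.obj i)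
      (_ : IsPullback pYi qYi b₀ (D.map φ)) (pXi : Xi ⟶ X₀) (_ : IsPullback pXi fi f₀ pYi),
      ∃ (W W' : Over S) (r : (yon S).obj W ⟶ pullback fi fi) (s : (yon S).obj W' ⟶ Xi) (h : W' ⟶ W),
        RepWith @Etale r ∧ RepWith @Surjective r ∧ IsPullback s ((yon S).map h) (pullback.diagonal fi) r ∧
          P h.left := by
  obtain ⟨pP, qP, s1, s2⟩ := LimRep.exists_diagonal_squares hY hX
  obtain ⟨hrep, -, -, hsep, -⟩ := Groth.Agent.AlgSp.diagonal_props hX₀ f₀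
  obtain ⟨i, φ, h⟩ := LimRep.descend_rep hdesc hDa c hc i₀ (pullback.diagonal f₀) (pullback.fst f₀ f₀ ≫ f₀ ≫ b₀)
    (isQuasiCompactSp_pullback hX₀ hY₀ f₀ hXqc hYqs) hrep (LimRep.quasiCompact_diagonal f₀ hXqs) hsep hQ
    (pullback.diagonal f) pP qP s1 pX s2 hf
  refine ⟨i, φ, fun {Xi Yi} fi pYi qYi hYi pXi hXi => ?_⟩
  obtain ⟨pPi, qPi, t1, t2⟩ := LimRep.exists_diagonal_squares hYi hXi
  exact h (pullback.diagonal fi) pPi qPi t1 pXi t2

include hX₀ in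
omit [QuasiSeparatedSpace S] in
/-- The diagonal of a morphism locally of finite type is representable of finite presentation. -/
theorem repWith_diagonal_lfp (hY₀ : IsAlgSpace Y₀) (hf₀ : LocP @LocallyOfFiniteType f₀) :
    RepWith @LocallyOfFinitePresentation (pullback.diagonal f₀) :=
  AlgSpCov.repWith_of_locP AlgSpCov.etaleLocal_locallyOfFinitePresentation hX₀
    (Groth.Agent.AlgSp.isAlgSpace_pullback hY₀ hX₀ hX₀ f₀ f₀) (Groth.Agent.AlgSp.diagonal_props hX₀ f₀).1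
    (Groth.Agent.AlgSp.diagonal_lfp hX₀ hY₀ f₀ hf₀)

include hDa hc hX₀ hY₀ hXqc hXqs hYqs hY hX in
/-- Monomorphisms descend through limits. -/
theorem descend_mono [Mono f] (hf₀ : LocP @LocallyOfFiniteType f₀) :
    ∃ (i : I) (φ : i ⟶ i₀), ∀ (Xi Yi : Sp S) (fi : Xi ⟶ Yi) (pYi : Yi ⟶ Y₀) (qYi : Yi ⟶ D.obj i)
      (_ : IsPullback pYi qYi b₀ (D.map φ)) (pXi : Xi ⟶ X₀) (_ : IsPullback pXi fi f₀ pYi), Mono fi := by
  have hf : RepWith (MorphismProperty.isomorphisms Scheme.{u}) (pullback.diagonal f) := by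
    refine ⟨Functor.relativelyRepresentable.of_isIso (F := yon S) (pullback.diagonal f), fun _ _ g fst snd sq => ?_⟩
    have : IsIso ((yon S).map snd) := sq.isIso_snd_of_isIso
    have : IsIso snd := isIso_of_reflects_iso _ (yon S)
    exact (inferInstanceAs (IsIso ((Over.forget S).map snd)) : IsIso snd.left)
  obtain ⟨i, φ, h⟩ := descend_diagonal hDa hc hX₀ hY₀ f₀ b₀ hXqc hXqs hYqs hY hX Groth.Agent.LimLib.descends_isIso
    (repWith_diagonal_lfp hX₀ f₀ hY₀ hf₀) hf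
  refine ⟨i, φ, fun Xi Yi fi pYi qYi hYi pXi hXi => ?_⟩
  obtain ⟨W, W', r, s, h', hre, hrs, sqr, hiso⟩ := h fi pYi qYi hYi pXi hXi
  have : IsIso ((Over.forget S).map h') := hiso
  have : IsIso h' := isIso_of_reflects_iso _ (Over.forget S)
  have := Groth.Agent.AlgSp.isLocallySurjective_of_etale_surjective r hre hrs
  have hr : Epi r := (Sheaf.isLocallySurjective_iff_epi _).1 inferInstance
  have : Epi (s ≫ pullback.diagonal fi) := by rw [sqr.w]; exact epi_comp _ _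
  have : Epi (pullback.diagonal fi) := epi_of_epi s _
  have : IsIso (pullback.diagonal fi) := isIso_of_mono_of_epi _
  exact (pullback.isIso_diagonal_iff fi).1 this

include hDa hc hX₀ hY₀ hXqc hXqs hYqs hY hX in
/-- Separatedness descends through limits. -/
theorem descend_separated (hf : IsSeparatedMor f) :
    ∃ (i : I) (φ : i ⟶ i₀), ∀ (Xi Yi : Sp S) (fi : Xi ⟶ Yi) (pYi : Yi ⟶ Y₀) (qYi : Yi ⟶ D.obj i)
      (_ : IsPullback pYi qYi b₀ (D.map φ)) (pXi : Xi ⟶ X₀) (_ : IsPullback pXi fi f₀ pYi),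
      IsSeparatedMor fi := by
  obtain ⟨i, φ, h⟩ := descend_diagonal hDa hc hX₀ hY₀ f₀ b₀ hXqc hXqs hYqs hY hX
    Groth.Agent.LimLib.descends_isClosedImmersion (Groth.Agent.AlgSp.diagonal_props hX₀ f₀).2.1 hf
  refine ⟨i, φ, fun Xi Yi fi pYi qYi hYi pXi hXi => ?_⟩
  obtain ⟨W, W', r, s, h', hre, hrs, sqr, hcl⟩ := h fi pYi qYi hYi pXi hXi
  exact @Groth.Agent.AlgSp.repWith_isClosedImmersion_of_baseChange _ _ _ _ _ (pullback.diagonal fi) r
    (Groth.Agent.AlgSp.isLocallySurjective_of_etale_surjective r hre hrs) _ _ sqr ((repWith_yon_map_iff _ _).2 hcl)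

include hD hDa hc hX₀ hY₀ hXqc hXqs hYqs hY hX in
/-- Universal injectivity descends through limits. -/
theorem descend_univInjective (hf : IsUnivInjectiveMor f) (hf₀ : LocP @LocallyOfFiniteType f₀) :
    ∃ (i : I) (φ : i ⟶ i₀), ∀ (Xi Yi : Sp S) (fi : Xi ⟶ Yi) (pYi : Yi ⟶ Y₀) (qYi : Yi ⟶ D.obj i)
      (_ : IsPullback pYi qYi b₀ (D.map φ)) (pXi : Xi ⟶ X₀) (_ : IsPullback pXi fi f₀ pYi),
      IsUnivInjectiveMor fi := by
  have hca := LimSp.isAlgSpace_pt hDa hD c hc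
  have hYa := Groth.Agent.AlgSp.isAlgSpace_of_isPullback' (hD i₀) hY₀ hca hY
  have hXa := Groth.Agent.AlgSp.isAlgSpace_of_isPullback' hY₀ hX₀ hYa hX
  have hrep := (Groth.Agent.AlgSp.diagonal_props hXa f).1
  have hsurj : IsSurjectiveMor (pullback.diagonal f) := (Groth.Agent.AlgSp.univInjective_tfae hXa f).2.1 hf
  obtain ⟨i, φ, h⟩ := descend_diagonal hDa hc hX₀ hY₀ f₀ b₀ hXqc hXqs hYqs hY hX
    Groth.Agent.EGA43Lim.descends_surjective (repWith_diagonal_lfp hX₀ f₀ hY₀ hf₀)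
    ((Groth.Agent.AlgSp.repWith_surjective_iff _ hrep).2 hsurj)
  refine ⟨i, φ, fun Xi Yi fi pYi qYi hYi pXi hXi => ?_⟩
  obtain ⟨W, W', r, s, h', hre, hrs, sqr, hsur⟩ := h fi pYi qYi hYi pXi hXi
  refine Groth.Agent.AlgSp.isUnivInjectiveMor_of_surjective_diagonal fi fun z => ?_
  obtain ⟨w, rfl⟩ := Groth.Agent.AlgSpB.surjective_ofPt hrs z
  have : Surjective h'.left := hsur
  obtain ⟨v, rfl⟩ := h'.left.surjective w
  exact ⟨Points.ofPt s v, by rw [Points.map_ofPt, sqr.w, Groth.Agent.AlgSpB.ofPt_map_comp]⟩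

end Groth.Agent.AlgSp.LimRepApp
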