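import Groth.Agent.AlgSp.LimSp
import Groth.Agent.AlgSp.LimImm
import Groth.Agent.AlgSp.InfSpace
import Groth.Agent.AlgSp.Space
import Groth.Agent.AlgSpCov.Listed
import Groth.Agent.AlgSp.LimRepApp
import Groth.Agent.AlgSpB.Charts
import Groth.Agent.ModPairLib.LimitEtale
import Groth.Agent.AlgSpB.LimPres
import Groth.Agent.AlgSp.QCMor

/-!
# Points of spaces locally of finite presentation with values in limits

For a morphism locally of finite presentation of algebraic spaces, relative points with values in a limit of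
affine schemes come from a stage, uniquely up to passing to a later stage.
-/

universe u

open CategoryTheory CategoryTheory.Limits AlgebraicGeometry Opposite

set_option backward.isDefEq.respectTransparency false
set_option backward.isDefEq.respectTransparency.types false
set_option autoImplicit false

attribute [local instance] CategoryTheory.isConnected_of_hasTerminal

namespace Groth.Agent.AlgSp.LimLP

open _root_.AlgSp

variable {S : Scheme.{u}} {I : Type u} [SmallCategory I] [IsCofiltered I] {X Y : Sp S}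

/-- Uniqueness of stages of points, on a system of schemes. -/
theorem exists_eq_stage (hX : IsAlgSpace X) (hY : IsAlgSpace Y) (f : X ⟶ Y) (hf : LocP @LocallyOfFiniteType f)
    (D : I ⥤ Over S) (c : Cone D) (hc : IsLimit ((Over.forget S).mapCone c))
    (hD : ∀ (j k : I) (φ : j ⟶ k), IsAffineHom (D.map φ).left) (hDc : ∀ j, CompactSpace (D.obj j).left)
    (hDq : ∀ j, QuasiSeparatedSpace (D.obj j).left) {i : I} (x x' : (yon S).obj (D.obj i) ⟶ X)
    (hxf : x ≫ f = x' ≫ f) (hπ : (yon S).map (c.π.app i) ≫ x = (yon S).map (c.π.app i) ≫ x') :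
    ∃ (j : I) (φ : j ⟶ i), (yon S).map (D.map φ) ≫ x = (yon S).map (D.map φ) ≫ x' := by
  have hΔ : RepWith @LocallyOfFinitePresentation (pullback.diagonal f) :=
    AlgSpCov.repWith_of_locP AlgSpCov.etaleLocal_locallyOfFinitePresentation hX
      (Groth.Agent.AlgSp.isAlgSpace_pullback hY hX hX f f) (Groth.Agent.AlgSp.diagonal_props hX f).1
      (Groth.Agent.AlgSp.diagonal_lfp hX hY f hf)
  let pl := pullback.lift x x' hxf
  have sqE := hΔ.1.isPullback pl
  let E := hΔ.1.pullback pl
  let e₁ : E ⟶ D.obj i := hΔ.1.snd pl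
  let e₂ : (yon S).obj E ⟶ X := hΔ.1.fst pl
  have : LocallyOfFinitePresentation e₁.left := hΔ.2 _ _ _ sqE
  obtain ⟨σ₀, hσ₀⟩ := (yon S).map_surjective (sqE.lift ((yon S).map (c.π.app i) ≫ x) ((yon S).map (c.π.app i)) (by
    refine pullback.hom_ext ?_ ?_
    · rw [Category.assoc, pullback.diagonal_fst, Category.comp_id, Category.assoc, pullback.lift_fst]
    · rw [Category.assoc, pullback.diagonal_snd, Category.comp_id, Category.assoc, pullback.lift_snd, hπ]))
  have hσ₁ : σ₀ ≫ e₁ = c.π.app i := (yon S).map_injective (by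
    rw [Functor.map_comp, hσ₀]; exact sqE.lift_snd _ _ _)
  let F : Over i ⥤ Scheme.{u} := Over.forget i ⋙ D ⋙ Over.forget S
  let tF : F ⟶ (Functor.const (Over i)).obj (D.obj i).left :=
    { app := fun k => (D.map k.hom).left
      naturality := fun k l ψ => by
        refine Eq.trans ?_ (Category.comp_id _).symm
        change (D.map ψ.left).left ≫ (D.map l.hom).left = (D.map k.hom).left
        rw [← Over.comp_left, ← D.map_comp, Over.w] }
  have : ∀ {k l : Over i} (ψ : k ⟶ l), IsAffineHom (F.map ψ) := fun ψ => hD _ _ ψ.left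
  have : ∀ k, CompactSpace (F.obj k) := fun k => hDc k.left
  have : ∀ k, QuasiSeparatedSpace (F.obj k) := fun k => hDq k.left
  obtain ⟨k, σ, -, hσw⟩ := Scheme.exists_π_app_comp_eq_of_locallyOfFinitePresentation F tF e₁.left
    (((Over.forget S).mapCone c).whisker (Over.forget i))
    ((Functor.Initial.isLimitWhiskerEquiv (Over.forget i) ((Over.forget S).mapCone c)).symm hc) σ₀.left (by
      ext k
      change (c.π.app k.left).left ≫ (D.map k.hom).left = σ₀.left ≫ e₁.left
      rw [← Over.comp_left, c.w]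
      exact (congrArg CommaMorphism.left hσ₁).symm)
  let σO : D.obj k.left ⟶ E := Over.homMk σ (by
    refine (congrArg (fun p => σ ≫ p) (Over.w e₁).symm).trans ?_
    rw [← Category.assoc, hσw]
    exact Over.w (D.map k.hom))
  have hσO : σO ≫ e₁ = D.map k.hom := Over.OverMorphism.ext hσw
  refine ⟨k.left, k.hom, ?_⟩
  have h1 : (yon S).map (D.map k.hom) ≫ pl = (yon S).map σO ≫ e₂ ≫ pullback.diagonal f := by
    rw [← hσO, Functor.map_comp, Category.assoc, ← sqE.w]
  have hx := congrArg (fun p => p ≫ pullback.fst f f) h1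
  have hx' := congrArg (fun p => p ≫ pullback.snd f f) h1
  simp only [pl, Category.assoc, pullback.lift_fst, pullback.lift_snd, pullback.diagonal_fst,
    pullback.diagonal_snd, Category.comp_id] at hx hx'
  exact hx.trans hx'.symm

/-- A point over a stage on a chart descends to a later stage. -/
theorem exists_stage_of_chart (hX : IsAlgSpace X) (hY : IsAlgSpace Y) (f : X ⟶ Y)
    (hf : LocP @LocallyOfFiniteType f) {D : I ⥤ Sp S} (hDa : ∀ (i j : I) (φ : i ⟶ j), IsAffineMor (D.map φ))
    {c : Cone D} (hc : IsLimit c) {i : I} (y : D.obj i ⟶ Y) (x : c.pt ⟶ X) (w : x ≫ f = c.π.app i ≫ y)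
    {Z : Over S} (g : (yon S).obj Z ⟶ D.obj i) (hge : RepWith @Etale g) (hgs : RepWith @Surjective g)
    {R : Over S} {r₁ r₂ : R ⟶ Z} (sqR : IsPullback ((yon S).map r₁) ((yon S).map r₂) g g)
    [CompactSpace R.left] [QuasiSeparatedSpace R.left]
    (m : Over i) (z : (yon S).obj ((LimSp.sys hDa g).obj m) ⟶ X)
    (hz : z ≫ f = (LimSp.sysFst hDa g).app m ≫ D.map m.hom ≫ y)
    (hz' : ∀ (T : Over S) (l : (yon S).obj T ⟶ c.pt) (t : T ⟶ (LimSp.sys hDa g).obj m),
      l ≫ c.π.app m.left = (yon S).map t ≫ (LimSp.sysFst hDa g).app m → (yon S).map t ≫ z = l ≫ x) :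
    ∃ (j : I) (φ : j ⟶ i) (x' : D.obj j ⟶ X), c.π.app j ≫ x' = x ∧ x' ≫ f = D.map φ ≫ y := by
  let gR : (yon S).obj R ⟶ D.obj i := (yon S).map r₁ ≫ g
  obtain ⟨L', l', q', ⟨hL'⟩, -, -, hlL', -⟩ := LimSp.exists_isPullback hDa gR c hc
  have wr : ∀ r : R ⟶ Z, (yon S).map r ≫ g = gR →
      (LimSp.sysFst hDa gR).app m ≫ D.map m.hom = (yon S).map (LimSp.sysSnd hDa gR m ≫ r) ≫ g := fun r hr => by
    rw [Functor.map_comp, Category.assoc, hr]
    exact (LimSp.repWith_map hDa m.hom).1.w gR
  have hr₂ : (yon S).map r₂ ≫ g = gR := sqR.w.symm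
  let a₁ : (LimSp.sys hDa gR).obj m ⟶ (LimSp.sys hDa g).obj m :=
    (LimSp.repWith_map hDa m.hom).1.lift _ _ (wr r₁ rfl)
  let a₂ : (LimSp.sys hDa gR).obj m ⟶ (LimSp.sys hDa g).obj m :=
    (LimSp.repWith_map hDa m.hom).1.lift _ _ (wr r₂ hr₂)
  have ha₁ : (yon S).map a₁ ≫ (LimSp.sysFst hDa g).app m = (LimSp.sysFst hDa gR).app m :=
    (LimSp.repWith_map hDa m.hom).1.lift_fst _ _ _
  have ha₂ : (yon S).map a₂ ≫ (LimSp.sysFst hDa g).app m = (LimSp.sysFst hDa gR).app m :=
    (LimSp.repWith_map hDa m.hom).1.lift_fst _ _ _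
  have key : ∀ a : (LimSp.sys hDa gR).obj m ⟶ (LimSp.sys hDa g).obj m,
      (yon S).map a ≫ (LimSp.sysFst hDa g).app m = (LimSp.sysFst hDa gR).app m →
      ((yon S).map a ≫ z) ≫ f = (LimSp.sysFst hDa gR).app m ≫ D.map m.hom ≫ y ∧
        (yon S).map (L'.π.app m) ≫ (yon S).map a ≫ z = l' ≫ x := fun a ha => by
    refine ⟨?_, ?_⟩
    · rw [Category.assoc, hz]
      exact (Category.assoc _ _ _).symm.trans (congrArg (fun p => p ≫ D.map m.hom ≫ y) ha)
    · rw [← Functor.map_comp_assoc]
      refine hz' _ l' (L'.π.app m ≫ a) ?_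
      rw [Functor.map_comp, Category.assoc, hlL']
      exact congrArg (fun p => (yon S).map (L'.π.app m) ≫ p) ha.symm
  obtain ⟨j, φ, hj⟩ := exists_eq_stage hX hY f hf (LimSp.sys hDa gR) L' hL'
    (fun _ _ ψ => LimSp.isAffineHom_sys hDa gR ψ)
    (fun k => @QuasiCompact.compactSpace_of_compactSpace _ _ (LimSp.sysSnd hDa gR k).left
      (have := LimSp.isAffineHom_sysSnd hDa gR k; inferInstanceAs (QuasiCompact (LimSp.sysSnd hDa gR k).left))
      ‹CompactSpace R.left›)
    (fun k => @quasiSeparatedSpace_of_quasiSeparated _ _ (LimSp.sysSnd hDa gR k).left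
      ‹QuasiSeparatedSpace R.left›
      (have := LimSp.isAffineHom_sysSnd hDa gR k; inferInstanceAs (QuasiSeparated (LimSp.sysSnd hDa gR k).left)))
    ((yon S).map a₁ ≫ z) ((yon S).map a₂ ≫ z) ((key _ ha₁).1.trans (key _ ha₂).1.symm)
    ((key _ ha₁).2.trans (key _ ha₂).2.symm)
  -- the chart at the new stage
  let fj := (LimSp.sysFst hDa g).app j
  have sqj : IsPullback fj ((yon S).map (LimSp.sysSnd hDa g j)) (D.map j.hom) g :=
    (LimSp.repWith_map hDa j.hom).1.isPullback g
  have hje : RepWith @Etale fj := MorphismProperty.of_isPullback sqj.flip hge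
  have hjs : RepWith @Surjective fj := MorphismProperty.of_isPullback sqj.flip hgs
  have hn : (yon S).map ((LimSp.sys hDa g).map φ) ≫ (LimSp.sysFst hDa g).app m = fj ≫ D.map φ.left :=
    (LimSp.sysFst hDa g).naturality φ
  let β : (yon S).obj ((LimSp.sys hDa g).obj j) ⟶ X := (yon S).map ((LimSp.sys hDa g).map φ) ≫ z
  obtain ⟨x', hx'⟩ := InfSpace.exists_desc hje hjs β (fun T a b hab => by
    obtain ⟨a, rfl⟩ := (yon S).map_surjective a
    obtain ⟨b, rfl⟩ := (yon S).map_surjective b
    obtain ⟨r, hr⟩ := (yon S).map_surjective (sqR.lift ((yon S).map (a ≫ LimSp.sysSnd hDa g j))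
      ((yon S).map (b ≫ LimSp.sysSnd hDa g j)) (by
        rw [Functor.map_comp, Functor.map_comp, Category.assoc, Category.assoc, ← sqj.w, ← Category.assoc, hab,
          Category.assoc]))
    have hr₁ : r ≫ r₁ = a ≫ LimSp.sysSnd hDa g j := (yon S).map_injective (by
      rw [Functor.map_comp, hr]; exact sqR.lift_fst _ _ _)
    have hr₂' : r ≫ r₂ = b ≫ LimSp.sysSnd hDa g j := (yon S).map_injective (by
      rw [Functor.map_comp, hr]; exact sqR.lift_snd _ _ _)
    have wv : ((yon S).map a ≫ fj) ≫ D.map j.hom = (yon S).map r ≫ gR := by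
      rw [Category.assoc, sqj.w, ← Functor.map_comp_assoc, ← hr₁, Functor.map_comp, Category.assoc]
    let v : T ⟶ (LimSp.sys hDa gR).obj j := (LimSp.repWith_map hDa j.hom).1.lift _ _ wv
    have hv₁ : (yon S).map v ≫ (LimSp.sysFst hDa gR).app j = (yon S).map a ≫ fj :=
      (LimSp.repWith_map hDa j.hom).1.lift_fst _ _ _
    have hv₂ : v ≫ LimSp.sysSnd hDa gR j = r := (LimSp.repWith_map hDa j.hom).1.lift_snd _ _ _
    have hv : ∀ (d : T ⟶ (LimSp.sys hDa g).obj j) (s : R ⟶ Z) (hs : (yon S).map s ≫ g = gR),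
        (yon S).map d ≫ fj = (yon S).map a ≫ fj → r ≫ s = d ≫ LimSp.sysSnd hDa g j →
        v ≫ (LimSp.sys hDa gR).map φ ≫ (LimSp.repWith_map hDa m.hom).1.lift _ _ (wr s hs) =
          d ≫ (LimSp.sys hDa g).map φ := fun d s hs hd hds => by
      refine (LimSp.repWith_map hDa m.hom).1.hom_ext ?_ ?_
      · refine Eq.trans ?_ (Eq.trans (congrArg (fun p => (yon S).map d ≫ p) hn.symm)
          (by rw [Functor.map_comp, Category.assoc]; rfl))
        rw [Functor.map_comp, Functor.map_comp, Category.assoc, Category.assoc,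
          Functor.relativelyRepresentable.lift_fst]
        refine (congrArg (fun p => (yon S).map v ≫ p) ((LimSp.sysFst hDa gR).naturality φ)).trans ?_
        rw [← Category.assoc, ← Category.assoc, hv₁, hd]
        rfl
      · rw [Category.assoc, Category.assoc, Functor.relativelyRepresentable.lift_snd, ← Category.assoc
          ((LimSp.sys hDa gR).map φ), LimSp.map_sysSnd, ← Category.assoc, hv₂, hds, Category.assoc]
        exact congrArg (fun p => d ≫ p) (LimSp.map_sysSnd hDa g φ).symm
    have e := congrArg (fun p => (yon S).map v ≫ p) hj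
    simp only [← Functor.map_comp_assoc] at e
    rw [hv a r₁ rfl rfl hr₁, hv b r₂ hr₂ hab.symm hr₂'] at e
    simpa only [β, ← Functor.map_comp_assoc] using e)
  refine ⟨j.left, j.hom, x', ?_, InfSpace.hom_ext_cover_sp hje hjs ?_⟩
  · obtain ⟨L, l, q, -, -, hq, hlL, sq⟩ := LimSp.exists_isPullback hDa g c hc
    refine InfSpace.hom_ext_cover_sp (p := l) (MorphismProperty.of_isPullback sq.flip hge)
      (MorphismProperty.of_isPullback sq.flip hgs) ?_
    rw [← hz' _ l (L.π.app m) (hlL m), ← Category.assoc, hlL j, Category.assoc]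
    refine (congrArg (fun p => (yon S).map (L.π.app j) ≫ p) hx').trans ?_
    simp only [β]
    rw [← Functor.map_comp_assoc, L.w φ]
  · rw [← Category.assoc, hx']
    simp only [β]
    rw [Category.assoc, hz, ← Category.assoc]
    refine (congrArg (fun p => p ≫ D.map m.hom ≫ y) hn).trans ?_
    rw [Category.assoc, ← Category.assoc (D.map φ.left), ← D.map_comp, Over.w]

/-- A limit of schemes over `S` is a limit of sheaves. -/
theorem isLimit_yon {D : I ⥤ Over S} {c : Cone D} (hc : IsLimit ((Over.forget S).mapCone c)) :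
    Nonempty (IsLimit ((yon S).mapCone c)) := by
  have := IsCofiltered.isConnected I
  exact ⟨isLimitOfPreserves (yon S) (isLimitOfReflects (Over.forget S) hc)⟩

theorem isAffineMor_yon_map {D : I ⥤ Over S} (hD : ∀ j, IsAffine (D.obj j).left) (i j : I) (φ : i ⟶ j) :
    IsAffineMor ((D ⋙ yon S).map φ) :=
  have := hD i
  have := hD j
  (Groth.Agent.AlgSp.isAffineMor_iff _).2
    ((repWith_yon_map_iff _ _).2 (inferInstanceAs (IsAffineHom (D.map φ).left)))

/-- Existence of stages of points, on a system of affine schemes. -/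
theorem exists_stage_affine (hX : IsAlgSpace X) (hY : IsAlgSpace Y) (f : X ⟶ Y)
    (hf : LocP @LocallyOfFinitePresentation f) (hf' : LocP @LocallyOfFiniteType f)
    {D : I ⥤ Over S} {c : Cone D} (hc : IsLimit ((Over.forget S).mapCone c))
    (hD : ∀ j, IsAffine (D.obj j).left) (hT : IsAffine c.pt.left) {i : I} (y : (yon S).obj (D.obj i) ⟶ Y)
    (x : (yon S).obj c.pt ⟶ X) (w : x ≫ f = (yon S).map (c.π.app i) ≫ y) :
    ∃ (j : I) (φ : j ⟶ i) (x' : (yon S).obj (D.obj j) ⟶ X),
      (yon S).map (c.π.app j) ≫ x' = x ∧ x' ≫ f = (yon S).map (D.map φ) ≫ y := by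
  let Di := D.obj i
  have hP : IsAlgSpace (pullback f y) :=
    Groth.Agent.AlgSp.isAlgSpace_pullback hY hX (IsAlgSpace.yon_obj Di) f y
  have hsnd : LocP @LocallyOfFinitePresentation (pullback.snd f y) :=
    AlgSpCov.locP_baseChange AlgSpCov.etaleLocal_locallyOfFinitePresentation hX hY
      (IsPullback.of_hasPullback f y) hf
  obtain ⟨U, p, hpe, hps⟩ := hP.atlas
  obtain ⟨h, hh⟩ := (yon S).map_surjective (p ≫ pullback.snd f y)
  have : LocallyOfFinitePresentation h.left := hsnd p (𝟙 _) h hpe (repWith_id _ Di) (by rw [Category.comp_id, hh])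
  -- the chart over the limit
  let σ : (yon S).obj c.pt ⟶ pullback f y := pullback.lift x ((yon S).map (c.π.app i)) w
  obtain ⟨W', s, t, sqW⟩ := Groth.Agent.AlgSpB.exists_pullback_yon hpe.1 σ
  have hte : RepWith @Etale ((yon S).map t) := MorphismProperty.of_isPullback sqW hpe
  have hts : RepWith @Surjective ((yon S).map t) := MorphismProperty.of_isPullback sqW hps
  have : CompactSpace (Points ((yon S).obj c.pt)) :=
    Groth.Agent.AlgSpB.compactSpace_points_of_isQuasiCompactSp
      (have : CompactSpace c.pt.left := inferInstance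
       Groth.Agent.AlgSp.isQuasiCompactSp_yon c.pt)
  obtain ⟨Z', e', hZ', hZe, hZs⟩ := Groth.Agent.AlgSpB.exists_affine_chart_of_compactSpace hte hts
  rw [← Functor.map_comp, repWith_yon_map_iff] at hZe hZs
  -- descend the chart
  let F : Over i ⥤ Scheme.{u} := Over.forget i ⋙ D ⋙ Over.forget S
  have hFa : ∀ k, IsAffine (F.obj k) := fun k => hD k.left
  have : ∀ k l (ψ : k ⟶ l), IsAffineHom (F.map ψ) := fun k l ψ => have := hFa k; have := hFa l; inferInstance
  have : ∀ k, CompactSpace (F.obj k) := fun k => have := hFa k; inferInstance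
  have : ∀ k, QuasiSeparatedSpace (F.obj k) := fun k => have := hFa k; inferInstance
  have : Etale (e' ≫ t).left := hZe
  have : Surjective (e' ≫ t).left := hZs
  obtain ⟨k, V, v, e, hv, hvs, hve⟩ := Groth.Agent.ModPairLib.LimitEtale.exists_cover F
    (((Over.forget S).mapCone c).whisker (Over.forget i))
    ((Functor.Initial.isLimitWhiskerEquiv (Over.forget i) ((Over.forget S).mapCone c)).symm hc)
    (fun _ : PUnit.{1} => Z'.left) (fun _ => (e' ≫ t).left) (fun _ => inferInstance) (fun _ => inferInstance)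
    (fun _ => inferInstance) (fun p => ⟨⟨⟩, (e' ≫ t).left.surjective p⟩)
  obtain ⟨hve₀, hVc, -⟩ := hv ⟨⟩
  let V₀ : Over S := Over.mk (v ⟨⟩ ≫ (D.obj k.left).hom)
  let v₀ : V₀ ⟶ D.obj k.left := Over.homMk (v ⟨⟩) rfl
  have hv0e : RepWith @Etale ((yon S).map v₀) := (repWith_yon_map_iff _ _).2 hve₀
  have hv0s : RepWith @Surjective ((yon S).map v₀) := (repWith_yon_map_iff _ _).2 ⟨fun a => by
    obtain ⟨⟨⟩, b, hb⟩ := hvs a
    exact ⟨b, hb⟩⟩
  have : CompactSpace (Points ((yon S).obj (D.obj k.left))) :=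
    Groth.Agent.AlgSpB.compactSpace_points_of_isQuasiCompactSp
      (have : IsAffine (D.obj k.left).left := hD k.left
       Groth.Agent.AlgSp.isQuasiCompactSp_yon (D.obj k.left))
  obtain ⟨Z, eZ, hZ, hge, hgs⟩ := Groth.Agent.AlgSpB.exists_affine_chart_of_compactSpace hv0e hv0s
  let g : (yon S).obj Z ⟶ (D ⋙ yon S).obj k.left := (yon S).map eZ ≫ (yon S).map v₀
  have hDa := isAffineMor_yon_map hD
  obtain ⟨hc'⟩ := isLimit_yon hc
  obtain ⟨L, l, q, ⟨hL⟩, -, hq, hlL, sq⟩ := LimSp.exists_isPullback hDa g ((yon S).mapCone c) hc'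
  obtain ⟨l₀, rfl⟩ := (yon S).map_surjective l
  -- the map to the chart on the limit
  have hve0 : IsPullback (e ⟨⟩) (e' ≫ t).left (v ⟨⟩) (c.π.app k.left).left := hve ⟨⟩
  have hlq : q ≫ eZ ≫ v₀ = l₀ ≫ c.π.app k.left := (yon S).map_injective (by
    simp only [Functor.map_comp]; exact sq.w.symm)
  have hlq' : (q ≫ eZ).left ≫ v ⟨⟩ = l₀.left ≫ (c.π.app k.left).left :=
    (Category.assoc _ _ _).trans (congrArg CommaMorphism.left hlq)
  let ζ : L.pt.left ⟶ Z'.left := hve0.lift (q ≫ eZ).left l₀.left hlq'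
  let ζO : L.pt ⟶ Z' := Over.homMk ζ (by
    refine (congrArg (fun p => ζ ≫ p) (Over.w (e' ≫ t)).symm).trans ?_
    rw [← Category.assoc, hve0.lift_snd]
    exact Over.w l₀)
  have hζ : ζO ≫ e' ≫ t = l₀ := Over.OverMorphism.ext (hve0.lift_snd _ _ _)
  let ρ : L.pt ⟶ U := ζO ≫ e' ≫ s
  have hρ : (yon S).map ρ ≫ p = (yon S).map l₀ ≫ σ := by
    simp only [ρ, Functor.map_comp, Category.assoc]
    rw [sqW.w, ← Functor.map_comp_assoc, ← Functor.map_comp_assoc, Category.assoc, hζ]
  have hρh : ρ ≫ h = l₀ ≫ c.π.app i := (yon S).map_injective (by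
    rw [Functor.map_comp (yon S) ρ h, Functor.map_comp (yon S) l₀, hh, ← Category.assoc, hρ, Category.assoc,
      pullback.lift_snd])
  -- descend the map
  let F' := LimSp.sys hDa g ⋙ Over.forget S
  have : ∀ {a b : Over k.left} (ψ : a ⟶ b), IsAffineHom (F'.map ψ) := fun ψ => LimSp.isAffineHom_sys hDa g ψ
  have hF'a : ∀ a, IsAffine (F'.obj a) := fun a =>
    @isAffine_of_isAffineHom _ _ (LimSp.sysSnd hDa g a).left (LimSp.isAffineHom_sysSnd hDa g a) hZ
  have : ∀ a, CompactSpace (F'.obj a) := fun a => have := hF'a a; inferInstance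
  have : ∀ a, QuasiSeparatedSpace (F'.obj a) := fun a => have := hF'a a; inferInstance
  let τ : ∀ a, (LimSp.sys hDa g).obj a ⟶ Di := fun a => LimSp.sysSnd hDa g a ≫ eZ ≫ v₀ ≫ D.map k.hom
  let tF : F' ⟶ (Functor.const (Over k.left)).obj Di.left :=
    { app := fun a => (τ a).left
      naturality := fun a b ψ => by
        refine Eq.trans ?_ (Category.comp_id _).symm
        refine (congrArg CommaMorphism.left (?_ : (LimSp.sys hDa g).map ψ ≫ τ b = τ a))
        simp only [τ]
        rw [← Category.assoc, LimSp.map_sysSnd] }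
  obtain ⟨m, zU, hzU, hzh⟩ := Scheme.exists_π_app_comp_eq_of_locallyOfFinitePresentation F' tF h.left
    ((Over.forget S).mapCone L) hL ρ.left (by
      ext a
      change (L.π.app a).left ≫ (τ a).left = ρ.left ≫ h.left
      rw [← Over.comp_left, ← Over.comp_left, hρh]
      refine congrArg CommaMorphism.left ?_
      simp only [τ]
      rw [← Category.assoc, hq a]
      simp only [← Category.assoc]
      rw [Category.assoc q eZ, hlq, Category.assoc, c.w])
  let zO : (LimSp.sys hDa g).obj m ⟶ U := Over.homMk zU (by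
    refine (congrArg (fun p => zU ≫ p) (Over.w h).symm).trans ?_
    rw [← Category.assoc, hzh]
    exact Over.w (τ m))
  have hzO : L.π.app m ≫ zO = ρ := Over.OverMorphism.ext hzU
  have hzOh : zO ≫ h = τ m := Over.OverMorphism.ext hzh
  let z : (yon S).obj ((LimSp.sys hDa g).obj m) ⟶ X := (yon S).map zO ≫ p ≫ pullback.fst f y
  have wm : (LimSp.sysFst hDa g).app m ≫ (D ⋙ yon S).map m.hom = (yon S).map (LimSp.sysSnd hDa g m) ≫ g :=
    (LimSp.repWith_map hDa m.hom).1.w g
  have hz : z ≫ f = (LimSp.sysFst hDa g).app m ≫ (D ⋙ yon S).map m.hom ≫ (yon S).map (D.map k.hom) ≫ y := by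
    simp only [z, Category.assoc, pullback.condition]
    rw [← reassoc_of% hh, ← Functor.map_comp_assoc, hzOh]
    simp only [τ, Functor.map_comp, Category.assoc]
    refine ((Category.assoc _ _ _).symm.trans ((congrArg (fun p => p ≫ (yon S).map (D.map k.hom) ≫ y) wm).trans ?_)).symm
    simp only [g, Category.assoc]
  have : IsAffine (D.obj k.left).left := hD k.left
  have eR := (IsPullback.of_hasPullback (eZ ≫ v₀) (eZ ≫ v₀)).map (Over.forget S)
  have : IsAffine ((Over.forget S).obj Z) := hZ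
  have : IsAffine ((Over.forget S).obj (D.obj k.left)) := hD k.left
  have : IsAffine ((Over.forget S).obj ((𝟭 (Over S)).obj (D.obj k.left))) := hD k.left
  have hRa : IsAffine (pullback (eZ ≫ v₀) (eZ ≫ v₀)).left := IsAffine.of_isIso eR.isoPullback.hom
  have sqR : IsPullback ((yon S).map (pullback.fst (eZ ≫ v₀) (eZ ≫ v₀)))
      ((yon S).map (pullback.snd (eZ ≫ v₀) (eZ ≫ v₀))) g g := by
    simpa only [g, Functor.map_comp] using (IsPullback.of_hasPullback (eZ ≫ v₀) (eZ ≫ v₀)).map (yon S)
  have sqm := LimImm.isPullback_stage hDa hq hlL sq m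
  obtain ⟨j, φ, x', hx', hxf⟩ := exists_stage_of_chart hX hY f hf' hDa hc' ((yon S).map (D.map k.hom) ≫ y) x
    (w.trans ((congrArg (fun p => (yon S).map p ≫ y) (c.w k.hom).symm).trans
      ((congrArg (fun p => p ≫ y) ((yon S).map_comp _ _)).trans (Category.assoc _ _ _)))) g hge hgs sqR m z hz
    (fun T l' t' wl => by
      obtain ⟨u, hu⟩ := (yon S).map_surjective (sqm.lift l' ((yon S).map t') wl)
      have hu₁ : (yon S).map u ≫ (yon S).map l₀ = l' := by rw [hu]; exact sqm.lift_fst _ _ _
      have hu₂ : u ≫ L.π.app m = t' := (yon S).map_injective (by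
        rw [Functor.map_comp, hu]; exact sqm.lift_snd _ _ _)
      simp only [z]
      rw [← hu₂, ← Functor.map_comp_assoc, Category.assoc, hzO, Functor.map_comp_assoc, reassoc_of% hρ,
        pullback.lift_fst, ← hu₁, Category.assoc])
  exact ⟨j, φ ≫ k.hom, x', hx', by rw [hxf, Functor.map_comp, Functor.map_comp, Category.assoc]; rfl⟩

omit [IsCofiltered I] in
theorem locP_lft_of_lfp {f : X ⟶ Y} (hf : LocP @LocallyOfFinitePresentation f) :
    LocP @LocallyOfFiniteType f := fun U V a b h ha hb w => by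
  have : LocallyOfFinitePresentation h.left := hf a b h ha hb w
  exact (inferInstance : LocallyOfFiniteType h.left)

/-- A morphism locally of finite presentation is relatively limit preserving. -/
theorem relLP_of_locP (hX : IsAlgSpace X) (hY : IsAlgSpace Y) (f : X ⟶ Y)
    (hf : LocP @LocallyOfFinitePresentation f) : Groth.Agent.AlgSpB.RelLP f.hom := by
  intro K _ _ D c hc hD hT
  have hnat : ∀ {F : Sp S} {A B : Over S} (g : A ⟶ B) (x : F.obj.obj (op B)),
      (GrothendieckTopology.uliftYonedaEquiv.{u + 1} (J S)).symm (F.obj.map g.op x) = (yon S).map g ≫ (GrothendieckTopology.uliftYonedaEquiv.{u + 1} (J S)).symm x :=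
    fun g x => (GrothendieckTopology.uliftYonedaEquiv_symm_naturality_left.{u + 1} (J S) g _ x).symm
  have hcomp : ∀ {T : Over S} (x : X.obj.obj (op T)),
      (GrothendieckTopology.uliftYonedaEquiv.{u + 1} (J S)).symm x ≫ f = (GrothendieckTopology.uliftYonedaEquiv.{u + 1} (J S)).symm (f.hom.app (op T) x) :=
    fun x => GrothendieckTopology.uliftYonedaEquiv_symm_naturality_right.{u + 1} (J S) _ f x
  refine ⟨fun i y x w => ?_, fun i x x' hxf hπ => ?_⟩
  · obtain ⟨j, φ, x', hx', hxf⟩ := exists_stage_affine hX hY f hf (locP_lft_of_lfp hf) hc hD hT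
      ((GrothendieckTopology.uliftYonedaEquiv.{u + 1} (J S)).symm y) ((GrothendieckTopology.uliftYonedaEquiv.{u + 1} (J S)).symm x) ((hcomp x).trans ((congrArg _ w).trans (hnat (c.π.app i) y)))
    refine ⟨j, φ, GrothendieckTopology.uliftYonedaEquiv.{u + 1} (J S) x', ?_, ?_⟩
    · apply (GrothendieckTopology.uliftYonedaEquiv.{u + 1} (J S)).symm.injective
      refine ((hcomp _).symm.trans ?_).trans (hnat (D.map φ) y).symm
      rw [Equiv.symm_apply_apply]
      exact hxf
    · apply (GrothendieckTopology.uliftYonedaEquiv.{u + 1} (J S)).symm.injective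
      refine (hnat (c.π.app j) _).trans ?_
      rw [Equiv.symm_apply_apply]
      exact hx'
  · obtain ⟨j, φ, e⟩ := exists_eq_stage hX hY f (locP_lft_of_lfp hf) D c hc
      (fun a b φ => have := hD a; have := hD b; inferInstance) (fun a => have := hD a; inferInstance)
      (fun a => have := hD a; inferInstance) ((GrothendieckTopology.uliftYonedaEquiv.{u + 1} (J S)).symm x) ((GrothendieckTopology.uliftYonedaEquiv.{u + 1} (J S)).symm x')
      ((hcomp x).trans ((congrArg _ hxf).trans (hcomp x').symm))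
      ((hnat (c.π.app i) x).symm.trans ((congrArg _ hπ).trans (hnat (c.π.app i) x')))
    refine ⟨j, φ, (GrothendieckTopology.uliftYonedaEquiv.{u + 1} (J S)).symm.injective ?_⟩
    exact (hnat (D.map φ) x).trans (e.trans (hnat (D.map φ) x').symm)

end Groth.Agent.AlgSp.LimLP
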