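import Groth.Agent.AlgSpCov.LocP
import Groth.Agent.AlgSpB.Points
import Groth.Agent.LimLib.LfpCriterion
import Mathlib.AlgebraicGeometry.AffineTransitionLimit

/-!
# Morphisms lifting points of limits are locally of finite presentation
-/

universe u

open CategoryTheory CategoryTheory.Limits AlgebraicGeometry Opposite

set_option backward.isDefEq.respectTransparency false
set_option backward.isDefEq.respectTransparency.types false
set_option autoImplicit false

attribute [local instance] CategoryTheory.isConnected_of_hasTerminal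

namespace Groth.Agent.AlgSp.LimLPCrit

open _root_.AlgSp

variable {S : Scheme.{u}} {X Y : Sp S}

/-- A morphism along which points of limits of affine schemes lift from a stage is locally of finite presentation. -/
theorem locP_of_lifts (f : X ⟶ Y)
    (h : ∀ ⦃I : Type u⦄ [SmallCategory I] [IsCofiltered I] (D : I ⥤ Over S) (c : Cone D),
      IsLimit ((Over.forget S).mapCone c) → (∀ i, IsAffine (D.obj i).left) → IsAffine c.pt.left →
      ∀ (x : (yon S).obj c.pt ⟶ X) (i : I) (y : (yon S).obj (D.obj i) ⟶ Y),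
        x ≫ f = (yon S).map (c.π.app i) ≫ y →
        ∃ (i' : I) (φ : i' ⟶ i) (x' : (yon S).obj (D.obj i') ⟶ X),
          (yon S).map (c.π.app i') ≫ x' = x ∧ x' ≫ f = (yon S).map (D.map φ) ≫ y) :
    LocP @LocallyOfFinitePresentation f := by
  intro U V a b g ha hb w
  refine Groth.Agent.LimLib.lfp_of_lifts g.left fun J _ _ _ D t c hc hD j₀ g₀ hg₀ => ?_
  have : ∀ j, IsAffine (D.obj j) := hD
  have hpt : IsAffine c.pt := Scheme.isAffine_of_isLimit c hc
  let DS : Jᵒᵖ ⥤ Over S :=
    { obj := fun j => Over.mk (t.app j ≫ V.hom)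
      map := fun {j k} φ => Over.homMk (D.map φ) (by
        have e : D.map φ ≫ t.app k = t.app j := (t.naturality φ).trans (Category.comp_id _)
        change D.map φ ≫ t.app k ≫ V.hom = t.app j ≫ V.hom
        rw [← Category.assoc, e])
      map_id := fun j => Over.OverMorphism.ext (D.map_id j)
      map_comp := fun φ ψ => Over.OverMorphism.ext (D.map_comp φ ψ) }
  let tO : ∀ j, DS.obj j ⟶ V := fun j => Over.homMk (t.app j) rfl
  let T : Over S := Over.mk (g₀ ≫ U.hom)
  have ht : ∀ j, c.π.app j ≫ t.app j = g₀ ≫ g.left := by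
    have hmin : ∀ {j k : Jᵒᵖ} (φ : j ⟶ k), c.π.app j ≫ t.app j = c.π.app k ≫ t.app k := fun {j k} φ => by
      rw [← c.w φ, Category.assoc, t.naturality φ]
      simp
    intro j
    rw [hg₀, ← hmin (IsCofiltered.minToLeft j j₀), ← hmin (IsCofiltered.minToRight j j₀)]
  let cS : Cone DS :=
    { pt := T
      π :=
        { app := fun j => Over.homMk (c.π.app j) (by
            change c.π.app j ≫ t.app j ≫ V.hom = g₀ ≫ U.hom
            rw [← Category.assoc, ht j, Category.assoc, Over.w g])
          naturality := fun j k φ => Over.OverMorphism.ext (c.π.naturality φ) } }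
  have hcS : IsLimit ((Over.forget S).mapCone cS) :=
    IsLimit.ofIsoLimit hc (Cone.ext (Iso.refl _) fun j => (Category.id_comp _).symm)
  let gO : T ⟶ U := Over.homMk g₀ rfl
  have hgO : gO ≫ g = cS.π.app j₀ ≫ tO j₀ := Over.OverMorphism.ext hg₀
  obtain ⟨i, φ, x', hx', hxf⟩ := h DS cS hcS hD hpt ((yon S).map gO ≫ a) j₀ ((yon S).map (tO j₀) ≫ b) (by
    rw [Category.assoc, w, ← Functor.map_comp_assoc, hgO, Functor.map_comp, Category.assoc])
  have hti : DS.map φ ≫ tO j₀ = tO i := Over.OverMorphism.ext ((t.naturality φ).trans (Category.comp_id _))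
  -- compare with the chart
  obtain ⟨m, hm, hm1, hm2⟩ := AlgSpCov.etale_toPullback ha hb w (IsPullback.of_hasPullback f b)
  let q : (yon S).obj (DS.obj i) ⟶ pullback f b := pullback.lift x' ((yon S).map (tO i)) (by
    rw [hxf, ← Functor.map_comp_assoc, hti])
  obtain ⟨W, w₂, w₁, sqW⟩ := Groth.Agent.AlgSpB.exists_pullback_yon hm.1 q
  have : Etale w₁.left := hm.2 _ _ _ sqW
  have hπi : cS.π.app i ≫ tO i = gO ≫ g := Over.OverMorphism.ext (ht i)
  obtain ⟨σ₀, hσ₀⟩ := (yon S).map_surjective (sqW.lift ((yon S).map gO) ((yon S).map (cS.π.app i)) (by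
    refine pullback.hom_ext ?_ ?_
    · rw [Category.assoc, hm1, Category.assoc, pullback.lift_fst, hx']
    · rw [Category.assoc, hm2, Category.assoc, pullback.lift_snd, ← Functor.map_comp, ← Functor.map_comp, hπi]))
  have hσ₁ : σ₀ ≫ w₁ = cS.π.app i := (yon S).map_injective (by
    rw [Functor.map_comp, hσ₀]; exact sqW.lift_snd _ _ _)
  have hσ₂ : σ₀ ≫ w₂ = gO := (yon S).map_injective (by
    rw [Functor.map_comp, hσ₀]; exact sqW.lift_fst _ _ _)
  let F : Over i ⥤ Scheme.{u} := Over.forget i ⋙ D
  let tF : F ⟶ (Functor.const (Over i)).obj (DS.obj i).left :=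
    { app := fun k => D.map k.hom
      naturality := fun k l ψ => by
        refine Eq.trans ?_ (Category.comp_id _).symm
        change D.map ψ.left ≫ D.map l.hom = D.map k.hom
        rw [← D.map_comp, Over.w] }
  have hFa : ∀ k, IsAffine (F.obj k) := fun k => hD k.left
  have : ∀ {k l : Over i} (ψ : k ⟶ l), IsAffineHom (F.map ψ) := fun {k l} ψ =>
    have := hFa k; have := hFa l; inferInstance
  have : ∀ k, CompactSpace (F.obj k) := fun k => have := hFa k; inferInstance
  have : ∀ k, QuasiSeparatedSpace (F.obj k) := fun k => have := hFa k; inferInstance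
  obtain ⟨k, σ, hσ, hσw⟩ := Scheme.exists_π_app_comp_eq_of_locallyOfFinitePresentation F tF w₁.left
    (c.whisker (Over.forget i)) ((Functor.Initial.isLimitWhiskerEquiv (Over.forget i) c).symm hc) σ₀.left (by
      ext k
      change c.π.app k.left ≫ D.map k.hom = σ₀.left ≫ w₁.left
      rw [c.w]
      exact (congrArg CommaMorphism.left hσ₁).symm)
  refine ⟨k.left, σ ≫ w₂.left, ?_, ?_⟩
  · have e0 : w₂ ≫ g = w₁ ≫ tO i := (yon S).map_injective (by
      rw [Functor.map_comp, Functor.map_comp, ← hm2, ← Category.assoc, sqW.w, Category.assoc,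
        pullback.lift_snd])
    rw [Category.assoc]
    refine (congrArg (fun p => σ ≫ p) (congrArg CommaMorphism.left e0)).trans ?_
    change σ ≫ w₁.left ≫ t.app i = t.app k.left
    rw [← Category.assoc, hσw]
    exact (t.naturality k.hom).trans (Category.comp_id _)
  · refine (Category.assoc _ _ _).symm.trans ((congrArg (fun p => p ≫ w₂.left) hσ).trans ?_)
    exact congrArg CommaMorphism.left hσ₂

end Groth.Agent.AlgSp.LimLPCrit
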