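import Groth.Agent.AlgSp.LimClosed
import Groth.Agent.AlgSp.Sep
import Groth.Agent.AlgSp.QCMor

/-!
# Monomorphisms into limits are eventually monomorphisms
-/

universe u

open CategoryTheory CategoryTheory.Limits AlgebraicGeometry Opposite

set_option backward.isDefEq.respectTransparency false
set_option backward.isDefEq.respectTransparency.types false
set_option autoImplicit false

namespace Groth.Agent.AlgSp.LimMono

open _root_.AlgSp

variable {S : Scheme.{u}}

variable {I : Type u} [SmallCategory I] [IsCofiltered I] {D : I ⥤ Sp S}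

/-- Identities are representable of finite presentation. -/
theorem repWith_id_sp (Y : Sp S) : RepWith @LocallyOfFinitePresentation (𝟙 Y) := by
  refine ⟨MorphismProperty.id_mem (yon S).relativelyRepresentable _, fun _ _ g fst snd sq => ?_⟩
  have : IsIso ((yon S).map snd) := sq.isIso_snd_of_isIso
  have : IsIso snd := isIso_of_reflects_iso _ (yon S)
  have : IsIso snd.left := inferInstanceAs (IsIso ((Over.forget S).map snd))
  exact (inferInstance : LocallyOfFinitePresentation snd.left)

/-- An affine morphism has closed diagonal. -/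
theorem diagonal_of_isAffineMor {X Y : Sp S} {f : X ⟶ Y} (hX : IsAlgSpace X) (hf : IsAffineMor f) :
    RepWith @IsClosedImmersion (pullback.diagonal f) := by
  have h := (Groth.Agent.AlgSp.isAffineMor_iff f).1 hf
  exact (Groth.Agent.AlgSp.repWith_diagonal_iff_of_representable @IsClosedImmersion @IsSeparated
    (fun h => (isSeparated_iff h).symm) hX h.1).2 ⟨h.1, fun _ _ g fst snd sq =>
      haveI : IsAffineHom snd.left := h.2 g fst snd sq
      (inferInstance : IsSeparated snd.left)⟩

/-- A monomorphism of finite type into a limit is eventually a monomorphism. -/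
theorem eventually_mono [QuasiSeparatedSpace S] (B : Sp S) (hB : IsAlgSpace B)
    (t : D ⟶ (Functor.const I).obj B) (hD : ∀ i, IsAlgSpace (D.obj i))
    (hDa : ∀ (i j : I) (φ : i ⟶ j), IsAffineMor (D.map φ)) (c : Cone D) (hc : IsLimit c)
    (hqs : ∀ i, IsQuasiSeparatedSp (D.obj i)) (Y : Sp S) (hY : IsAlgSpace Y) (hYqc : IsQuasiCompactSp Y)
    (y : Y ⟶ c.pt) [Mono y] (i₁ : I) (hYB : LocP @LocallyOfFiniteType (y ≫ c.π.app i₁ ≫ t.app i₁)) :
    ∃ i₀ : I, ∀ (i : I) (_ : i ⟶ i₀), Mono (y ≫ c.π.app i) := by
  let yi : ∀ i, Y ⟶ D.obj i := fun i => y ≫ c.π.app i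
  have hyi : ∀ {i j : I} (a : i ⟶ j), yi i ≫ D.map a = yi j := fun a =>
    (Category.assoc _ _ _).trans (congrArg (fun k => y ≫ k) (c.w a))
  let P : I ⥤ Sp S :=
    { obj := fun i => pullback (yi i) (yi i)
      map := fun {i j} a => pullback.map (yi i) (yi i) (yi j) (yi j) (𝟙 Y) (𝟙 Y) (D.map a)
        ((hyi a).trans (Category.id_comp _).symm) ((hyi a).trans (Category.id_comp _).symm)
      map_id := fun i => by apply pullback.hom_ext <;> simp
      map_comp := fun a b => by apply pullback.hom_ext <;> simp [pullback.map] }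
  let tP : P ⟶ (Functor.const I).obj Y :=
    { app := fun i => pullback.fst (yi i) (yi i)
      naturality := fun i j a => by simp [P, pullback.map] }
  let cP : Cone P :=
    { pt := Y
      π :=
        { app := fun i => pullback.diagonal (yi i)
          naturality := fun i j a => by apply pullback.hom_ext <;> simp [P, pullback.map] } }
  have hconst : ∀ (s : Cone P) (i j : I),
      s.π.app i ≫ pullback.fst (yi i) (yi i) = s.π.app j ≫ pullback.fst (yi j) (yi j) ∧
        s.π.app i ≫ pullback.snd (yi i) (yi i) = s.π.app j ≫ pullback.snd (yi j) (yi j) := by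
    intro s i j
    obtain ⟨k, a, b, -⟩ : ∃ (k : I) (_ : k ⟶ i) (_ : k ⟶ j), True :=
      ⟨_, IsCofiltered.minToLeft i j, IsCofiltered.minToRight i j, trivial⟩
    rw [← s.w a, ← s.w b]
    constructor <;> simp [P, pullback.map]
  have hcP : IsLimit cP := by
    refine IsLimit.mk (fun s => s.π.app i₁ ≫ pullback.fst _ _) (fun s j => ?_) (fun s m hm => ?_)
    · have hab : s.π.app i₁ ≫ pullback.fst _ _ = s.π.app i₁ ≫ pullback.snd _ _ := by
        rw [← cancel_mono y]
        refine hc.hom_ext fun k => ?_
        rw [(hconst s i₁ k).1, (hconst s i₁ k).2]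
        simp only [Category.assoc]
        exact congrArg (fun l => s.π.app k ≫ l) pullback.condition
      apply pullback.hom_ext
      · simp [cP, (hconst s i₁ j).1]
      · simp only [cP, Category.assoc, pullback.diagonal_snd, Category.comp_id]
        rw [hab, (hconst s i₁ j).2]
    · rw [← hm i₁]
      simp [cP]
  have hyft : ∀ i, (i ⟶ i₁) → LocP @LocallyOfFiniteType (yi i) := fun i a => by
    refine locP_lft_of_comp hB (yi i) (t.app i) ?_
    have e : yi i ≫ t.app i = y ≫ c.π.app i₁ ≫ t.app i₁ := by
      have hn : D.map a ≫ t.app i₁ = t.app i := (t.naturality a).trans (Category.comp_id _)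
      rw [← hn, ← Category.assoc, hyi a]
      exact Category.assoc _ _ _
    rw [e]
    exact hYB
  have hPD : ∀ i, IsAlgSpace (P.obj i) := fun i => Groth.Agent.AlgSp.isAlgSpace_pullback (hD i) hY hY _ _
  have hPc : ∀ (i j : I) (a : i ⟶ j), RepWith @IsClosedImmersion (P.map a) := fun i j a => by
    have h := diagonal_of_isAffineMor (hD i) (hDa i j a)
    have h2 : RepWith @IsClosedImmersion (pullback.mapDesc (yi i) (yi i) (D.map a)) :=
      Groth.Agent.AlgSp.mapDesc_mem_of_diagonal _ _ _ _ h
    have e : P.map a = pullback.mapDesc (yi i) (yi i) (D.map a) ≫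
        (pullback.congrHom (hyi a) (hyi a)).hom := by
      apply pullback.hom_ext <;> simp [P, pullback.map]
    rw [e]
    exact (MorphismProperty.cancel_right_of_respectsIso (RepWith @IsClosedImmersion) _ _).2 h2
  have hqc : IsQuasiCompactSp (P.obj i₁) :=
    Groth.Agent.AlgSp.isQuasiCompactMor_of_quasiCompactSp hY (hD i₁) (yi i₁) hYqc (hqs i₁) hY hYqc
      (yi i₁) _ _ (IsPullback.of_hasPullback (yi i₁) (yi i₁))
  have hft : LocP @LocallyOfFiniteType (tP.app i₁) :=
    AlgSpCov.locP_baseChange AlgSpCov.etaleLocal_locallyOfFiniteType hY (hD i₁)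
      (IsPullback.of_hasPullback (yi i₁) (yi i₁)).flip (hyft i₁ (𝟙 _))
  have hX : LocP @LocallyOfFinitePresentation (cP.π.app i₁ ≫ tP.app i₁) := by
    have e : cP.π.app i₁ ≫ tP.app i₁ = 𝟙 Y := pullback.diagonal_fst _
    rw [e]
    exact AlgSpCov.locP_of_repWith AlgSpCov.etaleLocal_locallyOfFinitePresentation (repWith_id_sp Y)
  obtain ⟨i₀, hi₀⟩ := LimClosed.eventually_isIso Y hY tP hPD hPc cP hcP i₁ hqc hft hX
  refine ⟨i₀, fun i a => ?_⟩
  have : IsIso (pullback.diagonal (yi i)) := hi₀ i a
  exact (pullback.isIso_diagonal_iff (yi i)).1 this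

end Groth.Agent.AlgSp.LimMono
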