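import Groth.Agent.AlgSp.LimImm
import Groth.Agent.AlgSp.LimMono
import Groth.Agent.AlgSpB.Open

/-!
# Quasi-compact open subspaces of a limit come from stages
-/

universe u

open CategoryTheory CategoryTheory.Limits AlgebraicGeometry Opposite

set_option backward.isDefEq.respectTransparency.types false
set_option autoImplicit false

attribute [local instance] CategoryTheory.isConnected_of_hasTerminal

namespace Groth.Agent.AlgSp.LimOpen

open _root_.AlgSp

variable {S : Scheme.{u}}

/-- The scheme underlying a quasi-compact representable space is quasi-compact. -/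
theorem compactSpace_of_isQuasiCompactSp {W : Over S} (h : IsQuasiCompactSp ((yon S).obj W)) :
    CompactSpace W.left := by
  obtain ⟨U, p, -, hps, hU⟩ := h
  obtain ⟨m, rfl⟩ := (yon S).map_surjective p
  have : Surjective m.left := (repWith_yon_map_iff _ m).1 hps
  exact ⟨m.left.surjective.range_eq ▸ isCompact_range m.left.continuous⟩

/-- An open subspace is the base change of the open subspace with the same points. -/
theorem exists_isPullback_open {X Y U V : Sp S} {j : U ⟶ X} (hj : RepWith @IsOpenImmersion j) {f : X ⟶ Y}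
    {jY : V ⟶ Y} (hjY : RepWith @IsOpenImmersion jY)
    (h : Set.range (Points.map j) = Points.map f ⁻¹' Set.range (Points.map jY)) :
    ∃ q : U ⟶ V, IsPullback j q f jY := by
  have : Mono jY := Groth.Agent.AlgSpB.mono_of_isOpenImmersion hjY
  have : Mono j := Groth.Agent.AlgSpB.mono_of_isOpenImmersion hj
  obtain ⟨q, hq⟩ := (Groth.Agent.AlgSpB.exists_factor_isOpenImmersion_iff hjY (j ≫ f)).2 (by
    rintro _ ⟨x, rfl⟩
    rw [Points.map_comp]
    exact h.subset ⟨x, rfl⟩)
  have hex : ∀ s : PullbackCone f jY, ∃ l : s.pt ⟶ U, l ≫ j = s.fst := fun s =>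
    (Groth.Agent.AlgSpB.exists_factor_isOpenImmersion_iff hj s.fst).2 (by
      rintro _ ⟨x, rfl⟩
      refine h.symm.subset ⟨Points.map s.snd x, ?_⟩
      rw [← Points.map_comp, ← s.condition, Points.map_comp])
  choose l hl using hex
  refine ⟨q, IsPullback.of_isLimit' ⟨hq.symm⟩ (PullbackCone.IsLimit.mk _ l hl (fun s => ?_)
    fun s m hm _ => ?_)⟩
  · rw [← cancel_mono jY, Category.assoc, hq, ← Category.assoc, hl, s.condition]
  · rw [← cancel_mono j, hl]
    exact hm

variable {I : Type u} [SmallCategory I] [IsCofiltered I] {D : I ⥤ Sp S}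

/-- Quasi-compact open subspaces of a limit come from stages. -/
theorem exists_open_stage [QuasiSeparatedSpace S] (hD : ∀ i, IsAlgSpace (D.obj i))
    (hDa : ∀ (i j : I) (φ : i ⟶ j), IsAffineMor (D.map φ)) (hqc : ∀ i, IsQuasiCompactSp (D.obj i))
    (hqs : ∀ i, IsQuasiSeparatedSp (D.obj i)) (c : Cone D) (hc : IsLimit c)
    {U : Sp S} (j : U ⟶ c.pt) (hj : RepWith @IsOpenImmersion j) (hU : IsQuasiCompactSp U) :
    ∃ (i : I) (Ui : Sp S) (ji : Ui ⟶ D.obj i) (q : U ⟶ Ui),
      RepWith @IsOpenImmersion ji ∧ IsQuasiCompactSp Ui ∧ IsPullback j q (c.π.app i) ji := by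
  obtain ⟨i₀⟩ := IsCofiltered.nonempty (C := I)
  obtain ⟨U₀, p, hp, hps, hU₀⟩ := hqc i₀
  have := Groth.Agent.AlgSpB.compactSpace_points_of_isQuasiCompactSp ⟨U₀, p, hp, hps, hU₀⟩
  obtain ⟨Z, e, hZ, hze, hzs⟩ := Groth.Agent.AlgSpB.exists_affine_chart_of_compactSpace hp hps
  let g := (yon S).map e ≫ p
  obtain ⟨L, lL, q, ⟨hL⟩, -, hq, hlL, sq⟩ := LimSp.exists_isPullback hDa g c hc
  let F := LimSp.sys hDa g ⋙ Over.forget S
  have sqU := hj.1.isPullback lL
  have : IsOpenImmersion (hj.1.snd lL).left := hj.2 _ _ _ sqU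
  have hUa : IsAlgSpace U := by
    have : Mono j := Groth.Agent.AlgSpB.mono_of_isOpenImmersion hj
    exact Groth.Agent.AlgSpB.isAlgSpace_of_mono_representable (LimSp.isAlgSpace_pt hDa hD c hc) j hj.1
  have : CompactSpace (hj.1.pullback lL).left := compactSpace_of_isQuasiCompactSp
    (Groth.Agent.AlgSp.isQuasiCompactMor_of_quasiCompactSp hUa (hD i₀) (j ≫ c.π.app i₀) hU (hqs i₀)
      (IsAlgSpace.yon_obj Z) (Groth.Agent.AlgSp.isQuasiCompactSp_yon Z) g _ _ (sqU.paste_vert sq))
  let UL := (hj.1.snd lL).left.opensRange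
  have hULc : IsCompact (UL : Set L.pt.left) := by
    rw [Scheme.Hom.coe_opensRange]
    exact isCompact_range (hj.1.snd lL).left.continuous
  have : ∀ {a b : Over i₀} (φ : a ⟶ b), IsAffineHom (F.map φ) := fun φ => LimSp.isAffineHom_sys hDa g φ
  obtain ⟨k, V, hV, hVU⟩ := exists_preimage_eq F ((Over.forget S).mapCone L) hL UL hULc
  -- the open subspace of the stage
  let W := (LimSp.sys hDa g).obj k
  have sqk := LimImm.isPullback_stage hDa hq hlL sq k
  let fst := (LimSp.sysFst hDa g).app k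
  have hfe : RepWith @Etale fst :=
    MorphismProperty.of_isPullback ((LimSp.repWith_map hDa k.hom).1.isPullback g).flip hze
  let VO : Over S := Over.mk (V.ι ≫ W.hom)
  let ιV : VO ⟶ W := Over.homMk V.ι rfl
  let a : (yon S).obj VO ⟶ D.obj k.left := (yon S).map ιV ≫ fst
  have hae : RepWith @Etale a :=
    AlgSpCov.repWith_comp ((repWith_yon_map_iff _ ιV).2 (inferInstanceAs (Etale V.ι))) hfe
  have hop : IsOpen (Set.range (Points.ofPt a)) := (Groth.Agent.AlgSpB.isOpenMap_ofPt hae).isOpen_range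
  obtain ⟨Ui, ji, hji, hr⟩ := Groth.Agent.AlgSpB.exists_openSubspace ⟨D.obj k.left, hD _⟩ hop
  obtain ⟨a', -, ha'e, ha's⟩ := Groth.Agent.AlgSpB.exists_chart_into_subspace hae hji hr
  have hUiqc : IsQuasiCompactSp Ui.obj := ⟨VO, a', ha'e, ha's, isCompact_iff_compactSpace.mp hV⟩
  obtain ⟨qU, hqU⟩ := exists_isPullback_open hj hji (f := c.π.app k.left) (by
    rw [hr]
    have hra : Set.range (Points.ofPt a) = Points.ofPt fst '' {w : W.left | w ∈ V} := by
      have : ∀ v, Points.ofPt a v = Points.ofPt fst (V.ι v) := fun v => Groth.Agent.AlgSpB.ofPt_map_comp ιV fst v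
      ext x
      constructor
      · rintro ⟨v, rfl⟩
        exact ⟨_, v.2, (this v).symm⟩
      · rintro ⟨w, hw, rfl⟩
        exact ⟨⟨w, hw⟩, this _⟩
    rw [hra]
    have hmem : ∀ l : L.pt.left, Points.ofPt lL l ∈ Set.range (Points.map j) ↔ (L.π.app k).left l ∈ V := by
      intro l
      have e1 : Set.range (hj.1.snd lL).left = Points.ofPt lL ⁻¹' Set.range (Points.map j) :=
        Groth.Agent.AlgSpB.range_snd_eq sqU
      exact (Set.ext_iff.1 e1 l).symm.trans (by
        change l ∈ UL ↔ _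
        rw [← hVU]
        rfl)
    ext x
    constructor
    · intro hx
      obtain ⟨z, hz⟩ := Groth.Agent.AlgSpB.surjective_ofPt hzs (Points.map (c.π.app i₀) x)
      obtain ⟨p, hp1, -⟩ := Groth.Agent.AlgSpB.exists_of_isPullback sq x (Points.ofScheme Z z)
        (hz.symm.trans (Points.ofPt_eq_map_ofScheme g z))
      rw [← Points.ofScheme_toScheme L.pt p, ← Points.ofPt_eq_map_ofScheme] at hp1
      refine ⟨(L.π.app k).left (Points.toScheme L.pt p), (hmem _).1 (hp1 ▸ hx), ?_⟩
      rw [← hp1, Points.map_ofPt, hlL]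
      exact (Groth.Agent.AlgSpB.ofPt_map_comp (L.π.app k) fst _).symm
    · rintro ⟨w, hw, hwx⟩
      obtain ⟨p, hp1, hp2⟩ := Groth.Agent.AlgSpB.exists_of_isPullback sqk x (Points.ofScheme W w)
        (hwx.symm.trans (Points.ofPt_eq_map_ofScheme fst w))
      rw [← Points.ofScheme_toScheme L.pt p, ← Points.ofPt_eq_map_ofScheme] at hp1 hp2
      have e2 : (L.π.app k).left (Points.toScheme L.pt p) = w := by
        rw [← Points.toScheme_ofPt, hp2]
        exact Points.toScheme_ofScheme W w
      rw [← hp1]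
      exact (hmem _).2 (e2.symm ▸ hw))
  exact ⟨k.left, Ui.obj, ji.hom, qU, hji, hUiqc, hqU⟩

end Groth.Agent.AlgSp.LimOpen
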