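import Groth.Agent.AlgSp.LimLP
import Groth.Agent.AlgSp.LimOpen
import Groth.Agent.AlgSpB.Art.Pieces

/-!
# Points of spaces locally of finite presentation with values in limits of spaces
-/

universe u

open CategoryTheory CategoryTheory.Limits AlgebraicGeometry Opposite

set_option backward.isDefEq.respectTransparency false
set_option backward.isDefEq.respectTransparency.types false
set_option autoImplicit false

attribute [local instance] CategoryTheory.isConnected_of_hasTerminal

namespace Groth.Agent.AlgSp.LimLP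

open _root_.AlgSp

variable {S : Scheme.{u}} {I : Type u} [SmallCategory I] [IsCofiltered I] {X Y : Sp S} (hX : IsAlgSpace X)
  (hY : IsAlgSpace Y) {f : X ⟶ Y} (hf : LocP @LocallyOfFinitePresentation f) {D : I ⥤ Sp S}
  (hD : ∀ i, IsAlgSpace (D.obj i)) (hDa : ∀ (i j : I) (φ : i ⟶ j), IsAffineMor (D.map φ))
  (hqc : ∀ i, IsQuasiCompactSp (D.obj i)) {c : Cone D} (hc : IsLimit c)

include hX hY hf hDa hqc hc in
/-- Uniqueness of stages of points with values in a limit of spaces. -/
theorem exists_eq_stage_sp {i : I} (x x' : D.obj i ⟶ X) (hxf : x ≫ f = x' ≫ f)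
    (hπ : c.π.app i ≫ x = c.π.app i ≫ x') : ∃ (j : I) (φ : j ⟶ i), D.map φ ≫ x = D.map φ ≫ x' := by
  obtain ⟨U, p, hp, hps, hU⟩ := hqc i
  have := Groth.Agent.AlgSpB.compactSpace_points_of_isQuasiCompactSp ⟨U, p, hp, hps, hU⟩
  obtain ⟨Z, e, hZ, hze, hzs⟩ := Groth.Agent.AlgSpB.exists_affine_chart_of_compactSpace hp hps
  let g := (yon S).map e ≫ p
  obtain ⟨L, l, q, ⟨hL⟩, -, hq, hlL, sq⟩ := LimSp.exists_isPullback hDa g c hc
  have haff : ∀ a, IsAffine ((LimSp.sys hDa g).obj a).left := fun a =>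
    @isAffine_of_isAffineHom _ _ (LimSp.sysSnd hDa g a).left (LimSp.isAffineHom_sysSnd hDa g a) hZ
  let top : Over i := Over.mk (𝟙 i)
  let F := (LimSp.sysFst hDa g).app top ≫ D.map top.hom
  have hl : (yon S).map (L.π.app top) ≫ F = l ≫ c.π.app i := by
    refine (Category.assoc _ _ _).symm.trans ((congrArg (fun p => p ≫ D.map top.hom) (hlL top).symm).trans ?_)
    rw [Category.assoc, c.w]
  obtain ⟨j, φ, hj⟩ := exists_eq_stage hX hY f (locP_lft_of_lfp hf) (LimSp.sys hDa g) L hL
    (fun _ _ ψ => LimSp.isAffineHom_sys hDa g ψ) (fun a => have := haff a; inferInstance)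
    (fun a => have := haff a; inferInstance) (F ≫ x) (F ≫ x') ((Category.assoc F x f).trans ((congrArg (fun p => F ≫ p) hxf).trans (Category.assoc F x' f).symm))
    (by rw [← Category.assoc, hl, Category.assoc, hπ, ← Category.assoc, ← hl, Category.assoc])
  let fj := (LimSp.sysFst hDa g).app j
  have sqj := (LimSp.repWith_map hDa j.hom).1.isPullback g
  have hn : (yon S).map ((LimSp.sys hDa g).map φ) ≫ F = fj ≫ D.map j.hom := by
    refine (Category.assoc _ _ _).symm.trans
      ((congrArg (fun p => p ≫ D.map top.hom) ((LimSp.sysFst hDa g).naturality φ)).trans ?_)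
    change (fj ≫ D.map φ.left) ≫ D.map top.hom = _
    rw [Category.assoc, ← D.map_comp, Over.w]
  refine ⟨j.left, j.hom, InfSpace.hom_ext_cover_sp (p := fj) (MorphismProperty.of_isPullback sqj.flip hze)
    (MorphismProperty.of_isPullback sqj.flip hzs) ?_⟩
  rw [← Category.assoc, ← hn, Category.assoc, hj, ← Category.assoc, hn, Category.assoc]

variable [QuasiSeparatedSpace S] (hqs : ∀ i, IsQuasiSeparatedSp (D.obj i))

include hX hY hf hD hDa hqc hqs hc in
/-- Existence of stages of points with values in a limit of spaces. -/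
theorem exists_stage_sp {i : I} (y : D.obj i ⟶ Y) (x : c.pt ⟶ X) (w : x ≫ f = c.π.app i ≫ y) :
    ∃ (j : I) (φ : j ⟶ i) (x' : D.obj j ⟶ X), c.π.app j ≫ x' = x ∧ x' ≫ f = D.map φ ≫ y := by
  obtain ⟨U, p, hp, hps, hU⟩ := hqc i
  have := Groth.Agent.AlgSpB.compactSpace_points_of_isQuasiCompactSp ⟨U, p, hp, hps, hU⟩
  obtain ⟨Z, e, hZ, hze, hzs⟩ := Groth.Agent.AlgSpB.exists_affine_chart_of_compactSpace hp hps
  let g := (yon S).map e ≫ p
  obtain ⟨L, l, q, ⟨hL⟩, hqa, hq, hlL, sq⟩ := LimSp.exists_isPullback hDa g c hc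
  have haff : ∀ a, IsAffine ((LimSp.sys hDa g).obj a).left := fun a =>
    @isAffine_of_isAffineHom _ _ (LimSp.sysSnd hDa g a).left (LimSp.isAffineHom_sysSnd hDa g a) hZ
  let top : Over i := Over.mk (𝟙 i)
  let F := (LimSp.sysFst hDa g).app top ≫ D.map top.hom
  have hl : (yon S).map (L.π.app top) ≫ F = l ≫ c.π.app i := by
    refine (Category.assoc _ _ _).symm.trans ((congrArg (fun p => p ≫ D.map top.hom) (hlL top).symm).trans ?_)
    rw [Category.assoc, c.w]
  obtain ⟨m, φ, z, hz₁, hz₂⟩ := exists_stage_affine hX hY f hf (locP_lft_of_lfp hf) hL haff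
    (@isAffine_of_isAffineHom _ _ q.left hqa hZ) (F ≫ y) (l ≫ x)
    (by rw [Category.assoc, w, ← Category.assoc, ← hl, Category.assoc])
  have hn : (yon S).map ((LimSp.sys hDa g).map φ) ≫ F = (LimSp.sysFst hDa g).app m ≫ D.map m.hom := by
    refine (Category.assoc _ _ _).symm.trans
      ((congrArg (fun p => p ≫ D.map top.hom) ((LimSp.sysFst hDa g).naturality φ)).trans ?_)
    change ((LimSp.sysFst hDa g).app m ≫ D.map φ.left) ≫ D.map top.hom = _
    rw [Category.assoc, ← D.map_comp, Over.w]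
  obtain ⟨R, r₁, r₂, sqR⟩ := Groth.Agent.AlgSpB.exists_pullback_yon ((hD i).representable_from_yon g) g
  have : IsAffine Z.left := hZ
  have hr₂ : IsSeparated r₂.left := Groth.Agent.AlgSpB.Art.isSeparated_snd sqR
  have hZqc : IsQuasiCompactSp ((yon S).obj Z) :=
    have : CompactSpace Z.left := inferInstance
    Groth.Agent.AlgSp.isQuasiCompactSp_yon Z
  have : CompactSpace R.left := LimOpen.compactSpace_of_isQuasiCompactSp
    (Groth.Agent.AlgSp.isQuasiCompactMor_of_quasiCompactSp (IsAlgSpace.yon_obj Z) (hD i) g hZqc (hqs i)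
      (IsAlgSpace.yon_obj Z) hZqc g _ _ sqR)
  have : QuasiSeparatedSpace R.left := quasiSeparatedSpace_of_quasiSeparated r₂.left
  have sqm := LimImm.isPullback_stage hDa hq hlL sq m
  refine exists_stage_of_chart hX hY f (locP_lft_of_lfp hf) hDa hc y x w g hze hzs sqR m z
    (by rw [hz₂, ← Category.assoc, hn, Category.assoc]) (fun T l' t' wl => ?_)
  obtain ⟨u, hu⟩ := (yon S).map_surjective (sqm.lift l' ((yon S).map t') wl)
  have hu₁ : (yon S).map u ≫ l = l' := by rw [hu]; exact sqm.lift_fst _ _ _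
  have hu₂ : u ≫ L.π.app m = t' := (yon S).map_injective (by
    rw [Functor.map_comp, hu]; exact sqm.lift_snd _ _ _)
  rw [← hu₂, Functor.map_comp_assoc, hz₁, ← Category.assoc, hu₁]

end Groth.Agent.AlgSp.LimLP
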