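import Mathlib.CategoryTheory.Limits.Types.Filtered
import Mathlib.CategoryTheory.Limits.Types.Pullbacks
import Mathlib.CategoryTheory.Filtered.Final

/-!
# Cartesian squares of colimits of sections, elementwise
-/

universe w v v' u' u

open CategoryTheory CategoryTheory.Limits Opposite

set_option autoImplicit false

namespace Groth.Agent.AlgSp.LimLPSquare

variable {C : Type u'} [Category.{v'} C] {I : Type u} [SmallCategory I] [IsCofiltered I]
  {F G : Cᵒᵖ ⥤ Type (max u w)} (a : F ⟶ G) {D : I ⥤ C} (c : Cone D)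

theorem map_w {F : Cᵒᵖ ⥤ Type (max u w)} {i j : I} (f : j ⟶ i) (x : F.obj (op (D.obj i))) :
    F.map (c.π.app j).op (F.map (D.map f).op x) = F.map (c.π.app i).op x := by
  rw [← Functor.map_comp_apply, ← op_comp, c.w]

theorem isPullback_of_elementwise
    (ea : ∀ (i : I) (y : G.obj (op (D.obj i))) (x : F.obj (op c.pt)),
      a.app _ x = G.map (c.π.app i).op y → ∃ (j : I) (f : j ⟶ i) (xj : F.obj (op (D.obj j))),
        a.app _ xj = G.map (D.map f).op y ∧ F.map (c.π.app j).op xj = x)
    (ua : ∀ (i : I) (x x' : F.obj (op (D.obj i))), a.app _ x = a.app _ x' →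
      F.map (c.π.app i).op x = F.map (c.π.app i).op x' →
      ∃ (j : I) (f : j ⟶ i), F.map (D.map f).op x = F.map (D.map f).op x') :
    IsPullback (colimMap (Functor.whiskerLeft D.op a)) (colimit.desc (D.op ⋙ F) (F.mapCocone c.op))
      (colimit.desc (D.op ⋙ G) (G.mapCocone c.op)) (a.app (op c.pt)) := by
  have hF : ∀ i x, colimit.desc (D.op ⋙ F) (F.mapCocone c.op) (colimit.ι (D.op ⋙ F) i x) =
      F.map (c.π.app i.unop).op x := fun i x =>
    ConcreteCategory.congr_hom (colimit.ι_desc (F.mapCocone c.op) i) x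
  have hG : ∀ i x, colimit.desc (D.op ⋙ G) (G.mapCocone c.op) (colimit.ι (D.op ⋙ G) i x) =
      G.map (c.π.app i.unop).op x := fun i x =>
    ConcreteCategory.congr_hom (colimit.ι_desc (G.mapCocone c.op) i) x
  have hm : ∀ i x, colimMap (Functor.whiskerLeft D.op a) (colimit.ι (D.op ⋙ F) i x) =
      colimit.ι (D.op ⋙ G) i (a.app _ x) := fun i x =>
    ConcreteCategory.congr_hom (ι_colimMap (Functor.whiskerLeft D.op a) i) x
  refine (Types.isPullback_iff _ _ _ _).2 ⟨?_, fun p q hpq => ?_, fun g x hgx => ?_⟩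
  · apply colimit.hom_ext
    intro i
    ext x
    change colimit.desc (D.op ⋙ G) (G.mapCocone c.op)
      (colimMap (Functor.whiskerLeft D.op a) (colimit.ι (D.op ⋙ F) i x)) =
      a.app _ (colimit.desc (D.op ⋙ F) (F.mapCocone c.op) (colimit.ι (D.op ⋙ F) i x))
    rw [hm, hG, hF]
    exact (NatTrans.naturality_apply a (c.π.app i.unop).op x).symm
  · obtain ⟨i, x, rfl⟩ := Types.jointly_surjective' p
    obtain ⟨i', x', rfl⟩ := Types.jointly_surjective' q
    obtain ⟨h1, h2⟩ := hpq
    rw [hm, hm] at h1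
    obtain ⟨k, f, f', hk⟩ :=
      (Types.FilteredColimit.isColimit_eq_iff _ (colimit.isColimit (D.op ⋙ G))).1 h1
    rw [hF, hF] at h2
    obtain ⟨l, g, hg⟩ := ua k.unop (F.map (D.map f.unop).op x) (F.map (D.map f'.unop).op x')
      (by rw [NatTrans.naturality_apply, NatTrans.naturality_apply]; exact hk)
      ((map_w c f.unop x).trans (h2.trans (map_w c f'.unop x').symm))
    refine (Types.FilteredColimit.isColimit_eq_iff _ (colimit.isColimit (D.op ⋙ F))).2
      ⟨op l, (g ≫ f.unop).op, (g ≫ f'.unop).op, ?_⟩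
    change F.map (D.map (g ≫ f.unop)).op x = F.map (D.map (g ≫ f'.unop)).op x'
    rw [Functor.map_comp, Functor.map_comp, op_comp, op_comp, Functor.map_comp_apply, Functor.map_comp_apply]
    exact hg
  · obtain ⟨i, y, rfl⟩ := Types.jointly_surjective' g
    rw [hG] at hgx
    obtain ⟨j, f, xj, hxj, hxp⟩ := ea i.unop y x hgx.symm
    refine ⟨colimit.ι (D.op ⋙ F) (op j) xj, ?_, by rw [hF]; exact hxp⟩
    exact (hm _ xj).trans ((congrArg _ hxj).trans (ConcreteCategory.congr_hom (colimit.w (D.op ⋙ G) f.op) y))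

/-- The existence half of a cartesian square of colimits. -/
theorem exists_of_isPullback
    (sq : IsPullback (colimMap (Functor.whiskerLeft D.op a)) (colimit.desc (D.op ⋙ F) (F.mapCocone c.op))
      (colimit.desc (D.op ⋙ G) (G.mapCocone c.op)) (a.app (op c.pt)))
    (i : I) (y : G.obj (op (D.obj i))) (x : F.obj (op c.pt)) (h : a.app _ x = G.map (c.π.app i).op y) :
    ∃ (j : I) (f : j ⟶ i) (xj : F.obj (op (D.obj j))),
      a.app _ xj = G.map (D.map f).op y ∧ F.map (c.π.app j).op xj = x := by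
  obtain ⟨p, hp1, hp2⟩ := Types.exists_of_isPullback sq (colimit.ι (D.op ⋙ G) (op i) y) x
    ((ConcreteCategory.congr_hom (colimit.ι_desc (G.mapCocone c.op) (op i)) y).trans h.symm)
  obtain ⟨j, xj, rfl⟩ := Types.jointly_surjective' p
  have hm := ConcreteCategory.congr_hom (ι_colimMap (Functor.whiskerLeft D.op a) j) xj
  obtain ⟨k, f, f', hk⟩ :=
    (Types.FilteredColimit.isColimit_eq_iff _ (colimit.isColimit (D.op ⋙ G))).1 (hm.symm.trans hp1)
  refine ⟨k.unop, f'.unop, F.map (D.map f.unop).op xj, (NatTrans.naturality_apply a _ _).trans hk, ?_⟩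
  exact (map_w c f.unop xj).trans
    ((ConcreteCategory.congr_hom (colimit.ι_desc (F.mapCocone c.op) j) xj).symm.trans hp2)

end Groth.Agent.AlgSp.LimLPSquare
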