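import Groth.Agent.AlgSp.LimImm
import Groth.Agent.AlgSpB.Open
import Groth.Agent.LimTop.Basic

/-!
# The space of points of a limit of decent algebraic spaces
-/

universe u

open CategoryTheory CategoryTheory.Limits AlgebraicGeometry Opposite

set_option backward.isDefEq.respectTransparency.types false
set_option autoImplicit false

attribute [local instance] CategoryTheory.isConnected_of_hasTerminal

namespace Groth.Agent.AlgSp.LimPoints

open _root_.AlgSp

variable {S : Scheme.{u}} {I : Type u} [SmallCategory I] [IsCofiltered I] {D : I ⥤ Sp S}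
  (hD : ∀ i, IsAlgSpace (D.obj i)) (hDa : ∀ (i j : I) (φ : i ⟶ j), IsAffineMor (D.map φ)) {c : Cone D}
  (hc : IsLimit c)

omit [IsCofiltered I] in
theorem map_π (i j : I) (a : i ⟶ j) (x : Points c.pt) :
    Points.map (D.map a) (Points.map (c.π.app i) x) = Points.map (c.π.app j) x := by
  rw [← Points.map_comp, c.w]

include hDa hc in
/-- The projections separate points and every compatible family comes from the limit. -/
theorem points_eq_limit (hdec : ∀ i, IsDecent (D.obj i)) :
    (∀ x x' : Points c.pt, (∀ i, Points.map (c.π.app i) x = Points.map (c.π.app i) x') → x = x') ∧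
    (∀ s : ∀ i, Points (D.obj i), (∀ (i j : I) (φ : i ⟶ j), Points.map (D.map φ) (s i) = s j) →
      ∃ x : Points c.pt, ∀ i, Points.map (c.π.app i) x = s i) := by
  obtain ⟨i₀⟩ := IsCofiltered.nonempty (C := I)
  refine ⟨fun x x' h => ?_, fun s hs => ?_⟩
  · obtain ⟨p, hp, hmono, hqc⟩ := hdec i₀ (Points.map (c.π.app i₀) x)
    obtain ⟨L, lL, q, ⟨hL⟩, -, hq, hlL, sq⟩ := LimSp.exists_isPullback hDa p.toHom c hc
    have ex : ∀ y : Points c.pt, Points.map (c.π.app i₀) y = Points.mk p → ∃ l, Points.ofPt lL l = y := by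
      intro y hy
      let z : p.pt.left := IsLocalRing.closedPoint p.K
      obtain ⟨a, ha, -⟩ := Groth.Agent.AlgSpB.exists_of_isPullback sq y (Points.ofScheme p.pt z)
        (by rw [← Points.ofPt_eq_map_ofScheme, Points.ofPt_toHom, hy])
      rw [← Points.ofScheme_toScheme L.pt a, ← Points.ofPt_eq_map_ofScheme] at ha
      exact ⟨_, ha⟩
    obtain ⟨l, rfl⟩ := ex x hp.symm
    obtain ⟨l', rfl⟩ := ex x' ((h i₀).symm.trans hp.symm)
    refine congrArg (Points.ofPt lL) (Groth.Agent.LimTop.point_ext hL (Over.mk (𝟙 i₀)) fun j _ => ?_)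
    have hm : Mono ((LimSp.sysFst hDa p.toHom).app j) :=
      MorphismProperty.of_isPullback (P := MorphismProperty.monomorphisms (Sp S))
        ((LimSp.repWith_map hDa j.hom).1.isPullback p.toHom).flip hmono
    have e := h j.left
    rw [Points.map_ofPt, Points.map_ofPt, hlL] at e
    replace e := (Groth.Agent.AlgSpB.ofPt_map_comp (L.π.app j) ((LimSp.sysFst hDa p.toHom).app j) l).symm.trans
      (e.trans (Groth.Agent.AlgSpB.ofPt_map_comp (L.π.app j) ((LimSp.sysFst hDa p.toHom).app j) l'))
    rw [Points.ofPt_eq_map_ofScheme, Points.ofPt_eq_map_ofScheme] at e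
    exact ((Points.toScheme_ofScheme _ _).symm.trans (congrArg (Points.toScheme _)
      (@Groth.Agent.AlgSpB.injective_map_of_mono _ _ _ _ hm _ _ e))).trans (Points.toScheme_ofScheme _ _)
  · obtain ⟨p, hp, hmono, hqc⟩ := hdec i₀ (s i₀)
    obtain ⟨L, lL, q, ⟨hL⟩, -, hq, hlL, sq⟩ := LimSp.exists_isPullback hDa p.toHom c hc
    let F := LimSp.sys hDa p.toHom ⋙ Over.forget S
    let fst := LimSp.sysFst hDa p.toHom
    have hinj : ∀ (j : Over i₀) (a b : F.obj j), Points.ofPt (fst.app j) a = Points.ofPt (fst.app j) b → a = b := by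
      intro j a b e
      have hm : Mono (fst.app j) :=
        MorphismProperty.of_isPullback (P := MorphismProperty.monomorphisms (Sp S))
          ((LimSp.repWith_map hDa j.hom).1.isPullback p.toHom).flip hmono
      rw [Points.ofPt_eq_map_ofScheme, Points.ofPt_eq_map_ofScheme] at e
      exact ((Points.toScheme_ofScheme _ a).symm.trans (congrArg (Points.toScheme _)
        (@Groth.Agent.AlgSpB.injective_map_of_mono _ _ _ _ hm _ _ e))).trans (Points.toScheme_ofScheme _ b)
    have hex : ∀ j : Over i₀, ∃ a : F.obj j, Points.ofPt (fst.app j) a = s j.left := fun j => by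
      let z : p.pt.left := IsLocalRing.closedPoint p.K
      obtain ⟨a, ha, -⟩ := Groth.Agent.AlgSpB.exists_of_isPullback
        ((LimSp.repWith_map hDa j.hom).1.isPullback p.toHom) (s j.left) (Points.ofScheme p.pt z)
        (by rw [← Points.ofPt_eq_map_ofScheme, Points.ofPt_toHom, hp]; exact hs _ _ j.hom)
      rw [← Points.ofScheme_toScheme ((LimSp.sys hDa p.toHom).obj j) a] at ha
      exact ⟨_, (Points.ofPt_eq_map_ofScheme (fst.app j) _).trans ha⟩
    choose a ha using hex
    obtain ⟨l, hl⟩ := Groth.Agent.LimTop.exists_point hL a fun j k φ => hinj k _ _ (by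
      have hn : (yon S).map ((LimSp.sys hDa p.toHom).map φ) ≫ fst.app k = fst.app j ≫ D.map φ.left :=
        fst.naturality φ
      refine ((Groth.Agent.AlgSpB.ofPt_map_comp _ _ (a j)).symm.trans ?_).trans (ha k).symm
      rw [hn]
      exact (Points.map_ofPt (fst.app j) (D.map φ.left) (a j)).symm.trans
        ((congrArg (Points.map (D.map φ.left)) (ha j)).trans (hs _ _ _)))
    refine ⟨Points.ofPt lL l, fun i => ?_⟩
    obtain ⟨k, α, β, -⟩ := IsCofilteredOrEmpty.cone_objs i i₀
    rw [← map_π k i α, Points.map_ofPt lL]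
    refine (congrArg (Points.map (D.map α)) ((congrArg (fun f => Points.ofPt f l) (hlL (Over.mk β))).trans
      (Groth.Agent.AlgSpB.ofPt_map_comp (L.π.app (Over.mk β)) (fst.app (Over.mk β)) l))).trans ?_
    exact (congrArg (fun y => Points.map (D.map α) (Points.ofPt (fst.app (Over.mk β)) y)) (hl _)).trans
      ((congrArg (Points.map (D.map α)) (ha _)).trans (hs _ _ α))

include hD hDa hc in
/-- The topology of the limit is induced by the projections. -/
theorem topology_eq : Points.topologicalSpace c.pt =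
    ⨅ i, TopologicalSpace.induced (Points.map (c.π.app i)) (Points.topologicalSpace (D.obj i)) := by
  refine le_antisymm (le_iInf fun i => continuous_iff_le_induced.1 (Points.continuous_map _)) ?_
  intro W hW
  letI T : TopologicalSpace (Points c.pt) :=
    ⨅ i, TopologicalSpace.induced (Points.map (c.π.app i)) (Points.topologicalSpace (D.obj i))
  change @IsOpen _ T W
  rw [@isOpen_iff_forall_mem_open _ T]
  intro x hx
  obtain ⟨i₀⟩ := IsCofiltered.nonempty (C := I)
  obtain ⟨Z, g, hge, hgs⟩ := (hD i₀).atlas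
  obtain ⟨L, lL, q, ⟨hL⟩, -, hq, hlL, sq⟩ := LimSp.exists_isPullback hDa g c hc
  obtain ⟨z, hz⟩ := Groth.Agent.AlgSpB.surjective_ofPt hgs (Points.map (c.π.app i₀) x)
  obtain ⟨p, hp1, -⟩ := Groth.Agent.AlgSpB.exists_of_isPullback sq x (Points.ofScheme Z z)
    (hz.symm.trans (Points.ofPt_eq_map_ofScheme g z))
  rw [← Points.ofScheme_toScheme L.pt p, ← Points.ofPt_eq_map_ofScheme] at hp1
  let l := Points.toScheme L.pt p
  let F := LimSp.sys hDa g ⋙ Over.forget S
  have : ∀ {a b : Over i₀} (φ : a ⟶ b), IsAffineHom (F.map φ) := fun φ => LimSp.isAffineHom_sys hDa g φ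
  have hop : IsOpen (Points.ofPt lL ⁻¹' W) := (Points.isOpen_iff.1 hW) L.pt lL
  obtain ⟨k, -, V, hV, hlV, hVW⟩ := Groth.Agent.LimTop.exists_nhd hL (Over.mk (𝟙 i₀)) hop (s := l)
    (show Points.ofPt lL l ∈ W by rw [hp1]; exact hx)
  have sqk := LimImm.isPullback_stage hDa hq hlL sq k
  let fst := (LimSp.sysFst hDa g).app k
  have hfe : RepWith @Etale fst :=
    MorphismProperty.of_isPullback ((LimSp.repWith_map hDa k.hom).1.isPullback g).flip hge
  refine ⟨Points.map (c.π.app k.left) ⁻¹' (Points.ofPt fst '' {w | w ∈ V}), ?_, ?_, ?_⟩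
  · rintro y ⟨w, hw, hwy⟩
    obtain ⟨a, ha1, ha2⟩ := Groth.Agent.AlgSpB.exists_of_isPullback sqk y
      (Points.ofScheme ((LimSp.sys hDa g).obj k) w) (hwy.symm.trans (Points.ofPt_eq_map_ofScheme fst w))
    rw [← Points.ofScheme_toScheme L.pt a, ← Points.ofPt_eq_map_ofScheme] at ha1 ha2
    have e2 : (L.π.app k).left (Points.toScheme L.pt a) = w := by
      rw [← Points.toScheme_ofPt, ha2]
      exact Points.toScheme_ofScheme _ w
    rw [← ha1]
    exact hVW (show (L.π.app k).left (Points.toScheme L.pt a) ∈ V from e2.symm ▸ hw)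
  · refine (iInf_le (fun i => TopologicalSpace.induced (Points.map (c.π.app i))
      (Points.topologicalSpace (D.obj i))) k.left) _ ?_
    exact ⟨_, (Groth.Agent.AlgSpB.isOpenMap_ofPt hfe) _ V.2, rfl⟩
  · refine ⟨(L.π.app k).left l, hlV, ?_⟩
    rw [← hp1, Points.map_ofPt, hlL]
    exact (Groth.Agent.AlgSpB.ofPt_map_comp (L.π.app k) fst _).symm

end Groth.Agent.AlgSp.LimPoints
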