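import Groth.Agent.AlgSp.LimSp
import Groth.Agent.AlgSp.SchImageRep

/-!
# Limits of reduced spaces are reduced
-/

universe u

open CategoryTheory CategoryTheory.Limits AlgebraicGeometry Opposite

set_option backward.isDefEq.respectTransparency.types false
set_option autoImplicit false

attribute [local instance] CategoryTheory.isConnected_of_hasTerminal

namespace Groth.Agent.AlgSp.LimReduced

/-- Limits of reduced schemes along affine maps are reduced. -/
theorem isReduced_of_isLimit {J : Type u} [SmallCategory J] [IsCofiltered J] {F : J ⥤ Scheme.{u}}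
    [∀ {i j : J} (b : i ⟶ j), IsAffineHom (F.map b)] {e : Cone F} (he : IsLimit e) [∀ j, IsReduced (F.obj j)] :
    IsReduced e.pt := by
  obtain ⟨j₀⟩ := IsCofiltered.nonempty (C := J)
  have : IsAffineHom (e.π.app j₀) := isAffineHom_π_app F e he j₀
  suffices h : ∀ U : (F.obj j₀).affineOpens, IsReduced (e.π.app j₀ ⁻¹ᵁ U.1 : Scheme.{u}) by
    have hU := (F.obj j₀).isBasis_affineOpens
    have : ∀ x : e.pt, _root_.IsReduced (e.pt.presheaf.stalk x) := by
      intro x
      obtain ⟨_, ⟨U, hU', rfl⟩, hxU, -⟩ := hU.exists_subset_of_mem_open (Set.mem_univ (e.π.app j₀ x)) isOpen_univ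
      have := h ⟨U, hU'⟩
      exact isReduced_of_injective ((e.π.app j₀ ⁻¹ᵁ U).ι.stalkMap ⟨x, hxU⟩).hom
        (ConcreteCategory.bijective_of_isIso ((e.π.app j₀ ⁻¹ᵁ U).ι.stalkMap ⟨x, hxU⟩)).1
    exact isReduced_of_isReduced_stalk _
  intro U
  have : IsAffine (e.π.app j₀ ⁻¹ᵁ U.1 : Scheme.{u}) := U.2.preimage _
  let G := opensDiagram F j₀ U.1
  have : ∀ k, IsAffine (G.obj k) := fun k => U.2.preimage (F.map k.hom)
  have : ∀ k, IsReduced (G.obj k) := fun k => inferInstanceAs (IsReduced (F.map k.hom ⁻¹ᵁ U.1 : Scheme.{u}))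
  have : ∀ k, CompactSpace (G.obj k) := fun k => inferInstance
  have : ∀ k, QuasiSeparatedSpace (G.obj k) := fun k => inferInstance
  let cG := opensCone F e j₀ U.1
  have hG : IsLimit cG := isLimitOpensCone F e he j₀ U.1
  have : IsReduced cG.pt := by
    have hred : _root_.IsReduced Γ(cG.pt, ⊤) := ⟨fun x ⟨n, hn⟩ => by
      obtain ⟨j, y, hy⟩ := exists_appTop_π_eq_of_isLimit G cG hG x
      have h0 : (cG.π.app j).appTop (y ^ n) = 0 := by rw [map_pow, ← hy, hn]
      obtain ⟨k, b, hb⟩ := exists_appTop_map_eq_zero_of_isLimit G cG hG (y ^ n) h0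
      rw [map_pow] at hb
      have hy0 : (G.map b).appTop y = 0 := IsReduced.eq_zero _ ⟨n, hb⟩
      rw [hy, ← cG.w b, Scheme.Hom.comp_appTop, CategoryTheory.comp_apply, hy0, map_zero]⟩
    have : IsAffine cG.pt := inferInstanceAs (IsAffine (e.π.app j₀ ⁻¹ᵁ U.1 : Scheme.{u}))
    exact (affine_isReduced_iff _).2 hred |> fun h => isReduced_of_isOpenImmersion cG.pt.isoSpec.hom
  exact this

open _root_.AlgSp

/-- Limits of reduced spaces are reduced. -/
theorem isReducedSp_limit {S : Scheme.{u}} {I : Type u} [SmallCategory I] [IsCofiltered I] {D : I ⥤ Sp S}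
    (hD : ∀ i, IsAlgSpace (D.obj i)) (hDa : ∀ (i j : I) (φ : i ⟶ j), IsAffineMor (D.map φ)) (c : Cone D)
    (hc : IsLimit c) (hred : ∀ i, IsReducedSp (D.obj i)) : IsReducedSp c.pt := by
  obtain ⟨i₀⟩ := IsCofiltered.nonempty (C := I)
  obtain ⟨Z, g, hge, hgs⟩ := (hD i₀).atlas
  obtain ⟨L, l, q, ⟨hL⟩, -, hq, hl, sq⟩ := LimSp.exists_isPullback hDa g c hc
  let F := LimSp.sys hDa g ⋙ Over.forget S
  have : ∀ {i j : Over i₀} (b : i ⟶ j), IsAffineHom (F.map b) := fun b => LimSp.isAffineHom_sys hDa g b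
  have : ∀ j, IsReduced (F.obj j) := fun j =>
    SchImageRep.isReduced_chart (hD j.left) (hred j.left) _
      (MorphismProperty.of_isPullback ((LimSp.repWith_map hDa j.hom).1.isPullback g).flip hge)
  exact ⟨L.pt, l, MorphismProperty.of_isPullback sq.flip hge, MorphismProperty.of_isPullback sq.flip hgs,
    isReduced_of_isLimit (F := F) hL⟩

end Groth.Agent.AlgSp.LimReduced
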