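import Groth.Agent.AlgSp.LimDesc
import Groth.Agent.AlgSp.LocPFin
import Groth.Agent.AlgSp.Sep

/-!
# Properties of representable morphisms descend through limits of algebraic spaces
-/

universe u

open CategoryTheory CategoryTheory.Limits AlgebraicGeometry Opposite

set_option backward.isDefEq.respectTransparency.types false
set_option autoImplicit false

attribute [local instance] CategoryTheory.isConnected_of_hasTerminal

namespace Groth.Agent.AlgSp.LimRep

open _root_.AlgSp

variable {S : Scheme.{u}} {I : Type u} [SmallCategory I] [IsCofiltered I] {D : I ⥤ Sp S}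

/-- A representable morphism with a descending property over the limit has it on a chart of a stage. -/
theorem descend_rep {P Q : MorphismProperty Scheme.{u}} [P.RespectsIso] [Q.IsStableUnderBaseChange]
    (hdesc : Groth.Agent.LimLib.Descends P Q)
    (hDa : ∀ (i j : I) (φ : i ⟶ j), IsAffineMor (D.map φ)) (c : Cone D)
    (hc : IsLimit c) (i₀ : I) {X₀ Y₀ : Sp S} (f₀ : X₀ ⟶ Y₀) (b₀ : Y₀ ⟶ D.obj i₀)
    (hYqc : IsQuasiCompactSp Y₀) (hrep : Representable f₀) (hqc : RepWith @QuasiCompact f₀)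
    (hqs : RepWith @IsSeparated f₀) (hQ : RepWith Q f₀)
    {X Y : Sp S} (f : X ⟶ Y) (pY : Y ⟶ Y₀) (qY : Y ⟶ c.pt) (hY : IsPullback pY qY b₀ (c.π.app i₀))
    (pX : X ⟶ X₀) (hX : IsPullback pX f f₀ pY) (hf : RepWith P f) :
    ∃ (i : I) (φ : i ⟶ i₀), ∀ {Xi Yi : Sp S} (fi : Xi ⟶ Yi) (pYi : Yi ⟶ Y₀) (qYi : Yi ⟶ D.obj i)
      (_ : IsPullback pYi qYi b₀ (D.map φ)) (pXi : Xi ⟶ X₀) (_ : IsPullback pXi fi f₀ pYi),
      ∃ (W W' : Over S) (r : (yon S).obj W ⟶ Yi) (s : (yon S).obj W' ⟶ Xi) (h : W' ⟶ W),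
        RepWith @Etale r ∧ RepWith @Surjective r ∧ IsPullback s ((yon S).map h) fi r ∧ P h.left := by
  obtain ⟨U, p, hp, hps, hU⟩ := hYqc
  have := Groth.Agent.AlgSpB.compactSpace_points_of_isQuasiCompactSp ⟨U, p, hp, hps, hU⟩
  obtain ⟨Z, e, hZ, hae, has⟩ := Groth.Agent.AlgSpB.exists_affine_chart_of_compactSpace hp hps
  let a := (yon S).map e ≫ p
  have sqa := hrep.isPullback a
  let V := hrep.pullback a
  let m : V ⟶ Z := hrep.snd a
  let fV : (yon S).obj V ⟶ X₀ := hrep.fst a
  have : QuasiCompact m.left := hqc.2 _ _ _ sqa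
  have : IsSeparated m.left := hqs.2 _ _ _ sqa
  have : CompactSpace V.left := QuasiCompact.compactSpace_of_compactSpace m.left
  have : QuasiSeparatedSpace V.left := quasiSeparatedSpace_of_quasiSeparated m.left
  have hmQ : Q m.left := hQ.2 _ _ _ sqa
  let g := a ≫ b₀
  obtain ⟨L, l, q, ⟨hL⟩, -, hq, hl, sq⟩ := LimSp.exists_isPullback hDa g c hc
  let F := LimSp.sys hDa g ⋙ Over.forget S
  let top : Over i₀ := Over.mk (𝟙 i₀)
  have hFaff : ∀ j, IsAffine (F.obj j) := fun j =>
    @isAffine_of_isAffineHom _ _ (LimSp.sysSnd hDa g j).left (LimSp.isAffineHom_sysSnd hDa g j) hZ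
  -- pulling the chart back
  have hbc : ∀ {X' Y' : Sp S} {f' : X' ⟶ Y'} {pY' : Y' ⟶ Y₀} {pX' : X' ⟶ X₀} (_ : IsPullback pX' f' f₀ pY')
      {W VW : Over S} {q' : W ⟶ Z} {r : (yon S).obj W ⟶ Y'} (_ : IsPullback r ((yon S).map q') pY' a)
      {qV : VW ⟶ V} {fW : VW ⟶ W} (_ : IsPullback qV fW m q'),
      ∃ s : (yon S).obj VW ⟶ X', IsPullback s ((yon S).map fW) f' r := by
    intro X' Y' f' pY' pX' hX' W VW q' r sqr qV fW sqV
    have h1 : IsPullback ((yon S).map qV ≫ fV) ((yon S).map fW) f₀ (r ≫ pY') := by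
      rw [sqr.w]
      exact (sqV.map (yon S)).paste_horiz sqa
    exact ⟨_, IsPullback.of_right' h1 hX'⟩
  -- the limit
  let VL : Over S := Over.mk (pullback.fst m.left q.left ≫ V.hom)
  let qV : VL ⟶ V := Over.homMk (pullback.fst m.left q.left) rfl
  let fL : VL ⟶ L.pt := Over.homMk (pullback.snd m.left q.left) (by
    change pullback.snd m.left q.left ≫ L.pt.hom = pullback.fst m.left q.left ≫ V.hom
    rw [← Over.w q, ← Over.w m, pullback.condition_assoc])
  have sqV : IsPullback qV fL m q :=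
    IsPullback.of_map (Over.forget S) (Over.OverMorphism.ext pullback.condition)
      (IsPullback.of_hasPullback m.left q.left)
  have hPL : P fL.left := by
    let r : (yon S).obj L.pt ⟶ Y := hY.lift ((yon S).map q ≫ a) l (by rw [Category.assoc]; exact sq.w.symm)
    have sqr : IsPullback r ((yon S).map q) pY a := by
      refine IsPullback.of_right (h₁₂ := qY) (h₂₂ := b₀) ?_ (hY.lift_fst ..) hY.flip
      rw [IsPullback.lift_snd]
      exact sq
    obtain ⟨s, hs⟩ := hbc hX sqr sqV
    exact hf.2 r s fL hs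
  -- descend on the charts
  let stop := (LimSp.sysSnd hDa g top).left
  let m₀ := pullback.snd m.left stop
  have hm₀ : Q m₀ := MorphismProperty.pullback_snd (P := Q) _ _ hmQ
  have hsa : IsAffineHom stop := LimSp.isAffineHom_sysSnd hDa g top
  have : CompactSpace ↑(pullback m.left stop) :=
    QuasiCompact.compactSpace_of_compactSpace (pullback.fst m.left stop)
  have : QuasiSeparatedSpace ↑(pullback m.left stop) :=
    quasiSeparatedSpace_of_quasiSeparated (pullback.fst m.left stop)
  have hqt : (L.π.app top).left ≫ stop = q.left :=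
    (Over.comp_left _ _ _ _ _).symm.trans (congrArg CommaMorphism.left (hq top))
  have sqm : IsPullback (pullback.lift (pullback.fst m.left q.left) (pullback.snd m.left q.left ≫ (L.π.app top).left)
      (by rw [Category.assoc, hqt]; exact pullback.condition)) (pullback.snd m.left q.left) m₀
      (L.π.app top).left := by
    refine IsPullback.of_right ?_ (pullback.lift_snd _ _ _) (IsPullback.of_hasPullback m.left stop)
    rw [pullback.lift_fst, hqt]
    exact IsPullback.of_hasPullback m.left q.left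
  obtain ⟨j, φ, hj⟩ := hdesc F ((Over.forget S).mapCone L) hL (fun _ _ b => LimSp.isAffineHom_sys hDa g b)
    (fun j => have := hFaff j; inferInstance) (fun j => have := hFaff j; inferInstance) top
    (pullback m.left stop) m₀ inferInstance inferInstance hm₀ _ _ _ sqm hPL
  refine ⟨j.left, j.hom, fun {Xi Yi} fi pYi qYi hYi pXi hXi => ?_⟩
  have hφ : F.map φ ≫ stop = (LimSp.sysSnd hDa g j).left :=
    (Over.comp_left _ _ _ _ _).symm.trans (congrArg CommaMorphism.left (LimSp.map_sysSnd hDa g φ))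
  have hsq := (IsPullback.of_hasPullback m₀ (F.map φ)).paste_horiz (IsPullback.of_hasPullback m.left stop)
  replace hsq : IsPullback (pullback.fst m₀ (F.map φ) ≫ pullback.fst m.left stop) (pullback.snd m₀ (F.map φ))
      m.left (LimSp.sysSnd hDa g j).left := hφ ▸ hsq
  let Wj := (LimSp.sys hDa g).obj j
  let Vj : Over S := Over.mk ((pullback.fst m₀ (F.map φ) ≫ pullback.fst m.left stop) ≫ V.hom)
  let qj : Vj ⟶ V := Over.homMk (pullback.fst m₀ (F.map φ) ≫ pullback.fst m.left stop) rfl
  let fj : Vj ⟶ Wj := Over.homMk (pullback.snd m₀ (F.map φ)) (by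
    change pullback.snd m₀ (F.map φ) ≫ Wj.hom =
      (pullback.fst m₀ (F.map φ) ≫ pullback.fst m.left stop) ≫ V.hom
    rw [← Over.w (LimSp.sysSnd hDa g j), ← Over.w m]
    exact (Category.assoc _ _ _).symm.trans ((congrArg (fun k => k ≫ Z.hom) hsq.w.symm).trans
      (Category.assoc _ _ _)))
  have sqj : IsPullback qj fj m (LimSp.sysSnd hDa g j) :=
    IsPullback.of_map (Over.forget S) (Over.OverMorphism.ext hsq.w) hsq
  have sqs := (LimSp.repWith_map hDa j.hom).1.isPullback g
  let r : (yon S).obj Wj ⟶ Yi := hYi.lift ((yon S).map (LimSp.sysSnd hDa g j) ≫ a)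
    ((LimSp.repWith_map hDa j.hom).1.fst g) (by rw [Category.assoc]; exact sqs.w.symm)
  have sqr : IsPullback r ((yon S).map (LimSp.sysSnd hDa g j)) pYi a := by
    refine IsPullback.of_right (h₁₂ := qYi) (h₂₂ := b₀) ?_ (hYi.lift_fst ..) hYi.flip
    rw [IsPullback.lift_snd]
    exact sqs
  obtain ⟨s, hs⟩ := hbc hXi sqr sqj
  exact ⟨Wj, Vj, r, s, fj, MorphismProperty.of_isPullback sqr.flip hae, MorphismProperty.of_isPullback sqr.flip has,
    hs, hj⟩

/-- The two squares of diagonals of base changes. -/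
theorem exists_diagonal_squares {C : Type*} [Category C] [HasPullbacks C] {X₀ Y₀ B₀ X Y B : C}
    {f₀ : X₀ ⟶ Y₀} {b₀ : Y₀ ⟶ B₀} {β : B ⟶ B₀} {f : X ⟶ Y} {pY : Y ⟶ Y₀} {qY : Y ⟶ B} {pX : X ⟶ X₀}
    (hY : IsPullback pY qY b₀ β) (hX : IsPullback pX f f₀ pY) :
    ∃ (pP : pullback f f ⟶ pullback f₀ f₀) (qP : pullback f f ⟶ B),
      IsPullback pP qP (pullback.fst f₀ f₀ ≫ f₀ ≫ b₀) β ∧
        IsPullback pX (pullback.diagonal f) (pullback.diagonal f₀) pP := by
  obtain ⟨b, hb, hb'⟩ := Groth.Agent.AlgSp.isPullback_diagonal_baseChange hX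
  refine ⟨b, (pullback.fst f f ≫ f) ≫ qY, ?_, hb⟩
  rw [← Category.assoc]
  exact hb'.paste_vert hY

variable {X₀ Y₀ : Sp S}

/-- The diagonal of a morphism from a quasi-separated space is quasi-compact. -/
theorem quasiCompact_diagonal (f₀ : X₀ ⟶ Y₀) (hXqs : IsQuasiSeparatedSp X₀) :
    RepWith @QuasiCompact (pullback.diagonal f₀) := by
  let b := prod.lift (pullback.fst f₀ f₀) (pullback.snd f₀ f₀)
  have e1 : b ≫ prod.fst = pullback.fst f₀ f₀ := prod.lift_fst _ _
  have e2 : b ≫ prod.snd = pullback.snd f₀ f₀ := prod.lift_snd _ _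
  have : Mono b := ⟨fun x y h => pullback.hom_ext
    (by rw [← e1, reassoc_of% h]) (by rw [← e2, reassoc_of% h])⟩
  have : IsIso (pullback.diagonal b) := (pullback.isIso_diagonal_iff b).2 inferInstance
  refine Groth.Agent.AlgSp.mem_of_comp_of_diagonal (Q := RepWith @QuasiCompact) _ b ?_ ?_
  · have e : pullback.diagonal f₀ ≫ b = Limits.diag X₀ := by
      apply prod.hom_ext
      · rw [Category.assoc, e1, pullback.diagonal_fst]; exact (prod.lift_fst _ _).symm
      · rw [Category.assoc, e2, pullback.diagonal_snd]; exact (prod.lift_snd _ _).symm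
    rw [e]
    exact hXqs
  · refine ⟨Functor.relativelyRepresentable.of_isIso (F := yon S) (pullback.diagonal b), fun _ _ g fst snd sq => ?_⟩
    have : IsIso ((yon S).map snd) := sq.isIso_snd_of_isIso
    have : IsIso snd := isIso_of_reflects_iso _ (yon S)
    have : IsIso snd.left := inferInstanceAs (IsIso ((Over.forget S).map snd))
    exact (inferInstance : QuasiCompact snd.left)

end Groth.Agent.AlgSp.LimRep
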