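import Groth.Agent.AlgSp.LimAffineMor
import Groth.Agent.AlgSp.LimPoints
import Groth.Agent.AlgSpB.OpenGlue

/-!
# If a limit of algebraic spaces is a scheme then so is some stage
-/

universe u

open CategoryTheory CategoryTheory.Limits AlgebraicGeometry Opposite

set_option backward.isDefEq.respectTransparency.types false
set_option autoImplicit false

attribute [local instance] CategoryTheory.isConnected_of_hasTerminal

namespace Groth.Agent.AlgSp.LimScheme

open _root_.AlgSp LimSep

variable {S : Scheme.{u}} {I : Type u} [SmallCategory I] [IsCofiltered I] {D : I ⥤ Sp S}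

omit [IsCofiltered I] in
/-- The base change of an affine open chart to a later stage. -/
theorem exists_chart_bc (hDa : ∀ (i j : I) (φ : i ⟶ j), IsAffineMor (D.map φ)) {k K : I} (φ : K ⟶ k)
    {T : Over S} [IsAffine T.left] {j : (yon S).obj T ⟶ D.obj k} (hj : RepWith @IsOpenImmersion j) :
    ∃ (T' : Over S) (j' : (yon S).obj T' ⟶ D.obj K), IsAffine T'.left ∧ RepWith @IsOpenImmersion j' ∧
      Set.range (Points.map j') = Points.map (D.map φ) ⁻¹' Set.range (Points.map j) := by
  have hφ := LimSp.repWith_map hDa φ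
  have sq := hφ.1.isPullback j
  have : IsAffineHom (hφ.1.snd j).left := hφ.2 _ _ _ sq
  refine ⟨hφ.1.pullback j, hφ.1.fst j, isAffine_of_isAffineHom (hφ.1.snd j).left,
    MorphismProperty.of_isPullback sq.flip hj, ?_⟩
  ext x
  constructor
  · rintro ⟨y, rfl⟩
    exact ⟨Points.map ((yon S).map (hφ.1.snd j)) y, by rw [← Points.map_comp, ← sq.w, Points.map_comp]⟩
  · rintro ⟨y, hy⟩
    obtain ⟨p, hp, -⟩ := Groth.Agent.AlgSpB.exists_of_isPullback sq x y hy.symm
    exact ⟨p, hp⟩

variable [QuasiSeparatedSpace S]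

/-- If the limit is a scheme then so is some stage. -/
theorem exists_scheme_stage (hD : ∀ i, IsAlgSpace (D.obj i)) (hDa : ∀ (i j : I) (φ : i ⟶ j), IsAffineMor (D.map φ))
    (hqc : ∀ i, IsQuasiCompactSp (D.obj i)) (hqs : ∀ i, IsQuasiSeparatedSp (D.obj i)) {c : Cone D} (hc : IsLimit c)
    (hX : c.pt.obj.IsRepresentable) : ∃ i, (D.obj i).obj.IsRepresentable := by
  obtain ⟨X, ⟨e⟩⟩ := Groth.Agent.AlgSpB.exists_iso_of_isRepresentable hX
  obtain ⟨i₀⟩ := IsCofiltered.nonempty (C := I)
  have hπ := (Groth.Agent.AlgSp.isAffineMor_iff _).1 (LimSp.isAffineMor_π hDa c hc i₀)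
  have hcqc : IsQuasiCompactSp ((yon S).obj X) := by
    have hq : RepWith @QuasiCompact (e.hom ≫ c.π.app i₀) :=
      (MorphismProperty.cancel_left_of_respectsIso (RepWith @QuasiCompact : MorphismProperty (Sp S)) e.hom _).2
        ⟨hπ.1, fun _ _ g fst snd sq =>
          haveI : IsAffineHom snd.left := hπ.2 g fst snd sq
          (inferInstance : QuasiCompact snd.left)⟩
    exact Groth.Agent.AlgSp.isQuasiCompactMor_of_repWith (hD i₀) hq (hD i₀) (hqc i₀) (𝟙 _) (𝟙 _)
      (e.hom ≫ c.π.app i₀) (IsPullback.of_horiz_isIso ⟨by rw [Category.id_comp, Category.comp_id]⟩)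
  have : CompactSpace X.left := LimOpen.compactSpace_of_isQuasiCompactSp hcqc
  let 𝒰 := X.left.affineCover.finiteSubcover
  have hch : ∀ a : 𝒰.I₀, ∃ (k : I) (T : Over S) (j : (yon S).obj T ⟶ D.obj k), IsAffine T.left ∧
      RepWith @IsOpenImmersion j ∧
      Points.map (e.hom ≫ c.π.app k) ⁻¹' Set.range (Points.map j) ⊇
        Points.ofScheme X '' Set.range (𝒰.f a) := by
    intro a
    let U : Over S := Over.mk (𝒰.f a ≫ X.hom)
    have : IsAffine U.left := inferInstanceAs (IsAffine (Spec _))
    let ι : U ⟶ X := Over.homMk (𝒰.f a) rfl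
    let jU : (yon S).obj U ⟶ c.pt := (yon S).map ι ≫ e.hom
    have hi : IsIso e.hom := inferInstance
    have hjU : RepWith @IsOpenImmersion jU :=
      (@MorphismProperty.cancel_right_of_respectsIso _ _ (RepWith @IsOpenImmersion : MorphismProperty (Sp S)) _ _ _ _
        ((yon S).map ι) e.hom hi).2 ((repWith_yon_map_iff _ ι).2 (inferInstanceAs (IsOpenImmersion (𝒰.f a))))
    obtain ⟨i, Ui, ji, qU, hji, hUqc, sqU⟩ := LimOpen.exists_open_stage hD hDa hqc hqs c hc jU hjU
      (Groth.Agent.AlgSp.isQuasiCompactSp_yon U)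
    have hUa : IsAlgSpace Ui := by
      have : Mono ji := Groth.Agent.AlgSpB.mono_of_isOpenImmersion hji
      exact Groth.Agent.AlgSpB.isAlgSpace_of_mono_representable (hD i) ji hji.1
    have hUqs : IsQuasiSeparatedSp Ui := by
      refine LimAffine.isQuasiSeparatedSp_of_mor ji ?_ (hqs i)
      have : Mono ji := Groth.Agent.AlgSpB.mono_of_isOpenImmersion hji
      have : IsIso (pullback.diagonal ji) := (pullback.isIso_diagonal_iff ji).2 inferInstance
      refine ⟨Functor.relativelyRepresentable.of_isIso (F := yon S) _, fun _ _ g fst snd sq => ?_⟩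
      have : IsIso ((yon S).map snd) := sq.isIso_snd_of_isIso
      have : IsIso snd := isIso_of_reflects_iso _ (yon S)
      have : IsIso snd.left := inferInstanceAs (IsIso ((Over.forget S).map snd))
      exact (inferInstance : QuasiCompact snd.left)
    let D' : Over i ⥤ Sp S := Over.forget i ⋙ D
    let t : D' ⟶ (Functor.const (Over i)).obj (D.obj i) :=
      { app := fun j => D.map j.hom
        naturality := fun j k φ => by
          refine Eq.trans ?_ (Category.comp_id _).symm
          exact (D.map_comp _ _).symm.trans (congrArg D.map (Over.w φ)) }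
    have hc' : IsLimit (c.whisker (Over.forget i)) := (Functor.Initial.isLimitWhiskerEquiv _ c).symm hc
    obtain ⟨k, T, hT, ⟨ε⟩⟩ := LimAffineMor.exists_affine_bc t ji (fun j => hD j.left) (fun _ _ φ => hDa _ _ φ.left)
      hc' (g := c.π.app i) (fun j => c.w j.hom) (hD i) (hqs i) (fun j => hqc j.left) (fun j => hqs j.left) hUa hUqc
      hUqs U sqU
    refine ⟨k.left, T, ε.hom ≫ pullback.fst (tY t k) ji, hT, ?_, ?_⟩
    · exact (MorphismProperty.cancel_left_of_respectsIso (RepWith @IsOpenImmersion : MorphismProperty (Sp S)) ε.hom _).2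
        (MorphismProperty.of_isPullback (IsPullback.of_hasPullback (tY t k) ji).flip hji)
    · rintro _ ⟨x, ⟨y, rfl⟩, rfl⟩
      let lift : (yon S).obj U ⟶ pullback (tY t k) ji :=
        pullback.lift (jU ≫ c.π.app k.left) qU (by
          rw [Category.assoc]
          exact (congrArg (fun f => jU ≫ f) (c.w k.hom)).trans sqU.w)
      refine ⟨Points.map (lift ≫ ε.inv) (Points.ofScheme U y), ?_⟩
      rw [← Points.map_comp, Category.assoc, ε.inv_hom_id_assoc]
      refine (congrArg (fun f => Points.map f (Points.ofScheme U y))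
        (show lift ≫ pullback.fst (tY t k) ji = jU ≫ c.π.app k.left from pullback.lift_fst _ _ _)).trans ?_
      simp only [jU, Category.assoc]
      have hy : Points.map ((yon S).map ι) (Points.ofScheme U y) = Points.ofScheme X (𝒰.f a y) := by
        rw [← Points.ofPt_eq_map_ofScheme ((yon S).map ι), ← Points.ofScheme_toScheme X (Points.ofPt ((yon S).map ι) y),
          Points.toScheme_ofPt]
        rfl
      exact (Points.map_comp ((yon S).map ι) (e.hom ≫ c.π.app k.left) (Points.ofScheme U y)).trans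
        (congrArg (Points.map (e.hom ≫ c.π.app k.left)) hy)
  choose k T j hT hj hrange using hch
  classical
  obtain ⟨K, hK⟩ := IsCofiltered.inf_objs_exists (Finset.univ.image k)
  have φ : ∀ a, K ⟶ k a := fun a => (hK (Finset.mem_image_of_mem _ (Finset.mem_univ a))).some
  choose T' j' hT' hj' hr' using fun a => @exists_chart_bc S I _ D hDa _ _ (φ a) (T a) (hT a) (j a) (hj a)
  -- the cover becomes exhaustive at some stage
  let W : Set (Points (D.obj K)) := ⋃ a, Set.range (Points.map (j' a))
  have hW : IsOpen W := isOpen_iUnion fun a => Groth.Agent.AlgSpB.isOpen_range_of_isOpenImmersion (hj' a)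
  have hπW : ∀ x : Points c.pt, Points.map (c.π.app K) x ∈ W := by
    intro x
    let y := Points.toScheme X (Points.map e.inv x)
    obtain ⟨z, hz⟩ := 𝒰.covers y
    refine Set.mem_iUnion.2 ⟨𝒰.idx y, ?_⟩
    rw [hr', Set.mem_preimage, ← Points.map_comp, c.w]
    have h := hrange (𝒰.idx y) (Set.mem_image_of_mem _ ⟨z, hz⟩)
    rw [Points.ofScheme_toScheme X (Points.map e.inv x)] at h
    rw [Set.mem_preimage] at h
    rwa [← Points.map_comp, e.inv_hom_id_assoc] at h
  obtain ⟨U, p, hp, hps, hU⟩ := hqc K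
  have := Groth.Agent.AlgSpB.compactSpace_points_of_isQuasiCompactSp ⟨U, p, hp, hps, hU⟩
  obtain ⟨Z, e₀, hZ, hze, hzs⟩ := Groth.Agent.AlgSpB.exists_affine_chart_of_compactSpace hp hps
  let g := (yon S).map e₀ ≫ p
  obtain ⟨L, lL, q, ⟨hL⟩, -, hq, hlL, -⟩ := LimSp.exists_isPullback hDa g c hc
  let F := LimSp.sys hDa g ⋙ Over.forget S
  have : ∀ {x y : Over K} (φ : x ⟶ y), IsAffineHom (F.map φ) := fun φ => LimSp.isAffineHom_sys hDa g φ
  have : ∀ x, CompactSpace (F.obj x) := fun x =>
    have : IsAffine (F.obj x) := @isAffine_of_isAffineHom _ _ (LimSp.sysSnd hDa g x).left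
      (LimSp.isAffineHom_sysSnd hDa g x) hZ
    inferInstance
  let top : Over K := Over.mk (𝟙 K)
  let V : (F.obj top).Opens :=
    ⟨Points.ofPt ((LimSp.sysFst hDa g).app top) ⁻¹' W, (Points.isOpen_iff.1 hW) _ _⟩
  obtain ⟨J, ψ, hJ⟩ := exists_map_eq_top F ((Over.forget S).mapCone L) hL V (by
    refine top_le_iff.1 fun l _ => ?_
    change Points.ofPt ((LimSp.sysFst hDa g).app top) ((L.π.app top).left l) ∈ W
    have h := hπW (Points.ofPt lL l)
    rw [Points.map_ofPt] at h
    rw [show lL ≫ c.π.app K = _ from hlL top] at h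
    exact (Groth.Agent.AlgSpB.ofPt_map_comp (L.π.app top) ((LimSp.sysFst hDa g).app top) l) ▸ h)
  choose T'' j'' hT'' hj'' hr'' using fun a => @exists_chart_bc S I _ D hDa _ _ J.hom (T' a) (hT' a) (j' a) (hj' a)
  have sqJ := (LimSp.repWith_map hDa J.hom).1.isPullback g
  have hfs : RepWith @Surjective ((LimSp.sysFst hDa g).app J) := MorphismProperty.of_isPullback sqJ.flip hzs
  obtain ⟨Y, ⟨ε⟩⟩ := Groth.Agent.AlgSpB.exists_iso_yon_of_openCover (hD J.left) T'' j'' hj'' (fun x => by
    obtain ⟨w, rfl⟩ := Groth.Agent.AlgSpB.surjective_ofPt hfs x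
    have hw : (F.map ψ) w ∈ V := by
      have : w ∈ F.map ψ ⁻¹ᵁ V := by rw [hJ]; trivial
      exact this
    have hn : (yon S).map ((LimSp.sys hDa g).map ψ) ≫ (LimSp.sysFst hDa g).app top =
        (LimSp.sysFst hDa g).app J ≫ D.map ψ.left := (LimSp.sysFst hDa g).naturality ψ
    have e1 : D.map ψ.left = D.map J.hom := by
      congr 1
      exact (Category.comp_id _).symm.trans (Over.w ψ)
    have h2 : Points.map (D.map J.hom) (Points.ofPt ((LimSp.sysFst hDa g).app J) w) ∈ W := by
      rw [Points.map_ofPt]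
      refine Eq.mpr (congrArg (· ∈ W) ((congrArg (fun f => Points.ofPt f w)
        ((congrArg (fun m => (LimSp.sysFst hDa g).app J ≫ m) e1.symm).trans hn.symm)).trans
        (Groth.Agent.AlgSpB.ofPt_map_comp ((LimSp.sys hDa g).map ψ) ((LimSp.sysFst hDa g).app top) w))) ?_
      exact hw
    obtain ⟨a, ha⟩ := Set.mem_iUnion.1 h2
    exact ⟨a, by rw [hr'']; exact ha⟩)
  exact ⟨J.left, Groth.Agent.AlgSpB.isRepresentable_of_iso ε⟩

end Groth.Agent.AlgSp.LimScheme
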