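import Groth.Agent.AlgSp.LimRepApp
import Groth.Agent.AlgSp.LimMono
import Groth.Agent.LimLib.Proper
import Mathlib.AlgebraicGeometry.ZariskisMainTheorem

/-!
# A separated limit of algebraic spaces has separated stages
-/

universe u

open CategoryTheory CategoryTheory.Limits AlgebraicGeometry Opposite

set_option backward.isDefEq.respectTransparency.types false
set_option backward.isDefEq.respectTransparency false
set_option autoImplicit false

attribute [local instance] CategoryTheory.isConnected_of_hasTerminal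

namespace Groth.Agent.AlgSp.LimSep

open _root_.AlgSp

variable {S : Scheme.{u}} {I : Type u} [SmallCategory I] [IsCofiltered I] {Y : Sp S} {D : I ⥤ Sp S}
  (t : D ⟶ (Functor.const I).obj Y)

theorem map_app {i j : I} (a : i ⟶ j) : D.map a ≫ t.app j = t.app i :=
  (t.naturality a).trans (Category.comp_id _)

/-- The structure maps, with constant target. -/
def tY (i : I) : D.obj i ⟶ Y := t.app i

theorem map_tY {i j : I} (a : i ⟶ j) : D.map a ≫ tY t j = tY t i := map_app t a

/-- The maps of squares. -/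
noncomputable def sqMap {i j : I} (a : i ⟶ j) :
    pullback (tY t i) (tY t i) ⟶ pullback (tY t j) (tY t j) :=
  pullback.map (tY t i) (tY t i) (tY t j) (tY t j) (D.map a) (D.map a) (𝟙 _)
    ((Category.comp_id _).trans (map_tY t a).symm) ((Category.comp_id _).trans (map_tY t a).symm)

@[reassoc (attr := simp)]
theorem sqMap_fst {i j : I} (a : i ⟶ j) :
    sqMap t a ≫ pullback.fst (tY t j) (tY t j) = pullback.fst _ _ ≫ D.map a := pullback.lift_fst _ _ _

@[reassoc (attr := simp)]
theorem sqMap_snd {i j : I} (a : i ⟶ j) :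
    sqMap t a ≫ pullback.snd (tY t j) (tY t j) = pullback.snd _ _ ≫ D.map a := pullback.lift_snd _ _ _

/-- The system of squares over the base. -/
noncomputable def sqSys : I ⥤ Sp S where
  obj i := pullback (tY t i) (tY t i)
  map a := sqMap t a
  map_id i := by
    apply pullback.hom_ext
    · exact (sqMap_fst t (𝟙 i)).trans (by simp)
    · exact (sqMap_snd t (𝟙 i)).trans (by simp)
  map_comp {i j k} a b := by
    apply pullback.hom_ext
    · refine (sqMap_fst t (a ≫ b)).trans ?_
      simp
    · refine (sqMap_snd t (a ≫ b)).trans ?_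
      simp

/-- The diagonals. -/
noncomputable def diagNat : D ⟶ sqSys t where
  app i := pullback.diagonal (tY t i)
  naturality i j a := by
    change D.map a ≫ pullback.diagonal (tY t j) = pullback.diagonal (tY t i) ≫ sqMap t a
    apply pullback.hom_ext <;> simp

theorem isAffineMor_sqSys (hDa : ∀ (i j : I) (φ : i ⟶ j), IsAffineMor (D.map φ)) (i j : I) (a : i ⟶ j) :
    IsAffineMor ((sqSys t).map a) := by
  refine (Groth.Agent.AlgSp.isAffineMor_iff _).2 ?_
  exact MorphismProperty.pullbackMap (P := (RepWith @IsAffineHom : MorphismProperty (Sp S)))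
    (LimSp.repWith_map hDa a) (LimSp.repWith_map hDa a) (map_tY t a).symm (map_tY t a).symm

/-- The cone of squares. -/
noncomputable def sqCone (c : Cone D) (g : c.pt ⟶ Y) (hg : ∀ i, c.π.app i ≫ tY t i = g) :
    Cone (sqSys t) where
  pt := pullback g g
  π :=
    { app := fun i => pullback.map g g (tY t i) (tY t i) (c.π.app i) (c.π.app i) (𝟙 _)
        ((Category.comp_id _).trans (hg i).symm) ((Category.comp_id _).trans (hg i).symm)
      naturality := fun i j a => by
        refine (Category.id_comp _).trans ?_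
        change _ = _ ≫ sqMap t a
        apply pullback.hom_ext <;> simp }

/-- The square of the limit is the limit of the squares. -/
theorem isLimit_sqCone (c : Cone D) (hc : IsLimit c) (g : c.pt ⟶ Y) (hg : ∀ i, c.π.app i ≫ tY t i = g) :
    Nonempty (IsLimit (sqCone t c g hg)) := by
  let p1 : sqSys t ⟶ D :=
    { app := fun i => pullback.fst (tY t i) (tY t i)
      naturality := fun i j a => (sqMap_fst t a) }
  let p2 : sqSys t ⟶ D :=
    { app := fun i => pullback.snd (tY t i) (tY t i)
      naturality := fun i j a => (sqMap_snd t a) }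
  obtain ⟨i₀⟩ := IsCofiltered.nonempty (C := I)
  have hw : ∀ s : Cone (sqSys t),
      hc.lift ((Cone.postcompose p1).obj s) ≫ g = hc.lift ((Cone.postcompose p2).obj s) ≫ g := fun s => by
    rw [← hg i₀, hc.fac_assoc, hc.fac_assoc]
    simp only [Cone.postcompose_obj_π, NatTrans.comp_app, Category.assoc, p1, p2]
    exact congrArg (fun k => s.π.app i₀ ≫ k) pullback.condition
  refine ⟨IsLimit.mk (fun s => pullback.lift _ _ (hw s)) (fun s j => ?_) (fun s m hm => ?_)⟩
  · apply pullback.hom_ext
    · simp only [sqCone, pullback.map, Category.assoc, pullback.lift_fst, pullback.lift_fst_assoc]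
      exact hc.fac _ j
    · simp only [sqCone, pullback.map, Category.assoc, pullback.lift_snd, pullback.lift_snd_assoc]
      exact hc.fac _ j
  · apply pullback.hom_ext
    · rw [pullback.lift_fst]
      refine hc.hom_ext fun j => ?_
      rw [hc.fac, Category.assoc]
      simp only [Cone.postcompose_obj_π, NatTrans.comp_app, p1]
      rw [← hm j]
      simp [sqCone, pullback.map]
    · rw [pullback.lift_snd]
      refine hc.hom_ext fun j => ?_
      rw [hc.fac, Category.assoc]
      simp only [Cone.postcompose_obj_π, NatTrans.comp_app, p2]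
      rw [← hm j]
      simp [sqCone, pullback.map]

/-- A point of a stage with values in a valuation ring which is a point of an earlier stage generically
and after projection is a point of the diagonal. -/
theorem lift_diag {D₁ D₀ Y : Sp S} {t₁ : D₁ ⟶ Y} {φ : D₁ ⟶ D₀} (hD₁ : IsAlgSpace D₁) (hφ : IsAffineMor φ)
    {T TK : Over S} (hT : IsReduced T.left) (ρ : TK ⟶ T) (hρ : DenseRange ρ.left)
    (b₁ b₂ : (yon S).obj T ⟶ D₁) (hb : b₁ ≫ t₁ = b₂ ≫ t₁) (hφb : b₁ ≫ φ = b₂ ≫ φ)
    (hgen : (yon S).map ρ ≫ b₁ = (yon S).map ρ ≫ b₂) : b₁ = b₂ := by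
  let b := pullback.lift b₁ b₂ hφb
  have hd := LimMono.diagonal_of_isAffineMor hD₁ hφ
  let k := hd.1.snd b
  have sq := hd.1.isPullback b
  have : IsClosedImmersion k.left := hd.2 _ _ _ sq
  obtain ⟨l, hl⟩ := (yon S).map_surjective (sq.lift ((yon S).map ρ ≫ b₁) ((yon S).map ρ) (by
    apply pullback.hom_ext
    · simp [b]
    · simp [b, hgen]))
  have hlk : l ≫ k = ρ := (yon S).map_injective (by rw [Functor.map_comp, hl]; exact sq.lift_snd _ _ _)
  have : Surjective k.left := by
    refine ⟨Set.range_eq_univ.mp ?_⟩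
    rw [← k.left.isClosedEmbedding.isClosed_range.closure_eq]
    refine (hρ.mono ?_).closure_eq
    rintro _ ⟨z, rfl⟩
    exact ⟨l.left z, by rw [← hlk]; rfl⟩
  have : IsIso ((Over.forget S).map k) := isIso_of_isClosedImmersion_of_surjective k.left
  have : IsIso k := isIso_of_reflects_iso _ (Over.forget S)
  have h₁ := sq.w =≫ pullback.fst φ φ
  have h₂ := sq.w =≫ pullback.snd φ φ
  simp only [Category.assoc, pullback.diagonal_fst, pullback.diagonal_snd, Category.comp_id, b,
    pullback.lift_fst, pullback.lift_snd] at h₁ h₂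
  rw [← cancel_epi ((yon S).map k)]
  exact h₁.symm.trans h₂

variable [QuasiSeparatedSpace S]

/-- If the limit is separated over the base then so is some stage. -/
theorem exists_separated (hY : IsAlgSpace Y) (hYqs : IsQuasiSeparatedSp Y) (hD : ∀ i, IsAlgSpace (D.obj i))
    (hDa : ∀ (i j : I) (φ : i ⟶ j), IsAffineMor (D.map φ)) (hqc : ∀ i, IsQuasiCompactSp (D.obj i))
    (hqs : ∀ i, IsQuasiSeparatedSp (D.obj i)) (c : Cone D) (hc : IsLimit c) (g : c.pt ⟶ Y)
    (hg : ∀ i, c.π.app i ≫ tY t i = g) (hX : IsSeparatedMor g) : ∃ i, IsSeparatedMor (tY t i) := by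
  obtain ⟨i₀⟩ := IsCofiltered.nonempty (C := I)
  have hEa := isAffineMor_sqSys t hDa
  obtain ⟨hcE⟩ := isLimit_sqCone t c hc g hg
  let E := sqSys t
  have hEqc : IsQuasiCompactSp (E.obj i₀) :=
    LimRepApp.isQuasiCompactSp_pullback (hD i₀) hY (tY t i₀) (hqc i₀) hYqs
  obtain ⟨U, p, hp, hps, hU⟩ := hEqc
  have := Groth.Agent.AlgSpB.compactSpace_points_of_isQuasiCompactSp ⟨U, p, hp, hps, hU⟩
  obtain ⟨Z, e, hZ, hze, hzs⟩ := Groth.Agent.AlgSpB.exists_affine_chart_of_compactSpace hp hps
  let z := (yon S).map e ≫ p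
  -- the chart of the diagonal
  obtain ⟨hrep₀, hft₀, hmono₀, hsep₀, -⟩ := Groth.Agent.AlgSp.diagonal_props (hD i₀) (tY t i₀)
  have sq₀ := hrep₀.isPullback z
  let m₀ := hrep₀.snd z
  let gR := hrep₀.fst z
  have : QuasiCompact m₀.left := (LimRep.quasiCompact_diagonal (tY t i₀) (hqs i₀)).2 _ _ _ sq₀
  have : IsSeparated m₀.left := hsep₀.2 _ _ _ sq₀
  have : CompactSpace (hrep₀.pullback z).left := QuasiCompact.compactSpace_of_compactSpace m₀.left
  have : QuasiSeparatedSpace (hrep₀.pullback z).left := quasiSeparatedSpace_of_quasiSeparated m₀.left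
  -- the two systems
  let W := LimSp.sys hEa z
  let R := LimSp.sys hDa gR
  let FW := W ⋙ Over.forget S
  let FR := R ⋙ Over.forget S
  let fW := LimSp.sysFst hEa z
  let fR := LimSp.sysFst hDa gR
  have sqW : ∀ j : Over i₀, IsPullback (fW.app j) ((yon S).map (LimSp.sysSnd hEa z j)) (E.map j.hom) z :=
    fun j => (LimSp.repWith_map hEa j.hom).1.isPullback z
  have sqR : ∀ j : Over i₀, IsPullback (fR.app j) ((yon S).map (LimSp.sysSnd hDa gR j)) (D.map j.hom) gR :=
    fun j => (LimSp.repWith_map hDa j.hom).1.isPullback gR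
  have out : ∀ j : Over i₀, IsPullback (fR.app j) ((yon S).map (LimSp.sysSnd hDa gR j ≫ m₀))
      ((diagNat t).app j.left ≫ E.map j.hom) z := fun j => by
    rw [← (diagNat t).naturality j.hom, Functor.map_comp]
    exact (sqR j).paste_vert sq₀
  let ey : ∀ j : Over i₀, R.obj j ⟶ W.obj j := fun j =>
    (LimSp.repWith_map hEa j.hom).1.lift (fR.app j ≫ (diagNat t).app j.left)
      (LimSp.sysSnd hDa gR j ≫ m₀) ((Category.assoc _ _ _).trans (out j).w)
  have ey_fst : ∀ j, (yon S).map (ey j) ≫ fW.app j = fR.app j ≫ (diagNat t).app j.left :=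
    fun j => (LimSp.repWith_map hEa j.hom).1.lift_fst _ _ _
  have ey_snd : ∀ j, ey j ≫ LimSp.sysSnd hEa z j = LimSp.sysSnd hDa gR j ≫ m₀ :=
    fun j => (LimSp.repWith_map hEa j.hom).1.lift_snd _ _ _
  have sqe : ∀ j : Over i₀, IsPullback (fR.app j) ((yon S).map (ey j)) ((diagNat t).app j.left) (fW.app j) := by
    intro j
    refine IsPullback.of_bot ?_ (ey_fst j).symm (sqW j)
    rw [← Functor.map_comp, ey_snd]
    exact out j
  have ey_nat : ∀ {j k : Over i₀} (a : j ⟶ k), R.map a ≫ ey k = ey j ≫ W.map a := by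
    intro j k a
    have hW : (yon S).map (W.map a) ≫ fW.app k = fW.app j ≫ E.map a.left := fW.naturality a
    have hR : (yon S).map (R.map a) ≫ fR.app k = fR.app j ≫ D.map a.left := fR.naturality a
    refine (LimSp.repWith_map hEa k.hom).1.hom_ext ?_ ?_
    · change (yon S).map (R.map a ≫ ey k) ≫ fW.app k = (yon S).map (ey j ≫ W.map a) ≫ fW.app k
      rw [Functor.map_comp, Functor.map_comp, Category.assoc, Category.assoc]
      exact ((congrArg (fun f => (yon S).map (R.map a) ≫ f) (ey_fst k)).trans
        ((Category.assoc _ _ _).symm.trans ((congrArg (fun f => f ≫ (diagNat t).app k.left) hR).trans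
          ((Category.assoc _ _ _).trans (congrArg (fun f => fR.app j ≫ f) ((diagNat t).naturality a.left)))))).trans
        (((congrArg (fun f => (yon S).map (ey j) ≫ f) hW).trans ((Category.assoc _ _ _).symm.trans
          ((congrArg (fun f => f ≫ E.map a.left) (ey_fst j)).trans (Category.assoc _ _ _)))).symm)
    · change (R.map a ≫ ey k) ≫ LimSp.sysSnd hEa z k = (ey j ≫ W.map a) ≫ LimSp.sysSnd hEa z k
      rw [Category.assoc, Category.assoc, LimSp.map_sysSnd, ey_snd, ey_snd, ← Category.assoc, LimSp.map_sysSnd]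
  let eN : R ⟶ W := { app := ey, naturality := fun _ _ a => ey_nat a }
  -- the limits
  obtain ⟨LW, lW, qW, ⟨hLW⟩, -, hqW, hlW, sqLW⟩ := LimSp.exists_isPullback hEa z (sqCone t c g hg) hcE
  obtain ⟨LR, lR, qR, ⟨hLR⟩, -, hqR, hlR, sqLR⟩ := LimSp.exists_isPullback hDa gR c hc
  have hLW' : IsLimit LW := isLimitOfReflects (Over.forget S) hLW
  let f : LR.pt ⟶ LW.pt := hLW'.lift ((Cone.postcompose eN).obj LR)
  have hf : ∀ j, f ≫ LW.π.app j = LR.π.app j ≫ ey j := fun j => hLW'.fac _ j
  have hdiag : ∀ i, pullback.diagonal g ≫ (sqCone t c g hg).π.app i = c.π.app i ≫ (diagNat t).app i := by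
    intro i
    apply pullback.hom_ext <;> simp [sqCone, diagNat, pullback.map]
  have hfclosed : IsClosedImmersion f.left := by
    have hwf : lR ≫ pullback.diagonal g = (yon S).map f ≫ lW := by
      refine ((Functor.Initial.isLimitWhiskerEquiv (Over.forget i₀) _).symm hcE).hom_ext fun j => ?_
      change (lR ≫ pullback.diagonal g) ≫ (sqCone t c g hg).π.app j.left =
        ((yon S).map f ≫ lW) ≫ (sqCone t c g hg).π.app j.left
      rw [Category.assoc, Category.assoc, hdiag, hlW, ← Category.assoc, hlR, Category.assoc,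
        ← Category.assoc ((yon S).map f), ← Functor.map_comp, hf, Functor.map_comp, Category.assoc]
      exact congrArg (fun k => (yon S).map (LR.π.app j) ≫ k) (ey_fst j).symm
    refine hX.2 lW lR f (IsPullback.of_bot ?_ hwf sqLW)
    have e : f ≫ qW = qR ≫ m₀ := by
      let top : Over i₀ := Over.mk (𝟙 i₀)
      rw [← hqW top, reassoc_of% (hf top), ey_snd, ← Category.assoc, hqR]
    rw [← Functor.map_comp, e, Functor.map_comp, hdiag]
    exact sqLR.paste_vert sq₀
  have : ∀ (j k : Over i₀) (a : j ⟶ k), IsAffineHom (FW.map a) := fun j k a => LimSp.isAffineHom_sys hEa z a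
  have : ∀ (j k : Over i₀) (a : j ⟶ k), IsAffineHom (FR.map a) := fun j k a => LimSp.isAffineHom_sys hDa gR a
  have hWaff : ∀ j, IsAffine (FW.obj j) := fun j =>
    @isAffine_of_isAffineHom _ _ (LimSp.sysSnd hEa z j).left (LimSp.isAffineHom_sysSnd hEa z j) hZ
  let eF : FR ⟶ FW := Functor.whiskerRight eN (Over.forget S)
  have hprop : ∀ j : Over i₀, IsSeparated (ey j).left ∧ LocallyOfFiniteType (ey j).left ∧
      QuasiCompact (ey j).left ∧ Mono (ey j).left := fun j => by
    obtain ⟨-, h1, h2, h3, -⟩ := Groth.Agent.AlgSp.diagonal_props (hD j.left) (tY t j.left)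
    exact ⟨h3.2 _ _ _ (sqe j), h1.2 _ _ _ (sqe j),
      (LimRep.quasiCompact_diagonal (tY t j.left) (hqs j.left)).2 _ _ _ (sqe j), h2.2 _ _ _ (sqe j)⟩
  have : ∀ j, QuasiCompact (eF.app j) := fun j => (hprop j).2.2.1
  have : ∀ j, LocallyOfFiniteType (eF.app j) := fun j => (hprop j).2.1
  have : ∀ j, CompactSpace (FW.obj j) := fun j => have := hWaff j; inferInstance
  let fL : ((Over.forget S).mapCone LR).pt ⟶ ((Over.forget S).mapCone LW).pt := f.left
  have : IsClosedImmersion fL := hfclosed
  obtain ⟨j, -, hj⟩ := Groth.Agent.LimLib.exists_universallyClosed_stage FW FR _ hLW _ hLR eF fL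
    (fun j => (Over.comp_left _ _ _ _ _).symm.trans ((congrArg CommaMorphism.left (hf j).symm).trans
      (Over.comp_left _ _ _ _ _))) (Over.mk (𝟙 i₀)) (by
    intro j i a A _ _ _ K _ _ _ x d l₀ hx hxl hl₀
    let T : Over S := Over.mk (d ≫ (W.obj j).hom)
    let ρs := Spec.map (CommRingCat.ofHom (algebraMap A K))
    let TK : Over S := Over.mk (ρs ≫ T.hom)
    let ρ : TK ⟶ T := Over.homMk ρs rfl
    let dO : T ⟶ W.obj j := Over.homMk d rfl
    have hxw : x ≫ (R.obj j).hom = ρs ≫ T.hom := by
      rw [← Over.w (ey j)]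
      exact (Category.assoc _ _ _).symm.trans ((congrArg (fun k => k ≫ (W.obj j).hom) hx).trans
        (Category.assoc _ _ _))
    let xO : TK ⟶ R.obj j := Over.homMk x hxw
    have hlw : l₀ ≫ (R.obj i).hom = T.hom := by
      rw [← Over.w (ey i)]
      refine (Category.assoc _ _ _).symm.trans ((congrArg (fun k => k ≫ (W.obj i).hom) hl₀).trans ?_)
      exact (Category.assoc _ _ _).trans (congrArg (fun k => d ≫ k) (Over.w (W.map a)))
    let lO : T ⟶ R.obj i := Over.homMk l₀ hlw
    have hx' : xO ≫ ey j = ρ ≫ dO := Over.OverMorphism.ext hx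
    have hl' : lO ≫ ey i = dO ≫ W.map a := Over.OverMorphism.ext hl₀
    let β : (yon S).obj T ⟶ E.obj j.left := (yon S).map dO ≫ fW.app j
    let α : (yon S).obj T ⟶ D.obj i.left := (yon S).map lO ≫ fR.app i
    have hβ : β ≫ E.map a.left = α ≫ (diagNat t).app i.left := by
      have hW : (yon S).map (W.map a) ≫ fW.app i = fW.app j ≫ E.map a.left := fW.naturality a
      simp only [β, α, Category.assoc]
      rw [← ey_fst i, ← hW, ← Functor.map_comp_assoc, ← Functor.map_comp_assoc, hl']
    have hgen : (yon S).map ρ ≫ β = ((yon S).map xO ≫ fR.app j) ≫ (diagNat t).app j.left := by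
      simp only [β, Category.assoc]
      rw [← ey_fst j, ← Functor.map_comp_assoc, ← Functor.map_comp_assoc, hx']
    have hβ₁ := hβ =≫ pullback.fst (tY t i.left) (tY t i.left)
    have hβ₂ := hβ =≫ pullback.snd (tY t i.left) (tY t i.left)
    simp only [E, sqSys, diagNat, sqMap_fst, sqMap_snd, Category.assoc,
      pullback.diagonal_fst, pullback.diagonal_snd, Category.comp_id] at hβ₁ hβ₂
    have hg₁ := hgen =≫ pullback.fst (tY t j.left) (tY t j.left)
    have hg₂ := hgen =≫ pullback.snd (tY t j.left) (tY t j.left)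
    simp only [diagNat, Category.assoc, pullback.diagonal_fst, pullback.diagonal_snd, Category.comp_id] at hg₁ hg₂
    have heq : β ≫ pullback.fst _ _ = β ≫ pullback.snd _ _ :=
      lift_diag (t₁ := tY t j.left) (φ := D.map a.left) (hD j.left) (hDa _ _ _)
        (inferInstanceAs (IsReduced (Spec (CommRingCat.of A)))) ρ
        ((PrimeSpectrum.denseRange_comap_iff_ker_le_nilRadical _).mpr (by
          intro r hr
          have : r = 0 := IsFractionRing.injective A K ((RingHom.mem_ker.mp hr).trans (map_zero _).symm)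
          rw [this]; exact zero_mem _))
        (β ≫ pullback.fst _ _) (β ≫ pullback.snd _ _)
        (by simp only [Category.assoc, pullback.condition])
        (by simp only [Category.assoc]; exact hβ₁.trans hβ₂.symm) (hg₁.trans hg₂.symm)
    have hy : (β ≫ pullback.fst _ _) ≫ (diagNat t).app j.left = (yon S).map dO ≫ fW.app j := by
      change _ = β
      apply pullback.hom_ext
      · simp [diagNat]
      · simp only [diagNat, Category.assoc, pullback.diagonal_snd, Category.comp_id]
        exact heq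
    obtain ⟨l, hl⟩ := (yon S).map_surjective ((sqe j).lift _ _ hy)
    have hle : l ≫ ey j = dO := (yon S).map_injective (by rw [Functor.map_comp, hl]; exact (sqe j).lift_snd _ _ _)
    have hρl : ρ ≫ l = xO := by
      refine (yon S).map_injective ((sqe j).hom_ext ?_ ?_)
      · rw [Functor.map_comp, Category.assoc, hl, IsPullback.lift_fst]
        exact hg₁
      · rw [← Functor.map_comp, ← Functor.map_comp, Category.assoc, hle, hx']
    exact ⟨l.left, congrArg CommaMorphism.left hρl, congrArg CommaMorphism.left hle⟩)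
  refine ⟨j.left, ?_⟩
  obtain ⟨h1, h2, h3, h4⟩ := hprop j
  have : UniversallyClosed (ey j).left := hj
  have : IsProper (ey j).left := { }
  have : IsClosedImmersion (ey j).left := (IsClosedImmersion.iff_isProper_and_mono _).2 ⟨this, h4⟩
  have := Groth.Agent.AlgSp.isLocallySurjective_of_etale_surjective (fW.app j)
    (MorphismProperty.of_isPullback (sqW j).flip hze) (MorphismProperty.of_isPullback (sqW j).flip hzs)
  exact @Groth.Agent.AlgSp.repWith_isClosedImmersion_of_baseChange _ _ _ _ _ ((diagNat t).app j.left) (fW.app j)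
    this _ _ (sqe j) ((repWith_yon_map_iff _ _).2 ‹IsClosedImmersion (ey j).left›)

/-- If the limit is separated over the base then all small stages are. -/
theorem eventually_separated (hY : IsAlgSpace Y) (hYqs : IsQuasiSeparatedSp Y) (hD : ∀ i, IsAlgSpace (D.obj i))
    (hDa : ∀ (i j : I) (φ : i ⟶ j), IsAffineMor (D.map φ)) (hqc : ∀ i, IsQuasiCompactSp (D.obj i))
    (hqs : ∀ i, IsQuasiSeparatedSp (D.obj i)) (c : Cone D) (hc : IsLimit c) (g : c.pt ⟶ Y)
    (hg : ∀ i, c.π.app i ≫ tY t i = g) (hX : IsSeparatedMor g) :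
    ∃ i₀ : I, ∀ (i : I) (_ : i ⟶ i₀), IsSeparatedMor (tY t i) := by
  obtain ⟨i₀, h⟩ := exists_separated t hY hYqs hD hDa hqc hqs c hc g hg hX
  refine ⟨i₀, fun i a => ?_⟩
  have := MorphismProperty.comp_mem (RepWith @IsClosedImmersion : MorphismProperty (Sp S)).diagonal (D.map a) (tY t i₀)
    (LimMono.diagonal_of_isAffineMor (hD i) (hDa i i₀ a)) h
  exact map_tY t a ▸ this

end Groth.Agent.AlgSp.LimSep
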