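import Groth.Agent.LimLib.Existence
import Groth.Agent.AlgSp.AffineMor
import Groth.Agent.AlgSp.Presheaf
import Mathlib.AlgebraicGeometry.AffineTransitionLimit

/-!
# Limits of systems of algebraic spaces with affine transition maps

Over a scheme mapping to one stage, the limit is the limit of a system of schemes with affine transition maps.
-/

universe u

open CategoryTheory CategoryTheory.Limits AlgebraicGeometry Opposite

set_option backward.isDefEq.respectTransparency.types false
set_option autoImplicit false

attribute [local instance] CategoryTheory.isConnected_of_hasTerminal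

namespace Groth.Agent.AlgSp.LimSp

open _root_.AlgSp

variable {S : Scheme.{u}} {I : Type u} [SmallCategory I] [IsCofiltered I] {D : I ⥤ Sp S}

omit [IsCofiltered I] in
/-- The transition maps are representable by affine morphisms. -/
theorem repWith_map (hDa : ∀ (i j : I) (φ : i ⟶ j), IsAffineMor (D.map φ)) {i j : I} (φ : i ⟶ j) :
    RepWith @IsAffineHom (D.map φ) :=
  (Groth.Agent.AlgSp.isAffineMor_iff _).1 (hDa i j φ)

variable (hDa : ∀ (i j : I) (φ : i ⟶ j), IsAffineMor (D.map φ)) {i₀ : I} {Z : Over S}
  (g : (yon S).obj Z ⟶ D.obj i₀)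

/-- The system of schemes over a scheme mapping to one stage. -/
noncomputable def sys : Over i₀ ⥤ Over S where
  obj j := (repWith_map hDa j.hom).1.pullback g
  map {j k} a := (repWith_map hDa k.hom).1.lift ((repWith_map hDa j.hom).1.fst g ≫ D.map a.left)
    ((repWith_map hDa j.hom).1.snd g) (by
      rw [Category.assoc, ← D.map_comp, Over.w a]
      exact (repWith_map hDa j.hom).1.w g)
  map_id j := (repWith_map hDa j.hom).1.hom_ext (by simp) (by simp)
  map_comp {j k l} a b := (repWith_map hDa l.hom).1.hom_ext (by simp) (by simp)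

/-- The projections of the system to the spaces. -/
noncomputable def sysFst : sys hDa g ⋙ yon S ⟶ Over.forget i₀ ⋙ D where
  app j := (repWith_map hDa j.hom).1.fst g
  naturality _ k _ := (repWith_map hDa k.hom).1.lift_fst _ _ _

/-- The projections of the system to the scheme. -/
noncomputable abbrev sysSnd (j : Over i₀) : (sys hDa g).obj j ⟶ Z := (repWith_map hDa j.hom).1.snd g

theorem map_sysSnd {j k : Over i₀} (a : j ⟶ k) :
    (sys hDa g).map a ≫ sysSnd hDa g k = sysSnd hDa g j :=
  (repWith_map hDa k.hom).1.lift_snd _ _ _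

theorem isAffineHom_sysSnd (j : Over i₀) : IsAffineHom (sysSnd hDa g j).left :=
  (repWith_map hDa j.hom).2 _ _ _ ((repWith_map hDa j.hom).1.isPullback g)

instance isAffineHom_sys {j k : Over i₀} (a : j ⟶ k) :
    IsAffineHom ((sys hDa g ⋙ Over.forget S).map a) := by
  have h1 := isAffineHom_sysSnd hDa g k
  have : IsAffineHom (((sys hDa g).map a).left ≫ (sysSnd hDa g k).left) := by
    rw [← Over.comp_left, map_sysSnd]
    exact isAffineHom_sysSnd hDa g j
  change IsAffineHom ((sys hDa g).map a).left
  exact IsAffineHom.of_comp _ (sysSnd hDa g k).left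

/-- The projection of the limit of the system to the last stage is affine, and the limit is a fibre product. -/
theorem exists_isPullback (c : Cone D) (hc : IsLimit c) :
    ∃ (L : Cone (sys hDa g)) (l : (yon S).obj L.pt ⟶ c.pt) (q : L.pt ⟶ Z),
      Nonempty (IsLimit ((Over.forget S).mapCone L)) ∧ IsAffineHom q.left ∧
        (∀ j, L.π.app j ≫ sysSnd hDa g j = q) ∧
        (∀ j, l ≫ c.π.app j.left = (yon S).map (L.π.app j) ≫ (sysFst hDa g).app j) ∧
        IsPullback l ((yon S).map q) (c.π.app i₀) g := by
  have : HasLimit (sys hDa g ⋙ Over.forget S) := by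
    have : ∀ (j k : Over i₀) (a : j ⟶ k), IsAffineHom ((sys hDa g ⋙ Over.forget S).map a) :=
      fun j k a => isAffineHom_sys hDa g a
    exact Groth.Agent.LimLib.Existence.hasLimit (sys hDa g ⋙ Over.forget S)
  have : HasLimit (sys hDa g) := hasLimit_of_created (sys hDa g) (Over.forget S)
  let L := limit.cone (sys hDa g)
  have hL : IsLimit ((Over.forget S).mapCone L) := isLimitOfPreserves _ (limit.isLimit _)
  have hLy : IsLimit ((yon S).mapCone L) := isLimitOfPreserves _ (limit.isLimit _)
  let top : Over i₀ := Over.mk (𝟙 i₀)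
  let q : L.pt ⟶ Z := L.π.app top ≫ sysSnd hDa g top
  have hq : ∀ j, L.π.app j ≫ sysSnd hDa g j = q := fun j => by
    have := L.w (Over.homMk j.hom : j ⟶ top)
    simp only [q]
    rw [← this, Category.assoc, map_sysSnd]
  have hc' : IsLimit (c.whisker (Over.forget i₀)) := (Functor.Initial.isLimitWhiskerEquiv _ c).symm hc
  let C : Cone (Over.forget i₀ ⋙ D) := (Cone.postcompose (sysFst hDa g)).obj ((yon S).mapCone L)
  let l : (yon S).obj L.pt ⟶ c.pt := hc'.lift C
  have hl : ∀ j, l ≫ c.π.app j.left = (yon S).map (L.π.app j) ≫ (sysFst hDa g).app j := fun j => hc'.fac C j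
  have hw : l ≫ c.π.app i₀ = (yon S).map q ≫ g := by
    refine (hl top).trans ?_
    have := (repWith_map hDa top.hom).1.w g
    have this : (repWith_map hDa top.hom).1.fst g = (yon S).map (sysSnd hDa g top) ≫ g :=
      ((Category.comp_id _).symm.trans (congrArg (fun k => (repWith_map hDa top.hom).1.fst g ≫ k)
        (show D.map top.hom = 𝟙 _ from D.map_id i₀).symm)).trans this
    simp only [q, Functor.map_comp, Category.assoc]
    exact congrArg ((yon S).map (L.π.app top) ≫ ·) this
  refine ⟨L, l, q, ⟨hL⟩, ?_, hq, hl, ?_⟩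
  · have h1 := isAffineHom_sysSnd hDa g top
    have h2 : IsAffineHom (L.π.app top).left :=
      isAffineHom_π_app (sys hDa g ⋙ Over.forget S) _ hL top
    exact inferInstanceAs (IsAffineHom ((L.π.app top).left ≫ (sysSnd hDa g top).left))
  · have hex : ∀ s : PullbackCone (c.π.app i₀) g, ∃ m : s.pt ⟶ (yon S).obj L.pt,
        m ≫ l = s.fst ∧ m ≫ (yon S).map q = s.snd := by
      intro s
      have hs : ∀ j : Over i₀, (s.fst ≫ c.π.app j.left) ≫ D.map j.hom = s.snd ≫ g := fun j => by
        rw [Category.assoc, c.w j.hom, s.condition]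
      let C' : Cone (sys hDa g ⋙ yon S) :=
        { pt := s.pt
          π :=
            { app := fun j => ((repWith_map hDa j.hom).1.isPullback g).lift _ _ (hs j)
              naturality := fun j k a => by
                refine (Category.id_comp _).trans (((repWith_map hDa k.hom).1.isPullback g).hom_ext ?_ ?_)
                · have e : (yon S).map ((sys hDa g).map a) ≫ (repWith_map hDa k.hom).1.fst g =
                      (repWith_map hDa j.hom).1.fst g ≫ D.map a.left := (sysFst hDa g).naturality a
                  erw [Category.assoc, e, IsPullback.lift_fst, IsPullback.lift_fst_assoc]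
                  rw [Category.assoc, c.w a.left]
                · have e : (yon S).map ((sys hDa g).map a) ≫ (yon S).map (sysSnd hDa g k) =
                      (yon S).map (sysSnd hDa g j) := by rw [← Functor.map_comp, map_sysSnd]
                  erw [Category.assoc, e, IsPullback.lift_snd, IsPullback.lift_snd] } }
      refine ⟨hLy.lift C', hc'.hom_ext fun j => ?_, ?_⟩
      · change (_ ≫ l) ≫ c.π.app j.left = s.fst ≫ c.π.app j.left
        rw [Category.assoc, hl]
        erw [hLy.fac_assoc C' j]
        exact IsPullback.lift_fst _ _ _ _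
      · simp only [q, Functor.map_comp]
        erw [hLy.fac_assoc C' top]
        exact IsPullback.lift_snd _ _ _ _
    choose m hm using hex
    refine IsPullback.of_isLimit' ⟨hw⟩ (PullbackCone.IsLimit.mk _ m (fun s => (hm s).1) (fun s => (hm s).2)
      fun s m' h1 h2 => hLy.hom_ext fun j => ((repWith_map hDa j.hom).1.isPullback g).hom_ext ?_ ?_)
    · change (m' ≫ (yon S).map (L.π.app j)) ≫ (sysFst hDa g).app j = (m s ≫ (yon S).map (L.π.app j)) ≫ (sysFst hDa g).app j
      rw [Category.assoc, Category.assoc, ← hl]
      exact ((Category.assoc m' l _).symm.trans (congrArg (fun k => k ≫ c.π.app j.left) (h1.trans (hm s).1.symm))).trans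
        (Category.assoc (m s) l _)
    · change (m' ≫ (yon S).map (L.π.app j)) ≫ (yon S).map (sysSnd hDa g j) =
        (m s ≫ (yon S).map (L.π.app j)) ≫ (yon S).map (sysSnd hDa g j)
      rw [Category.assoc, Category.assoc, ← Functor.map_comp, hq, h2, (hm s).2]

include hDa in
/-- The projections from the limit are affine. -/
theorem isAffineMor_π (c : Cone D) (hc : IsLimit c) (i : I) : IsAffineMor (c.π.app i) := by
  intro Z hZ g
  obtain ⟨L, l, q, -, hq, -, -, sq⟩ := exists_isPullback hDa g c hc
  exact ⟨L.pt, q, l, sq, isAffine_of_isAffineHom q.left⟩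

include hDa in
/-- The limit is an algebraic space. -/
theorem isAlgSpace_pt (hD : ∀ i, IsAlgSpace (D.obj i)) (c : Cone D) (hc : IsLimit c) : IsAlgSpace c.pt := by
  obtain ⟨i⟩ := IsCofiltered.nonempty (C := I)
  exact Groth.Agent.AlgSp.isAlgSpace_of_representable (c.π.app i)
    ((Groth.Agent.AlgSp.isAffineMor_iff _).1 (isAffineMor_π hDa c hc i)).1 (hD i)

end Groth.Agent.AlgSp.LimSp
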