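import Groth.Agent.AlgSp.NormPres

/-!
# Normalizations of spaces over affine bases
-/

universe u

open CategoryTheory CategoryTheory.Limits AlgebraicGeometry Opposite TensorProduct

set_option backward.isDefEq.respectTransparency.types false

namespace Groth.Agent.AlgSp

open ElemDist

variable {S : Scheme.{u}}

/-- Normalizations are invariant under isomorphisms of the base. -/
theorem relNorm_of_iso_base {F G G' X' : AlgSp.Sp S} {f : F ⟶ G} {ν : X' ⟶ G} {f' : F ⟶ X'}
    (h : AlgSp.IsRelNormalization f ν f') (e : G ≅ G') :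
    AlgSp.IsRelNormalization (f ≫ e.hom) (ν ≫ e.hom) f' := by
  refine ⟨by rw [← Category.assoc, h.1], (AlgSpD.isIntegralMor_iff _).2
    ((MorphismProperty.cancel_right_of_respectsIso _ _ _).2 ((AlgSpD.isIntegralMor_iff ν).1 h.2.1)),
    fun Z hZ π g hπ hg => ?_⟩
  obtain ⟨k, ⟨hk1, hk2⟩, huniq⟩ := h.2.2 hZ (π ≫ e.inv) g ((AlgSpD.isIntegralMor_iff _).2
    ((MorphismProperty.cancel_right_of_respectsIso _ _ _).2 ((AlgSpD.isIntegralMor_iff π).1 hπ)))
    (by rw [← Category.assoc, hg, Category.assoc, e.hom_inv_id, Category.comp_id])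
  refine ⟨k, ⟨hk1, ?_⟩, fun k' hk' => huniq k' ⟨hk'.1, ?_⟩⟩
  · rw [← hk2]; simp only [Category.assoc, e.inv_hom_id, Category.comp_id]
  · rw [← Category.assoc, hk'.2, Category.assoc, e.hom_inv_id, Category.comp_id]

theorem isNormOn_iso_comp {F G X' T T' : AlgSp.Sp S} {f : F ⟶ G} {ν : X' ⟶ G} {f' : F ⟶ X'} (w : f' ≫ ν = f)
    {b : T ⟶ G} (h : IsNormOn f ν f' b) (e : T' ≅ T) : IsNormOn f ν f' (e.hom ≫ b) := by
  have sF := IsPullback.of_hasPullback f b
  have sX := IsPullback.of_hasPullback ν b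
  let m := pullback.map f b ν b f' (𝟙 _) (𝟙 _) (by simp [w]) (by simp)
  have m1 : m ≫ pullback.snd ν b = pullback.snd f b := map_snd' _ _ _ _ _ _
  have m2 : m ≫ pullback.fst ν b = pullback.fst f b ≫ f' := map_fst' _ _ _ _ _ _ _ _
  have iso : ∀ {P A : AlgSp.Sp S} {a : P ⟶ A} {p : P ⟶ T} {φ : A ⟶ G}, IsPullback a p φ b →
      IsPullback a (p ≫ e.inv) φ (e.hom ≫ b) := fun s =>
    s.of_iso (Iso.refl _) (Iso.refl _) e.symm (Iso.refl _) (by simp) (by simp) (by simp) (by simp)
  exact isNormOn_of_one (iso sF) (iso sX) (by rw [← Category.assoc, m1]) m2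
    (relNorm_of_iso_base (h _ _ _ _ _ sF sX m1 m2) e.symm)

variable {K : Type u} [CommRing K] {h : Spec (CommRingCat.of K) ⟶ S}

/-- The spectrum of the projection from a base changed algebra. -/
noncomputable def specFst (h : Spec (CommRingCat.of K) ⟶ S) (K' : Type u) [CommRing K'] [Algebra K K']
    (E : Type u) [CommRing E] [Algebra K E] :
    specOver (Spec.map (CommRingCat.ofHom (algebraMap K K')) ≫ h) (K' ⊗[K] E) ⟶ specOver h E :=
  Over.homMk (Spec.map (CommRingCat.ofHom (Algebra.TensorProduct.includeRight (R := K) (A := K') (B := E)).toRingHom))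
    (by
      change Spec.map _ ≫ Spec.map _ ≫ h = Spec.map _ ≫ Spec.map _ ≫ h
      rw [← (isPullback_tensor K K' E).w_assoc])

theorem isPullback_specFst (h : Spec (CommRingCat.of K) ⟶ S) (K' : Type u) [CommRing K'] [Algebra K K']
    (E : Type u) [CommRing E] [Algebra K E] :
    IsPullback (specFst h K' E) (specStr (Spec.map (CommRingCat.ofHom (algebraMap K K')) ≫ h) (K' ⊗[K] E))
      (specStr h E) (specStr h K') := by
  refine IsPullback.of_map (Over.forget S) (Over.OverMorphism.ext ?_) ?_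
  · exact (isPullback_tensor K K' E).w.symm
  · exact (isPullback_tensor K K' E).flip

theorem specMap_specFst (h : Spec (CommRingCat.of K) ⟶ S) (K' : Type u) [CommRing K'] [Algebra K K']
    {E F : Type u} [CommRing E] [Algebra K E] [CommRing F] [Algebra K F] (f : E →ₐ[K] F) :
    specMap (Spec.map (CommRingCat.ofHom (algebraMap K K')) ≫ h) (Algebra.TensorProduct.map (AlgHom.id K' K') f) ≫
      specFst h K' E = specFst h K' F ≫ specMap h f := by
  refine Over.OverMorphism.ext ?_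
  change Spec.map _ ≫ Spec.map _ = Spec.map _ ≫ Spec.map _
  rw [← Spec.map_comp, ← Spec.map_comp]
  congr 1

variable {Y : AlgSp.Sp S} {g : Y ⟶ (AlgSp.yon S).obj (Over.mk h)}
  {E F : Type u} [CommRing E] [Algebra K E] [CommRing F] [Algebra K F]

/-- Presentations pull back. -/
theorem Pres.exists_baseChange (P : Pres h g E F) (K' : Type u) [CommRing K'] [Algebra K K'] {Y' : AlgSp.Sp S}
    {b : Y' ⟶ Y} {g' : Y' ⟶ (AlgSp.yon S).obj (Over.mk (Spec.map (CommRingCat.ofHom (algebraMap K K')) ≫ h))}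
    (sY : IsPullback b g' g ((AlgSp.yon S).map (specStr h K'))) :
    ∃ P' : Pres _ g' (K' ⊗[K] E) (K' ⊗[K] F),
      P'.p = Algebra.TensorProduct.map (AlgHom.id K' K') P.p ∧
      P'.q = Algebra.TensorProduct.map (AlgHom.id K' K') P.q ∧
      P'.a ≫ b = (AlgSp.yon S).map (specFst h K' E) ≫ P.a := by
  let h' := Spec.map (CommRingCat.ofHom (algebraMap K K')) ≫ h
  have sE := (isPullback_specFst h K' E).map (AlgSp.yon S)
  let a' := sY.lift ((AlgSp.yon S).map (specFst h K' E) ≫ P.a) ((AlgSp.yon S).map (specStr h' (K' ⊗[K] E)))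
    (by rw [Category.assoc, P.hga]; exact sE.w)
  have a'2 : a' ≫ g' = (AlgSp.yon S).map (specStr h' (K' ⊗[K] E)) := sY.lift_snd _ _ _
  have a'1 : a' ≫ b = (AlgSp.yon S).map (specFst h K' E) ≫ P.a := sY.lift_fst _ _ _
  have sA : IsPullback ((AlgSp.yon S).map (specFst h K' E)) a' P.a b := by
    refine IsPullback.of_bot ?_ a'1.symm sY
    rw [a'2, P.hga]; exact sE
  have ha' : AlgSp.RepWith @Etale a' := MorphismProperty.of_isPullback sA P.ha
  obtain ⟨R₁, t₁, t₂, sR₁⟩ := AlgSpB.exists_pullback_yon ha'.1 a'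
  let ρ := P.sR.lift ((AlgSp.yon S).map t₁ ≫ (AlgSp.yon S).map (specFst h K' E))
    ((AlgSp.yon S).map t₂ ≫ (AlgSp.yon S).map (specFst h K' E))
    (by rw [Category.assoc, Category.assoc, ← a'1, ← Category.assoc, sR₁.w, Category.assoc])
  obtain ⟨ρ₀, hρ₀⟩ := (AlgSp.yon S).map_surjective ρ
  have hρ1 : ρ₀ ≫ P.π₁ = t₁ ≫ specFst h K' E := (AlgSp.yon S).map_injective (by
    rw [Functor.map_comp, Functor.map_comp, hρ₀, P.sR.lift_fst])
  have hρ2 : ρ₀ ≫ P.π₂ = t₂ ≫ specFst h K' E := (AlgSp.yon S).map_injective (by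
    rw [Functor.map_comp, Functor.map_comp, hρ₀, P.sR.lift_snd])
  have sρ : IsPullback ρ₀ t₁ P.π₁ (specFst h K' E) := by
    refine IsPullback.of_map (AlgSp.yon S) hρ1 (IsPullback.of_right ?_ ?_ P.sR.flip)
    · rw [← Functor.map_comp, hρ2, Functor.map_comp, ← sA.w.symm]
      exact sR₁.flip.paste_horiz sA
    · rw [← Functor.map_comp, ← Functor.map_comp, hρ1]
  let p' := Algebra.TensorProduct.map (AlgHom.id K' K') P.p
  let q' := Algebra.TensorProduct.map (AlgHom.id K' K') P.q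
  let r' : specOver h' (K' ⊗[K] F) ⟶ R₁ := sρ.lift (specFst h K' F ≫ P.r) (specMap h' p') (by
    rw [Category.assoc, P.hp]; exact (specMap_specFst h K' P.p).symm)
  have hr1 : r' ≫ t₁ = specMap h' p' := sρ.lift_snd _ _ _
  have hr0 : r' ≫ ρ₀ = specFst h K' F ≫ P.r := sρ.lift_fst _ _ _
  have ht : t₁ ≫ specStr h' (K' ⊗[K] E) = t₂ ≫ specStr h' (K' ⊗[K] E) := (AlgSp.yon S).map_injective (by
    rw [Functor.map_comp, Functor.map_comp, ← a'2, ← Category.assoc, sR₁.w, Category.assoc])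
  have hr2 : r' ≫ t₂ = specMap h' q' := by
    apply (isPullback_specFst h K' E).hom_ext
    · rw [Category.assoc, ← hρ2, reassoc_of% hr0, P.hq]; exact (specMap_specFst h K' P.q).symm
    · rw [Category.assoc, ← ht, reassoc_of% hr1, specMap_comp_specStr, specMap_comp_specStr]
  have sr : IsPullback (specFst h K' F) r' P.r ρ₀ := by
    refine IsPullback.of_bot ?_ hr0.symm (sρ.paste_vert (isPullback_specFst h K' E))
    rw [← Category.assoc r', hr1, specMap_comp_specStr, ← Category.assoc P.r, P.hp, specMap_comp_specStr]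
    exact isPullback_specFst h K' F
  have sr' := sr.map (Over.forget S)
  have hre' : Etale r'.left := MorphismProperty.of_isPullback sr' P.hre
  have hrs' : Surjective r'.left := MorphismProperty.of_isPullback sr' P.hrs
  refine ⟨⟨a', ha', fun y => ?_, a'2, R₁, t₁, t₂, sR₁, r', hre', hrs', p', q', hr1, hr2⟩, rfl, rfl, a'1⟩
  obtain ⟨t, ht'⟩ := P.hs (AlgSp.Points.map b y)
  obtain ⟨z, -, hz⟩ := AlgSpB.exists_of_isPullback sA (AlgSp.Points.ofScheme _ t) y
    (by rw [← AlgSp.Points.ofPt_eq_map_ofScheme]; exact ht')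
  obtain ⟨z, rfl⟩ := (AlgSp.Points.schemeHomeo _).surjective z
  exact ⟨z, (AlgSp.Points.ofPt_eq_map_ofScheme _ _).trans hz⟩

/-- The normalization over an affine base commutes with smooth base change. -/
theorem Pres.isSmoothNorm (P : Pres h g E F) {C : Type u} [CommRing C] [Algebra K C] {j : C →ₐ[K] E}
    (hj : IsIntEq P.p P.q j) {f' : Y ⟶ (AlgSp.yon S).obj (specOver h C)}
    (hf' : P.a ≫ f' = (AlgSp.yon S).map (specMap h j)) :
    IsSmoothNorm g ((AlgSp.yon S).map (specStr h C)) f' := by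
  have hn := P.relNorm hj hf'
  refine ⟨hn.1, hn.2.1, fun T hT b hb => ?_⟩
  obtain ⟨c, rfl⟩ := (AlgSp.yon S).map_surjective b
  have hc : Smooth c.left := AlgSp.locP_yon_map hb
  let K' : CommRingCat.{u} := Γ(T.left, ⊤)
  let ψ : CommRingCat.of K ⟶ K' := Spec.preimage (T.left.isoSpec.inv ≫ c.left)
  let _ := ψ.hom.toAlgebra
  have hψ : Spec.map (CommRingCat.ofHom (algebraMap K K')) = T.left.isoSpec.inv ≫ c.left := Spec.map_preimage _
  let ε : T ≅ specOver h K' := Over.isoMk T.left.isoSpec (by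
    change T.left.isoSpec.hom ≫ Spec.map (CommRingCat.ofHom (algebraMap K K')) ≫ h = T.hom
    rw [reassoc_of% hψ, Iso.hom_inv_id_assoc, ← Over.w c]; rfl)
  have hε : ε.hom ≫ specStr h K' = c := Over.OverMorphism.ext (by
    change T.left.isoSpec.hom ≫ Spec.map (CommRingCat.ofHom (algebraMap K K')) = c.left
    rw [hψ, Iso.hom_inv_id_assoc])
  have : Algebra.Smooth K K' := RingHom.smooth_algebraMap.1 ((HasRingHomProperty.Spec_iff (P := @Smooth)).1
    (show Smooth (Spec.map (CommRingCat.ofHom (algebraMap K K'))) by rw [hψ]; infer_instance))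
  rw [← hε, Functor.map_comp]
  refine isNormOn_iso_comp hn.1 ?_ ((AlgSp.yon S).mapIso ε)
  have sY := IsPullback.of_hasPullback g ((AlgSp.yon S).map (specStr h K'))
  obtain ⟨P', hp', hq', hab⟩ := P.exists_baseChange K' sY
  let h' := Spec.map (CommRingCat.ofHom (algebraMap K K')) ≫ h
  have sC := (isPullback_specFst h K' C).map (AlgSp.yon S)
  let f'' := sC.lift (pullback.fst g ((AlgSp.yon S).map (specStr h K')) ≫ f')
    (pullback.snd g ((AlgSp.yon S).map (specStr h K'))) (by rw [Category.assoc, hn.1, sY.w])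
  refine isNormOn_of_one sY sC (f₁' := f'') (sC.lift_snd _ _ _) (sC.lift_fst _ _ _) (P'.relNorm
    (j := Algebra.TensorProduct.map (AlgHom.id K' K') j) (by rw [hp', hq']; exact hj.baseChange K') ?_)
  apply sC.hom_ext
  · rw [Category.assoc, sC.lift_fst, reassoc_of% hab, hf', ← Functor.map_comp, ← Functor.map_comp,
      specMap_specFst]
  · rw [Category.assoc, sC.lift_snd, P'.hga, ← Functor.map_comp, specMap_comp_specStr]

/-- A quasi-compact quasi-separated space over an affine scheme has an affine presentation. -/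
theorem exists_pres (hY : AlgSp.IsAlgSpace Y) (hqc : AlgSp.IsQuasiCompactMor g)
    (hqs : AlgSp.IsQuasiSeparatedMor g) :
    ∃ (E F : CommRingCat.{u}) (_ : Algebra K E) (_ : Algebra K F), Nonempty (Pres h g E F) := by
  have hT := AlgSp.IsAlgSpace.yon_obj (Over.mk h)
  have : CompactSpace (Over.mk h).left := inferInstanceAs (CompactSpace (Spec (CommRingCat.of K)))
  have := compactSpace_points (hqc hT (isQuasiCompactSp_yon (Over.mk h)) (𝟙 _) (𝟙 _) g IsPullback.of_id_fst)
  obtain ⟨A, a₀, ha₀, hs₀⟩ := hY.atlas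
  obtain ⟨V, r₁, hV, ha, hs⟩ := AlgSpB.exists_affine_chart_of_compactSpace ha₀ hs₀
  let a := (AlgSp.yon S).map r₁ ≫ a₀
  obtain ⟨ha, hs⟩ : AlgSp.RepWith @Etale a ∧ AlgSp.RepWith @Surjective a := ⟨ha, hs⟩
  obtain ⟨c, hc⟩ := (AlgSp.yon S).map_surjective (a ≫ g)
  let E : CommRingCat.{u} := Γ(V.left, ⊤)
  let ψ : CommRingCat.of K ⟶ E := Spec.preimage (V.left.isoSpec.inv ≫ c.left)
  let iE : Algebra K E := ψ.hom.toAlgebra
  have hψ : Spec.map (CommRingCat.ofHom (algebraMap K E)) = V.left.isoSpec.inv ≫ c.left := Spec.map_preimage _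
  let ε : specOver h E ≅ V := (Over.isoMk V.left.isoSpec (by
    change V.left.isoSpec.hom ≫ Spec.map (CommRingCat.ofHom (algebraMap K E)) ≫ h = V.hom
    rw [reassoc_of% hψ, Iso.hom_inv_id_assoc, ← Over.w c]; rfl) : V ≅ specOver h E).symm
  let a₁ := (AlgSp.yon S).map ε.hom ≫ a
  have ha₁ : AlgSp.RepWith @Etale a₁ := AlgSpB.repWith_etale_map_comp ε.hom ha
  have hs₁ : ∀ y, ∃ t, AlgSp.Points.ofPt a₁ t = y := fun y => by
    obtain ⟨t, ht⟩ := AlgSpB.surjective_ofPt hs y
    refine ⟨ε.inv.left t, ?_⟩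
    rw [AlgSpB.ofPt_map_comp ε.hom a]
    rw [← Scheme.Hom.comp_apply, ← Over.comp_left, ε.inv_hom_id]
    exact ht
  have hga : a₁ ≫ g = (AlgSp.yon S).map (specStr h E) := by
    rw [Category.assoc, ← hc, ← Functor.map_comp]
    congr 1
    exact Over.OverMorphism.ext hψ.symm
  have : CompactSpace (specOver h E).left := inferInstanceAs (CompactSpace (Spec E))
  have hqa : AlgSp.IsQuasiCompactMor a₁ := isQuasiCompactMor_of_comp (AlgSp.IsAlgSpace.yon_obj _) hY hT a₁ g
    (hga ▸ isQuasiCompactMor_of_repWith hT ((AlgSp.repWith_yon_map_iff _ _).2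
      (inferInstanceAs (QuasiCompact (Spec.map (CommRingCat.ofHom (algebraMap K E))))))) hqs
  obtain ⟨R, π₁, π₂, sR⟩ := AlgSpB.exists_pullback_yon ha₁.1 a₁
  have := compactSpace_points (hqa (AlgSp.IsAlgSpace.yon_obj _) (isQuasiCompactSp_yon (specOver h E)) _ _ _ sR)
  have hid : AlgSp.RepWith @Etale (𝟙 ((AlgSp.yon S).obj R)) :=
    (AlgSp.yon S).map_id R ▸ (AlgSp.repWith_yon_map_iff _ _).2 (inferInstanceAs (Etale (𝟙 R.left)))
  have hids : AlgSp.RepWith @Surjective (𝟙 ((AlgSp.yon S).obj R)) :=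
    (AlgSp.yon S).map_id R ▸ (AlgSp.repWith_yon_map_iff _ _).2 (inferInstanceAs (Surjective (𝟙 R.left)))
  obtain ⟨W, r₀, hW, hre, hrs⟩ := AlgSpB.exists_affine_chart_of_compactSpace hid hids
  let F : CommRingCat.{u} := Γ(W.left, ⊤)
  let ψF : CommRingCat.of K ⟶ F := Spec.preimage (W.left.isoSpec.inv ≫ (r₀ ≫ π₁ ≫ specStr h E).left)
  let iF : Algebra K F := ψF.hom.toAlgebra
  have hψF : Spec.map (CommRingCat.ofHom (algebraMap K F)) = W.left.isoSpec.inv ≫ (r₀ ≫ π₁ ≫ specStr h E).left :=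
    Spec.map_preimage _
  let εF : specOver h F ≅ W := (Over.isoMk W.left.isoSpec (by
    change W.left.isoSpec.hom ≫ Spec.map (CommRingCat.ofHom (algebraMap K F)) ≫ h = W.hom
    rw [reassoc_of% hψF, Iso.hom_inv_id_assoc, ← Over.w (r₀ ≫ π₁ ≫ specStr h E)]; rfl) : W ≅ specOver h F).symm
  let r := εF.hom ≫ r₀
  rw [Category.comp_id, AlgSp.repWith_yon_map_iff] at hre hrs
  have h1 : (r ≫ π₁) ≫ specStr h E = specStr h F :=
    Over.OverMorphism.ext (by
      change ((W.left.isoSpec.inv ≫ r₀.left) ≫ π₁.left) ≫ (specStr h E).left =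
        Spec.map (CommRingCat.ofHom (algebraMap K F))
      rw [hψF, Category.assoc, Category.assoc]; rfl)
  have h2 : (r ≫ π₂) ≫ specStr h E = specStr h F := by
    have e12 : π₂ ≫ specStr h E = π₁ ≫ specStr h E := (AlgSp.yon S).map_injective (by
      rw [Functor.map_comp, Functor.map_comp, ← hga, ← Category.assoc, ← sR.w, Category.assoc])
    rw [← h1]; simp only [Category.assoc, e12]
  obtain ⟨p, hp⟩ := exists_algHom_of_hom h (r ≫ π₁) h1
  obtain ⟨q, hq⟩ := exists_algHom_of_hom h (r ≫ π₂) h2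
  refine ⟨E, F, iE, iF, ⟨⟨a₁, ha₁, hs₁, hga, R, π₁, π₂, sR, r, ?_, ?_, p, q, hp.symm, hq.symm⟩⟩⟩
  · change Etale (εF.hom.left ≫ r₀.left); have := hre; infer_instance
  · change Surjective (εF.hom.left ≫ r₀.left); have := hrs; infer_instance

/-- The normalization over an affine base. -/
theorem exists_isSmoothNorm_affine (hY : AlgSp.IsAlgSpace Y) (hqc : AlgSp.IsQuasiCompactMor g)
    (hqs : AlgSp.IsQuasiSeparatedMor g) :
    ∃ (C : CommRingCat.{u}) (_ : Algebra K C) (f' : Y ⟶ (AlgSp.yon S).obj (specOver h C)),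
      IsSmoothNorm g ((AlgSp.yon S).map (specStr h C)) f' := by
  obtain ⟨E, F, _, _, ⟨P⟩⟩ := exists_pres hY hqc hqs
  let C := integralClosure K (AlgHom.equalizer P.p P.q)
  let j := (AlgHom.equalizer P.p P.q).val.comp (integralClosure K (AlgHom.equalizer P.p P.q)).val
  obtain ⟨m, hm⟩ := P.exists_desc ((AlgSp.yon S).map (specMap h j)) (by
    rw [← Functor.map_comp, ← Functor.map_comp, specMap_comp, specMap_comp]
    congr 2
    exact AlgHom.ext fun c => c.1.2)
  exact ⟨CommRingCat.of C, inferInstanceAs (Algebra K C), m, P.isSmoothNorm (isIntEq_integralClosure P.p P.q) hm⟩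

end Groth.Agent.AlgSp
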