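import Groth.Agent.AlgSpD.IntegralMor
import Groth.Agent.AlgSp.ElemDist
import Groth.Agent.AlgSpCov.Listed
import Groth.Prelude.Def_AlgSpMor5

/-!
# Relative normalizations compatible with smooth base change
-/

universe u

open CategoryTheory CategoryTheory.Limits AlgebraicGeometry Opposite

set_option backward.isDefEq.respectTransparency.types false

namespace Groth.Agent.AlgSp

open ElemDist

variable {S : Scheme.{u}}

@[reassoc]
theorem map_fst' {C : Type*} [Category C] [HasPullbacks C] {W X Y Z T : C} (f : W ⟶ T) (g : X ⟶ T) (f' : Y ⟶ T)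
    (g' : Z ⟶ T) (i₁ : W ⟶ Y) (i₂ : X ⟶ Z) (e₁ : f ≫ 𝟙 T = i₁ ≫ f') (e₂ : g ≫ 𝟙 T = i₂ ≫ g') :
    pullback.map f g f' g' i₁ i₂ (𝟙 T) e₁ e₂ ≫ pullback.fst f' g' = pullback.fst f g ≫ i₁ :=
  pullback.lift_fst _ _ _

@[reassoc]
theorem map_snd' {C : Type*} [Category C] [HasPullbacks C] {W X Y T : C} (f : W ⟶ T) (g : X ⟶ T) (f' : Y ⟶ T)
    (i₁ : W ⟶ Y) (e₁ : f ≫ 𝟙 T = i₁ ≫ f') (e₂ : g ≫ 𝟙 T = 𝟙 X ≫ g) :
    pullback.map f g f' g i₁ (𝟙 X) (𝟙 T) e₁ e₂ ≫ pullback.snd f' g = pullback.snd f g :=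
  (pullback.lift_snd _ _ _).trans (Category.comp_id _)

/-- Integral morphisms are stable under base change. -/
theorem isIntegralMor_baseChange {F G F' G' : AlgSp.Sp S} {ν : F ⟶ G} {g : G' ⟶ G} {fst : F' ⟶ F}
    {ν' : F' ⟶ G'} (sq : IsPullback fst ν' ν g) (h : AlgSp.IsIntegralMor ν) : AlgSp.IsIntegralMor ν' :=
  (AlgSpD.isIntegralMor_iff ν').2 (MorphismProperty.of_isPullback sq ((AlgSpD.isIntegralMor_iff ν).1 h))

section

variable {F G X' : AlgSp.Sp S} {f : F ⟶ G} {ν : X' ⟶ G} {f' : F ⟶ X'}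

/-- Two maps over the base out of a normalization agree if they agree on the source. -/
theorem relNorm_hom_ext (h : AlgSp.IsRelNormalization f ν f') {Z : AlgSp.Sp S} (hZ : AlgSp.IsAlgSpace Z)
    {π : Z ⟶ G} (hπ : AlgSp.IsIntegralMor π) {h₁ h₂ : X' ⟶ Z} (e₁ : h₁ ≫ π = ν) (e₂ : h₂ ≫ π = ν)
    (e : f' ≫ h₁ = f' ≫ h₂) : h₁ = h₂ := by
  obtain ⟨w, -, huniq⟩ := h.2.2 hZ π (f' ≫ h₁) hπ (by rw [Category.assoc, e₁, h.1])
  exact (huniq h₁ ⟨rfl, e₁⟩).trans (huniq h₂ ⟨e.symm, e₂⟩).symm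

/-- Normalizations are unique up to unique isomorphism. -/
theorem relNorm_iso (h : AlgSp.IsRelNormalization f ν f') (hX' : AlgSp.IsAlgSpace X') {X'' : AlgSp.Sp S}
    (hX'' : AlgSp.IsAlgSpace X'') {ν' : X'' ⟶ G} {f'' : F ⟶ X''} (h' : AlgSp.IsRelNormalization f ν' f'') :
    ∃ e : X' ≅ X'', f' ≫ e.hom = f'' ∧ e.hom ≫ ν' = ν := by
  obtain ⟨a, ⟨ha1, ha2⟩, -⟩ := h.2.2 hX'' ν' f'' h'.2.1 h'.1
  obtain ⟨b, ⟨hb1, hb2⟩, -⟩ := h'.2.2 hX' ν f' h.2.1 h.1
  refine ⟨⟨a, b, ?_, ?_⟩, ha1, ha2⟩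
  · exact relNorm_hom_ext h hX' h.2.1 (by rw [Category.assoc, hb2, ha2]) (Category.id_comp _)
      (by rw [← Category.assoc, ha1, hb1, Category.comp_id])
  · exact relNorm_hom_ext h' hX'' h'.2.1 (by rw [Category.assoc, ha2, hb2]) (Category.id_comp _)
      (by rw [← Category.assoc, hb1, ha1, Category.comp_id])

/-- Normalizations are invariant under isomorphisms of the data. -/
theorem relNorm_of_iso (h : AlgSp.IsRelNormalization f ν f') {F₁ X₁ : AlgSp.Sp S} {f₁ : F₁ ⟶ G} {ν₁ : X₁ ⟶ G}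
    {f₁' : F₁ ⟶ X₁} (eF : F₁ ≅ F) (eX : X₁ ≅ X') (w : f₁' ≫ eX.hom = eF.hom ≫ f') (w₁ : eX.hom ≫ ν = ν₁)
    (w₂ : eF.hom ≫ f = f₁) : AlgSp.IsRelNormalization f₁ ν₁ f₁' := by
  refine ⟨?_, ?_, fun Z hZ π g hπ hg => ?_⟩
  · rw [← w₁, ← Category.assoc, w, Category.assoc, h.1, w₂]
  · rw [← w₁]
    exact (AlgSpD.isIntegralMor_iff _).2 ((MorphismProperty.cancel_left_of_respectsIso _ _ _).2
      ((AlgSpD.isIntegralMor_iff ν).1 h.2.1))
  obtain ⟨k, ⟨hk1, hk2⟩, huniq⟩ := h.2.2 hZ π (eF.inv ≫ g) hπ (by rw [Category.assoc, hg, ← w₂, eF.inv_hom_id_assoc])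
  refine ⟨eX.hom ≫ k, ⟨?_, ?_⟩, fun k' hk' => ?_⟩
  · rw [← Category.assoc, w, Category.assoc, hk1, eF.hom_inv_id_assoc]
  · rw [Category.assoc, hk2, w₁]
  · rw [← huniq (eX.inv ≫ k') ⟨?_, ?_⟩, eX.hom_inv_id_assoc]
    · rw [← hk'.1, ← Category.assoc, ← Category.assoc]
      congr 1
      rw [← cancel_mono eX.hom, Category.assoc, eX.inv_hom_id, Category.comp_id, Category.assoc, w,
        eF.inv_hom_id_assoc]
    · rw [Category.assoc, hk'.2, ← w₁, eX.inv_hom_id_assoc]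

/-- The data base changed along `b`. -/
def IsNormOn (f : F ⟶ G) (ν : X' ⟶ G) (f' : F ⟶ X') {T : AlgSp.Sp S} (b : T ⟶ G) : Prop :=
  ∀ ⦃F₁ X₁ : AlgSp.Sp S⦄ (a : F₁ ⟶ F) (f₁ : F₁ ⟶ T) (c : X₁ ⟶ X') (ν₁ : X₁ ⟶ T) (f₁' : F₁ ⟶ X₁),
    IsPullback a f₁ f b → IsPullback c ν₁ ν b → f₁' ≫ ν₁ = f₁ → f₁' ≫ c = a ≫ f' →
      AlgSp.IsRelNormalization f₁ ν₁ f₁'

/-- It suffices to check one base change. -/
theorem isNormOn_of_one {T : AlgSp.Sp S} {b : T ⟶ G} {F₁ X₁ : AlgSp.Sp S} {a : F₁ ⟶ F} {f₁ : F₁ ⟶ T}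
    {c : X₁ ⟶ X'} {ν₁ : X₁ ⟶ T} {f₁' : F₁ ⟶ X₁} (sF : IsPullback a f₁ f b) (sX : IsPullback c ν₁ ν b)
    (w₁ : f₁' ≫ ν₁ = f₁) (w₂ : f₁' ≫ c = a ≫ f') (h : AlgSp.IsRelNormalization f₁ ν₁ f₁') :
    IsNormOn f ν f' b := by
  intro F₂ X₂ a₂ f₂ c₂ ν₂ f₂' sF₂ sX₂ v₁ v₂
  refine relNorm_of_iso h (sF₂.isoIsPullback _ _ sF) (sX₂.isoIsPullback _ _ sX) ?_ ?_ ?_
  · apply sX.hom_ext
    · rw [Category.assoc, IsPullback.isoIsPullback_hom_fst, v₂, Category.assoc, w₂,
        IsPullback.isoIsPullback_hom_fst_assoc]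
    · rw [Category.assoc, IsPullback.isoIsPullback_hom_snd, v₁, Category.assoc, w₁,
        IsPullback.isoIsPullback_hom_snd]
  · exact IsPullback.isoIsPullback_hom_snd ..
  · exact IsPullback.isoIsPullback_hom_snd ..

/-- Base changes of base changes. -/
theorem isNormOn_comp_iff {T T' : AlgSp.Sp S} (b : T ⟶ G) (d : T' ⟶ T) {F₁ X₁ : AlgSp.Sp S} {a : F₁ ⟶ F}
    {f₁ : F₁ ⟶ T} {c : X₁ ⟶ X'} {ν₁ : X₁ ⟶ T} {f₁' : F₁ ⟶ X₁} (sF : IsPullback a f₁ f b)
    (sX : IsPullback c ν₁ ν b) (w₁ : f₁' ≫ ν₁ = f₁) (w₂ : f₁' ≫ c = a ≫ f') :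
    IsNormOn f₁ ν₁ f₁' d ↔ IsNormOn f ν f' (d ≫ b) := by
  have sF' := IsPullback.of_hasPullback f₁ d
  have sX' := IsPullback.of_hasPullback ν₁ d
  let m := sX'.lift (pullback.fst f₁ d ≫ f₁') (pullback.snd f₁ d) (by rw [Category.assoc, w₁, sF'.w])
  have m1 : m ≫ pullback.snd ν₁ d = pullback.snd f₁ d := sX'.lift_snd _ _ _
  have m2 : m ≫ pullback.fst ν₁ d = pullback.fst f₁ d ≫ f₁' := sX'.lift_fst _ _ _
  have m2' : m ≫ pullback.fst ν₁ d ≫ c = (pullback.fst f₁ d ≫ a) ≫ f' := by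
    rw [← Category.assoc, m2, Category.assoc, w₂, Category.assoc]
  exact ⟨fun h => isNormOn_of_one (sF'.paste_horiz sF) (sX'.paste_horiz sX) m1 m2' (h _ _ _ _ m sF' sX' m1 m2),
    fun h => isNormOn_of_one sF' sX' m1 m2 (h _ _ _ _ m (sF'.paste_horiz sF) (sX'.paste_horiz sX) m1 m2')⟩

/-- The base change along the identity. -/
theorem relNorm_of_isNormOn_id (w : f' ≫ ν = f) (h : IsNormOn f ν f' (𝟙 G)) :
    AlgSp.IsRelNormalization f ν f' :=
  h (𝟙 F) f (𝟙 X') ν f' IsPullback.of_id_fst IsPullback.of_id_fst w (by simp)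

/-- Normalizations are detected on an etale covering by affine schemes. -/
theorem relNorm_of_cover (hG : AlgSp.IsAlgSpace G) (hX' : AlgSp.IsAlgSpace X') (w : f' ≫ ν = f)
    (hν : AlgSp.IsIntegralMor ν) {ι : Type*} {T : ι → Over S} [∀ i, IsAffine (T i).left]
    (b : ∀ i, (AlgSp.yon S).obj (T i) ⟶ G) (hb : ∀ i, AlgSp.RepWith @Etale (b i))
    (hs : ∀ x, ∃ i t, AlgSp.Points.ofPt (b i) t = x)
    (h : ∀ i (A : Over S), IsAffine A.left → ∀ c : A ⟶ T i, Etale c.left →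
      IsNormOn f ν f' ((AlgSp.yon S).map c ≫ b i)) : AlgSp.IsRelNormalization f ν f' := by
  refine ⟨w, hν, fun Z hZ π g hπ hg => ?_⟩
  -- the unique factorization after each base change
  have key : ∀ i (A : Over S), IsAffine A.left → ∀ c : A ⟶ T i, Etale c.left →
      ∃! k : pullback ν ((AlgSp.yon S).map c ≫ b i) ⟶ Z,
        k ≫ π = pullback.fst _ _ ≫ ν ∧
          pullback.map f ((AlgSp.yon S).map c ≫ b i) ν ((AlgSp.yon S).map c ≫ b i) f' (𝟙 _) (𝟙 _)
            (by simp [w]) (by simp) ≫ k = pullback.fst _ _ ≫ g := by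
    intro i A hA c hc
    let β := (AlgSp.yon S).map c ≫ b i
    have hN := h i A hA c hc (pullback.fst f β) (pullback.snd f β) (pullback.fst ν β) (pullback.snd ν β)
      (pullback.map f β ν β f' (𝟙 _) (𝟙 _) (by simp [w]) (by simp)) (IsPullback.of_hasPullback f β)
      (IsPullback.of_hasPullback ν β) (map_snd' _ _ _ _ _ _) (map_fst' _ _ _ _ _ _ _ _)
    have hZA := isAlgSpace_pullback hG hZ (AlgSp.IsAlgSpace.yon_obj A) π β
    obtain ⟨k, ⟨hk1, hk2⟩, huniq⟩ := hN.2.2 hZA (pullback.snd π β)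
      (pullback.lift (pullback.fst f β ≫ g) (pullback.snd f β) (by rw [Category.assoc, hg, pullback.condition]))
      (isIntegralMor_baseChange (IsPullback.of_hasPullback π β) hπ) (pullback.lift_snd _ _ _)
    refine ⟨k ≫ pullback.fst π β, ⟨?_, ?_⟩, fun k' ⟨hk'1, hk'2⟩ => ?_⟩
    · rw [Category.assoc, pullback.condition, reassoc_of% hk2, pullback.condition]
    · rw [← Category.assoc, hk1, pullback.lift_fst]
    · have := huniq (pullback.lift k' (pullback.snd ν β) (by rw [hk'1, pullback.condition])) ⟨?_, pullback.lift_snd _ _ _⟩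
      · rw [← this, pullback.lift_fst]
      · apply pullback.hom_ext
        · rw [Category.assoc, pullback.lift_fst, pullback.lift_fst]; exact hk'2
        · rw [Category.assoc, pullback.lift_snd]; erw [pullback.lift_snd, pullback.lift_snd]; exact Category.comp_id _
  choose W wi fi sWi hWa _ using fun i => hν (inferInstance : IsAffine (T i).left) (b i)
  let p : ∀ i, (AlgSp.yon S).obj (W i) ⟶ X' := fi
  have hp : ∀ i, AlgSp.RepWith @Etale (p i) := fun i => MorphismProperty.of_isPullback (sWi i).flip (hb i)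
  have hps : ∀ x, ∃ i t, AlgSp.Points.ofPt (p i) t = x := fun x => by
    obtain ⟨i, t, ht⟩ := hs (AlgSp.Points.map ν x)
    obtain ⟨z, hz, -⟩ := AlgSpB.exists_of_isPullback (sWi i) x (AlgSp.Points.ofScheme (T i) t)
      (by rw [← ht, AlgSp.Points.ofPt_eq_map_ofScheme])
    obtain ⟨z, rfl⟩ := (AlgSp.Points.schemeHomeo (W i)).surjective z
    exact ⟨i, z, (AlgSp.Points.ofPt_eq_map_ofScheme _ z).trans hz⟩
  -- the maps on the pieces
  have hk : ∀ i, ∃ m : (AlgSp.yon S).obj (W i) ⟶ Z, m ≫ π = p i ≫ ν ∧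
      ∀ (P : AlgSp.Sp S) (u : P ⟶ F) (v : P ⟶ (AlgSp.yon S).obj (T i)) (huv : u ≫ f = v ≫ b i),
        (sWi i).lift (u ≫ f') v (by rw [Category.assoc, w, huv]) ≫ m = u ≫ g := by
    intro i
    obtain ⟨k, ⟨hk1, hk2⟩, -⟩ := key i (T i) inferInstance (𝟙 _) (inferInstanceAs (Etale (𝟙 (T i).left)))
    have e0 : (AlgSp.yon S).map (𝟙 (T i)) ≫ b i = b i := by simp
    refine ⟨pullback.lift (fi i) ((AlgSp.yon S).map (wi i)) (by rw [e0]; exact (sWi i).w) ≫ k, ?_,
      fun P u v huv => ?_⟩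
    · rw [Category.assoc, hk1, pullback.lift_fst_assoc]
    · have e1 : (sWi i).lift (u ≫ f') v (by rw [Category.assoc, w, huv]) ≫
          pullback.lift (fi i) ((AlgSp.yon S).map (wi i)) (by rw [e0]; exact (sWi i).w) =
          pullback.lift u v (by rw [e0]; exact huv) ≫ pullback.map f ((AlgSp.yon S).map (𝟙 (T i)) ≫ b i) ν
            ((AlgSp.yon S).map (𝟙 (T i)) ≫ b i) f' (𝟙 _) (𝟙 _) (by simp [w]) (by simp) := by
        apply pullback.hom_ext
        · refine (Category.assoc _ _ _).trans ((congrArg _ (pullback.lift_fst _ _ _)).trans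
            (((sWi i).lift_fst _ _ _).trans ?_))
          exact ((Category.assoc _ _ _).trans ((congrArg _ (map_fst' _ _ _ _ _ _ _ _)).trans
            (pullback.lift_fst_assoc _ _ _ _))).symm
        · refine (Category.assoc _ _ _).trans ((congrArg _ (pullback.lift_snd _ _ _)).trans
            (((sWi i).lift_snd _ _ _).trans ?_))
          exact ((Category.assoc _ _ _).trans ((congrArg _ (map_snd' _ _ _ _ _ _)).trans
            (pullback.lift_snd _ _ _))).symm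
      rw [← Category.assoc, e1, Category.assoc, hk2, pullback.lift_fst_assoc]
  choose m hm1 hm2 using hk
  -- they agree on overlaps
  have hagree : ∀ i k (Z₀ : Over S) (α : (AlgSp.yon S).obj Z₀ ⟶ (AlgSp.yon S).obj (W i))
      (β : (AlgSp.yon S).obj Z₀ ⟶ (AlgSp.yon S).obj (W k)), α ≫ p i = β ≫ p k → α ≫ m i = β ≫ m k := by
    intro i k Z₀ α β he
    obtain ⟨R, t, q, sR⟩ := AlgSpB.exists_pullback_yon (hb i).1 (b k)
    obtain ⟨l, hl⟩ := (AlgSp.yon S).map_surjective (sR.lift (α ≫ (AlgSp.yon S).map (wi i))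
      (β ≫ (AlgSp.yon S).map (wi k))
      (by rw [Category.assoc, ← (sWi i).w, Category.assoc, ← (sWi k).w, reassoc_of% he]))
    have hl1 : (AlgSp.yon S).map l ≫ (AlgSp.yon S).map t = α ≫ (AlgSp.yon S).map (wi i) := by
      rw [hl, sR.lift_fst]
    have hl2 : (AlgSp.yon S).map l ≫ (AlgSp.yon S).map q = β ≫ (AlgSp.yon S).map (wi k) := by
      rw [hl, sR.lift_snd]
    choose O hO hxO _ using fun x : ↥R.left => exists_isAffineOpen_mem_and_subset (x := x) (U := (⊤ : R.left.Opens)) trivial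
    let Zx : ↥R.left → Over S := fun x => Over.mk ((l.left ⁻¹ᵁ O x).ι ≫ Z₀.hom)
    let jx : ∀ x, Zx x ⟶ Z₀ := fun x => Over.homMk (l.left ⁻¹ᵁ O x).ι rfl
    refine hom_ext_fam (p := fun x => (AlgSp.yon S).map (jx x))
      (fun x => (AlgSp.repWith_yon_map_iff _ _).2 (inferInstanceAs (Etale (l.left ⁻¹ᵁ O x).ι))) (fun z => ?_) fun x => ?_
    · obtain ⟨z, rfl⟩ := (AlgSp.Points.schemeHomeo Z₀).surjective z
      exact ⟨l.left z, (⟨z, hxO _⟩ : ↥(l.left ⁻¹ᵁ O (l.left z)).toScheme),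
        (AlgSp.Points.ofPt_eq_map_ofScheme _ _).trans (AlgSp.Points.map_yon_map_apply (jx (l.left z)) _)⟩
    let A : Over S := Over.mk ((O x).ι ≫ R.hom)
    let jA : A ⟶ R := Over.homMk (O x).ι rfl
    let lA : Zx x ⟶ A := Over.homMk (l.left ∣_ O x) (by
      change (l.left ∣_ O x) ≫ (O x).ι ≫ R.hom = (l.left ⁻¹ᵁ O x).ι ≫ Z₀.hom
      rw [← Category.assoc, morphismRestrict_ι, Category.assoc, Over.w l])
    have hlA : jx x ≫ l = lA ≫ jA := Over.OverMorphism.ext (morphismRestrict_ι l.left (O x)).symm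
    have htE : Etale t.left := (hb k).2 _ _ _ sR.flip
    have hcE : Etale (jA ≫ t).left := by
      change Etale ((O x).ι ≫ t.left); infer_instance
    obtain ⟨k0, -, huniq⟩ := key i A (hO x) (jA ≫ t) hcE
    have hvw : (AlgSp.yon S).map (jA ≫ t) ≫ b i = (AlgSp.yon S).map (jA ≫ q) ≫ b k := by
      rw [Functor.map_comp, Functor.map_comp, Category.assoc, Category.assoc, sR.w]
    let βi := (AlgSp.yon S).map (jA ≫ t) ≫ b i
    let ri : pullback ν βi ⟶ (AlgSp.yon S).obj (W i) := (sWi i).lift (pullback.fst ν βi)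
      (pullback.snd ν βi ≫ (AlgSp.yon S).map (jA ≫ t)) (by rw [Category.assoc]; exact pullback.condition)
    let rk : pullback ν βi ⟶ (AlgSp.yon S).obj (W k) := (sWi k).lift (pullback.fst ν βi)
      (pullback.snd ν βi ≫ (AlgSp.yon S).map (jA ≫ q))
      (by rw [Category.assoc, ← hvw]; exact pullback.condition)
    have hrm : ri ≫ m i = rk ≫ m k := by
      refine (huniq (ri ≫ m i) ⟨?_, ?_⟩).trans (huniq (rk ≫ m k) ⟨?_, ?_⟩).symm
      · rw [Category.assoc, hm1, ← Category.assoc, (sWi i).lift_fst]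
      · rw [← Category.assoc]
        have hh : (pullback.fst f βi) ≫ f = (pullback.snd f βi ≫ (AlgSp.yon S).map (jA ≫ t)) ≫ b i := by
          rw [Category.assoc]; exact pullback.condition
        refine (congrArg (· ≫ m i) ?_).trans (hm2 i _ _ _ hh)
        apply (sWi i).hom_ext
        · rw [Category.assoc, (sWi i).lift_fst, (sWi i).lift_fst]; exact map_fst' _ _ _ _ _ _ _ _
        · rw [Category.assoc, (sWi i).lift_snd, (sWi i).lift_snd]; exact map_snd'_assoc _ _ _ _ _ _ _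
      · rw [Category.assoc, hm1, ← Category.assoc, (sWi k).lift_fst]
      · rw [← Category.assoc]
        have hh : (pullback.fst f βi) ≫ f = (pullback.snd f βi ≫ (AlgSp.yon S).map (jA ≫ q)) ≫ b k := by
          rw [Category.assoc, ← hvw]; exact pullback.condition
        refine (congrArg (· ≫ m k) ?_).trans (hm2 k _ _ _ hh)
        apply (sWi k).hom_ext
        · rw [Category.assoc, (sWi k).lift_fst, (sWi k).lift_fst]; exact map_fst' _ _ _ _ _ _ _ _
        · rw [Category.assoc, (sWi k).lift_snd, (sWi k).lift_snd]; exact map_snd'_assoc _ _ _ _ _ _ _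
    have hlt : ((AlgSp.yon S).map lA ≫ (AlgSp.yon S).map (jA ≫ t)) =
        (AlgSp.yon S).map (jx x) ≫ α ≫ (AlgSp.yon S).map (wi i) := by
      rw [← Functor.map_comp, ← Category.assoc lA, ← hlA, Category.assoc, Functor.map_comp, Functor.map_comp, hl1]
    have hlq : ((AlgSp.yon S).map lA ≫ (AlgSp.yon S).map (jA ≫ q)) =
        (AlgSp.yon S).map (jx x) ≫ β ≫ (AlgSp.yon S).map (wi k) := by
      rw [← Functor.map_comp, ← Category.assoc lA, ← hlA, Category.assoc, Functor.map_comp, Functor.map_comp, hl2]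
    let z : (AlgSp.yon S).obj (Zx x) ⟶ pullback ν βi := pullback.lift ((AlgSp.yon S).map (jx x) ≫ α ≫ p i)
      ((AlgSp.yon S).map lA) (by
        simp only [βi, p, Category.assoc, (sWi i).w]
        rw [← Category.assoc ((AlgSp.yon S).map lA), hlt, Category.assoc, Category.assoc])
    have hzi : z ≫ ri = (AlgSp.yon S).map (jx x) ≫ α := by
      apply (sWi i).hom_ext
      · simp only [ri, z, Category.assoc, (sWi i).lift_fst, pullback.lift_fst]; rfl
      · simp only [ri, z, Category.assoc, (sWi i).lift_snd, pullback.lift_snd_assoc, hlt]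
    have hzk : z ≫ rk = (AlgSp.yon S).map (jx x) ≫ β := by
      apply (sWi k).hom_ext
      · simp only [rk, z, Category.assoc, (sWi k).lift_fst, pullback.lift_fst]; rw [he]
      · simp only [rk, z, Category.assoc, (sWi k).lift_snd, pullback.lift_snd_assoc, hlq]
    rw [← Category.assoc, ← hzi, Category.assoc, hrm, ← Category.assoc, hzk, Category.assoc]
  obtain ⟨l, hl⟩ := exists_desc_fam hp hps m hagree
  refine ⟨l, ⟨?_, hom_ext_fam hp hps fun i => by rw [← Category.assoc, hl, hm1]⟩, fun l' ⟨hl'1, hl'2⟩ => ?_⟩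
  · -- compatibility with the source
    refine AlgSp.hom_ext_yon fun U s => ?_
    obtain ⟨O, hO⟩ : ∃ O : ι → Over S, ∀ i, ∃ (e : O i ⟶ U) (v : O i ⟶ T i),
        IsPullback ((AlgSp.yon S).map v) ((AlgSp.yon S).map e) (b i) (s ≫ f) :=
      ⟨fun i => (AlgSpB.exists_pullback_yon (hb i).1 (s ≫ f)).choose, fun i =>
        ⟨(AlgSpB.exists_pullback_yon (hb i).1 (s ≫ f)).choose_spec.choose_spec.choose,
          (AlgSpB.exists_pullback_yon (hb i).1 (s ≫ f)).choose_spec.choose,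
          (AlgSpB.exists_pullback_yon (hb i).1 (s ≫ f)).choose_spec.choose_spec.choose_spec⟩⟩
    choose e v sO using hO
    refine hom_ext_fam (p := fun i => (AlgSp.yon S).map (e i)) (fun i => MorphismProperty.of_isPullback (sO i) (hb i))
      (fun z => ?_) fun i => ?_
    · obtain ⟨i, t, ht⟩ := hs (AlgSp.Points.map (s ≫ f) z)
      obtain ⟨o, -, ho⟩ := AlgSpB.exists_of_isPullback (sO i) (AlgSp.Points.ofScheme (T i) t) z
        (by rw [← AlgSp.Points.ofPt_eq_map_ofScheme]; exact ht)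
      obtain ⟨o, rfl⟩ := (AlgSp.Points.schemeHomeo (O i)).surjective o
      exact ⟨i, o, (AlgSp.Points.ofPt_eq_map_ofScheme _ o).trans ho⟩
    · have huv : ((AlgSp.yon S).map (e i) ≫ s) ≫ f = (AlgSp.yon S).map (v i) ≫ b i := by
        rw [Category.assoc]; exact (sO i).w.symm
      have := hm2 i _ _ _ huv
      rw [← hl, ← Category.assoc, (sWi i).lift_fst] at this
      simpa only [Category.assoc] using this
  · refine hom_ext_fam hp hps fun i => ?_
    rw [hl]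
    obtain ⟨k0, -, huniq⟩ := key i (T i) inferInstance (𝟙 _) (inferInstanceAs (Etale (𝟙 (T i).left)))
    let β := (AlgSp.yon S).map (𝟙 (T i)) ≫ b i
    let r : (AlgSp.yon S).obj (W i) ⟶ pullback ν β :=
      pullback.lift (fi i) ((AlgSp.yon S).map (wi i)) (by simpa [β] using (sWi i).w)
    let r' : pullback ν β ⟶ (AlgSp.yon S).obj (W i) :=
      (sWi i).lift (pullback.fst ν β) (pullback.snd ν β) (by simpa [β] using (pullback.condition (f := ν) (g := β)))
    have hrr : r ≫ r' = 𝟙 _ := by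
      apply (sWi i).hom_ext
      · rw [Category.assoc, (sWi i).lift_fst, Category.id_comp]; exact pullback.lift_fst _ _ _
      · rw [Category.assoc, (sWi i).lift_snd, Category.id_comp]; exact pullback.lift_snd _ _ _
    have heq : r' ≫ fi i ≫ l' = r' ≫ m i := by
      refine (huniq _ ⟨?_, ?_⟩).trans (huniq _ ⟨?_, ?_⟩).symm
      · rw [Category.assoc, Category.assoc, hl'2, ← Category.assoc, (sWi i).lift_fst]
      · rw [(sWi i).lift_fst_assoc]
        erw [map_fst'_assoc]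
        rw [hl'1]
      · rw [Category.assoc, hm1, ← Category.assoc, (sWi i).lift_fst]
      · have hh : pullback.fst f β ≫ f = pullback.snd f β ≫ b i := by
          simpa [β] using (pullback.condition (f := f) (g := β))
        rw [← Category.assoc]
        refine (congrArg (· ≫ m i) ?_).trans (hm2 i _ _ _ hh)
        apply (sWi i).hom_ext
        · rw [Category.assoc, (sWi i).lift_fst, (sWi i).lift_fst]; exact map_fst' _ _ _ _ _ _ _ _
        · rw [Category.assoc, (sWi i).lift_snd, (sWi i).lift_snd]; exact map_snd' _ _ _ _ _ _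
    simpa [← Category.assoc, hrr] using congrArg (r ≫ ·) heq

/-- A relative normalization which stays one after every smooth base change to an affine scheme. -/
def IsSmoothNorm (f : F ⟶ G) (ν : X' ⟶ G) (f' : F ⟶ X') : Prop :=
  f' ≫ ν = f ∧ AlgSp.IsIntegralMor ν ∧
    ∀ (T : Over S), IsAffine T.left → ∀ b : (AlgSp.yon S).obj T ⟶ G, AlgSp.LocP @Smooth b → IsNormOn f ν f' b

theorem locP_smooth_of_etale {T : Over S} {b : (AlgSp.yon S).obj T ⟶ G} (hb : AlgSp.RepWith @Etale b) :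
    AlgSp.LocP @Smooth b :=
  AlgSpCov.locP_of_repWith AlgSpCov.standard_smooth.etaleLocal
    (repWith_mono (fun g (hg : Etale g) => AlgSpCov.standard_smooth.of_etale g hg) hb)

/-- An etale family of affine charts. -/
theorem exists_affine_family (hG : AlgSp.IsAlgSpace G) : ∃ (ι : Type u) (T : ι → Over S)
    (b : ∀ i, (AlgSp.yon S).obj (T i) ⟶ G), (∀ i, IsAffine (T i).left) ∧ (∀ i, AlgSp.RepWith @Etale (b i)) ∧
      ∀ x, ∃ i t, AlgSp.Points.ofPt (b i) t = x := by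
  obtain ⟨A, a, ha, has⟩ := hG.atlas
  choose O hO hxO _ using fun x : ↥A.left =>
    exists_isAffineOpen_mem_and_subset (x := x) (U := (⊤ : A.left.Opens)) trivial
  let T : ↥A.left → Over S := fun x => Over.mk ((O x).ι ≫ A.hom)
  let j : ∀ x, T x ⟶ A := fun x => Over.homMk (O x).ι rfl
  have : ∀ x, IsOpenImmersion (j x).left := fun x => inferInstanceAs (IsOpenImmersion (O x).ι)
  refine ⟨↥A.left, T, fun x => (AlgSp.yon S).map (j x) ≫ a, hO,
    fun x => AlgSpB.repWith_etale_map_comp (j x) ha, fun z => ?_⟩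
  obtain ⟨w, rfl⟩ := AlgSpB.surjective_ofPt has z
  exact ⟨w, (⟨w, hxO w⟩ : ↥(O w).toScheme), AlgSpB.ofPt_map_comp (j w) a _⟩

/-- A smooth normalization is a normalization. -/
theorem IsSmoothNorm.relNorm (h : IsSmoothNorm f ν f') (hG : AlgSp.IsAlgSpace G) (hX' : AlgSp.IsAlgSpace X') :
    AlgSp.IsRelNormalization f ν f' := by
  obtain ⟨ι, T, b, hT, hb, hs⟩ := exists_affine_family hG
  exact relNorm_of_cover hG hX' h.1 h.2.1 b hb hs fun i A hA c hc =>
    h.2.2 A hA _ (locP_smooth_of_etale (AlgSpB.repWith_etale_map_comp c (hb i)))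

/-- Smooth normalizations are stable under smooth base change. -/
theorem IsSmoothNorm.baseChange (h : IsSmoothNorm f ν f') (hG : AlgSp.IsAlgSpace G) {T : AlgSp.Sp S}
    (hT : AlgSp.IsAlgSpace T) {b : T ⟶ G} (hb : AlgSp.LocP @Smooth b) {F₁ X₁ : AlgSp.Sp S} {a : F₁ ⟶ F}
    {f₁ : F₁ ⟶ T} {c : X₁ ⟶ X'} {ν₁ : X₁ ⟶ T} {f₁' : F₁ ⟶ X₁} (sF : IsPullback a f₁ f b)
    (sX : IsPullback c ν₁ ν b) (w₁ : f₁' ≫ ν₁ = f₁) (w₂ : f₁' ≫ c = a ≫ f') :
    IsSmoothNorm f₁ ν₁ f₁' :=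
  ⟨w₁, isIntegralMor_baseChange sX h.2.1, fun A hA d hd => (isNormOn_comp_iff b d sF sX w₁ w₂).2
    (h.2.2 A hA _ (have := AlgSpCov.standard_smooth.{u}.comp
      AlgSpCov.locP_comp AlgSpCov.standard_smooth.etaleLocal hT hG hd hb))⟩

/-- Smoothness of a normalization is local on the base. -/
theorem isSmoothNorm_of_cover (hG : AlgSp.IsAlgSpace G) (hX' : AlgSp.IsAlgSpace X') (w : f' ≫ ν = f)
    (hν : AlgSp.IsIntegralMor ν) {ι : Type*} {T : ι → Over S} (b : ∀ i, (AlgSp.yon S).obj (T i) ⟶ G)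
    (hb : ∀ i, AlgSp.RepWith @Etale (b i)) (hs : ∀ x, ∃ i t, AlgSp.Points.ofPt (b i) t = x)
    (h : ∀ i, ∀ (A : Over S), IsAffine A.left → ∀ c : A ⟶ T i, Smooth c.left →
      IsNormOn f ν f' ((AlgSp.yon S).map c ≫ b i)) : IsSmoothNorm f ν f' := by
  refine ⟨w, hν, fun A hA d hd => ?_⟩
  have sF := IsPullback.of_hasPullback f d
  have sX := IsPullback.of_hasPullback ν d
  let m := pullback.map f d ν d f' (𝟙 _) (𝟙 _) (by simp [w]) (by simp)
  have m1 : m ≫ pullback.snd ν d = pullback.snd f d := map_snd' _ _ _ _ _ _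
  have m2 : m ≫ pullback.fst ν d = pullback.fst f d ≫ f' := map_fst' _ _ _ _ _ _ _ _
  refine isNormOn_of_one sF sX m1 m2 ?_
  choose R q r sR using fun i => AlgSpB.exists_pullback_yon (hb i).1 d
  choose O hO hxO _ using fun (i : ι) (x : ↥(R i).left) =>
    exists_isAffineOpen_mem_and_subset (x := x) (U := (⊤ : (R i).left.Opens)) trivial
  let K : (Σ i, ↥(R i).left) → Over S := fun p => Over.mk ((O p.1 p.2).ι ≫ (R p.1).hom)
  let j : ∀ p, K p ⟶ R p.1 := fun p => Over.homMk (O p.1 p.2).ι rfl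
  have hr : ∀ i, Etale (r i).left := fun i => (hb i).2 _ _ _ (sR i)
  have hje : ∀ p, Etale (j p ≫ r p.1).left := fun p => by
    have := hr p.1
    change Etale ((O p.1 p.2).ι ≫ (r p.1).left); infer_instance
  have : ∀ p, IsAffine (K p).left := fun p => hO p.1 p.2
  refine relNorm_of_cover (AlgSp.IsAlgSpace.yon_obj A) (isAlgSpace_pullback hG hX' (AlgSp.IsAlgSpace.yon_obj A) ν d)
    m1 (isIntegralMor_baseChange sX hν) (T := K) (fun p => (AlgSp.yon S).map (j p ≫ r p.1))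
    (fun p => (AlgSp.repWith_yon_map_iff _ _).2 (hje p)) (fun x => ?_) fun p B hB c hc => ?_
  · obtain ⟨x, rfl⟩ := (AlgSp.Points.schemeHomeo A).surjective x
    obtain ⟨i, t, ht⟩ := hs (AlgSp.Points.ofPt d x)
    obtain ⟨o, -, ho⟩ := (AlgSpB.ofPt_eq_ofPt_iff (sR i) t x).1 ht
    exact ⟨⟨i, o⟩, (⟨o, hxO i o⟩ : ↥(O i o).toScheme), (AlgSp.Points.ofPt_eq_map_ofScheme _ _).trans
      ((AlgSp.Points.map_yon_map_apply (j ⟨i, o⟩ ≫ r i) _).trans (congrArg (AlgSp.Points.ofScheme A) ho))⟩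
  · refine (isNormOn_comp_iff d _ sF sX m1 m2).2 ?_
    have e : (AlgSp.yon S).map c ≫ (AlgSp.yon S).map (j p ≫ r p.1) = (AlgSp.yon S).map (c ≫ j p ≫ r p.1) :=
      ((AlgSp.yon S).map_comp _ _).symm
    have hsm : Smooth (c ≫ j p ≫ q p.1).left := by
      obtain ⟨Q, s, t, sQ⟩ := AlgSpB.exists_pullback_yon (hb p.1).1 d
      have hq : Smooth (q p.1).left :=
        AlgSp.locP_yon_map (AlgSpCov.locP_baseChange AlgSpCov.standard_smooth.etaleLocal
          (AlgSp.IsAlgSpace.yon_obj A) hG (sR p.1).flip hd)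
      change Smooth (c.left ≫ (O p.1 p.2).ι ≫ (q p.1).left)
      infer_instance
    have e2 : (AlgSp.yon S).map (c ≫ j p ≫ r p.1) ≫ d = (AlgSp.yon S).map (c ≫ j p ≫ q p.1) ≫ b p.1 := by
      simp only [Functor.map_comp, Category.assoc, (sR p.1).w]
    rw [e, e2]
    exact h p.1 B hB _ hsm

end

end Groth.Agent.AlgSp
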