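import Groth.Agent.AlgSp.NormAffine
import Groth.Agent.AlgSp.CoprodCover

/-!
# Normalizations over disjoint unions of affine schemes
-/

universe u

open CategoryTheory CategoryTheory.Limits AlgebraicGeometry Opposite

set_option backward.isDefEq.respectTransparency.types false

namespace Groth.Agent.AlgSp

open ElemDist

variable {S : Scheme.{u}}

theorem isQuasiSeparatedMor_baseChange' {X Y X' Y' : AlgSp.Sp S} {f : X ⟶ Y} {g : Y' ⟶ Y} {fst : X' ⟶ X}
    {f' : X' ⟶ Y'} (sq : IsPullback fst f' f g) (hf : AlgSp.IsQuasiSeparatedMor f) :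
    AlgSp.IsQuasiSeparatedMor f' :=
  MorphismProperty.of_isPullback (P := (AlgSp.RepWith @QuasiCompact).diagonal) sq hf

theorem locP_smooth_yon_map {U V : Over S} (c : U ⟶ V) (hc : Smooth c.left) :
    AlgSp.LocP @Smooth ((AlgSp.yon S).map c) :=
  AlgSpCov.locP_of_repWith AlgSpCov.standard_smooth.etaleLocal ((AlgSp.repWith_yon_map_iff _ _).2 hc)

/-- A map into a disjoint union lifts to at most one summand. -/
theorem eq_or_isEmpty_of_sigma {ι : Type u} (X : ι → Scheme.{u}) {Z : Scheme.{u}} {i k : ι} (a : Z ⟶ X i)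
    (b : Z ⟶ X k) (w : a ≫ Sigma.ι X i = b ≫ Sigma.ι X k) : i = k ∨ IsEmpty Z := by
  by_cases h : i = k
  · exact Or.inl h
  · exact Or.inr (isEmpty_of_commSq_sigmaι_of_ne ⟨w⟩ h)

/-- Normalizations exist over disjoint unions of affine schemes. -/
theorem exists_isSmoothNorm_sigma {ι : Type u} (K : ι → CommRingCat.{u}) (h : ∀ i, Spec (K i) ⟶ S)
    {Y : AlgSp.Sp S} (g : Y ⟶ (AlgSp.yon S).obj (Over.mk (Sigma.desc h))) (hY : AlgSp.IsAlgSpace Y)
    (hqc : AlgSp.IsQuasiCompactMor g) (hqs : AlgSp.IsQuasiSeparatedMor g) :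
    ∃ (N : Over S) (ν : N ⟶ Over.mk (Sigma.desc h)) (f' : Y ⟶ (AlgSp.yon S).obj N),
      IsSmoothNorm g ((AlgSp.yon S).map ν) f' := by
  let V : Over S := Over.mk (Sigma.desc h)
  let e : ∀ i, Over.mk (h i) ⟶ V := fun i => Over.homMk (Sigma.ι (fun i => Spec (K i)) i) (Sigma.ι_desc _ _)
  have heo : ∀ i, IsOpenImmersion (e i).left := fun i => (sigmaOpenCover (fun i => Spec (K i))).map_prop i
  have hee : ∀ i, Etale (e i).left := fun i => have := heo i; inferInstance
  have hre : ∀ i, AlgSp.RepWith @Etale ((AlgSp.yon S).map (e i)) := fun i =>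
    (AlgSp.repWith_yon_map_iff _ _).2 (hee i)
  have sY : ∀ i, IsPullback (pullback.fst g ((AlgSp.yon S).map (e i))) (pullback.snd g ((AlgSp.yon S).map (e i))) g
      ((AlgSp.yon S).map (e i)) := fun i => IsPullback.of_hasPullback _ _
  have hYi : ∀ i, AlgSp.IsAlgSpace (pullback g ((AlgSp.yon S).map (e i))) := fun i =>
    isAlgSpace_pullback (AlgSp.IsAlgSpace.yon_obj V) hY (AlgSp.IsAlgSpace.yon_obj _) _ _
  choose C hC f' hf' using fun i => exists_isSmoothNorm_affine (K := ↥(K i)) (h := h i) (hYi i)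
    (isQuasiCompactMor_baseChange (sY i) hqc) (isQuasiSeparatedMor_baseChange' (sY i) hqs)
  let Ni : ι → Over S := fun i => letI := hC i; specOver (h i) (C i)
  let si : ∀ i, Ni i ⟶ Over.mk (h i) := fun i => letI := hC i; specStr (h i) (C i)
  have hn : ∀ i, IsSmoothNorm (pullback.snd g ((AlgSp.yon S).map (e i))) ((AlgSp.yon S).map (si i)) (f' i) := hf'
  let X : ι → Scheme.{u} := fun i => (Ni i).left
  let N : Over S := Over.mk (Sigma.desc fun i => (Ni i).hom : (∐ X) ⟶ S)
  let j : ∀ i, Ni i ⟶ N := fun i => Over.homMk (Sigma.ι X i) (Sigma.ι_desc _ _)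
  let ν : N ⟶ V := Over.homMk (Sigma.desc fun i => (si i).left ≫ (e i).left) (by
    apply Sigma.hom_ext; intro i
    change Sigma.ι X i ≫ Sigma.desc (fun i => (si i).left ≫ (e i).left) ≫ V.hom =
      Sigma.ι X i ≫ Sigma.desc fun i => (Ni i).hom
    rw [Sigma.ι_desc_assoc, Sigma.ι_desc, Category.assoc, Over.w (e i), Over.w (si i)])
  have hjν : ∀ i, j i ≫ ν = si i ≫ e i := fun i => Over.OverMorphism.ext (Sigma.ι_desc _ _)
  have hjo : ∀ i, IsOpenImmersion (j i).left := fun i => (sigmaOpenCover X).map_prop i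
  have sN : ∀ i, IsPullback (si i).left (j i).left (e i).left ν.left := fun i => by
    have := heo i; have := hjo i
    refine IsOpenImmersion.isPullback _ _ _ _ (congrArg CommaMorphism.left (hjν i)) (le_antisymm (fun z hz => ?_) ?_)
    · obtain ⟨t, ht⟩ := hz
      obtain ⟨k, x, rfl⟩ := (sigmaOpenCover X).exists_eq z
      have e1 : ν.left ((j k).left x) = (e k).left ((si k).left x) := by
        rw [← Scheme.Hom.comp_apply, ← Over.comp_left, hjν]; rfl
      obtain ⟨rfl⟩ := ((sigmaι_eq_iff (fun i => Spec (K i)) i k t ((si k).left x)).1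
        (ht.trans e1) : Sigma.mk (β := fun i => ↥(Spec (K i))) i t = Sigma.mk k ((si k).left x))
      exact ⟨x, rfl⟩
    · rintro _ ⟨x, rfl⟩
      exact ⟨(si i).left x, by rw [← Scheme.Hom.comp_apply, ← Scheme.Hom.comp_apply, ← Over.comp_left,
        ← Over.comp_left, hjν]⟩
  have sN' : ∀ i, IsPullback (j i) (si i) ν (e i) := fun i =>
    IsPullback.of_map (Over.forget S) (hjν i) (sN i).flip
  choose A a hae has using fun i => (hYi i).atlas
  let p : ∀ i, (AlgSp.yon S).obj (A i) ⟶ Y := fun i => a i ≫ pullback.fst g ((AlgSp.yon S).map (e i))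
  have hp : ∀ i, AlgSp.RepWith @Etale (p i) := fun i =>
    MorphismProperty.comp_mem _ _ _ (hae i) (MorphismProperty.of_isPullback (sY i).flip (hre i))
  have hps : ∀ y, ∃ i t, AlgSp.Points.ofPt (p i) t = y := fun y => by
    obtain ⟨v, hv⟩ := (AlgSp.Points.schemeHomeo V).surjective (AlgSp.Points.map g y)
    obtain ⟨i, x, hx⟩ := (sigmaOpenCover (fun i => Spec (K i))).exists_eq v
    have hxv : AlgSp.Points.map ((AlgSp.yon S).map (e i)) (AlgSp.Points.ofScheme (Over.mk (h i)) x) =
        AlgSp.Points.map g y :=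
      ((AlgSp.Points.map_yon_map_apply (e i) x).trans (congrArg (AlgSp.Points.ofScheme V) hx)).trans hv
    obtain ⟨z, hz, -⟩ := AlgSpB.exists_of_isPullback (sY i) y (AlgSp.Points.ofScheme _ x) hxv.symm
    obtain ⟨t, rfl⟩ := AlgSpB.surjective_ofPt (has i) z
    exact ⟨i, t, by rw [← hz, AlgSp.Points.ofPt_eq_map_ofScheme, AlgSp.Points.ofPt_eq_map_ofScheme,
      AlgSp.Points.map_comp]⟩
  obtain ⟨F, hF⟩ := exists_desc_fam hp hps (fun i => a i ≫ f' i ≫ (AlgSp.yon S).map (j i))
    fun i k Z α β hαβ => by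
      obtain ⟨c, hc⟩ := (AlgSp.yon S).map_surjective (α ≫ a i ≫ pullback.snd g ((AlgSp.yon S).map (e i)))
      obtain ⟨d, hd⟩ := (AlgSp.yon S).map_surjective (β ≫ a k ≫ pullback.snd g ((AlgSp.yon S).map (e k)))
      have hcd : c ≫ e i = d ≫ e k := (AlgSp.yon S).map_injective (by
        rw [Functor.map_comp, Functor.map_comp, hc, hd]
        simp only [Category.assoc, ← (sY _).w]
        simp only [← Category.assoc] at hαβ ⊢
        exact congrArg (· ≫ g) (by simpa only [p, Category.assoc] using hαβ))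
      rcases eq_or_isEmpty_of_sigma (fun i => Spec (K i)) c.left d.left (congrArg CommaMorphism.left hcd) with
        rfl | hZ
      · have : α ≫ a i = β ≫ a i := by
          have : Mono (e i) := (Over.forget S).mono_of_mono_map (have := heo i; inferInstanceAs (Mono (e i).left))
          apply (sY i).hom_ext
          · simpa only [p, Category.assoc] using hαβ
          · rw [Category.assoc, Category.assoc, ← hc, ← hd, (cancel_mono (e i)).1 hcd]
        simp only [← Category.assoc, this]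
      · exact InfGlue.hom_ext_cover (ι := PEmpty.{u + 1}) (U := fun x => x.elim) (fun x => x.elim)
          (fun x => x.elim) (fun t => hZ.elim t) _ _ (fun x => x.elim)
  have w : F ≫ (AlgSp.yon S).map ν = g := hom_ext_fam hp hps fun i => by
    rw [reassoc_of% hF i, ← Functor.map_comp, hjν, Functor.map_comp, reassoc_of% (hn i).1, ← (sY i).w]
    exact (Category.assoc _ _ _).symm
  have hν : AlgSp.IsIntegralMor ((AlgSp.yon S).map ν) := by
    rw [AlgSpD.isIntegralMor_iff, AlgSp.repWith_yon_map_iff]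
    refine (IsZariskiLocalAtTarget.iff_of_openCover (P := @IsIntegralHom) (sigmaOpenCover fun i => Spec (K i))).2
      fun i => ?_
    change IsIntegralHom (pullback.snd ν.left (e i).left)
    rw [← (sN i).flip.isoPullback_inv_snd]
    refine (MorphismProperty.cancel_left_of_respectsIso @IsIntegralHom _ _).2 ?_
    have := (hn i).2.1
    rw [AlgSpD.isIntegralMor_iff, AlgSp.repWith_yon_map_iff] at this
    exact this
  refine ⟨N, ν, F, isSmoothNorm_of_cover (AlgSp.IsAlgSpace.yon_obj V) (AlgSp.IsAlgSpace.yon_obj N) w hν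
    (fun i => (AlgSp.yon S).map (e i)) hre (fun v => ?_) fun i B hB c hc => ?_⟩
  · obtain ⟨v, rfl⟩ := (AlgSp.Points.schemeHomeo V).surjective v
    obtain ⟨i, x, hx⟩ := (sigmaOpenCover (fun i => Spec (K i))).exists_eq v
    exact ⟨i, x, (AlgSp.Points.ofPt_eq_map_ofScheme _ _).trans
      ((AlgSp.Points.map_yon_map_apply (e i) x).trans (congrArg (AlgSp.Points.ofScheme V) hx))⟩
  · refine (isNormOn_comp_iff ((AlgSp.yon S).map (e i)) _ (sY i) ((sN' i).map (AlgSp.yon S)) (hn i).1 ?_).1
      ((hn i).2.2 B hB _ (locP_smooth_yon_map c hc))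
    refine hom_ext_fam (p := fun _ : PUnit.{1} => a i) (fun _ => hae i)
      (fun z => ⟨⟨⟩, AlgSpB.surjective_ofPt (has i) z⟩) fun _ => ?_
    exact (hF i).symm.trans (Category.assoc _ _ _)

end Groth.Agent.AlgSp
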