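import Groth.Agent.AlgSp.NormCoprod
import Groth.Agent.AlgSp.Quot
import Groth.Agent.AlgSp.DescentSepLqf
import Groth.Agent.AlgSp.DescentGlue

/-!
# Existence of relative normalizations compatible with smooth base change
-/

universe u

open CategoryTheory CategoryTheory.Limits AlgebraicGeometry Opposite

set_option backward.isDefEq.respectTransparency.types false

namespace Groth.Agent.AlgSp

open ElemDist

variable {S : Scheme.{u}}

/-- Two maps out of a normalization into a space integral over another base agree if they agree on the source. -/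
theorem relNorm_hom_ext_base {F G X' H Z : AlgSp.Sp S} {f : F ⟶ G} {ν : X' ⟶ G} {f' : F ⟶ X'}
    (h : AlgSp.IsRelNormalization f ν f') (hG : AlgSp.IsAlgSpace G) (hH : AlgSp.IsAlgSpace H)
    (hZ : AlgSp.IsAlgSpace Z) {π : Z ⟶ H} (hπ : AlgSp.IsIntegralMor π) (r : G ⟶ H) {a b : X' ⟶ Z}
    (ea : a ≫ π = ν ≫ r) (eb : b ≫ π = ν ≫ r) (e : f' ≫ a = f' ≫ b) : a = b := by
  have sq := IsPullback.of_hasPullback π r
  have := relNorm_hom_ext h (isAlgSpace_pullback hH hZ hG π r) (isIntegralMor_baseChange sq hπ)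
    (h₁ := sq.lift a ν ea) (h₂ := sq.lift b ν eb) (sq.lift_snd _ _ _) (sq.lift_snd _ _ _)
    (sq.hom_ext (by simp only [Category.assoc, sq.lift_fst, e]) (by simp only [Category.assoc, sq.lift_snd]))
  rw [← sq.lift_fst a ν ea, this, sq.lift_fst]

/-- A disjoint union of affine schemes covering an algebraic space. -/
theorem exists_sigma_atlas {G : AlgSp.Sp S} (hG : AlgSp.IsAlgSpace G) :
    ∃ (ι : Type u) (K : ι → CommRingCat.{u}) (h : ∀ i, Spec (K i) ⟶ S)
      (b : (AlgSp.yon S).obj (Over.mk (Sigma.desc h)) ⟶ G),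
      AlgSp.RepWith @Etale b ∧ AlgSp.RepWith @Surjective b := by
  obtain ⟨A, a, ha, has⟩ := hG.atlas
  let 𝒰 := A.left.affineOpenCover
  let m : Over.mk (Sigma.desc fun i => 𝒰.f i ≫ A.hom) ⟶ A := Over.homMk (Sigma.desc 𝒰.f) (by
    apply Sigma.hom_ext; intro i
    change Sigma.ι (fun i => Spec (𝒰.X i)) i ≫ Sigma.desc 𝒰.f ≫ A.hom =
      Sigma.ι (fun i => Spec (𝒰.X i)) i ≫ Sigma.desc fun i => 𝒰.f i ≫ A.hom
    rw [Sigma.ι_desc_assoc, Sigma.ι_desc])
  have he : Etale m.left := IsZariskiLocalAtSource.sigmaDesc fun i => by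
    have : IsOpenImmersion (𝒰.f i) := 𝒰.map_prop i
    infer_instance
  have hs : Surjective m.left := ⟨fun x => by
    obtain ⟨i, y, hy⟩ := 𝒰.openCover.exists_eq x
    exact ⟨Sigma.ι (fun i => Spec (𝒰.X i)) i y, (congrArg (fun φ : Spec (𝒰.X i) ⟶ A.left => φ y)
      (Sigma.ι_desc (f := fun i => Spec (𝒰.X i)) 𝒰.f i)).trans hy⟩⟩
  exact ⟨_, _, fun i => 𝒰.f i ≫ A.hom, (AlgSp.yon S).map m ≫ a, AlgSpB.repWith_etale_map_comp m ha,
    MorphismProperty.comp_mem _ _ _ ((AlgSp.repWith_yon_map_iff _ _).2 hs) has⟩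

set_option maxHeartbeats 2000000 in
/-- Relative normalizations exist and commute with smooth base change. -/
theorem exists_isSmoothNorm {F₀ G : AlgSp.Sp S} (hF : AlgSp.IsAlgSpace F₀) (hG : AlgSp.IsAlgSpace G)
    (f : F₀ ⟶ G) (hqc : AlgSp.IsQuasiCompactMor f) (hqs : AlgSp.IsQuasiSeparatedMor f) :
    ∃ (X' : AlgSp.Sp S) (νX : X' ⟶ G) (f' : F₀ ⟶ X'), AlgSp.IsAlgSpace X' ∧ IsSmoothNorm f νX f' := by
  obtain ⟨ι, K, h, b, hb, hbs⟩ := exists_sigma_atlas hG
  let V : Over S := Over.mk (Sigma.desc h)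
  change (AlgSp.yon S).obj V ⟶ G at b
  have hVA := AlgSp.IsAlgSpace.yon_obj V
  have sY : IsPullback (pullback.fst f b) (pullback.snd f b) f b := IsPullback.of_hasPullback f b
  have hYV := isAlgSpace_pullback hG hF hVA f b
  obtain ⟨N, ν, f₀, hV⟩ := exists_isSmoothNorm_sigma K h (pullback.snd f b) hYV
    (isQuasiCompactMor_baseChange sY hqc) (isQuasiSeparatedMor_baseChange' sY hqs)
  have hNA := AlgSp.IsAlgSpace.yon_obj N
  have hνi := hV.2.1
  have hVn := hV.relNorm hVA hNA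
  -- the family of points of the normalization coming from the source
  let Φ : ∀ {P : AlgSp.Sp S} (u : P ⟶ F₀) (v : P ⟶ (AlgSp.yon S).obj V), u ≫ f = v ≫ b →
      (P ⟶ (AlgSp.yon S).obj N) := fun u v w => sY.lift u v w ≫ f₀
  have hΦν : ∀ {P : AlgSp.Sp S} (u : P ⟶ F₀) (v : P ⟶ (AlgSp.yon S).obj V) (w : u ≫ f = v ≫ b),
      Φ u v w ≫ (AlgSp.yon S).map ν = v := fun u v w => by
    change (sY.lift u v w ≫ f₀) ≫ _ = v
    rw [Category.assoc, hV.1, sY.lift_snd]
  have hΦc : ∀ {P Q : AlgSp.Sp S} (l : Q ⟶ P) (u : P ⟶ F₀) (v : P ⟶ (AlgSp.yon S).obj V) (w : u ≫ f = v ≫ b)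
      (u' : Q ⟶ F₀) (v' : Q ⟶ (AlgSp.yon S).obj V) (w' : u' ≫ f = v' ≫ b),
      l ≫ u = u' → l ≫ v = v' → l ≫ Φ u v w = Φ u' v' w' := by
    rintro P Q l u v w u' v' w' rfl rfl
    change l ≫ sY.lift u v w ≫ f₀ = sY.lift _ _ _ ≫ f₀
    rw [← Category.assoc]
    congr 1
    exact sY.hom_ext (by rw [Category.assoc, sY.lift_fst, sY.lift_fst])
      (by rw [Category.assoc, sY.lift_snd, sY.lift_snd])
  have hf₀ : ∀ {P : AlgSp.Sp S} (x : P ⟶ pullback f b),
      x ≫ f₀ = Φ (x ≫ pullback.fst f b) (x ≫ pullback.snd f b) (by simp only [Category.assoc, sY.w]) := fun x => by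
    change x ≫ f₀ = sY.lift _ _ _ ≫ f₀
    congr 1
    exact sY.hom_ext (by rw [sY.lift_fst]) (by rw [sY.lift_snd])
  -- base change along etale maps to the atlas
  have bc : ∀ {D : Over S} (d : D ⟶ V) [Etale d.left] {P : AlgSp.Sp S} (u : P ⟶ F₀)
      (v : P ⟶ (AlgSp.yon S).obj D) (sP : IsPullback u v f ((AlgSp.yon S).map d ≫ b))
      (fd : P ⟶ (AlgSp.yon S).obj (pullback ν d)),
      fd ≫ (AlgSp.yon S).map (pullback.snd ν d) = v →
      fd ≫ (AlgSp.yon S).map (pullback.fst ν d) =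
        Φ u (v ≫ (AlgSp.yon S).map d) (by rw [Category.assoc]; exact sP.w) →
      AlgSp.IsRelNormalization v ((AlgSp.yon S).map (pullback.snd ν d)) fd := by
    intro D d hd P u v sP fd w1 w2
    have sa : IsPullback (sY.lift u (v ≫ (AlgSp.yon S).map d) (by rw [Category.assoc]; exact sP.w)) v
        (pullback.snd f b) ((AlgSp.yon S).map d) := by
      refine IsPullback.of_right ?_ (sY.lift_snd _ _ _) sY
      rw [sY.lift_fst]; exact sP
    exact (hV.baseChange hVA (AlgSp.IsAlgSpace.yon_obj D) (locP_smooth_yon_map d inferInstance) sa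
      ((IsPullback.of_hasPullback ν d).map (AlgSp.yon S)) w1 w2).relNorm (AlgSp.IsAlgSpace.yon_obj D)
        (AlgSp.IsAlgSpace.yon_obj _)
  -- the relation on the atlas
  obtain ⟨R, q₁, q₂, sR⟩ := AlgSpB.exists_pullback_yon hb.1 b
  have hq₁ : Etale q₁.left := hb.2 _ _ _ sR.flip
  have hq₂ : Etale q₂.left := hb.2 _ _ _ sR
  let sN₁ := (IsPullback.of_hasPullback ν q₁).map (AlgSp.yon S)
  have hqb : (AlgSp.yon S).map q₁ ≫ b = (AlgSp.yon S).map q₂ ≫ b := sR.w
  let β := (AlgSp.yon S).map q₁ ≫ b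
  have sP₁ : IsPullback (pullback.fst f β) (pullback.snd f β) f β := IsPullback.of_hasPullback f β
  have sP₂ : IsPullback (pullback.fst f β) (pullback.snd f β) f ((AlgSp.yon S).map q₂ ≫ b) := hqb ▸ sP₁
  let f₁ := sN₁.lift (Φ (pullback.fst f β) (pullback.snd f β ≫ (AlgSp.yon S).map q₁)
    (by rw [Category.assoc]; exact sP₁.w)) (pullback.snd f β) (hΦν _ _ _)
  let sN₂ := (IsPullback.of_hasPullback ν q₂).map (AlgSp.yon S)
  let f₂ := sN₂.lift (Φ (pullback.fst f β) (pullback.snd f β ≫ (AlgSp.yon S).map q₂)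
    (by rw [Category.assoc]; exact sP₂.w)) (pullback.snd f β) (hΦν _ _ _)
  have hn₁ := bc q₁ _ _ sP₁ f₁ (sN₁.lift_snd _ _ _) (sN₁.lift_fst _ _ _)
  have hn₂ := bc q₂ _ _ sP₂ f₂ (sN₂.lift_snd _ _ _) (sN₂.lift_fst _ _ _)
  obtain ⟨e, he₁, he₂⟩ := relNorm_iso hn₁ (AlgSp.IsAlgSpace.yon_obj _) (AlgSp.IsAlgSpace.yon_obj _) hn₂
  obtain ⟨τ, hτ⟩ := (AlgSp.yon S).map_surjective (e.hom ≫ (AlgSp.yon S).map (pullback.fst ν q₂))
  let σ := pullback.fst ν q₁
  have hτν : τ ≫ ν = pullback.snd ν q₁ ≫ q₂ := (AlgSp.yon S).map_injective (by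
    rw [Functor.map_comp, Functor.map_comp, hτ, ← he₂, Category.assoc, Category.assoc, sN₂.w])
  have Hτ : ∀ {P : AlgSp.Sp S} (u : P ⟶ F₀) (v : P ⟶ (AlgSp.yon S).obj R)
      (w₁ : u ≫ f = (v ≫ (AlgSp.yon S).map q₁) ≫ b) (w₂ : u ≫ f = (v ≫ (AlgSp.yon S).map q₂) ≫ b),
      sN₁.lift (Φ u _ w₁) v (hΦν _ _ _) ≫ (AlgSp.yon S).map τ = Φ u _ w₂ := by
    intro P u v w₁ w₂
    let l := sP₁.lift u v (by rw [← Category.assoc]; exact w₁)
    have e1 : sN₁.lift (Φ u _ w₁) v (hΦν _ _ _) = l ≫ f₁ := by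
      apply sN₁.hom_ext
      · rw [sN₁.lift_fst, Category.assoc, sN₁.lift_fst]
        exact (hΦc l _ _ _ _ _ _ (sP₁.lift_fst _ _ _) (sP₁.lift_snd_assoc _ _ _ _)).symm
      · rw [sN₁.lift_snd, Category.assoc, sN₁.lift_snd, sP₁.lift_snd]
    rw [e1, hτ, Category.assoc, reassoc_of% he₁, sN₂.lift_fst]
    exact hΦc l _ _ _ _ _ _ (sP₁.lift_fst _ _ _) (sP₁.lift_snd_assoc _ _ _ _)
  -- the identity element
  obtain ⟨Δ, hΔ⟩ := (AlgSp.yon S).map_surjective (sR.lift (𝟙 _) (𝟙 _) rfl)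
  have hΔ₁ : Δ ≫ q₁ = 𝟙 V := (AlgSp.yon S).map_injective (by
    rw [Functor.map_comp, hΔ, sR.lift_fst, CategoryTheory.Functor.map_id])
  have hΔ₂ : Δ ≫ q₂ = 𝟙 V := (AlgSp.yon S).map_injective (by
    rw [Functor.map_comp, hΔ, sR.lift_snd, CategoryTheory.Functor.map_id])
  let δ : N ⟶ pullback ν q₁ := pullback.lift (𝟙 N) (ν ≫ Δ) (by rw [Category.assoc, hΔ₁, Category.comp_id, Category.id_comp])
  have hδ₁ : δ ≫ σ = 𝟙 N := pullback.lift_fst _ _ _
  have hδ₂ : δ ≫ pullback.snd ν q₁ = ν ≫ Δ := pullback.lift_snd _ _ _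
  have hδτ : δ ≫ τ = 𝟙 N := by
    apply (AlgSp.yon S).map_injective
    refine relNorm_hom_ext hVn hNA hνi ?_ ?_ ?_
    · rw [← Functor.map_comp, Category.assoc, hτν, reassoc_of% hδ₂, hΔ₂, Category.comp_id]
    · rw [← Functor.map_comp, Category.id_comp]
    · have e1 : f₀ ≫ (AlgSp.yon S).map δ = sN₁.lift (Φ (pullback.fst f b)
          ((pullback.snd f b ≫ (AlgSp.yon S).map Δ) ≫ (AlgSp.yon S).map q₁)
          (by rw [Category.assoc _ _ ((AlgSp.yon S).map q₁), ← Functor.map_comp, hΔ₁, CategoryTheory.Functor.map_id, Category.comp_id]; exact sY.w))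
          (pullback.snd f b ≫ (AlgSp.yon S).map Δ) (hΦν _ _ _) := by
        apply sN₁.hom_ext
        · rw [sN₁.lift_fst, Category.assoc, ← Functor.map_comp, hδ₁, CategoryTheory.Functor.map_id, Category.comp_id,
            ← Category.id_comp f₀, hf₀]
          congr 1
          rw [Category.id_comp, Category.assoc, ← Functor.map_comp, hΔ₁, CategoryTheory.Functor.map_id, Category.comp_id]
        · rw [sN₁.lift_snd, Category.assoc, ← Functor.map_comp, hδ₂, Functor.map_comp, reassoc_of% hV.1]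
      rw [Functor.map_comp, ← Category.assoc, e1, Hτ _ _ _ (by rw [Category.assoc _ _ ((AlgSp.yon S).map q₂), ← Functor.map_comp, hΔ₂, CategoryTheory.Functor.map_id, Category.comp_id]; exact sY.w)]
      simp only [CategoryTheory.Functor.map_id, Category.comp_id]
      rw [← Category.id_comp f₀, hf₀]
      congr 1
      rw [Category.assoc, ← Functor.map_comp, hΔ₂, CategoryTheory.Functor.map_id, Category.comp_id]
      rw [Category.id_comp]
  -- the inverse
  obtain ⟨sw, hsw⟩ := (AlgSp.yon S).map_surjective (sR.lift ((AlgSp.yon S).map q₂) ((AlgSp.yon S).map q₁) hqb.symm)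
  have hsw₁ : sw ≫ q₁ = q₂ := (AlgSp.yon S).map_injective (by rw [Functor.map_comp, hsw, sR.lift_fst])
  have hsw₂ : sw ≫ q₂ = q₁ := (AlgSp.yon S).map_injective (by rw [Functor.map_comp, hsw, sR.lift_snd])
  let ε : pullback ν q₁ ⟶ pullback ν q₁ := pullback.lift τ (pullback.snd ν q₁ ≫ sw)
    (by rw [hτν, Category.assoc, hsw₁])
  have hε₁ : ε ≫ σ = τ := pullback.lift_fst _ _ _
  have hε₂ : ε ≫ pullback.snd ν q₁ = pullback.snd ν q₁ ≫ sw := pullback.lift_snd _ _ _
  have hετ : ε ≫ τ = σ := by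
    apply (AlgSp.yon S).map_injective
    refine relNorm_hom_ext_base hn₁ (AlgSp.IsAlgSpace.yon_obj R) hVA hNA hνi ((AlgSp.yon S).map q₁) ?_ sN₁.w ?_
    · rw [← Functor.map_comp, ← Functor.map_comp, Category.assoc, hτν, reassoc_of% hε₂, hsw₂]
    · have e1 : f₁ ≫ (AlgSp.yon S).map ε = sN₁.lift (Φ (pullback.fst f β)
          ((pullback.snd f β ≫ (AlgSp.yon S).map sw) ≫ (AlgSp.yon S).map q₁)
          (by rw [Category.assoc _ _ ((AlgSp.yon S).map q₁), ← Functor.map_comp, hsw₁, Category.assoc]; exact sP₂.w))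
          (pullback.snd f β ≫ (AlgSp.yon S).map sw) (hΦν _ _ _) := by
        apply sN₁.hom_ext
        · rw [sN₁.lift_fst, Category.assoc, ← Functor.map_comp, hε₁, hτ, reassoc_of% he₁, sN₂.lift_fst]
          congr 1
          rw [Category.assoc, ← Functor.map_comp, hsw₁]
        · rw [sN₁.lift_snd, Category.assoc, ← Functor.map_comp, hε₂, Functor.map_comp, ← Category.assoc,
            sN₁.lift_snd]
      rw [Functor.map_comp, ← Category.assoc, e1, Hτ _ _ _ (by rw [Category.assoc _ _ ((AlgSp.yon S).map q₂), ← Functor.map_comp, hsw₂, Category.assoc]; exact sP₁.w),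
        sN₁.lift_fst]
      congr 1
      rw [Category.assoc, ← Functor.map_comp, hsw₂]
  -- the composition
  let r₁ := pullback.fst q₂ q₁
  let r₂ := pullback.snd q₂ q₁
  have hr : r₁ ≫ q₂ = r₂ ≫ q₁ := pullback.condition
  obtain ⟨c, hc⟩ := (AlgSp.yon S).map_surjective (sR.lift ((AlgSp.yon S).map (r₁ ≫ q₁))
    ((AlgSp.yon S).map (r₂ ≫ q₂)) (by
      rw [Functor.map_comp, Functor.map_comp, Category.assoc, Category.assoc, hqb, ← hqb]
      conv_lhs => rw [hqb, ← Category.assoc, ← Functor.map_comp, hr, Functor.map_comp, Category.assoc]))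
  have hc₁ : c ≫ q₁ = r₁ ≫ q₁ := (AlgSp.yon S).map_injective (by rw [Functor.map_comp, hc, sR.lift_fst])
  have hc₂ : c ≫ q₂ = r₂ ≫ q₂ := (AlgSp.yon S).map_injective (by rw [Functor.map_comp, hc, sR.lift_snd])
  obtain ⟨d, hdd⟩ : ∃ d, d = r₁ ≫ q₁ := ⟨_, rfl⟩
  have hd : Etale d.left := by
    have : Etale r₁.left :=
      MorphismProperty.of_isPullback ((IsPullback.of_hasPullback q₂ q₁).map (Over.forget S)).flip hq₁
    rw [hdd]
    change Etale (r₁.left ≫ q₁.left); infer_instance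
  let x : pullback ν d ⟶ pullback ν q₁ := pullback.lift (pullback.fst ν d) (pullback.snd ν d ≫ r₁)
    (by rw [Category.assoc, ← hdd]; exact pullback.condition)
  have hxσ : x ≫ σ = pullback.fst ν d := pullback.lift_fst _ _ _
  have hx₂ : x ≫ pullback.snd ν q₁ = pullback.snd ν d ≫ r₁ := pullback.lift_snd _ _ _
  let y : pullback ν d ⟶ pullback ν q₁ := pullback.lift (x ≫ τ) (pullback.snd ν d ≫ r₂)
    (by rw [Category.assoc, hτν, reassoc_of% hx₂, Category.assoc, hr])
  have hyσ : y ≫ σ = x ≫ τ := pullback.lift_fst _ _ _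
  have hy₂ : y ≫ pullback.snd ν q₁ = pullback.snd ν d ≫ r₂ := pullback.lift_snd _ _ _
  let z : pullback ν d ⟶ pullback ν q₁ := pullback.lift (pullback.fst ν d) (pullback.snd ν d ≫ c)
    (by rw [Category.assoc, hc₁, ← hdd]; exact pullback.condition)
  have hzσ : z ≫ σ = pullback.fst ν d := pullback.lift_fst _ _ _
  have hz₂ : z ≫ pullback.snd ν q₁ = pullback.snd ν d ≫ c := pullback.lift_snd _ _ _
  let sD := (IsPullback.of_hasPullback ν d).map (AlgSp.yon S)
  have hyz : y ≫ τ = z ≫ τ := by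
    obtain ⟨P₃, u, v, sP₃⟩ : ∃ (P₃ : AlgSp.Sp S) (u : P₃ ⟶ F₀) (v : P₃ ⟶ _),
        IsPullback u v f ((AlgSp.yon S).map d ≫ b) := ⟨_, _, _, IsPullback.of_hasPullback _ _⟩
    have key : ∀ (r : pullback q₂ q₁ ⟶ R), r ≫ q₁ = d →
        u ≫ f = ((v ≫ (AlgSp.yon S).map r) ≫ (AlgSp.yon S).map q₁) ≫ b ∧
        u ≫ f = ((v ≫ (AlgSp.yon S).map r) ≫ (AlgSp.yon S).map q₂) ≫ b := fun r hr' => by
      constructor
      · rw [Category.assoc v, ← Functor.map_comp, hr', Category.assoc]; exact sP₃.w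
      · rw [Category.assoc _ ((AlgSp.yon S).map q₂), ← hqb, Category.assoc v, ← Category.assoc ((AlgSp.yon S).map r),
          ← Functor.map_comp, hr']
        exact sP₃.w
    let f₃ := sD.lift (Φ u (v ≫ (AlgSp.yon S).map d) (by rw [Category.assoc]; exact sP₃.w)) v (hΦν _ _ _)
    have hn₃ := bc d _ _ sP₃ f₃ (sD.lift_snd _ _ _) (sD.lift_fst _ _ _)
    apply (AlgSp.yon S).map_injective
    refine relNorm_hom_ext_base hn₃ (AlgSp.IsAlgSpace.yon_obj _) hVA hNA hνi ((AlgSp.yon S).map (r₂ ≫ q₂)) ?_ ?_ ?_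
    · rw [← Functor.map_comp, ← Functor.map_comp, Category.assoc, hτν, reassoc_of% hy₂]
    · rw [← Functor.map_comp, ← Functor.map_comp, Category.assoc, hτν, reassoc_of% hz₂, hc₂]
    · have ex : f₃ ≫ (AlgSp.yon S).map x = sN₁.lift (Φ u ((v ≫ (AlgSp.yon S).map r₁) ≫ (AlgSp.yon S).map q₁)
          (key r₁ hdd.symm).1) (v ≫ (AlgSp.yon S).map r₁) (hΦν _ _ _) := by
        apply sN₁.hom_ext
        · rw [sN₁.lift_fst, Category.assoc, ← Functor.map_comp, hxσ, sD.lift_fst]
          congr 1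
          rw [Category.assoc, ← Functor.map_comp, hdd]
        · rw [sN₁.lift_snd, Category.assoc, ← Functor.map_comp, hx₂, Functor.map_comp, ← Category.assoc, sD.lift_snd]
      have ez : f₃ ≫ (AlgSp.yon S).map z = sN₁.lift (Φ u ((v ≫ (AlgSp.yon S).map c) ≫ (AlgSp.yon S).map q₁)
          (key c (hc₁.trans hdd.symm)).1) (v ≫ (AlgSp.yon S).map c) (hΦν _ _ _) := by
        apply sN₁.hom_ext
        · rw [sN₁.lift_fst, Category.assoc, ← Functor.map_comp, hzσ, sD.lift_fst]
          congr 1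
          rw [Category.assoc, ← Functor.map_comp, hc₁, hdd]
        · rw [sN₁.lift_snd, Category.assoc, ← Functor.map_comp, hz₂, Functor.map_comp, ← Category.assoc, sD.lift_snd]
      have w₂ : u ≫ f = ((v ≫ (AlgSp.yon S).map r₂) ≫ (AlgSp.yon S).map q₁) ≫ b := by
        rw [Category.assoc v, ← Functor.map_comp, ← hr, Functor.map_comp, ← Category.assoc v]
        exact (key r₁ hdd.symm).2
      have w₃ : u ≫ f = ((v ≫ (AlgSp.yon S).map r₂) ≫ (AlgSp.yon S).map q₂) ≫ b := by
        rw [Category.assoc _ ((AlgSp.yon S).map q₂), ← hqb, ← Category.assoc]; exact w₂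
      have ey : f₃ ≫ (AlgSp.yon S).map y = sN₁.lift (Φ u ((v ≫ (AlgSp.yon S).map r₂) ≫ (AlgSp.yon S).map q₁)
          w₂) (v ≫ (AlgSp.yon S).map r₂) (hΦν _ _ _) := by
        apply sN₁.hom_ext
        · rw [sN₁.lift_fst, Category.assoc, ← Functor.map_comp, hyσ, Functor.map_comp, ← Category.assoc, ex,
            Hτ _ _ _ (key r₁ hdd.symm).2]
          congr 1
          rw [Category.assoc, Category.assoc, ← Functor.map_comp, ← Functor.map_comp, hr]
        · rw [sN₁.lift_snd, Category.assoc, ← Functor.map_comp, hy₂, Functor.map_comp, ← Category.assoc, sD.lift_snd]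
      rw [Functor.map_comp, Functor.map_comp, ← Category.assoc, ← Category.assoc, ey, ez, Hτ _ _ _ w₃,
        Hτ _ _ _ (key c (hc₁.trans hdd.symm)).2]
      congr 1
      rw [Category.assoc, Category.assoc, ← Functor.map_comp, ← Functor.map_comp, hc₂]
  -- the equivalence relation
  have hinj : ∀ (T : Over S) (r r' : T ⟶ pullback ν q₁), r ≫ τ = r' ≫ τ → r ≫ σ = r' ≫ σ → r = r' := by
    intro T r r' ht hs
    apply pullback.hom_ext hs
    apply (AlgSp.yon S).map_injective
    apply sR.hom_ext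
    · rw [← Functor.map_comp, ← Functor.map_comp, Category.assoc, Category.assoc,
        ← (pullback.condition (f := ν) (g := q₁)), reassoc_of% hs]
    · rw [← Functor.map_comp, ← Functor.map_comp, Category.assoc, Category.assoc, ← hτν, reassoc_of% ht]
  have hrel : AlgSp.IsEqvRel σ τ := by
    refine ⟨hinj, fun T => ⟨fun a => ⟨a ≫ δ, by rw [Category.assoc, hδτ, Category.comp_id],
      by rw [Category.assoc, hδ₁, Category.comp_id]⟩, ?_, ?_⟩⟩
    · rintro a b' ⟨r, h1, h2⟩
      exact ⟨r ≫ ε, by rw [Category.assoc, hετ, h2], by rw [Category.assoc, hε₁, h1]⟩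
    · rintro a b' c' ⟨r, h1, h2⟩ ⟨r', h1', h2'⟩
      have hw : (r' ≫ pullback.snd ν q₁) ≫ q₂ = (r ≫ pullback.snd ν q₁) ≫ q₁ := by
        rw [Category.assoc, ← hτν, reassoc_of% h1', Category.assoc, ← (pullback.condition (f := ν) (g := q₁)),
          reassoc_of% h2]
      let w : T ⟶ pullback ν d := pullback.lift c'
        (pullback.lift (r' ≫ pullback.snd ν q₁) (r ≫ pullback.snd ν q₁) hw) (by
          rw [hdd, pullback.lift_fst_assoc, Category.assoc, ← (pullback.condition (f := ν) (g := q₁)), reassoc_of% h2'])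
      have hwx : w ≫ x = r' := pullback.hom_ext
        (by rw [Category.assoc, hxσ, pullback.lift_fst, h2'])
        (by rw [Category.assoc, hx₂, pullback.lift_snd_assoc, pullback.lift_fst])
      have hwy : w ≫ y = r := pullback.hom_ext
        (by rw [Category.assoc, hyσ, reassoc_of% hwx, h1', h2])
        (by rw [Category.assoc, hy₂, pullback.lift_snd_assoc, pullback.lift_snd])
      exact ⟨w ≫ z, by rw [Category.assoc, ← hyz, reassoc_of% hwy, h1],
        by rw [Category.assoc, hzσ, pullback.lift_fst]⟩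
  have hσe : Etale σ.left :=
    MorphismProperty.of_isPullback ((IsPullback.of_hasPullback ν q₁).map (Over.forget S)).flip hq₁
  obtain ⟨π, hπs₀, sq⟩ : ∃ π : (AlgSp.yon S).obj N ⟶ QuotSh.quot Scheme.fppfPrecoverage σ τ,
      Sheaf.IsLocallySurjective π ∧ IsPullback ((AlgSp.yon S).map τ) ((AlgSp.yon S).map σ) π π :=
    ⟨_, isLocallySurjective_yπ σ τ, isPullback_yπ σ τ hrel⟩
  obtain ⟨hX', hπe, hπs⟩ := isAlgSpace_of_kernelPair π sq hσe
  obtain ⟨colim⟩ := isColimit_of_isPullback π sq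
  obtain ⟨νX, hνX⟩ : ∃ νX, π ≫ νX = (AlgSp.yon S).map ν ≫ b :=
    ⟨_, (Cofork.IsColimit.desc' colim ((AlgSp.yon S).map ν ≫ b) (by
      rw [← Functor.map_comp_assoc, ← Functor.map_comp_assoc, hτν, pullback.condition, Functor.map_comp,
        Functor.map_comp, Category.assoc, Category.assoc, hqb])).2⟩
  -- cartesianness
  have hinjπ : ∀ {T : Over S} (n n' : T ⟶ N),
      (AlgSp.yon S).map n ≫ π = (AlgSp.yon S).map n' ≫ π → n ≫ ν = n' ≫ ν → n = n' := by
    intro T n n' e1 e2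
    obtain ⟨r, hr'⟩ := (AlgSp.yon S).map_surjective (sq.lift _ _ e1)
    have h1 : r ≫ τ = n := (AlgSp.yon S).map_injective (by rw [Functor.map_comp, hr', sq.lift_fst])
    have h2 : r ≫ σ = n' := (AlgSp.yon S).map_injective (by rw [Functor.map_comp, hr', sq.lift_snd])
    have : r = n' ≫ δ := by
      apply pullback.hom_ext
      · rw [h2, Category.assoc, hδ₁, Category.comp_id]
      · apply (AlgSp.yon S).map_injective
        apply sR.hom_ext
        · rw [← Functor.map_comp, ← Functor.map_comp, Category.assoc, Category.assoc, Category.assoc, reassoc_of% hδ₂, hΔ₁,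
            Category.comp_id, ← (pullback.condition (f := ν) (g := q₁)), reassoc_of% h2]
        · rw [← Functor.map_comp, ← Functor.map_comp, Category.assoc, Category.assoc, Category.assoc, reassoc_of% hδ₂, hΔ₂,
            Category.comp_id, ← hτν, reassoc_of% h1, e2]
    rw [← h1, this, Category.assoc, hδτ, Category.comp_id]
  have sX : IsPullback π ((AlgSp.yon S).map ν) νX b := by
    let θ := pullback.lift (f := νX) (g := b) π ((AlgSp.yon S).map ν) hνX
    have : IsIso θ := by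
      refine isIso_of_yon θ fun T x => ?_
      obtain ⟨v, hv⟩ := (AlgSp.yon S).map_surjective (x ≫ pullback.snd νX b)
      obtain ⟨T', n, k, sT⟩ := AlgSpB.exists_pullback_yon hπe.1 (x ≫ pullback.fst νX b)
      have hke : Etale k.left := by
        first | exact hπe.2 _ _ _ sT | exact hπe.2 _ _ _ sT.flip
      have hks : Surjective k.left := by
        first | exact hπs.2 _ _ _ sT | exact hπs.2 _ _ _ sT.flip
      have hb' : (AlgSp.yon S).map (n ≫ ν) ≫ b = (AlgSp.yon S).map (k ≫ v) ≫ b := by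
        rw [Functor.map_comp, Functor.map_comp, Category.assoc, Category.assoc, ← hνX, hv, Category.assoc,
          ← pullback.condition, ← Category.assoc, sT.w, Category.assoc, Category.assoc]
      obtain ⟨ρ, hρ⟩ := (AlgSp.yon S).map_surjective (sR.lift _ _ hb')
      have hρ₁ : ρ ≫ q₁ = n ≫ ν := (AlgSp.yon S).map_injective (by rw [Functor.map_comp, hρ, sR.lift_fst])
      have hρ₂ : ρ ≫ q₂ = k ≫ v := (AlgSp.yon S).map_injective (by rw [Functor.map_comp, hρ, sR.lift_snd])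
      obtain ⟨y', hy'ν, hy'π⟩ : ∃ y' : T' ⟶ N, y' ≫ ν = k ≫ v ∧
          (AlgSp.yon S).map y' ≫ π = (AlgSp.yon S).map k ≫ x ≫ pullback.fst νX b :=
        ⟨pullback.lift n ρ hρ₁.symm ≫ τ, by rw [Category.assoc, hτν, pullback.lift_snd_assoc, hρ₂],
          by rw [Functor.map_comp, Category.assoc, sq.w, ← Functor.map_comp_assoc, pullback.lift_fst, sT.w]⟩
      have hkfam : ∀ z, ∃ (_ : PUnit.{1}) (t : T'.left), AlgSp.Points.ofPt ((AlgSp.yon S).map k) t = z := fun z => by
        obtain ⟨z, rfl⟩ := (AlgSp.Points.schemeHomeo T).surjective z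
        obtain ⟨t, ht⟩ := hks.surj z
        exact ⟨⟨⟩, t, (AlgSp.Points.ofPt_eq_map_ofScheme _ _).trans
          ((AlgSp.Points.map_yon_map_apply k t).trans (congrArg (AlgSp.Points.ofScheme T) ht))⟩
      have hkE : AlgSp.RepWith @Etale ((AlgSp.yon S).map k) := (AlgSp.repWith_yon_map_iff _ _).2 hke
      obtain ⟨l, hl⟩ := exists_desc_fam (p := fun _ : PUnit.{1} => (AlgSp.yon S).map k) (fun _ => hkE) hkfam
        (fun _ => (AlgSp.yon S).map y') fun _ _ Z α β' hαβ => by
          obtain ⟨α, rfl⟩ := (AlgSp.yon S).map_surjective α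
          obtain ⟨β', rfl⟩ := (AlgSp.yon S).map_surjective β'
          rw [← Functor.map_comp, ← Functor.map_comp]
          congr 1
          refine hinjπ _ _ ?_ ?_
          · rw [Functor.map_comp, Functor.map_comp, Category.assoc, Category.assoc, hy'π, reassoc_of% hαβ]
          · rw [Category.assoc, Category.assoc, hy'ν, ← Category.assoc, ← Category.assoc,
              (AlgSp.yon S).map_injective (show (AlgSp.yon S).map (α ≫ k) = (AlgSp.yon S).map (β' ≫ k) by
                rw [Functor.map_comp, Functor.map_comp, hαβ])]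
      obtain ⟨y, rfl⟩ := (AlgSp.yon S).map_surjective l
      refine ⟨y, hom_ext_fam (p := fun _ : PUnit.{1} => (AlgSp.yon S).map k) (fun _ => hkE) hkfam fun i => ?_,
        fun y₁ hy₁ => ?_⟩
      · rw [← Category.assoc, hl i]
        apply pullback.hom_ext
        · rw [Category.assoc, pullback.lift_fst, hy'π, Category.assoc]
        · rw [Category.assoc, pullback.lift_snd, ← Functor.map_comp, hy'ν, Functor.map_comp, hv, Category.assoc]
      · apply (AlgSp.yon S).map_injective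
        refine hom_ext_fam (p := fun _ : PUnit.{1} => (AlgSp.yon S).map k) (fun _ => hkE) hkfam fun i => ?_
        rw [hl i, ← Functor.map_comp]
        congr 1
        refine hinjπ _ _ ?_ ?_
        · rw [hy'π, Functor.map_comp, Category.assoc, ← hy₁, Category.assoc, pullback.lift_fst]
        · rw [hy'ν, Category.assoc]
          congr 1
          apply (AlgSp.yon S).map_injective
          rw [Functor.map_comp, hv, ← hy₁, Category.assoc, pullback.lift_snd]
    exact IsPullback.of_iso_pullback ⟨hνX⟩ (asIso θ) (pullback.lift_fst _ _ _) (pullback.lift_snd _ _ _)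
  -- the map from the source
  obtain ⟨A, a, hae, has⟩ := hYV.atlas
  let p := a ≫ pullback.fst f b
  have hp : AlgSp.RepWith @Etale p :=
    MorphismProperty.comp_mem _ _ _ hae (MorphismProperty.of_isPullback sY.flip hb)
  have hps : ∀ y, ∃ (_ : PUnit.{1}) (t : A.left), AlgSp.Points.ofPt p t = y := fun y => by
    obtain ⟨y', hy'⟩ := surjective_map_of_isPullback sY.flip ((repWith_surjective_iff _ hbs.1).1 hbs) y
    obtain ⟨t, rfl⟩ := AlgSpB.surjective_ofPt has y'
    exact ⟨⟨⟩, t, by rw [← hy', AlgSp.Points.ofPt_eq_map_ofScheme, AlgSp.Points.ofPt_eq_map_ofScheme,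
      AlgSp.Points.map_comp]⟩
  obtain ⟨f', hf'⟩ := exists_desc_fam (p := fun _ : PUnit.{1} => p) (fun _ => hp) hps (fun _ => a ≫ f₀ ≫ π)
    fun _ _ Z α β' hαβ => by
      have hv : (α ≫ a ≫ pullback.snd f b) ≫ b = (β' ≫ a ≫ pullback.snd f b) ≫ b := by
        simp only [Category.assoc, ← sY.w]
        simpa only [p, Category.assoc] using congrArg (· ≫ f) hαβ
      have w₁ : ((α ≫ a) ≫ pullback.fst f b) ≫ f =
          (sR.lift _ _ hv ≫ (AlgSp.yon S).map q₁) ≫ b := by
        rw [sR.lift_fst]; simp only [Category.assoc, sY.w]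
      have w₂ : ((α ≫ a) ≫ pullback.fst f b) ≫ f =
          (sR.lift _ _ hv ≫ (AlgSp.yon S).map q₂) ≫ b := by
        rw [sR.lift_snd, ← hv]; simp only [Category.assoc, sY.w]
      have e1 : (α ≫ a) ≫ f₀ = Φ _ _ w₁ := by
        rw [hf₀]; congr 1
        rw [sR.lift_fst, Category.assoc]
      have e2 : (β' ≫ a) ≫ f₀ = Φ _ _ w₂ := by
        rw [hf₀]
        congr 1
        · simpa only [p, Category.assoc] using hαβ.symm
        · rw [sR.lift_snd, Category.assoc]
      simp only [← Category.assoc]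
      rw [e1, e2, ← Hτ _ _ w₁ w₂, Category.assoc (sN₁.lift _ _ _), sq.w, ← Category.assoc (sN₁.lift _ _ _), sN₁.lift_fst]
  have w : f' ≫ νX = f := hom_ext_fam (p := fun _ : PUnit.{1} => p) (fun _ => hp) hps fun i => by
    rw [reassoc_of% hf' i, hνX, reassoc_of% hV.1, ← sY.w]
    exact (Category.assoc _ _ _).symm
  have hνXi : AlgSp.IsIntegralMor νX := by
    rw [AlgSpD.isIntegralMor_iff]
    exact AlgSpD.repWith_descend (P := @IsIntegralHom) (fun g (hg : IsIntegralHom g) => inferInstance)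
      (X := ⟨_, hX'⟩) (Y := ⟨_, hG⟩) νX b hb hbs sX ((AlgSpD.isIntegralMor_iff _).1 hνi)
  refine ⟨_, νX, f', hX', isSmoothNorm_of_cover hG hX' w hνXi (fun _ : PUnit.{1} => b) (fun _ => hb)
    (fun x => ⟨⟨⟩, AlgSpB.surjective_ofPt hbs x⟩) fun _ B hB c' hc' => ?_⟩
  refine (isNormOn_comp_iff b _ sY sX hV.1 ?_).1 (hV.2.2 B hB _ (locP_smooth_yon_map c' hc'))
  exact hom_ext_fam (p := fun _ : PUnit.{1} => a) (fun _ => hae) (fun z => ⟨⟨⟩, AlgSpB.surjective_ofPt has z⟩)
    fun i => (hf' i).symm.trans (Category.assoc _ _ _)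

end Groth.Agent.AlgSp
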