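import Mathlib.RingTheory.Smooth.IntegralClosure
import Mathlib.RingTheory.Flat.Equalizer
import Mathlib.RingTheory.IntegralClosure.Algebra.Basic

/-!
# Integral elements of an equalizer and smooth base change
-/

universe u

open TensorProduct

namespace Groth.Agent.AlgSp

variable {K E F C : Type u} [CommRing K] [CommRing E] [Algebra K E] [CommRing F] [Algebra K F]
  [CommRing C] [Algebra K C]

/-- The image of `j` consists of the integral elements in the equalizer of `p` and `q`. -/
def IsIntEq (p q : E →ₐ[K] F) (j : C →ₐ[K] E) : Prop :=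
  Function.Injective j ∧ ∀ x : E, x ∈ Set.range j ↔ p x = q x ∧ IsIntegral K x

theorem IsIntEq.isIntegral {p q : E →ₐ[K] F} {j : C →ₐ[K] E} (h : IsIntEq p q j) : Algebra.IsIntegral K C :=
  ⟨fun c => (isIntegral_algHom_iff j h.1).1 ((h.2 (j c)).1 ⟨c, rfl⟩).2⟩

/-- The integral closure in the equalizer. -/
theorem isIntEq_integralClosure (p q : E →ₐ[K] F) :
    IsIntEq p q ((AlgHom.equalizer p q).val.comp (integralClosure K (AlgHom.equalizer p q)).val) := by
  refine ⟨Subtype.val_injective.comp Subtype.val_injective, fun x => ⟨?_, fun ⟨h₁, h₂⟩ => ?_⟩⟩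
  · rintro ⟨c, rfl⟩
    exact ⟨c.1.2, (c.2 : IsIntegral K c.1).map (AlgHom.equalizer p q).val⟩
  · exact ⟨⟨⟨x, h₁⟩, (isIntegral_algHom_iff (AlgHom.equalizer p q).val Subtype.val_injective).1 h₂⟩, rfl⟩

/-- The integral equalizer commutes with smooth base change. -/
theorem IsIntEq.baseChange {p q : E →ₐ[K] F} {j : C →ₐ[K] E} (h : IsIntEq p q j) (K' : Type u) [CommRing K']
    [Algebra K K'] [Algebra.Smooth K K'] :
    IsIntEq (Algebra.TensorProduct.map (AlgHom.id K' K') p) (Algebra.TensorProduct.map (AlgHom.id K' K') q)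
      (Algebra.TensorProduct.map (AlgHom.id K' K') j) := by
  have := h.isIntegral
  refine ⟨Module.Flat.lTensor_preserves_injective_linearMap j.toLinearMap h.1, fun x => ⟨?_, ?_⟩⟩
  · rintro ⟨c, rfl⟩
    refine ⟨?_, (Algebra.IsIntegral.isIntegral (R := K') c).map _⟩
    have e : (Algebra.TensorProduct.map (AlgHom.id K' K') p).comp (Algebra.TensorProduct.map (AlgHom.id K' K') j) =
        (Algebra.TensorProduct.map (AlgHom.id K' K') q).comp (Algebra.TensorProduct.map (AlgHom.id K' K') j) := by
      apply Algebra.TensorProduct.ext (Subsingleton.elim _ _)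
      ext c
      simp [((h.2 (j c)).1 ⟨c, rfl⟩).1]
    exact DFunLike.congr_fun e c
  · rintro ⟨hx, hi⟩
    let φ := AlgHom.tensorEqualizerEquiv K' K' p q
    obtain ⟨y, hy⟩ := φ.surjective ⟨x, hx⟩
    have hyi : IsIntegral K' y := by
      refine (isIntegral_algHom_iff ((Subalgebra.val _).comp φ.toAlgHom)
        (Subtype.val_injective.comp φ.injective)).1 ?_
      rw [show ((Subalgebra.val _).comp φ.toAlgHom) y = x from congrArg Subtype.val hy]
      exact hi
    obtain ⟨z, hz⟩ := (TensorProduct.toIntegralClosure_bijective_of_smooth (R := K) (S := K')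
      (B := AlgHom.equalizer p q)).2 ⟨y, hyi⟩
    let σ : integralClosure K (AlgHom.equalizer p q) →ₐ[K] C :=
      ((AlgEquiv.ofInjective j h.1).symm : j.range →ₐ[K] C).comp
        (((AlgHom.equalizer p q).val.comp (integralClosure K _).val).codRestrict j.range fun u =>
          (h.2 _).2 (((isIntEq_integralClosure p q).2 _).1 ⟨u, rfl⟩))
    have hσ : ∀ u, j (σ u) = u.1.1 := fun u => congrArg Subtype.val ((AlgEquiv.ofInjective j h.1).apply_symm_apply _)
    refine ⟨Algebra.TensorProduct.map (AlgHom.id K' K') σ z, ?_⟩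
    have hy' := congrArg Subtype.val hy
    have hz' := congrArg Subtype.val hz
    simp only [φ, AlgHom.tensorEqualizerEquiv_apply, AlgHom.coe_tensorEqualizer] at hy'
    rw [← hy', ← (show (TensorProduct.toIntegralClosure K K' (AlgHom.equalizer p q) z).1 = y from hz')]
    simp only [TensorProduct.toIntegralClosure, AlgHom.coe_codRestrict]
    clear hz hz'
    induction z using TensorProduct.induction_on with
    | zero => simp
    | tmul a u => simp [hσ]
    | add a b ha hb => simp only [map_add, ha, hb]

end Groth.Agent.AlgSp
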