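import Groth.Agent.AlgSp.NormBasic
import Groth.Agent.AlgSp.NormRing
import Groth.Agent.AlgSp.DescentAffine
import Groth.Agent.AlgSp.QCMor

/-!
# Presentations of spaces over affine bases and their normalizations
-/

universe u

open CategoryTheory CategoryTheory.Limits AlgebraicGeometry Opposite TensorProduct

set_option backward.isDefEq.respectTransparency.types false

namespace Groth.Agent.AlgSp

open ElemDist

variable {S : Scheme.{u}} {K : Type u} [CommRing K]

/-- The spectrum of an algebra, as a scheme over `S`. -/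
noncomputable abbrev specOver (h : Spec (CommRingCat.of K) ⟶ S) (E : Type u) [CommRing E] [Algebra K E] : Over S :=
  Over.mk (Spec.map (CommRingCat.ofHom (algebraMap K E)) ≫ h)

/-- The map of spectra of an algebra morphism. -/
noncomputable def specMap (h : Spec (CommRingCat.of K) ⟶ S) {E E' : Type u} [CommRing E] [Algebra K E]
    [CommRing E'] [Algebra K E'] (f : E →ₐ[K] E') : specOver h E' ⟶ specOver h E :=
  Over.homMk (Spec.map (CommRingCat.ofHom f.toRingHom)) (by
    change Spec.map (CommRingCat.ofHom f.toRingHom) ≫ Spec.map (CommRingCat.ofHom (algebraMap K E)) ≫ h = _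
    rw [← Category.assoc, specMap_algHom_comp]
    rfl)

/-- The structure map to the base. -/
noncomputable def specStr (h : Spec (CommRingCat.of K) ⟶ S) (E : Type u) [CommRing E] [Algebra K E] :
    specOver h E ⟶ Over.mk h :=
  Over.homMk (Spec.map (CommRingCat.ofHom (algebraMap K E))) rfl

theorem specMap_comp_specStr (h : Spec (CommRingCat.of K) ⟶ S) {E E' : Type u} [CommRing E] [Algebra K E]
    [CommRing E'] [Algebra K E'] (f : E →ₐ[K] E') : specMap h f ≫ specStr h E = specStr h E' :=
  Over.OverMorphism.ext (specMap_algHom_comp f)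

theorem specMap_comp (h : Spec (CommRingCat.of K) ⟶ S) {E E' E'' : Type u} [CommRing E] [Algebra K E]
    [CommRing E'] [Algebra K E'] [CommRing E''] [Algebra K E''] (f : E →ₐ[K] E') (f' : E' →ₐ[K] E'') :
    specMap h f' ≫ specMap h f = specMap h (f'.comp f) :=
  Over.OverMorphism.ext (by
    change Spec.map _ ≫ Spec.map _ = Spec.map _
    rw [← Spec.map_comp]; rfl)

theorem specMap_injective (h : Spec (CommRingCat.of K) ⟶ S) {E E' : Type u} [CommRing E] [Algebra K E]
    [CommRing E'] [Algebra K E'] {f f' : E →ₐ[K] E'} (e : specMap h f = specMap h f') : f = f' := by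
  have := congrArg CommRingCat.Hom.hom (Spec.map_injective (congrArg CommaMorphism.left e))
  exact AlgHom.ext fun x => RingHom.congr_fun this x

theorem exists_algHom_of_hom (h : Spec (CommRingCat.of K) ⟶ S) {E E' : Type u} [CommRing E] [Algebra K E]
    [CommRing E'] [Algebra K E'] (l : specOver h E' ⟶ specOver h E) (w : l ≫ specStr h E = specStr h E') :
    ∃ f : E →ₐ[K] E', specMap h f = l := by
  have hl : Spec.map (CommRingCat.ofHom (algebraMap K E) ≫ Spec.preimage l.left) =
      Spec.map (CommRingCat.ofHom (algebraMap K E')) := by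
    rw [Spec.map_comp, Spec.map_preimage]
    exact congrArg CommaMorphism.left w
  refine ⟨⟨(Spec.preimage l.left).hom, fun r => RingHom.congr_fun (congrArg CommRingCat.Hom.hom (Spec.map_injective hl)) r⟩,
    Over.OverMorphism.ext ?_⟩
  change Spec.map (CommRingCat.ofHom (Spec.preimage l.left).hom) = l.left
  rw [CommRingCat.ofHom_hom, Spec.map_preimage]

/-- An affine etale presentation of a space over an affine base. -/
structure Pres (h : Spec (CommRingCat.of K) ⟶ S) {Y : AlgSp.Sp S}
    (g : Y ⟶ (AlgSp.yon S).obj (Over.mk h)) (E F : Type u) [CommRing E] [Algebra K E] [CommRing F]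
    [Algebra K F] where
  /-- the atlas -/
  a : (AlgSp.yon S).obj (specOver h E) ⟶ Y
  ha : AlgSp.RepWith @Etale a
  hs : ∀ y, ∃ t, AlgSp.Points.ofPt a t = y
  hga : a ≫ g = (AlgSp.yon S).map (specStr h E)
  /-- the relation -/
  R : Over S
  /-- first projection -/
  π₁ : R ⟶ specOver h E
  /-- second projection -/
  π₂ : R ⟶ specOver h E
  sR : IsPullback ((AlgSp.yon S).map π₁) ((AlgSp.yon S).map π₂) a a
  /-- the affine cover of the relation -/
  r : specOver h F ⟶ R
  hre : Etale r.left
  hrs : Surjective r.left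
  /-- the first map of rings -/
  p : E →ₐ[K] F
  /-- the second map of rings -/
  q : E →ₐ[K] F
  hp : r ≫ π₁ = specMap h p
  hq : r ≫ π₂ = specMap h q

variable {h : Spec (CommRingCat.of K) ⟶ S} {Y : AlgSp.Sp S} {g : Y ⟶ (AlgSp.yon S).obj (Over.mk h)}
  {E F : Type u} [CommRing E] [Algebra K E] [CommRing F] [Algebra K F]

theorem Pres.hom_ext (P : Pres h g E F) {X : AlgSp.Sp S} {m m' : Y ⟶ X} (e : P.a ≫ m = P.a ≫ m') : m = m' :=
  hom_ext_fam (p := fun _ : PUnit.{1} => P.a) (fun _ => P.ha)
    (fun y => ⟨⟨⟩, P.hs y⟩) fun _ => e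

theorem Pres.w (P : Pres h g E F) :
    (AlgSp.yon S).map (specMap h P.p) ≫ P.a = (AlgSp.yon S).map (specMap h P.q) ≫ P.a := by
  rw [← P.hp, ← P.hq, Functor.map_comp, Functor.map_comp, Category.assoc, Category.assoc, P.sR.w]

theorem Pres.exists_desc (P : Pres h g E F) {X : AlgSp.Sp S} (l : (AlgSp.yon S).obj (specOver h E) ⟶ X)
    (e : (AlgSp.yon S).map (specMap h P.p) ≫ l = (AlgSp.yon S).map (specMap h P.q) ≫ l) :
    ∃ m, P.a ≫ m = l := by
  have he : (AlgSp.yon S).map P.π₁ ≫ l = (AlgSp.yon S).map P.π₂ ≫ l := by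
    refine hom_ext_fam (p := fun _ : PUnit.{1} => (AlgSp.yon S).map P.r)
      (fun _ => (AlgSp.repWith_yon_map_iff _ _).2 P.hre) (fun z => ?_) fun _ => ?_
    · obtain ⟨z, rfl⟩ := (AlgSp.Points.schemeHomeo P.R).surjective z
      obtain ⟨t, ht⟩ := P.hrs.surj z
      exact ⟨⟨⟩, t, (AlgSp.Points.ofPt_eq_map_ofScheme _ _).trans
        ((AlgSp.Points.map_yon_map_apply P.r t).trans (congrArg (AlgSp.Points.ofScheme P.R) ht))⟩
    · rw [← Category.assoc, ← Functor.map_comp, P.hp, e, ← P.hq, Functor.map_comp, Category.assoc]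
  obtain ⟨m, hm⟩ := exists_desc_fam (p := fun _ : PUnit.{1} => P.a) (fun _ => P.ha)
    (fun y => ⟨⟨⟩, P.hs y⟩) (fun _ => l) fun _ _ Z α β hαβ => by
      rw [← P.sR.lift_fst α β hαβ, Category.assoc, he, ← Category.assoc, P.sR.lift_snd]
  exact ⟨m, hm ⟨⟩⟩

/-- The spectrum of the integral equalizer is the normalization. -/
theorem Pres.relNorm (P : Pres h g E F) {C : Type u} [CommRing C] [Algebra K C] {j : C →ₐ[K] E}
    (hj : IsIntEq P.p P.q j) {f' : Y ⟶ (AlgSp.yon S).obj (specOver h C)}
    (hf' : P.a ≫ f' = (AlgSp.yon S).map (specMap h j)) :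
    AlgSp.IsRelNormalization g ((AlgSp.yon S).map (specStr h C)) f' := by
  have := hj.isIntegral
  refine ⟨P.hom_ext ?_, ?_, fun Z hZ π m hπ hm => ?_⟩
  · rw [reassoc_of% hf', P.hga, ← Functor.map_comp, specMap_comp_specStr]
  · rw [AlgSpD.isIntegralMor_iff]
    exact (AlgSp.repWith_yon_map_iff _ _).2
      ((IsIntegralHom.SpecMap_iff).2 (algebraMap_isIntegral_iff.2 inferInstance))
  obtain ⟨W, i, e, sW, hW, hi⟩ := hπ (show IsAffine (Over.mk h).left from inferInstanceAs (IsAffine (Spec _))) (𝟙 _)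
  have : IsIso e := sW.isIso_fst_of_isIso
  -- the ring of `W`
  let D : CommRingCat.{u} := Γ(W.left, ⊤)
  let ψ : CommRingCat.of K ⟶ D := Spec.preimage (W.left.isoSpec.inv ≫ i.left)
  let _ := ψ.hom.toAlgebra
  have hψ : Spec.map (CommRingCat.ofHom (algebraMap K D)) = W.left.isoSpec.inv ≫ i.left := Spec.map_preimage _
  let ε : W ≅ specOver h D := Over.isoMk W.left.isoSpec (by
    change W.left.isoSpec.hom ≫ Spec.map (CommRingCat.ofHom (algebraMap K D)) ≫ h = W.hom
    rw [reassoc_of% hψ, Iso.hom_inv_id_assoc, ← Over.w i]; rfl)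
  have hε : ε.hom ≫ specStr h D = i := Over.OverMorphism.ext (by
    change W.left.isoSpec.hom ≫ Spec.map (CommRingCat.ofHom (algebraMap K D)) = i.left
    rw [hψ, Iso.hom_inv_id_assoc])
  have hDint : Algebra.IsIntegral K D := by
    rw [← algebraMap_isIntegral_iff]
    have := hi
    exact (IsIntegralHom.SpecMap_iff (φ := CommRingCat.ofHom (algebraMap K D))).1 (hψ ▸ inferInstance)
  let η : (AlgSp.yon S).obj (specOver h D) ≅ Z := (AlgSp.yon S).mapIso ε.symm ≪≫ asIso e
  have hη : η.hom ≫ π = (AlgSp.yon S).map (specStr h D) := by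
    simp only [η, Iso.trans_hom, Functor.mapIso_hom, Iso.symm_hom, asIso_hom, Category.assoc, sW.w,
      Category.comp_id, ← Functor.map_comp, ← hε, Iso.inv_hom_id_assoc]
  have hη' : η.inv ≫ (AlgSp.yon S).map (specStr h D) = π := (Iso.inv_comp_eq _).2 hη.symm
  obtain ⟨l, hl⟩ := (AlgSp.yon S).map_surjective (P.a ≫ m ≫ η.inv)
  obtain ⟨θ, hθ⟩ := exists_algHom_of_hom h l ((AlgSp.yon S).map_injective (by
    rw [Functor.map_comp, hl, Category.assoc, Category.assoc, hη', hm, P.hga]))
  subst hθ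
  have hθ' : ∀ d, θ d ∈ Set.range j := fun d => (hj.2 _).2 ⟨by
    have e1 : P.p.comp θ = P.q.comp θ := specMap_injective h ((AlgSp.yon S).map_injective (by
      rw [← specMap_comp, ← specMap_comp, Functor.map_comp, Functor.map_comp, hl, ← Category.assoc, P.w,
        Category.assoc]))
    exact DFunLike.congr_fun e1 d, (Algebra.IsIntegral.isIntegral (R := K) d).map θ⟩
  let θ₀ : D →ₐ[K] C := ((AlgEquiv.ofInjective j hj.1).symm : j.range →ₐ[K] C).comp (θ.codRestrict j.range hθ')
  have hθ₀ : j.comp θ₀ = θ :=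
    AlgHom.ext fun d => congrArg Subtype.val ((AlgEquiv.ofInjective j hj.1).apply_symm_apply _)
  refine ⟨(AlgSp.yon S).map (specMap h θ₀) ≫ η.hom, ⟨P.hom_ext ?_, ?_⟩, fun k ⟨hk1, hk2⟩ => ?_⟩
  · rw [reassoc_of% hf', ← Category.assoc, ← Functor.map_comp, specMap_comp, hθ₀, hl, Category.assoc,
      Category.assoc, η.inv_hom_id, Category.comp_id]
  · rw [Category.assoc, hη, ← Functor.map_comp, specMap_comp_specStr]
  · obtain ⟨k₀, hk₀⟩ := (AlgSp.yon S).map_surjective (k ≫ η.inv)
    obtain ⟨φ, rfl⟩ := exists_algHom_of_hom h k₀ ((AlgSp.yon S).map_injective (by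
      rw [Functor.map_comp, hk₀, Category.assoc, hη', hk2]))
    have : φ = θ₀ := by
      have e1 : j.comp φ = j.comp θ₀ := specMap_injective h ((AlgSp.yon S).map_injective (by
        rw [hθ₀, ← specMap_comp, Functor.map_comp, hk₀, hl,
          ← hf']
        simp only [Category.assoc]
        rw [reassoc_of% hk1]))
      exact AlgHom.ext fun d => hj.1 (DFunLike.congr_fun e1 d)
    rw [← this, hk₀, Category.assoc, η.inv_hom_id, Category.comp_id]

end Groth.Agent.AlgSp
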