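import Groth.Agent.AlgSp.QfPoint
import Groth.Agent.AlgSp.FiniteLqf
import Groth.Agent.AlgSpB.Open
import Groth.Agent.AlgSpD.Decent
import Groth.Agent.S9762
import Groth.Agent.S10272

/-!
# Splitting off finite parts after an etale base change
-/

universe u

open CategoryTheory CategoryTheory.Limits AlgebraicGeometry Opposite Topology

set_option backward.isDefEq.respectTransparency.types false

namespace Groth.Agent.AlgSp

variable {S : Scheme.{u}}

/-- A monomorphism of sheaves is separated. -/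
theorem isSeparatedMor_of_mono {F G : AlgSp.Sp S} (j : F ⟶ G) [Mono j] : AlgSp.IsSeparatedMor j :=
  MorphismProperty.of_isIso (AlgSp.RepWith @IsClosedImmersion) (pullback.diagonal j)

/-- An open part consisting of quasi-finite points is locally quasi-finite. -/
theorem locP_lqf_open_of_qfAt {P X Y : AlgSp.Sp S} (hP : AlgSp.IsAlgSpace P) (hX : AlgSp.IsAlgSpace X)
    (hY : AlgSp.IsAlgSpace Y) (i : P ⟶ X) (hi : AlgSp.RepWith @IsOpenImmersion i) (f : X ⟶ Y)
    (hq : ∀ p, QfAtMor f (AlgSp.Points.map i p)) :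
    AlgSp.LocP (@LocallyQuasiFinite ⊓ @LocallyOfFiniteType) (i ≫ f) := by
  have hS := AlgSpCov.standard_locallyQuasiFinite.{u}
  have := hS.comp
  have := hS.bc
  obtain ⟨A, a, ha, has⟩ := hP.atlas
  choose B g hg hgx hgall hgq using fun z : ↥A.left =>
    exists_lqf_chart_of_qfAt hY (hq (AlgSp.Points.ofPt a z))
  have hPB : ∀ z, AlgSp.IsAlgSpace (pullback i (g z)) := fun z =>
    isAlgSpace_pullback hX hP (AlgSp.IsAlgSpace.yon_obj _) _ _
  refine AlgSpCov.locP_of_source (T := @Etale) (ι := ↥A.left) (Xi := fun z => pullback i (g z))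
    (g := fun z => pullback.fst _ _) hP hPB ?_ ?_ ?_ ?_
  · intro κ U W0 Wf c hc hs k hk
    have := AlgSpCov.isLocalAtSource_etalePrecoverage (fun A B e he => hS.of_etale e he) hS.etaleLocal
    exact AlgSpCov.of_family_of_isLocalAtSource (T := @Etale) Wf c hc hs k hk
  · exact fun z => AlgSpCov.locP_of_repWith AlgSpCov.etaleLocal_etale
      (MorphismProperty.pullback_fst _ _ (hg z))
  · intro p
    obtain ⟨z, rfl⟩ := AlgSpB.surjective_ofPt has p
    obtain ⟨w, hw⟩ := hgx z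
    obtain ⟨q, hq1, -⟩ := AlgSpB.exists_of_isPullback (IsPullback.of_hasPullback i (g z))
      (AlgSp.Points.ofPt a z) (AlgSp.Points.ofScheme (B z) w)
      (by rw [← AlgSp.Points.ofPt_eq_map_ofScheme, hw])
    exact ⟨z, q, hq1⟩
  · intro z
    rw [pullback.condition_assoc]
    refine AlgSpCov.locP_comp hS.etaleLocal (AlgSp.IsAlgSpace.yon_obj _) hY ?_ (hgq z)
    exact AlgSpCov.locP_of_repWith hS.etaleLocal (repWith_mono
      (fun e (he : IsOpenImmersion e) => ⟨inferInstance, inferInstance⟩) (MorphismProperty.pullback_snd _ _ hi))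

/-- Over a decent space, a chart from a quasi-compact scheme has finitely many points over each point. -/
theorem finite_preimage_fst_of_decent {X Y : AlgSp.Space S} (hY : AlgSp.IsDecent Y.obj) (f : X.obj ⟶ Y.obj)
    {V : Over S} [IsAffine V.left] {b : (AlgSp.yon S).obj V ⟶ Y.obj} (hb : AlgSp.RepWith @Etale b)
    {P : AlgSp.Sp S} {fst : P ⟶ X.obj} {snd : P ⟶ (AlgSp.yon S).obj V} (sq : IsPullback fst snd f b)
    (x : AlgSp.Points X.obj) : (AlgSp.Points.map fst ⁻¹' {x}).Finite := by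
  obtain ⟨xp, rfl⟩ := AlgSp.Points.mk_surjective x
  obtain ⟨p, hp, hpm, hpq⟩ := hY (AlgSp.Points.map f (AlgSp.Points.mk xp))
  have hq : AlgSp.RepWith @QuasiCompact (xp.map f).toHom :=
    Groth.Agent.AlgSpD.repWith_quasiCompact_of_eq Y p _ hpm hpq (by rw [hp]; rfl)
  obtain ⟨W, w1, w2, sqW⟩ := Groth.Agent.AlgSpB.exists_pullback_yon hq.1 b
  have : Etale w1.left := hb.2 _ _ _ sqW.flip
  have : QuasiCompact w2.left := hq.2 _ _ _ sqW
  have : CompactSpace ↥W.left := QuasiCompact.compactSpace_of_compactSpace w2.left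
  have : IsAffine (xp.map f).pt.left := inferInstanceAs (IsAffine (Spec (CommRingCat.of (xp.map f).K)))
  have : QuasiCompact w1.left := (quasiCompact_iff_compactSpace w1.left).2 inferInstance
  have : LocallyQuasiFinite w1.left :=
    Groth.Agent.AlgSpCov.etale_le_locallyQuasiFinite _ _ w1.left ‹Etale w1.left›
  have : Finite ↥W.left := Set.finite_univ_iff.1
    ((w1.left.finite_preimage_singleton (IsLocalRing.closedPoint (xp.map f).K)).subset fun _ _ =>
      @Subsingleton.elim _ (inferInstanceAs (Subsingleton (PrimeSpectrum (xp.map f).K))) _ _)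
  have sqW' : IsPullback ((AlgSp.yon S).map w1) ((AlgSp.yon S).map w2) (xp.toHom ≫ f) b :=
    (AlgSp.FieldPt.toHom_map f xp) ▸ sqW
  let e := sq.lift ((AlgSp.yon S).map w1 ≫ xp.toHom) ((AlgSp.yon S).map w2)
    (by rw [Category.assoc]; exact sqW'.w)
  have se : IsPullback e ((AlgSp.yon S).map w1) fst xp.toHom :=
    IsPullback.of_right (h₁₂ := snd) (h₂₂ := f) (v₁₃ := b)
      (by rw [sq.lift_snd]; exact sqW'.flip) (sq.lift_fst _ _ _) sq.flip
  have : Finite (AlgSp.Points ((AlgSp.yon S).obj W)) :=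
    Finite.of_equiv _ (AlgSp.Points.schemeHomeo W).toEquiv
  refine (Set.finite_range (AlgSp.Points.map e)).subset fun z hz => ?_
  obtain ⟨w, hw, -⟩ := Groth.Agent.AlgSpB.exists_of_isPullback se z
    (AlgSp.Points.ofScheme xp.pt (IsLocalRing.closedPoint xp.K))
    ((Set.mem_singleton_iff.1 hz).trans ((AlgSp.Points.ofPt_toHom xp _).symm.trans
      (AlgSp.Points.ofPt_eq_map_ofScheme _ _)))
  exact ⟨w, hw⟩

/-- A finite set of points of a locally quasi-finite separated scheme over `V` is the whole fibre of an open. -/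
theorem exists_open_fibre_eq {Q V : Scheme.{u}} (k : Q ⟶ V) [IsAffine V] [LocallyQuasiFinite k] {v : ↥V}
    {T : Set ↥Q} (hT : T.Finite) (hTv : ∀ t ∈ T, k t = v) :
    ∃ W : Q.Opens, QuasiCompact (W.ι ≫ k) ∧ {q : ↥Q | q ∈ W ∧ k q = v} = T := by
  classical
  choose A hA htA _ using fun t : ↥Q => exists_isAffineOpen_mem_and_subset (x := t) (U := (⊤ : Q.Opens)) trivial
  have hfibA : ∀ t, {q : ↥Q | q ∈ A t ∧ k q = v}.Finite := fun t => by
    have : IsAffine (A t).toScheme := hA t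
    have : QuasiCompact ((A t).ι ≫ k) := (quasiCompact_iff_compactSpace _).2 inferInstance
    refine ((((A t).ι ≫ k).finite_preimage_singleton v).image (A t).ι).subset ?_
    rintro q ⟨hq, hk⟩
    exact ⟨⟨q, hq⟩, hk, rfl⟩
  let E : Set ↥Q := ⋃ t ∈ T, ({q : ↥Q | q ∈ A t ∧ k q = v} \ T)
  have hEfin : E.Finite := hT.biUnion fun t _ => (hfibA t).subset Set.sdiff_subset
  have hE : ∀ t ∈ T, t ∉ closure E := fun t ht hc => by
    rw [← Set.biUnion_of_singleton E, hEfin.closure_biUnion] at hc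
    obtain ⟨e, he, hte⟩ := Set.mem_iUnion₂.1 hc
    obtain ⟨s, hs, ⟨heA, hev⟩, heT⟩ := Set.mem_iUnion₂.1 he
    have het : e ⤳ t := specializes_iff_mem_closure.2 hte
    have := (k.isDiscrete_preimage_singleton v).to_subtype
    have h2 : (⟨e, hev⟩ : ↥(k ⁻¹' {v})) ⤳ ⟨t, hTv t ht⟩ :=
      (subtype_specializes_iff ..).2 het
    have het' : e = t := congrArg Subtype.val h2.eq
    exact heT (by rw [het']; exact ht)
  choose B hB htB hBle using fun t : ↥Q =>
    exists_isAffineOpen_mem_and_subset (x := t)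
      (U := (⟨(closure E)ᶜ ∩ A t ∪ (if t ∈ T then ∅ else Set.univ), by
        split <;> first | exact ((isClosed_closure.isOpen_compl).inter (A t).2).union isOpen_empty
                        | exact ((isClosed_closure.isOpen_compl).inter (A t).2).union isOpen_univ⟩ : Q.Opens))
      (by
        by_cases h : t ∈ T
        · exact Or.inl ⟨hE t h, htA t⟩
        · simp [h])
  let W : Q.Opens := ⟨⋃ t ∈ T, (B t : Set ↥Q), isOpen_biUnion fun t _ => (B t).2⟩
  have hWc : IsCompact (W : Set ↥Q) := hT.isCompact_biUnion fun t _ => (hB t).isCompact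
  have : CompactSpace ↥W.toScheme := isCompact_iff_compactSpace.1 hWc
  refine ⟨W, (quasiCompact_iff_compactSpace _).2 inferInstance, Set.ext fun q => ⟨?_, fun hq =>
    ⟨Set.mem_iUnion₂.2 ⟨q, hq, htB q⟩, hTv q hq⟩⟩⟩
  rintro ⟨hqW, hqv⟩
  obtain ⟨t, ht, hqB⟩ := Set.mem_iUnion₂.1 hqW
  have h := hBle t hqB
  rcases h with ⟨hqE, hqA⟩ | h
  · by_contra hqT
    exact hqE (subset_closure (Set.mem_iUnion₂.2 ⟨t, ht, ⟨hqA, hqv⟩, hqT⟩))
  · simp [ht] at h

/-- Finitely many quasi-finite points of a separated morphism are split off by an etale base change. -/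
theorem exists_split_off {X Y : AlgSp.Space S} (f : X ⟶ Y) (hsep : AlgSp.IsSeparatedMor f.hom)
    {V : Over S} [IsAffine V.left] {b : (AlgSp.yon S).obj V ⟶ Y.obj} (hb : AlgSp.RepWith @Etale b)
    (v : ↥V.left) (T : Set (AlgSp.Points (pullback f.hom b))) (hT : T.Finite)
    (hTv : ∀ p ∈ T, AlgSp.Points.map (pullback.snd f.hom b) p = AlgSp.Points.ofScheme V v)
    (hTq : ∀ p ∈ T, QfAtMor f.hom (AlgSp.Points.map (pullback.fst f.hom b) p)) :
    ∃ (U : AlgSp.Space S) (a : U ⟶ Y) (u : AlgSp.Points U.obj), AlgSp.IsEtaleMor a.hom ∧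
      AlgSp.Points.map a.hom u = AlgSp.Points.ofPt b v ∧
      ∀ (P : AlgSp.Space S) (prX : P ⟶ X) (prU : P ⟶ U), IsPullback prX.hom prU.hom f.hom a.hom →
        ∃ (W : AlgSp.Space S) (jW : W ⟶ P), AlgSp.RepWith @IsOpenImmersion jW.hom ∧
          AlgSp.RepWith @IsClosedImmersion jW.hom ∧ AlgSp.IsFiniteMor (jW ≫ prU).hom ∧
          (∀ w : AlgSp.Points W.obj, AlgSp.Points.map (jW ≫ prU).hom w = u →
            ∃ p ∈ T, AlgSp.Points.map (jW ≫ prX).hom w = AlgSp.Points.map (pullback.fst f.hom b) p) ∧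
          (∀ w : AlgSp.Points P.obj, w ∉ Set.range (AlgSp.Points.map jW.hom) → AlgSp.Points.map prU.hom w = u →
            ∃ p, p ∉ T ∧ AlgSp.Points.map (pullback.snd f.hom b) p = AlgSp.Points.ofScheme V v ∧
              AlgSp.Points.map (pullback.fst f.hom b) p = AlgSp.Points.map prX.hom w) ∧
          (∀ p ∈ T, ∃ w : AlgSp.Points W.obj, AlgSp.Points.map (jW ≫ prU).hom w = u ∧
            AlgSp.Points.map (jW ≫ prX).hom w = AlgSp.Points.map (pullback.fst f.hom b) p) := by
  have hS := AlgSpCov.standard_locallyQuasiFinite.{u}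
  have := hS.comp
  have := hS.bc
  -- the quasi-finite part of the base change is a scheme
  obtain ⟨X0, i0, hi0, hi0r⟩ := AlgSpB.exists_openSubspace X (isOpen_qfAt Y.property f.hom)
  have := AlgSpB.mono_of_isOpenImmersion hi0
  have hq0 : AlgSp.LocP (@LocallyQuasiFinite ⊓ @LocallyOfFiniteType) (i0.hom ≫ f.hom) :=
    locP_lqf_open_of_qfAt X0.property X.property Y.property i0.hom hi0 f.hom fun p => hi0r.le ⟨p, rfl⟩
  have hs0 : AlgSp.IsSeparatedMor (i0.hom ≫ f.hom) :=
    AlgSpD.isSeparatedMor_comp (isSeparatedMor_of_mono i0.hom) hsep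
  obtain ⟨Q, k, q0, sQ⟩ := AlgSpB.representable_of_lqf_sep X0.property Y.property _ hq0 hs0 b
  have sP := IsPullback.of_hasPullback f.hom b
  let i := sP.lift (q0 ≫ i0.hom) ((AlgSp.yon S).map k) (by rw [Category.assoc]; exact sQ.w)
  have si : IsPullback q0 i i0.hom (pullback.fst f.hom b) :=
    IsPullback.of_bot (by rw [sP.lift_snd]; exact sQ) (sP.lift_fst _ _ _).symm sP
  have hi : AlgSp.RepWith @IsOpenImmersion i := MorphismProperty.of_isPullback si hi0
  have := AlgSpB.mono_of_isOpenImmersion hi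
  have hk1 : AlgSp.LocP (@LocallyQuasiFinite ⊓ @LocallyOfFiniteType) ((AlgSp.yon S).map k) :=
    AlgSpCov.locP_baseChange hS.etaleLocal X0.property Y.property sQ hq0
  have hk2 : AlgSp.IsSeparatedMor ((AlgSp.yon S).map k) :=
    MorphismProperty.of_isPullback (P := (AlgSp.RepWith @IsClosedImmersion : MorphismProperty (AlgSp.Sp S)).diagonal)
      sQ hs0
  obtain ⟨hk3, hk4⟩ := AlgSp.locP_yon_map hk1
  have : LocallyQuasiFinite k.left := hk3
  have : LocallyOfFiniteType k.left := hk4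
  have : IsSeparated k.left := (AlgSp.isSeparatedMor_yon_map_iff k).1 hk2
  have hTr : ∀ p ∈ T, p ∈ Set.range (AlgSp.Points.map i) := fun p hp => by
    obtain ⟨z, hz⟩ := hi0r.ge (hTq p hp)
    obtain ⟨w, -, hw⟩ := AlgSpB.exists_of_isPullback si z p hz
    exact ⟨w, hw⟩
  have hinj : Function.Injective (fun q : ↥Q.left => AlgSp.Points.map i (AlgSp.Points.ofScheme Q q)) :=
    (AlgSpB.injective_map_of_mono i).comp (AlgSp.Points.schemeHomeo Q).injective
  let TQ : Set ↥Q.left := (fun q => AlgSp.Points.map i (AlgSp.Points.ofScheme Q q)) ⁻¹' T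
  have hkv : ∀ q, AlgSp.Points.map (pullback.snd f.hom b) (AlgSp.Points.map i (AlgSp.Points.ofScheme Q q)) =
      AlgSp.Points.ofScheme V (k.left q) := fun q => by
    rw [← AlgSp.Points.map_comp, sP.lift_snd]
    exact AlgSp.Points.map_yon_map_apply k q
  obtain ⟨W0, hW0qc, hW0T⟩ := exists_open_fibre_eq k.left (v := v) (T := TQ)
    (hT.preimage hinj.injOn) fun q hq =>
      (AlgSp.Points.schemeHomeo V).injective ((hkv q).symm.trans (hTv _ hq))
  -- split off
  have : QuasiCompact (W0.ι ≫ k.left) := hW0qc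
  have hfib : Finite ↥((W0.ι ≫ k.left).fiber v) :=
    ((W0.ι ≫ k.left).fiberHomeo v).finite_iff.2 ((W0.ι ≫ k.left).finite_preimage_singleton v).to_subtype
  obtain ⟨Us, g, u, hu, Vc, hVc, hVfin, hVrem⟩ :=
    Groth.Agent.S9762.result (W0.ι ≫ k.left) v (Set.toFinite _)
  have := hu.etale
  let U : Over S := Over.mk (g ≫ V.hom)
  let gO : U ⟶ V := Over.homMk g rfl
  have : Etale gO.left := hu.etale
  refine ⟨⟨_, AlgSp.IsAlgSpace.yon_obj U⟩, ObjectProperty.homMk ((AlgSp.yon S).map gO ≫ b),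
    AlgSp.Points.ofScheme U u, fun Z φ hφ => (AlgSp.RepWith _).comp_mem _ _ hφ
      (AlgSpB.repWith_etale_map_comp gO hb), ?_, fun P prX prU sq => ?_⟩
  · change AlgSp.Points.map ((AlgSp.yon S).map gO ≫ b) (AlgSp.Points.ofScheme U u) = _
    rw [← AlgSp.Points.ofPt_eq_map_ofScheme, AlgSpB.ofPt_map_comp]
    exact congrArg (AlgSp.Points.ofPt b) hu.base_eq
  let e := sP.lift prX.hom (prU.hom ≫ (AlgSp.yon S).map gO) (by rw [Category.assoc]; exact sq.w)
  have se : IsPullback e prU.hom (pullback.snd f.hom b) ((AlgSp.yon S).map gO) :=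
    IsPullback.of_right (h₁₂ := pullback.fst f.hom b) (h₂₂ := b) (v₁₃ := f.hom)
      (by rw [sP.lift_fst]; exact sq) (sP.lift_snd _ _ _) sP
  let M : Over S := Over.mk (pullback.fst (W0.ι ≫ k.left) g ≫ W0.ι ≫ Q.hom)
  let mQ : M ⟶ Q := Over.homMk (pullback.fst (W0.ι ≫ k.left) g ≫ W0.ι) (Category.assoc _ _ _)
  let W0o : Over S := Over.mk (W0.ι ≫ Q.hom)
  let iW : W0o ⟶ Q := Over.homMk W0.ι rfl
  let m1 : M ⟶ W0o := Over.homMk (pullback.fst (W0.ι ≫ k.left) g) rfl
  let mU : M ⟶ U := Over.homMk (pullback.snd (W0.ι ≫ k.left) g) (by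
    change pullback.snd (W0.ι ≫ k.left) g ≫ g ≫ V.hom = pullback.fst (W0.ι ≫ k.left) g ≫ W0.ι ≫ Q.hom
    rw [← pullback.condition_assoc]; simp [Over.w k])
  have sM : IsPullback m1 mU (iW ≫ k) gO := IsPullback.of_map (Over.forget S)
    (Over.OverMorphism.ext pullback.condition) (IsPullback.of_hasPullback (W0.ι ≫ k.left) g)
  have sMy := sM.map (AlgSp.yon S)
  have hksnd : ((AlgSp.yon S).map iW ≫ i) ≫ pullback.snd f.hom b = (AlgSp.yon S).map (iW ≫ k) := by
    rw [Category.assoc, sP.lift_snd, Functor.map_comp]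
  let jM := se.lift ((AlgSp.yon S).map m1 ≫ (AlgSp.yon S).map iW ≫ i) ((AlgSp.yon S).map mU)
    (by rw [Category.assoc, hksnd, sMy.w])
  have sjM : IsPullback ((AlgSp.yon S).map m1) jM ((AlgSp.yon S).map iW ≫ i) e :=
    IsPullback.of_bot (by rw [se.lift_snd, hksnd]; exact sMy) (se.lift_fst _ _ _).symm se
  have hiW : AlgSp.RepWith @IsOpenImmersion ((AlgSp.yon S).map iW ≫ i) := (AlgSp.RepWith _).comp_mem _ _
    ((AlgSp.repWith_yon_map_iff _ _).2 (inferInstanceAs (IsOpenImmersion W0.ι))) hi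
  have hjM : AlgSp.RepWith @IsOpenImmersion jM := MorphismProperty.of_isPullback sjM hiW
  let Wo : Over S := Over.mk (Vc.ι ≫ M.hom)
  let iV : Wo ⟶ M := Over.homMk Vc.ι rfl
  let jW : (AlgSp.yon S).obj Wo ⟶ P.obj := (AlgSp.yon S).map iV ≫ jM
  have hjW : AlgSp.RepWith @IsOpenImmersion jW := (AlgSp.RepWith _).comp_mem _ _
    ((AlgSp.repWith_yon_map_iff _ _).2 (inferInstanceAs (IsOpenImmersion Vc.ι))) hjM
  let Ws : AlgSp.Space S := ⟨_, AlgSp.IsAlgSpace.yon_obj Wo⟩
  let jWs : Ws ⟶ P := ObjectProperty.homMk jW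
  have hcomp : jW ≫ prU.hom = (AlgSp.yon S).map (iV ≫ mU) := by
    rw [Category.assoc, se.lift_snd, Functor.map_comp]
  have hfin : AlgSp.IsFiniteMor (jWs ≫ prU).hom := by
    change AlgSp.IsFiniteMor (jW ≫ prU.hom)
    rw [hcomp]
    exact (AlgSpD.isFiniteMor_iff _).2 ((AlgSp.repWith_yon_map_iff _ _).2 hVfin)
  have hsepU : AlgSp.IsSeparatedMor prU.hom :=
    MorphismProperty.of_isPullback (P := (AlgSp.RepWith @IsClosedImmersion : MorphismProperty (AlgSp.Sp S)).diagonal)
      sq hsep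
  have hjfin : AlgSp.RepWith @IsFinite jW :=
    (AlgSpD.isFiniteMor_iff jW).1 ((Groth.Agent.S10272.result jWs prU hsepU).1 hfin)
  have hjWc : AlgSp.RepWith @IsClosedImmersion jW := ⟨hjW.1, fun A B g fst snd s => by
    have : IsFinite snd.left := hjfin.2 g fst snd s
    have : IsOpenImmersion snd.left := hjW.2 g fst snd s
    exact (IsClosedImmersion.iff_isFinite_and_mono snd.left).2 ⟨inferInstance, inferInstance⟩⟩
  -- points
  have hw : ∀ (z : ↥Wo.left), AlgSp.Points.map (jW ≫ prU.hom) (AlgSp.Points.ofScheme Wo z) =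
      AlgSp.Points.ofScheme U (mU.left (Vc.ι z)) := fun z => by
    rw [hcomp]; exact AlgSp.Points.map_yon_map_apply (iV ≫ mU) z
  have hwX : ∀ (z : ↥Wo.left), AlgSp.Points.map (jW ≫ prX.hom) (AlgSp.Points.ofScheme Wo z) =
      AlgSp.Points.map (pullback.fst f.hom b)
        (AlgSp.Points.map i (AlgSp.Points.ofScheme Q (W0.ι (m1.left (Vc.ι z))))) := fun z => by
    have e1 : jW ≫ prX.hom = (AlgSp.yon S).map (iV ≫ m1 ≫ iW) ≫ i ≫ pullback.fst f.hom b := by
      calc jW ≫ prX.hom = (AlgSp.yon S).map iV ≫ (jM ≫ e) ≫ pullback.fst f.hom b := by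
            simp only [jW, e, Category.assoc, sP.lift_fst]
        _ = _ := by rw [se.lift_fst]; simp only [Functor.map_comp, Category.assoc]
    rw [e1, AlgSp.Points.map_comp]
    exact (AlgSp.Points.map_comp _ _ _).trans (congrArg _ (congrArg _ (AlgSp.Points.map_yon_map_apply (iV ≫ m1 ≫ iW) z)))
  have hm : ∀ m : ↥M.left, mU.left m = u → W0.ι (m1.left m) ∈ TQ := fun m hm => by
    have h1 : (W0.ι ≫ k.left) (m1.left m) = g (mU.left m) := by
      change ((pullback.fst (W0.ι ≫ k.left) g) ≫ W0.ι ≫ k.left) m = ((pullback.snd (W0.ι ≫ k.left) g) ≫ g) m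
      rw [pullback.condition]
    rw [hm, show g u = v from hu.base_eq] at h1
    exact hW0T.le ⟨(m1.left m).2, h1⟩
  have hVall : ∀ m : ↥M.left, mU.left m = u → m ∈ Vc := fun m hm => by
    by_contra hmV
    let fz := ((pullback.snd (W0.ι ≫ k.left) g).fiberHomeo u).symm ⟨m, hm⟩
    have hfz : (pullback.snd (W0.ι ≫ k.left) g).fiberι u fz = m :=
      (pullback.snd (W0.ι ≫ k.left) g).fiberι_fiberHomeo_symm _ _
    refine hVrem fz (by rw [hfz]; exact hmV) ?_
    have : LocallyQuasiFinite (W0.ι ≫ k.left) := inferInstance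
    have := ((pullback.snd (W0.ι ≫ k.left) g).isDiscrete_preimage_singleton u).to_subtype
    have : DiscreteTopology ↥((pullback.snd (W0.ι ≫ k.left) g).fiber u) :=
      ((pullback.snd (W0.ι ≫ k.left) g).fiberHomeo u).discreteTopology_iff.2 ‹_›
    exact isOpen_discrete _
  refine ⟨Ws, jWs, hjW, hjWc, hfin, fun w hwu => ?_, fun w hwn hwu => ?_, fun p hp => ?_⟩
  · obtain ⟨z, rfl⟩ := (AlgSp.Points.schemeHomeo Wo).surjective w
    have hz : mU.left (Vc.ι z) = u := (AlgSp.Points.schemeHomeo U).injective ((hw z).symm.trans hwu)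
    exact ⟨_, hm _ hz, hwX z⟩
  · refine ⟨AlgSp.Points.map e w, fun hp => ?_, ?_, by rw [← AlgSp.Points.map_comp, sP.lift_fst]⟩
    · obtain ⟨q, hq⟩ := hTr _ hp
      obtain ⟨q, rfl⟩ := (AlgSp.Points.schemeHomeo Q).surjective q
      have hqT : q ∈ TQ := by
        show AlgSp.Points.map i (AlgSp.Points.ofScheme Q q) ∈ T
        exact hq.symm ▸ hp
      have hqW : q ∈ W0 := (hW0T.ge hqT).1
      obtain ⟨w', -, hw'⟩ := AlgSpB.exists_of_isPullback sjM (AlgSp.Points.ofScheme W0o (⟨q, hqW⟩ : ↥W0.toScheme)) w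
        (by rw [AlgSp.Points.map_comp]; exact (congrArg _ (AlgSp.Points.map_yon_map_apply iW _)).trans hq)
      obtain ⟨m, rfl⟩ := (AlgSp.Points.schemeHomeo M).surjective w'
      have hmu : mU.left m = u := (AlgSp.Points.schemeHomeo U).injective (by
        show AlgSp.Points.ofScheme U (mU.left m) = AlgSp.Points.ofScheme U u
        rw [← hwu, ← hw', ← AlgSp.Points.map_comp, se.lift_snd]
        exact (AlgSp.Points.map_yon_map_apply mU m).symm)
      refine hwn ⟨AlgSp.Points.ofScheme Wo (⟨m, hVall m hmu⟩ : ↥Vc.toScheme), ?_⟩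
      rw [← hw']
      exact (AlgSp.Points.map_comp _ _ _).trans (congrArg _ (AlgSp.Points.map_yon_map_apply iV _))
    · rw [← AlgSp.Points.map_comp, sP.lift_snd, AlgSp.Points.map_comp, hwu]
      exact (AlgSp.Points.map_yon_map_apply gO u).trans (congrArg _ hu.base_eq)
  · obtain ⟨q, hq⟩ := hTr p hp
    obtain ⟨q, rfl⟩ := (AlgSp.Points.schemeHomeo Q).surjective q
    have hqT : q ∈ TQ := by
      show AlgSp.Points.map i (AlgSp.Points.ofScheme Q q) ∈ T
      exact hq.symm ▸ hp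
    obtain ⟨hqW, hqv⟩ := hW0T.ge hqT
    obtain ⟨m, hm1, hm2⟩ := Scheme.exists_preimage_of_isPullback (IsPullback.of_hasPullback (W0.ι ≫ k.left) g)
      (⟨q, hqW⟩ : ↥W0.toScheme) u (by rw [show g u = v from hu.base_eq]; exact hqv)
    refine ⟨AlgSp.Points.ofScheme Wo (⟨m, hVall m hm2⟩ : ↥Vc.toScheme), ?_, ?_⟩
    · exact (hw _).trans (congrArg _ hm2)
    · refine (hwX _).trans ?_
      rw [← hq]
      exact congrArg (fun r => AlgSp.Points.map (pullback.fst f.hom b) (AlgSp.Points.map i (AlgSp.Points.ofScheme Q r)))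
        (congrArg (fun r => W0.ι r) hm1)

end Groth.Agent.AlgSp
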