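import Groth.Agent.AlgSp.NormQf
import Groth.Agent.AlgSp.SplitOff
import Groth.Agent.AlgSpD.IntegralMor

/-!
# The normalization over the quasi-finite locus
-/

universe u

open CategoryTheory CategoryTheory.Limits AlgebraicGeometry Opposite

set_option backward.isDefEq.respectTransparency.types false

namespace Groth.Agent.AlgSp

open ElemDist

variable {S : Scheme.{u}}

/-- Maps out of a scheme split into two open pieces are given on the pieces. -/
theorem exists_hom_of_disjoint_opens {N Z : Scheme.{u}} (A B : N.Opens) (hAB : ∀ x, x ∈ A → x ∉ B)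
    (hcov : ∀ x, x ∈ A ∨ x ∈ B) (a : A.toScheme ⟶ Z) (b : B.toScheme ⟶ Z) :
    ∃ e : N ⟶ Z, A.ι ≫ e = a ∧ B.ι ≫ e = b := by
  let O : Bool → N.Opens := fun c => bif c then A else B
  have hO : TopologicalSpace.IsOpenCover O := TopologicalSpace.IsOpenCover.mk
    (top_le_iff.1 fun x _ => TopologicalSpace.Opens.mem_iSup.2
      ((hcov x).elim (fun h => ⟨true, h⟩) (fun h => ⟨false, h⟩)))
  let 𝒰 := N.openCoverOfIsOpenCover O hO
  let m : ∀ c : Bool, (O c).toScheme ⟶ Z := fun c => match c with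
    | true => a
    | false => b
  have hm : ∀ c c', pullback.fst (𝒰.f c) (𝒰.f c') ≫ m c = pullback.snd (𝒰.f c) (𝒰.f c') ≫ m c' := by
    have hempty : ∀ (x : ↥(pullback A.ι B.ι)), False := fun x =>
      hAB _ ((pullback.fst A.ι B.ι) x).2 (by
        have := congrArg (fun φ : pullback A.ι B.ι ⟶ N => φ x) (pullback.condition (f := A.ι) (g := B.ι))
        change A.ι ((pullback.fst A.ι B.ι) x) = B.ι ((pullback.snd A.ι B.ι) x) at this
        have h2 := ((pullback.snd A.ι B.ι) x).2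
        simp only [Scheme.Opens.ι_apply] at this
        rw [this]; exact h2)
    have hempty' : ∀ (x : ↥(pullback B.ι A.ι)), False := fun x =>
      hempty ((pullbackSymmetry B.ι A.ι).hom x)
    rintro (_ | _) (_ | _)
    · exact congrArg (· ≫ b) ((cancel_mono B.ι).1 pullback.condition)
    · have : IsEmpty ↥(pullback B.ι A.ι) := ⟨hempty'⟩
      exact (isInitialOfIsEmpty (X := pullback B.ι A.ι)).hom_ext _ _
    · have : IsEmpty ↥(pullback A.ι B.ι) := ⟨hempty⟩
      exact (isInitialOfIsEmpty (X := pullback A.ι B.ι)).hom_ext _ _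
    · exact congrArg (· ≫ a) ((cancel_mono A.ι).1 pullback.condition)
  exact ⟨𝒰.glueMorphisms m hm, 𝒰.ι_glueMorphisms m hm true, 𝒰.ι_glueMorphisms m hm false⟩

theorem isClosed_range_of_isClosedImmersion {F G : AlgSp.Sp S} {j : F ⟶ G}
    (hj : AlgSp.RepWith @IsClosedImmersion j) : IsClosed (Set.range (AlgSp.Points.map j)) := by
  rw [← isOpen_compl_iff, AlgSp.Points.isOpen_iff]
  intro T g
  obtain ⟨Wc, snd, fst, sq⟩ := hj.1 g
  have : IsClosedImmersion snd.left := hj.2 _ _ _ sq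
  rw [Set.preimage_compl, isOpen_compl_iff, ← AlgSpB.range_snd_eq sq]
  exact snd.left.isClosedEmbedding.isClosed_range

variable {P : AlgSp.Sp S} {U W N : Over S}

/-- A finite open and closed piece of the source is an open piece of the normalization. -/
theorem exists_open_piece (hP : AlgSp.IsAlgSpace P) {g : P ⟶ (AlgSp.yon S).obj U} {ν : N ⟶ U}
    {f' : P ⟶ (AlgSp.yon S).obj N} (hn : AlgSp.IsRelNormalization g ((AlgSp.yon S).map ν) f')
    (jW : (AlgSp.yon S).obj W ⟶ P) (hjo : AlgSp.RepWith @IsOpenImmersion jW)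
    (hjc : AlgSp.RepWith @IsClosedImmersion jW) (i : W ⟶ U) (hi : IsFinite i.left)
    (w : jW ≫ g = (AlgSp.yon S).map i) :
    ∃ (N₁ : Over S) (ι : N₁ ⟶ N) (fW : W ⟶ N₁), IsOpenImmersion ι.left ∧ IsIso fW ∧
      IsPullback jW ((AlgSp.yon S).map fW) f' ((AlgSp.yon S).map ι) := by
  -- the target of the splitting
  let Z : Over S := Over.mk (coprod.desc W.hom U.hom : (W.left ⨿ U.left : Scheme.{u}) ⟶ S)
  let zW : W ⟶ Z := Over.homMk coprod.inl (coprod.inl_desc _ _)
  let zU : U ⟶ Z := Over.homMk coprod.inr (coprod.inr_desc _ _)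
  let π : Z ⟶ U := Over.homMk (coprod.desc i.left (𝟙 U.left)) (by
    apply coprod.hom_ext
    · rw [coprod.inl_desc_assoc, Over.w i]; exact (coprod.inl_desc _ _).symm
    · rw [coprod.inr_desc_assoc, Category.id_comp]; exact (coprod.inr_desc _ _).symm)
  have hzWπ : zW ≫ π = i := Over.OverMorphism.ext (coprod.inl_desc _ _)
  have hzUπ : zU ≫ π = 𝟙 U := Over.OverMorphism.ext (coprod.inr_desc _ _)
  -- the complement
  obtain ⟨C, jC, hjC, hCr⟩ := AlgSpB.exists_openSubspace ⟨P, hP⟩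
    (W := (Set.range (AlgSp.Points.map jW))ᶜ) (isClosed_range_of_isClosedImmersion hjc).isOpen_compl
  obtain ⟨A, a, ha, has⟩ := C.property.atlas
  let V : Bool → Over S := fun b => match b with
    | true => W
    | false => A
  let p : ∀ b, (AlgSp.yon S).obj (V b) ⟶ P := fun b => match b with
    | true => jW
    | false => a ≫ jC.hom
  have hp : ∀ b, AlgSp.RepWith @Etale (p b) := fun b => match b with
    | true => repWith_mono (fun φ (hφ : IsOpenImmersion φ) => (inferInstance : Etale φ)) hjo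
    | false => MorphismProperty.comp_mem _ _ _ ha
        (repWith_mono (fun φ (hφ : IsOpenImmersion φ) => (inferInstance : Etale φ)) hjC)
  have hWr : ∀ t : W.left, AlgSp.Points.ofPt jW t ∈ Set.range (AlgSp.Points.map jW) := fun t =>
    ⟨AlgSp.Points.ofScheme W t, (AlgSp.Points.ofPt_eq_map_ofScheme _ _).symm⟩
  have hAr : ∀ t : A.left, AlgSp.Points.ofPt (a ≫ jC.hom) t ∉ Set.range (AlgSp.Points.map jW) := fun t => by
    have : AlgSp.Points.ofPt (a ≫ jC.hom) t ∈ Set.range (AlgSp.Points.map jC.hom) :=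
      ⟨AlgSp.Points.ofPt a t, AlgSp.Points.map_ofPt a jC.hom t⟩
    rw [hCr] at this
    exact this
  have hps : ∀ x, ∃ b t, AlgSp.Points.ofPt (p b) t = x := fun x => by
    by_cases hx : x ∈ Set.range (AlgSp.Points.map jW)
    · obtain ⟨z, rfl⟩ := hx
      obtain ⟨t, rfl⟩ := (AlgSp.Points.schemeHomeo W).surjective z
      exact ⟨true, t, AlgSp.Points.ofPt_eq_map_ofScheme _ _⟩
    · have hx' : x ∈ Set.range (AlgSp.Points.map jC.hom) := hCr.ge hx
      obtain ⟨z, rfl⟩ := hx'
      obtain ⟨t, rfl⟩ := AlgSpB.surjective_ofPt has z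
      exact ⟨false, t, (AlgSp.Points.map_ofPt a jC.hom t).symm⟩
  have hempty : ∀ (T : Over S) (α : (AlgSp.yon S).obj T ⟶ (AlgSp.yon S).obj W)
      (β : (AlgSp.yon S).obj T ⟶ (AlgSp.yon S).obj A), α ≫ jW = β ≫ a ≫ jC.hom → IsEmpty T.left := by
    intro T α β hαβ
    refine ⟨fun t => ?_⟩
    obtain ⟨α, rfl⟩ := (AlgSp.yon S).map_surjective α
    obtain ⟨β, rfl⟩ := (AlgSp.yon S).map_surjective β
    exact hAr (β.left t) (by rw [← AlgSpB.ofPt_map_comp β, ← hαβ, AlgSpB.ofPt_map_comp α]; exact hWr _)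
  have hext : ∀ {T : Over S} {G : AlgSp.Sp S} (_ : IsEmpty T.left) (x y : (AlgSp.yon S).obj T ⟶ G), x = y :=
    fun hT x y => InfGlue.hom_ext_cover (ι := PEmpty.{u + 1}) (U := fun z => z.elim) (fun z => z.elim)
      (fun z => z.elim) (fun t => hT.elim t) _ _ (fun z => z.elim)
  let m : ∀ b, (AlgSp.yon S).obj (V b) ⟶ (AlgSp.yon S).obj Z := fun b => match b with
    | true => (AlgSp.yon S).map zW
    | false => (a ≫ jC.hom ≫ g) ≫ (AlgSp.yon S).map zU
  obtain ⟨gZ, hgZ⟩ := exists_desc_fam hp hps m (by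
    intro b b' T α β hαβ
    have := AlgSpB.mono_of_isOpenImmersion hjo
    have := AlgSpB.mono_of_isOpenImmersion hjC
    cases b <;> cases b'
    · have : α ≫ a = β ≫ a := by rw [← cancel_mono jC.hom, Category.assoc, Category.assoc]; exact hαβ
      simp only [m, ← Category.assoc, this]
    · exact hext (hempty T β α hαβ.symm) _ _
    · exact hext (hempty T α β hαβ) _ _
    · rw [(cancel_mono jW).1 hαβ])
  have hgW : jW ≫ gZ = (AlgSp.yon S).map zW := hgZ true
  have hgC : (a ≫ jC.hom) ≫ gZ = (a ≫ jC.hom ≫ g) ≫ (AlgSp.yon S).map zU := hgZ false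
  have hgπ : gZ ≫ (AlgSp.yon S).map π = g := hom_ext_fam hp hps fun b => by
    cases b
    · change (a ≫ jC.hom) ≫ _ = (a ≫ jC.hom) ≫ g
      rw [← Category.assoc, hgC, Category.assoc, ← Functor.map_comp, hzUπ, CategoryTheory.Functor.map_id,
        Category.comp_id, Category.assoc]
    · change jW ≫ _ = jW ≫ g
      rw [← Category.assoc, hgW, ← Functor.map_comp, hzWπ, w]
  have hπ : AlgSp.IsIntegralMor ((AlgSp.yon S).map π) := by
    rw [AlgSpD.isIntegralMor_iff, AlgSp.repWith_yon_map_iff]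
    exact (inferInstance : IsIntegralHom (coprod.desc i.left (𝟙 U.left)))
  obtain ⟨k, ⟨hk1, hk2⟩, -⟩ := hn.2.2 (AlgSp.IsAlgSpace.yon_obj Z) _ gZ hπ hgπ
  obtain ⟨k, rfl⟩ := (AlgSp.yon S).map_surjective k
  have hkν : k ≫ π = ν := (AlgSp.yon S).map_injective (by rw [Functor.map_comp, hk2])
  -- the two pieces of the normalization
  let O : N.left.Opens := k.left ⁻¹ᵁ (coprod.inl : W.left ⟶ W.left ⨿ U.left).opensRange
  let O' : N.left.Opens := k.left ⁻¹ᵁ (coprod.inr : U.left ⟶ W.left ⨿ U.left).opensRange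
  have hlr : IsCompl (coprod.inl : W.left ⟶ W.left ⨿ U.left).opensRange
      (coprod.inr : U.left ⟶ W.left ⨿ U.left).opensRange := isCompl_opensRange_inl_inr W.left U.left
  have hOO : ∀ x, x ∈ O → x ∉ O' := fun x hx hx' =>
    (disjoint_iff.1 hlr.disjoint).le ⟨hx, hx'⟩
  have hcov : ∀ x, x ∈ O ∨ x ∈ O' := fun x =>
    TopologicalSpace.Opens.mem_sup.1 ((codisjoint_iff.1 hlr.codisjoint).ge (TopologicalSpace.Opens.mem_top (k.left x)))
  let N₁ : Over S := Over.mk (O.ι ≫ N.hom)
  let ι : N₁ ⟶ N := Over.homMk O.ι rfl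
  let kW₀ : O.toScheme ⟶ W.left := IsOpenImmersion.lift coprod.inl (O.ι ≫ k.left) (by
    rintro _ ⟨x, rfl⟩
    exact x.2)
  have hkW₀ : kW₀ ≫ coprod.inl = O.ι ≫ k.left := IsOpenImmersion.lift_fac _ _ _
  let kW : N₁ ⟶ W := Over.homMk kW₀ (by
    rw [show W.hom = coprod.inl ≫ Z.hom from (coprod.inl_desc _ _).symm, reassoc_of% hkW₀, Over.w k]
    rfl)
  have hkW : kW ≫ zW = ι ≫ k := Over.OverMorphism.ext hkW₀
  obtain ⟨fN, hfN⟩ := (AlgSp.yon S).map_surjective (jW ≫ f')
  have hfk : fN ≫ k = zW := (AlgSp.yon S).map_injective (by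
    rw [Functor.map_comp, hfN, Category.assoc, hk1, hgW])
  have hfO : ∀ x, fN.left x ∈ O := fun x => by
    change k.left (fN.left x) ∈ (coprod.inl : W.left ⟶ W.left ⨿ U.left).opensRange
    rw [← Scheme.Hom.comp_apply, ← Over.comp_left, hfk]
    exact ⟨x, rfl⟩
  let fW : W ⟶ N₁ := Over.homMk (IsOpenImmersion.lift O.ι fN.left (by
    rintro _ ⟨x, rfl⟩
    rw [Scheme.Opens.range_ι]
    exact hfO x)) (by
      change IsOpenImmersion.lift O.ι fN.left _ ≫ O.ι ≫ N.hom = W.hom
      rw [IsOpenImmersion.lift_fac_assoc, Over.w fN])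
  have hfW : fW ≫ ι = fN := Over.OverMorphism.ext (IsOpenImmersion.lift_fac _ _ _)
  have hfk' : fW ≫ kW = 𝟙 W := by
    refine Over.OverMorphism.ext ((cancel_mono (coprod.inl : W.left ⟶ W.left ⨿ U.left)).1 ?_)
    change (fW.left ≫ kW₀) ≫ coprod.inl = 𝟙 W.left ≫ coprod.inl
    rw [Category.assoc, hkW₀, ← Category.assoc, show fW.left ≫ O.ι = fN.left from congrArg CommaMorphism.left hfW,
      Category.id_comp]
    exact congrArg CommaMorphism.left hfk
  have hfν : fN ≫ ν = i := (AlgSp.yon S).map_injective (by rw [Functor.map_comp, hfN, Category.assoc, hn.1, w])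
  -- the inverse
  obtain ⟨e₀, he1, he2⟩ := exists_hom_of_disjoint_opens O O' hOO hcov (kW₀ ≫ fN.left) O'.ι
  have hι0 : kW₀ ≫ fN.left ≫ ν.left = O.ι ≫ ν.left := by
    rw [show fN.left ≫ ν.left = i.left from congrArg CommaMorphism.left hfν, ← hkν, Over.comp_left,
      ← reassoc_of% hkW₀]
    exact congrArg (kW₀ ≫ ·) (coprod.inl_desc _ _).symm
  have heν : e₀ ≫ ν.left = ν.left := by
    obtain ⟨d, hd1, hd2⟩ := exists_hom_of_disjoint_opens O O' hOO hcov (O.ι ≫ ν.left) (O'.ι ≫ ν.left)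
    refine Scheme.Cover.hom_ext (N.left.openCoverOfIsOpenCover (fun b : Bool => bif b then O else O') ?_) _ _ fun b => ?_
    · refine TopologicalSpace.IsOpenCover.mk (top_le_iff.1 fun x _ => TopologicalSpace.Opens.mem_iSup.2 ?_)
      exact (hcov x).elim (fun h => ⟨true, h⟩) (fun h => ⟨false, h⟩)
    · cases b
      · change O'.ι ≫ e₀ ≫ ν.left = O'.ι ≫ ν.left
        rw [reassoc_of% he2]
      · change O.ι ≫ e₀ ≫ ν.left = O.ι ≫ ν.left
        rw [reassoc_of% he1, hι0]
  let e : N ⟶ N := Over.homMk e₀ (by rw [← Over.w ν, reassoc_of% heν])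
  have hfe : f' ≫ (AlgSp.yon S).map e = f' := hom_ext_fam hp hps fun b => by
    cases b
    · change (a ≫ jC.hom) ≫ _ = (a ≫ jC.hom) ≫ f'
      obtain ⟨φ, hφ⟩ := (AlgSp.yon S).map_surjective ((a ≫ jC.hom) ≫ f')
      obtain ⟨ψ, hψ⟩ := (AlgSp.yon S).map_surjective (a ≫ jC.hom ≫ g)
      have hφk : φ ≫ k = ψ ≫ zU := (AlgSp.yon S).map_injective (by
        rw [Functor.map_comp, Functor.map_comp, hφ, hψ, Category.assoc _ f', hk1, hgC])
      rw [← Category.assoc, ← hφ, ← Functor.map_comp]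
      congr 1
      apply Over.OverMorphism.ext
      have hmem : ∀ x, φ.left x ∈ O' := fun x => by
        change k.left (φ.left x) ∈ (coprod.inr : U.left ⟶ W.left ⨿ U.left).opensRange
        rw [← Scheme.Hom.comp_apply, ← Over.comp_left, hφk]
        exact ⟨ψ.left x, rfl⟩
      change φ.left ≫ e₀ = φ.left
      rw [← IsOpenImmersion.lift_fac O'.ι φ.left (by rintro _ ⟨x, rfl⟩; rw [Scheme.Opens.range_ι]; exact hmem x),
        Category.assoc, he2]
    · change jW ≫ _ = jW ≫ f'
      rw [← Category.assoc, ← hfN, ← Functor.map_comp]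
      congr 1
      apply Over.OverMorphism.ext
      change fN.left ≫ e₀ = fN.left
      conv_lhs => rw [← show fW.left ≫ O.ι = fN.left from congrArg CommaMorphism.left hfW]
      rw [Category.assoc, he1, ← Category.assoc]
      exact (congrArg (· ≫ fN.left) (congrArg CommaMorphism.left hfk')).trans (Category.id_comp _)
  have he : e = 𝟙 N := (AlgSp.yon S).map_injective (relNorm_hom_ext hn (AlgSp.IsAlgSpace.yon_obj N) hn.2.1
    (by rw [← Functor.map_comp]; exact congrArg _ (Over.OverMorphism.ext heν))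
    (by rw [← Functor.map_comp, Category.id_comp]) (by rw [hfe, CategoryTheory.Functor.map_id, Category.comp_id]))
  have hkf : kW ≫ fW = 𝟙 N₁ := by
    refine Over.OverMorphism.ext ((cancel_mono O.ι).1 ?_)
    change (kW₀ ≫ fW.left) ≫ O.ι = 𝟙 _ ≫ O.ι
    rw [Category.assoc, show fW.left ≫ O.ι = fN.left from congrArg CommaMorphism.left hfW, ← he1,
      show e₀ = 𝟙 N.left from congrArg CommaMorphism.left he, Category.comp_id, Category.id_comp]
  have : IsIso fW := ⟨kW, hfk', hkf⟩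
  refine ⟨N₁, ι, fW, inferInstanceAs (IsOpenImmersion O.ι), this, ?_⟩
  -- the inverse image
  have hsq : jW ≫ f' = (AlgSp.yon S).map fW ≫ (AlgSp.yon S).map ι := by rw [← Functor.map_comp, hfW, hfN]
  let θ := pullback.lift (f := f') (g := (AlgSp.yon S).map ι) jW ((AlgSp.yon S).map fW) hsq
  have : IsIso θ := by
    refine isIso_of_yon θ fun T x => ?_
    have := AlgSpB.mono_of_isOpenImmersion hjo
    obtain ⟨x₂, hx₂⟩ := (AlgSp.yon S).map_surjective (x ≫ pullback.snd _ _)
    have hxW : Set.range (AlgSp.Points.ofPt (x ≫ pullback.fst f' ((AlgSp.yon S).map ι))) ⊆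
        Set.range (AlgSp.Points.map jW) := by
      rintro _ ⟨t, rfl⟩
      by_contra hC
      obtain ⟨z, hz⟩ := hCr.ge hC
      obtain ⟨s, rfl⟩ := AlgSpB.surjective_ofPt has z
      obtain ⟨φ, hφ⟩ := (AlgSp.yon S).map_surjective ((a ≫ jC.hom) ≫ f')
      obtain ⟨ψ, hψ⟩ := (AlgSp.yon S).map_surjective (a ≫ jC.hom ≫ g)
      have hφk : φ ≫ k = ψ ≫ zU := (AlgSp.yon S).map_injective (by
        rw [Functor.map_comp, Functor.map_comp, hφ, hψ, Category.assoc _ f', hk1, hgC])
      have e1 : φ.left s = ι.left (x₂.left t) := by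
        have := congrArg (AlgSp.Points.map f') hz
        rw [← AlgSp.Points.map_comp, AlgSp.Points.map_ofPt, ← Category.assoc, ← hφ] at this
        rw [AlgSp.Points.map_ofPt, Category.assoc, pullback.condition, ← Category.assoc, ← hx₂,
          ← Functor.map_comp] at this
        have h' := ((AlgSp.Points.ofPt_eq_map_ofScheme _ _).trans (AlgSp.Points.map_yon_map_apply φ s)).symm.trans
          (this.trans ((AlgSp.Points.ofPt_eq_map_ofScheme _ _).trans (AlgSp.Points.map_yon_map_apply (x₂ ≫ ι) t)))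
        exact (AlgSp.Points.schemeHomeo N).injective h'
      refine hOO (φ.left s) (e1 ▸ (x₂.left t : ↥O.toScheme).2) ?_
      change k.left (φ.left s) ∈ (coprod.inr : U.left ⟶ W.left ⨿ U.left).opensRange
      rw [← Scheme.Hom.comp_apply, ← Over.comp_left, hφk]
      exact ⟨ψ.left s, rfl⟩
    obtain ⟨y, hy⟩ := AlgSpB.exists_lift_yon_of_isOpenImmersion hjo _ hxW
    obtain ⟨y, rfl⟩ := (AlgSp.yon S).map_surjective y
    refine ⟨y, ?_, fun y' hy' => (AlgSp.yon S).map_injective ((cancel_mono jW).1 (hy.symm ▸ ?_))⟩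
    · apply pullback.hom_ext
      · rw [Category.assoc, pullback.lift_fst, hy]
      · have : Mono ((AlgSp.yon S).map ι) := by
          have : Mono ι := (Over.forget S).mono_of_mono_map (inferInstanceAs (Mono O.ι))
          infer_instance
        rw [← cancel_mono ((AlgSp.yon S).map ι)]
        simp only [Category.assoc, θ, pullback.lift_snd_assoc]
        rw [← hsq, reassoc_of% hy, pullback.condition]
    · rw [← hy', Category.assoc, pullback.lift_fst]
  exact IsPullback.of_iso_pullback ⟨hsq⟩ (asIso θ) (pullback.lift_fst _ _ _) (pullback.lift_snd _ _ _)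

end Groth.Agent.AlgSp
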