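import Groth.Agent.AlgSp.NormQfLocus

/-!
# The normalization is an isomorphism over the quasi-finite locus
-/

universe u

open CategoryTheory CategoryTheory.Limits AlgebraicGeometry Opposite

set_option backward.isDefEq.respectTransparency.types false

namespace Groth.Agent.AlgSp

open ElemDist

variable {S : Scheme.{u}} {X Y Y' : AlgSp.Space S} {f : X ⟶ Y} {ν : Y' ⟶ Y} {f' : X ⟶ Y'}

/-- Near a quasi-finite point the normalization is etale locally an isomorphism. -/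
theorem exists_iso_chart (hft : AlgSp.IsFiniteTypeMor f.hom) (hsep : AlgSp.IsSeparatedMor f.hom)
    (hn : AlgSp.IsRelNormalization f.hom ν.hom f'.hom) {x : AlgSp.Points X.obj} (hx : QfAtMor f.hom x) :
    ∃ (N₁ W : Over S) (q : (AlgSp.yon S).obj N₁ ⟶ Y'.obj) (p : (AlgSp.yon S).obj W ⟶ X.obj) (fW : W ⟶ N₁),
      AlgSp.RepWith @Etale q ∧ IsIso fW ∧ IsPullback p ((AlgSp.yon S).map fW) f'.hom q ∧
        x ∈ Set.range (AlgSp.Points.ofPt p) ∧ ∀ t, QfAtMor f.hom (AlgSp.Points.ofPt p t) := by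
  obtain ⟨ι, T, b, hT, hb, hbs⟩ := exists_affine_family Y.property
  obtain ⟨i, v, hv⟩ := hbs (AlgSp.Points.map f.hom x)
  obtain ⟨p₀, hp₁, hp₂⟩ := AlgSpB.exists_of_isPullback (IsPullback.of_hasPullback f.hom (b i)) x
    (AlgSp.Points.ofScheme (T i) v) (by rw [← hv, AlgSp.Points.ofPt_eq_map_ofScheme])
  have := hT i
  obtain ⟨U, a, u, ha, -, hsplit⟩ := exists_split_off f hsep (hb i) v {p₀} (Set.finite_singleton p₀)
    (by rintro _ rfl; exact hp₂) (by rintro _ rfl; rw [hp₁]; exact hx)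
  let P : AlgSp.Space S := ⟨pullback f.hom a.hom, isAlgSpace_pullback Y.property X.property U.property _ _⟩
  let prX : P ⟶ X := ObjectProperty.homMk (pullback.fst f.hom a.hom)
  let prU : P ⟶ U := ObjectProperty.homMk (pullback.snd f.hom a.hom)
  have sP : IsPullback prX.hom prU.hom f.hom a.hom := IsPullback.of_hasPullback _ _
  obtain ⟨W₀, jW, hjo, hjc, hfin, -, -, hw⟩ := hsplit P prX prU sP
  obtain ⟨w₀, hw₁, hw₂⟩ := hw p₀ rfl
  obtain ⟨κ, T', c, hT', hc, hcs⟩ := exists_affine_family U.property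
  obtain ⟨k, u', hu'⟩ := hcs u
  obtain ⟨W, i₁, cW, sW, -, hi₁⟩ := hfin (hT' k) (c k)
  change IsPullback cW ((AlgSp.yon S).map i₁) (jW.hom ≫ prU.hom) (c k) at sW
  let a₁ := c k ≫ a.hom
  have ha₁ : AlgSp.RepWith @Etale a₁ := ha (c k) (hc k)
  have hT'A := AlgSp.IsAlgSpace.yon_obj (T' k)
  have sP₁ := IsPullback.of_hasPullback f.hom a₁
  have hP₁ := isAlgSpace_pullback Y.property X.property hT'A f.hom a₁
  let jW₁ := sP₁.lift (cW ≫ jW.hom ≫ prX.hom) ((AlgSp.yon S).map i₁) (by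
    rw [Category.assoc, Category.assoc, sP.w, ← Category.assoc jW.hom, ← Category.assoc, sW.w, Category.assoc])
  let pr := sP.lift (pullback.fst f.hom a₁) (pullback.snd f.hom a₁ ≫ c k) (by rw [Category.assoc]; exact sP₁.w)
  have spr : IsPullback pr (pullback.snd f.hom a₁) prU.hom (c k) :=
    IsPullback.of_right (by rw [sP.lift_fst]; exact sP₁) (sP.lift_snd _ _ _) sP
  have sj : IsPullback cW jW₁ jW.hom pr := by
    refine IsPullback.of_bot ?_ ?_ spr
    · rw [sP₁.lift_snd]; exact sW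
    · apply sP.hom_ext
      · rw [Category.assoc, Category.assoc, sP.lift_fst, sP₁.lift_fst]
      · rw [Category.assoc, Category.assoc, sP.lift_snd, sP₁.lift_snd_assoc, sW.w]
  have hνr : AlgSp.RepWith @IsIntegralHom ν.hom := (AlgSpD.isIntegralMor_iff _).1 hn.2.1
  obtain ⟨N, cN, νN, sN⟩ : ∃ (N : Over S) (cN : (AlgSp.yon S).obj N ⟶ Y'.obj) (νN : N ⟶ T' k),
      IsPullback cN ((AlgSp.yon S).map νN) ν.hom a₁ := ⟨_, _, _, hνr.1.isPullback _⟩
  let fU := sN.lift (pullback.fst f.hom a₁ ≫ f'.hom) (pullback.snd f.hom a₁) (by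
    rw [Category.assoc, hn.1, sP₁.w])
  have hnU := relNorm_smooth_baseChange X.property Y.property Y'.property hT'A (AlgSp.IsAlgSpace.yon_obj N)
    hft.2 (isQuasiSeparatedMor_of_sep hsep) hn (locP_smooth_of_etale ha₁) sP₁ sN (f₁' := fU)
    (sN.lift_snd _ _ _) (sN.lift_fst _ _ _)
  have hjWo : AlgSp.RepWith @IsOpenImmersion jW₁ := MorphismProperty.of_isPullback sj hjo
  obtain ⟨N₁, ι₁, fW, hι₁, hfW, sfW⟩ := exists_open_piece hP₁ hnU jW₁ hjWo
    (MorphismProperty.of_isPullback sj hjc) i₁ hi₁ (sP₁.lift_snd _ _ _)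
  have hcN : AlgSp.RepWith @Etale cN := MorphismProperty.of_isPullback sN.flip ha₁
  have sf : IsPullback (pullback.fst f.hom a₁) fU f'.hom cN := by
    refine IsPullback.of_bot ?_ (sN.lift_fst _ _ _).symm sN
    rw [sN.lift_snd, hn.1]; exact sP₁
  have := hι₁
  have hp : AlgSp.RepWith @Etale (jW₁ ≫ pullback.fst f.hom a₁) :=
    MorphismProperty.comp_mem _ _ _ (repWith_mono (fun φ (hφ : IsOpenImmersion φ) => (inferInstance : Etale φ)) hjWo)
      (MorphismProperty.of_isPullback sP₁.flip ha₁)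
  refine ⟨N₁, W, (AlgSp.yon S).map ι₁ ≫ cN, jW₁ ≫ pullback.fst f.hom a₁, fW,
    AlgSpB.repWith_etale_map_comp ι₁ hcN, hfW, sfW.flip.paste_vert sf.flip |>.flip, ?_, fun t => ?_⟩
  · obtain ⟨z, hz, -⟩ := AlgSpB.exists_of_isPullback sW w₀ (AlgSp.Points.ofScheme (T' k) u') (by
      refine Eq.trans ?_ (AlgSp.Points.ofPt_eq_map_ofScheme (c k) u')
      exact hw₁.trans hu'.symm)
    obtain ⟨z, rfl⟩ := (AlgSp.Points.schemeHomeo W).surjective z
    refine ⟨z, ?_⟩
    rw [sP₁.lift_fst, AlgSp.Points.ofPt_eq_map_ofScheme, AlgSp.Points.map_comp]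
    exact (congrArg _ hz).trans (hw₂.trans hp₁)
  · exact ⟨W, T' k, _, a₁, i₁, t, hp, ha₁, by rw [Category.assoc, sP₁.w, ← Category.assoc, sP₁.lift_snd], rfl,
      ⊤, trivial, by infer_instance, by infer_instance⟩

/-- The normalization is an isomorphism over an open subspace with inverse image the quasi-finite locus. -/
theorem normalization_iso_over_qfLocus (hft : AlgSp.IsFiniteTypeMor f.hom) (hsep : AlgSp.IsSeparatedMor f.hom)
    (hn : AlgSp.IsRelNormalization f.hom ν.hom f'.hom) :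
    ∃ (U' : AlgSp.Space S) (j : U' ⟶ Y'), AlgSp.RepWith @IsOpenImmersion j.hom ∧
      ∀ (P : AlgSp.Space S) (fst : P ⟶ X) (snd : P ⟶ U'), IsPullback fst.hom snd.hom f'.hom j.hom →
        IsIso snd.hom ∧ Set.range (AlgSp.Points.map fst.hom) = {x | QfAtMor f.hom x} := by
  choose N W q p fW hq hfW sq hxp hpq using fun x : {x // QfAtMor f.hom x} => exists_iso_chart hft hsep hn x.2
  obtain ⟨U', j, hj, hjr⟩ := AlgSpB.exists_openSubspace Y' (W := ⋃ x, Set.range (AlgSp.Points.ofPt (q x)))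
    (isOpen_iUnion fun x => (AlgSpB.isOpenMap_ofPt (hq x)).isOpen_range)
  have hmj := AlgSpB.mono_of_isOpenImmersion hj
  choose q' hq' using fun x => AlgSpB.exists_lift_yon_of_isOpenImmersion hj (q x)
    (hjr ▸ Set.subset_iUnion (fun x => Set.range (AlgSp.Points.ofPt (q x))) x)
  refine ⟨U', j, hj, fun P fst snd sP => ?_⟩
  have sU : ∀ x, IsPullback (𝟙 _) (q' x) (q x) j.hom := fun x => by
    simpa [hq'] using (IsPullback.of_id_fst : IsPullback (𝟙 _) (q' x) (q' x) (𝟙 U'.obj)).paste_vert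
      (IsKernelPair.id_of_mono j.hom)
  have hq'e : ∀ x, AlgSp.RepWith @Etale (q' x) := fun x =>
    MorphismProperty.of_isPullback ((sU x)) (hq x)
  have hcov : ∀ z, ∃ x t, AlgSp.Points.ofPt (q' x) t = z := fun z => by
    obtain ⟨_, ⟨x, rfl⟩, t, ht⟩ := hjr.le ⟨z, rfl⟩
    refine ⟨x, t, AlgSpB.injective_map_of_mono j.hom ?_⟩
    rw [AlgSp.Points.map_ofPt, hq']
    exact ht
  let pP := fun x => sP.lift (p x) ((AlgSp.yon S).map (fW x) ≫ q' x) (by rw [(sq x).w, Category.assoc, hq'])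
  have sx : ∀ x, IsPullback (pP x) ((AlgSp.yon S).map (fW x)) snd.hom (q' x) := fun x =>
    IsPullback.of_right (by rw [sP.lift_fst, hq']; exact sq x) (sP.lift_snd _ _ _) sP
  have hpe : ∀ x, AlgSp.RepWith @Etale (pP x) := fun x => MorphismProperty.of_isPullback (sx x).flip (hq'e x)
  have hpcov : ∀ z, ∃ x t, AlgSp.Points.ofPt (pP x) t = z := fun z => by
    obtain ⟨x, t, ht⟩ := hcov (AlgSp.Points.map snd.hom z)
    obtain ⟨y, hy, -⟩ := AlgSpB.exists_of_isPullback (sx x) z (AlgSp.Points.ofScheme (N x) t)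
      (by rw [← AlgSp.Points.ofPt_eq_map_ofScheme, ht])
    obtain ⟨y, rfl⟩ := (AlgSp.Points.schemeHomeo (W x)).surjective y
    exact ⟨x, y, (AlgSp.Points.ofPt_eq_map_ofScheme _ _).trans hy⟩
  refine ⟨?_, Set.Subset.antisymm ?_ fun z hz => ?_⟩
  · have := hfW
    let m := fun x => inv ((AlgSp.yon S).map (fW x)) ≫ pP x
    have hm : ∀ x, m x ≫ snd.hom = q' x := fun x => by
      rw [Category.assoc, (sx x).w, IsIso.inv_hom_id_assoc]
    have key : ∀ x (Z : AlgSp.Sp S) (r : Z ⟶ (AlgSp.yon S).obj (N x)) (s : Z ⟶ P.obj),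
        s ≫ snd.hom = r ≫ q' x → s = r ≫ m x := fun x Z r s hs => by
      obtain ⟨l, hl1, hl2⟩ := (sx x).exists_lift s r hs
      rw [← hl1, ← hl2, Category.assoc, IsIso.hom_inv_id_assoc]
    obtain ⟨l, hl⟩ := exists_desc_fam hq'e hcov m fun x x' Z α β hαβ =>
      (key x _ α (β ≫ m x') (by rw [Category.assoc, hm, hαβ])).symm
    have hl1 : l ≫ snd.hom = 𝟙 U'.obj := hom_ext_fam hq'e hcov fun x => by
      rw [← Category.assoc, hl, hm, Category.comp_id]
    have hl2 : snd.hom ≫ l = 𝟙 P.obj := hom_ext_fam hpe hpcov fun x => by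
      rw [← Category.assoc, (sx x).w, Category.assoc, hl, Category.comp_id]
      exact IsIso.hom_inv_id_assoc _ _
    exact ⟨l, hl2, hl1⟩
  · rintro _ ⟨z, rfl⟩
    obtain ⟨x, t, rfl⟩ := hpcov z
    rw [AlgSp.Points.map_ofPt, sP.lift_fst]
    exact hpq x t
  · obtain ⟨t, ht⟩ := hxp ⟨z, hz⟩
    exact ⟨AlgSp.Points.ofPt (pP ⟨z, hz⟩) t, by rw [AlgSp.Points.map_ofPt, sP.lift_fst, ht]⟩

end Groth.Agent.AlgSp
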