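import Groth.Agent.AlgSp.JshriekEquiv
import Groth.Agent.AlgSp.AffineMor
import Groth.Agent.AlgSpB.OpenGlue
import Groth.Agent.AlgSpB.Open
import Groth.Agent.AlgSp.LimScheme
import Groth.Agent.AlgSp.SchImageRep

/-!
# Restriction of sheaves to an open of the base
-/

universe u

open CategoryTheory CategoryTheory.Limits AlgebraicGeometry Opposite

set_option backward.isDefEq.respectTransparency false
set_option backward.isDefEq.respectTransparency.types false
set_option autoImplicit false

namespace Groth.Agent.AlgSp.ResOpen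

open _root_.AlgSp
open Groth.Agent.AlgSp.Jshriek

variable {S S' : Scheme.{u}} (g : S ⟶ S')

/-- Restriction preserves properties of representable morphisms. -/
theorem repWith_res {F G : Sp S'} {f : F ⟶ G} {P : MorphismProperty Scheme.{u}} [P.RespectsIso]
    (hf : RepWith P f) : RepWith P ((res g).map f) := by
  refine MorphismProperty.relative.of_exists fun W y => ?_
  let W' := (Over.map g).obj W
  let R := hf.1.pullback (Φ g y)
  let n : R ⟶ W' := hf.1.snd (Φ g y)
  have sqR := hf.1.isPullback (Φ g y)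
  let R₀ : Over S := Over.mk (n.left ≫ W.hom)
  let n₀ : R₀ ⟶ W := Over.homMk n.left
  let c : (Over.map g).obj R₀ ≅ R := Over.isoMk (Iso.refl _) (by
    change 𝟙 _ ≫ R.hom = (n.left ≫ W.hom) ≫ g
    rw [Category.id_comp, Category.assoc]; exact (Over.w n).symm)
  have hc : c.hom ≫ n = (Over.map g).map n₀ := Over.OverMorphism.ext (Category.id_comp _)
  let fst₀ : (yon S).obj R₀ ⟶ (res g).obj F := (Φ g).symm ((yon S').map c.hom ≫ hf.1.fst _)
  have w : fst₀ ≫ (res g).map f = (yon S).map n₀ ≫ y := (Φ g).injective (by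
    rw [Φ_comp, Φ_map, Equiv.apply_symm_apply, Category.assoc, sqR.w, ← Functor.map_comp_assoc, hc])
  refine ⟨R₀, fst₀, n₀, ?_, hf.2 _ _ _ sqR⟩
  have : IsIso (pullback.lift fst₀ ((yon S).map n₀) w) := by
    refine Groth.Agent.AlgSpB.isIso_of_forall_yon _ fun T x => ?_
    obtain ⟨b, hb⟩ := (yon S).map_surjective (x ≫ pullback.snd _ _)
    let a := x ≫ pullback.fst ((res g).map f) y
    have hab : Φ g a ≫ f = (yon S').map ((Over.map g).map b) ≫ Φ g y := by
      rw [← Φ_comp, ← Φ_map, hb, Category.assoc, Category.assoc, pullback.condition]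
    obtain ⟨r, hr⟩ := (yon S').map_surjective (sqR.lift _ _ hab)
    have hrn : r ≫ n = (Over.map g).map b := (yon S').map_injective (by rw [Functor.map_comp, hr, sqR.lift_snd])
    let r₀ : T ⟶ R₀ := Over.homMk r.left (by
      change r.left ≫ n.left ≫ W.hom = T.hom
      rw [← Category.assoc, ← Over.comp_left, hrn]
      exact Over.w b)
    have hr₀c : (Over.map g).map r₀ ≫ c.hom = r := Over.OverMorphism.ext (Category.comp_id _)
    refine ⟨(yon S).map r₀, pullback.hom_ext ((Φ g).injective ?_) ?_, fun y' hy' => ?_⟩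
    · rw [Category.assoc, pullback.lift_fst, Φ_map, Equiv.apply_symm_apply, ← Functor.map_comp_assoc, hr₀c, hr,
        sqR.lift_fst]
    · rw [Category.assoc, pullback.lift_snd, ← Functor.map_comp, ← hb]
      exact congrArg (yon S).map (Over.OverMorphism.ext (congrArg (fun k : (Over.map g).obj T ⟶ W' => k.left) hrn :))
    · obtain ⟨r', rfl⟩ := (yon S).map_surjective y'
      refine congrArg (yon S).map (Jshriek.map_injective g ((cancel_mono c.hom).1 ?_))
      rw [hr₀c]
      apply (yon S').map_injective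
      rw [hr]
      refine sqR.hom_ext ?_ ?_
      · rw [sqR.lift_fst]
        change _ = Φ g (x ≫ pullback.fst _ _)
        rw [← hy', Category.assoc, pullback.lift_fst, Φ_map, Equiv.apply_symm_apply, Functor.map_comp, Category.assoc]
      · rw [sqR.lift_snd, ← Functor.map_comp]
        refine congrArg (yon S').map ?_
        rw [Category.assoc, hc, ← Functor.map_comp]
        exact congrArg (Over.map g).map ((yon S).map_injective (by
          rw [hb, ← hy', Category.assoc, pullback.lift_snd, Functor.map_comp]))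
  exact IsPullback.of_iso_pullback ⟨w⟩ (asIso (pullback.lift fst₀ ((yon S).map n₀) w)) (pullback.lift_fst _ _ _)
    (pullback.lift_snd _ _ _)

variable [Mono g]

/-- A scheme over a monomorphism is its own restriction. -/
theorem exists_iso_res_yon {W : Over S'} (h : W ⟶ Sg g) :
    ∃ e : (yon S).obj (Over.mk h.left) ≅ (res g).obj ((yon S').obj W),
      RepWith @IsOpenImmersion e.hom := by
  let W₀ : Over S := Over.mk h.left
  let c : (Over.map g).obj W₀ ≅ W := Over.isoMk (Iso.refl _) (by
    change 𝟙 _ ≫ W.hom = h.left ≫ g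
    rw [Category.id_comp]; exact (Over.w h).symm)
  let x₀ : (yon S).obj W₀ ⟶ (res g).obj ((yon S').obj W) := (Φ g).symm ((yon S').map c.hom)
  have : IsIso x₀ := by
    refine Groth.Agent.AlgSpB.isIso_of_forall_yon _ fun T y => ?_
    obtain ⟨m, hm⟩ := (yon S').map_surjective (Φ g y)
    let m₀ : T ⟶ W₀ := Over.homMk m.left ((cancel_mono g).1 (by
      change (m.left ≫ h.left) ≫ g = T.hom ≫ g
      rw [Category.assoc]
      exact (congrArg (m.left ≫ ·) (Over.w h)).trans (Over.w m)))
    refine ⟨(yon S).map m₀, (Φ g).injective ?_, fun y' hy' => ?_⟩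
    · rw [Φ_map, Equiv.apply_symm_apply, ← hm, ← Functor.map_comp]
      exact congrArg (yon S').map (Over.OverMorphism.ext (Category.comp_id _))
    · obtain ⟨r', rfl⟩ := (yon S).map_surjective y'
      have e := congrArg (Φ g) hy'
      rw [Φ_map, Equiv.apply_symm_apply, ← hm, ← Functor.map_comp] at e
      refine congrArg (yon S).map (Over.OverMorphism.ext ?_)
      exact (Category.comp_id _).symm.trans (congrArg CommaMorphism.left ((yon S').map_injective e))
  exact ⟨asIso x₀, Groth.Agent.AlgSp.SchImageRep.repWith_of_isIso @IsOpenImmersion _⟩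

/-- A sheaf over a monomorphism is representable if its restriction is. -/
theorem isRepresentable_of_res {F : Sp S'} (a : F ⟶ (yon S').obj (Sg g))
    (h : ((res g).obj F).obj.IsRepresentable) : F.obj.IsRepresentable := by
  obtain ⟨Y, ⟨e⟩⟩ := Groth.Agent.AlgSpB.exists_iso_of_isRepresentable h
  let m := Φ g e.hom
  have : IsIso m := by
    refine Groth.Agent.AlgSpB.isIso_of_forall_yon _ fun Z z => ?_
    obtain ⟨hZ, hhZ⟩ := (yon S').map_surjective (z ≫ a)
    let Z₀ : Over S := Over.mk hZ.left
    let c : (Over.map g).obj Z₀ ≅ Z := Over.isoMk (Iso.refl _) (by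
      change 𝟙 _ ≫ Z.hom = hZ.left ≫ g
      rw [Category.id_comp]; exact (Over.w hZ).symm)
    let z₀ := (Φ g).symm ((yon S').map c.hom ≫ z)
    obtain ⟨l, hl⟩ := (yon S).map_surjective (z₀ ≫ e.inv)
    have hlm : (yon S').map ((Over.map g).map l) ≫ m = (yon S').map c.hom ≫ z := by
      rw [← Φ_map, hl, Category.assoc, e.inv_hom_id, Category.comp_id, Equiv.apply_symm_apply]
    refine ⟨(yon S').map (c.inv ≫ (Over.map g).map l), ?_, fun y' hy' => ?_⟩
    · change (yon S').map (c.inv ≫ (Over.map g).map l) ≫ m = z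
      rw [Functor.map_comp, Category.assoc, hlm, ← Functor.map_comp_assoc, c.inv_hom_id]
      simp
    · obtain ⟨r', rfl⟩ := (yon S').map_surjective y'
      obtain ⟨r₀, hr₀⟩ : ∃ r₀ : Z₀ ⟶ Y, (Over.map g).map r₀ = c.hom ≫ r' :=
        Jshriek.exists_map_eq g _ (by
          refine Over.OverMorphism.ext ((cancel_mono g).1 ?_)
          exact (Category.assoc _ _ _).trans ((Over.w (c.hom ≫ r')).trans rfl))
      have e' : r₀ = l := (yon S).map_injective ((cancel_mono e.hom).1 ((Φ g).injective (by
        rw [Φ_map, Φ_map]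
        refine Eq.trans ?_ hlm.symm
        rw [hr₀, Functor.map_comp, Category.assoc, hy'])))
      rw [← e', hr₀, c.inv_hom_id_assoc]
  exact Groth.Agent.AlgSpB.isRepresentable_of_iso (asIso m)

/-- If the limit of a system over a quasi-separated scheme mapping monomorphically to the base is a scheme then
so is some stage. -/
theorem exists_scheme_stage [QuasiSeparatedSpace S] {I : Type u} [SmallCategory I] [IsCofiltered I] {D : I ⥤ Sp S'}
    (hD : ∀ i, IsAlgSpace (D.obj i)) (hDa : ∀ (i j : I) (φ : i ⟶ j), IsAffineMor (D.map φ))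
    (hqc : ∀ i, IsQuasiCompactSp (D.obj i)) (hqs : ∀ i, IsQuasiSeparatedSp (D.obj i)) {c : Cone D} (hc : IsLimit c)
    (a : ∀ i, D.obj i ⟶ (yon S').obj (Sg g)) (hX : c.pt.obj.IsRepresentable) :
    ∃ i, (D.obj i).obj.IsRepresentable := by
  have : (res g).IsRightAdjoint := (adj g).isRightAdjoint
  obtain ⟨W, ⟨e⟩⟩ := Groth.Agent.AlgSpB.exists_iso_of_isRepresentable hX
  obtain ⟨i₀⟩ := IsCofiltered.nonempty (C := I)
  obtain ⟨h, -⟩ := (yon S').map_surjective (e.hom ≫ c.π.app i₀ ≫ a i₀)
  obtain ⟨e', -⟩ := exists_iso_res_yon g h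
  obtain ⟨i, hi⟩ := Groth.Agent.AlgSp.LimScheme.exists_scheme_stage (D := D ⋙ res g)
    (fun i => isAlgSpace_res g (hD i))
    (fun i j φ => (Groth.Agent.AlgSp.isAffineMor_iff _).2
      (repWith_res g ((Groth.Agent.AlgSp.isAffineMor_iff _).1 (hDa i j φ))))
    (fun i => by
      obtain ⟨U, p, hp, hps, hU⟩ := hqc i
      obtain ⟨hh, -⟩ := (yon S').map_surjective (p ≫ a i)
      obtain ⟨eU, -⟩ := exists_iso_res_yon g hh
      exact ⟨Over.mk hh.left, eU.hom ≫ (res g).map p,
        (MorphismProperty.cancel_left_of_respectsIso (RepWith @Etale) _ _).2 (repWith_res g hp),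
        (MorphismProperty.cancel_left_of_respectsIso (RepWith @Surjective) _ _).2 (repWith_res g hps), hU⟩)
    (fun i => by
      have e : Limits.diag ((res g).obj (D.obj i)) =
          (res g).map (Limits.diag (D.obj i)) ≫ prodComparison (res g) (D.obj i) (D.obj i) := by
        apply Limits.prod.hom_ext <;> simp [← Functor.map_comp]
      change RepWith @QuasiCompact (Limits.diag ((res g).obj (D.obj i)))
      rw [e]
      exact (MorphismProperty.cancel_right_of_respectsIso (RepWith @QuasiCompact) _ _).2 (repWith_res g (hqs i)))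
    (isLimitOfPreserves (res g) hc)
    (Groth.Agent.AlgSpB.isRepresentable_of_iso (e' ≪≫ (res g).mapIso e))
  exact ⟨i, isRepresentable_of_res g (a i) hi⟩

end Groth.Agent.AlgSp.ResOpen
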