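import Groth.Agent.AlgSp.ElemDist
import Groth.Agent.AlgSp.InfSpace
import Groth.Agent.AlgSp.PointsMor
import Groth.Agent.AlgSpB.Points
import Mathlib.CategoryTheory.Adhesive.Basic

/-!
# When colimits of schemes remain colimits among algebraic spaces
-/

universe w v u

open CategoryTheory CategoryTheory.Limits AlgebraicGeometry Opposite AlgSp

set_option backward.isDefEq.respectTransparency.types false

namespace Groth.Agent.AlgSp.SchColim

variable {S : Scheme.{u}} {I : Type v} [Category.{w} I] (D : I ⥤ Over S) (c : Cocone D)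

/-- The conditions under which a colimit of schemes stays one among algebraic spaces. -/
structure Good : Prop where
  surj : ∀ x : ↥c.pt.left, ∃ (i : I) (y : ↥(D.obj i).left), (c.ι.app i).left y = x
  colim : ∀ (D' : I ⥤ Over S) (α : D' ⟶ D) (c' : Cocone D') (a : c'.pt ⟶ c.pt), Etale a.left →
    (∀ i, IsPullback (c'.ι.app i) (α.app i) a (c.ι.app i)) → Nonempty (IsColimit ((Over.forget S).mapCocone c'))
  effective : ∀ (D' : I ⥤ Over S) (α : D' ⟶ D), NatTrans.Equifibered α → (∀ i, Etale (α.app i).left) →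
    (∀ i, IsSeparated (α.app i).left) →
    ∃ (c' : Cocone D') (a : c'.pt ⟶ c.pt), Etale a.left ∧ ∀ i, IsPullback (c'.ι.app i) (α.app i) a (c.ι.app i)

variable {D c}

/-- Maps of schemes over `S` out of a colimit agreeing on the pieces are equal. -/
theorem hom_ext_pieces {c' : Cocone D} (h : IsColimit ((Over.forget S).mapCocone c')) {W : Over S}
    {f g : c'.pt ⟶ W} (e : ∀ i, c'.ι.app i ≫ f = c'.ι.app i ≫ g) : f = g :=
  Over.OverMorphism.ext (h.hom_ext fun i => congrArg (fun k => k.left) (e i))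

/-- A family of maps to a scheme over `S` compatible with the diagram descends to the colimit. -/
theorem exists_desc_pieces {c' : Cocone D} (h : IsColimit ((Over.forget S).mapCocone c')) {W : Over S}
    (ρ : ∀ i, D.obj i ⟶ W) (hρ : ∀ {i j : I} (f : i ⟶ j), D.map f ≫ ρ j = ρ i) :
    ∃ r : c'.pt ⟶ W, ∀ i, c'.ι.app i ≫ r = ρ i := by
  let s : Cocone (D ⋙ Over.forget S) :=
    { pt := W.left
      ι := { app := fun i => (ρ i).left
             naturality := fun i j f => (congrArg (fun k => k.left) (hρ f)).trans (Category.comp_id _).symm } }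
  have hl : ∀ i, (c'.ι.app i).left ≫ h.desc s = (ρ i).left := fun i => h.fac s i
  refine ⟨Over.homMk (h.desc s) (h.hom_ext fun i => ?_), fun i => Over.OverMorphism.ext (hl i)⟩
  change (c'.ι.app i).left ≫ h.desc s ≫ W.hom = (c'.ι.app i).left ≫ c'.pt.hom
  rw [reassoc_of% (hl i), Over.w]
  exact (Over.w (c'.ι.app i)).symm

variable {X : Sp S} (σ : ∀ i, (yon S).obj (D.obj i) ⟶ X)

/-- Two chart lifts of a compatible family over an etale scheme over the colimit have equal images. -/
theorem eq_of_lifts (H : Good D c) {T V V' : Over S} (q : T ⟶ c.pt) (hq : Etale q.left)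
    {p : (yon S).obj V ⟶ X} (hp : Representable p) {p' : (yon S).obj V' ⟶ X} (n : T ⟶ V) (n' : T ⟶ V')
    (hn : ∀ i (Z : Over S) (z : Z ⟶ T) (d : Z ⟶ D.obj i), z ≫ q = d ≫ c.ι.app i →
      (yon S).map (z ≫ n) ≫ p = (yon S).map d ≫ σ i)
    (hn' : ∀ i (Z : Over S) (z : Z ⟶ T) (d : Z ⟶ D.obj i), z ≫ q = d ≫ c.ι.app i →
      (yon S).map (z ≫ n') ≫ p' = (yon S).map d ≫ σ i) :
    (yon S).map n ≫ p = (yon S).map n' ≫ p' := by
  obtain ⟨R, t, s, sR⟩ := AlgSpB.exists_pullback_yon hp p'
  let Dq : I ⥤ Over S :=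
    { obj := fun i => pullback q (c.ι.app i)
      map := fun {i j} f => pullback.lift (pullback.fst _ _) (pullback.snd _ _ ≫ D.map f)
        (by rw [Category.assoc, c.w, pullback.condition])
      map_id := fun i => by apply pullback.hom_ext <;> simp [pullback.lift_fst, pullback.lift_snd]
      map_comp := fun f g => by
        apply pullback.hom_ext <;>
          simp [pullback.lift_fst, pullback.lift_snd, pullback.lift_fst_assoc, pullback.lift_snd_assoc] }
  let α : Dq ⟶ D :=
    { app := fun i => pullback.snd q (c.ι.app i)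
      naturality := fun i j f => pullback.lift_snd _ _ _ }
  let cq : Cocone Dq :=
    { pt := T
      ι := { app := fun i => pullback.fst q (c.ι.app i)
             naturality := fun i j f => (pullback.lift_fst _ _ _).trans (Category.comp_id _).symm } }
  obtain ⟨hc⟩ := H.colim Dq α cq q hq fun i => IsPullback.of_hasPullback _ _
  have hρ : ∀ i, ∃ ρ : pullback q (c.ι.app i) ⟶ R,
      ρ ≫ t = pullback.fst _ _ ≫ n ∧ ρ ≫ s = pullback.fst _ _ ≫ n' := fun i => by
    obtain ⟨ρ, h1, h2⟩ := sR.exists_lift ((yon S).map (pullback.fst q (c.ι.app i) ≫ n))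
      ((yon S).map (pullback.fst q (c.ι.app i) ≫ n'))
      (by rw [hn i _ _ _ pullback.condition, hn' i _ _ _ pullback.condition])
    obtain ⟨ρ, rfl⟩ := (yon S).map_surjective ρ
    exact ⟨ρ, (yon S).map_injective (by rw [Functor.map_comp]; exact h1),
      (yon S).map_injective (by rw [Functor.map_comp]; exact h2)⟩
  choose ρ hρt hρs using hρ
  obtain ⟨r, hr⟩ := exists_desc_pieces (D := Dq) (c' := cq) hc ρ fun {i j} f => (yon S).map_injective (sR.hom_ext
    (by
      rw [← Functor.map_comp, ← Functor.map_comp, Category.assoc, hρt, hρt, ← Category.assoc]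
      exact congrArg (fun k => (yon S).map (k ≫ n)) (pullback.lift_fst _ _ _))
    (by
      rw [← Functor.map_comp, ← Functor.map_comp, Category.assoc, hρs, hρs, ← Category.assoc]
      exact congrArg (fun k => (yon S).map (k ≫ n')) (pullback.lift_fst _ _ _)))
  have e1 : r ≫ t = n := hom_ext_pieces (D := Dq) (c' := cq) hc fun i => by
    rw [← Category.assoc, hr, hρt]
  have e2 : r ≫ s = n' := hom_ext_pieces (D := Dq) (c' := cq) hc fun i => by
    rw [← Category.assoc, hr, hρs]
  rw [← e1, ← e2, Functor.map_comp, Functor.map_comp, Category.assoc, Category.assoc, sR.w]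

/-- The maps on two etale pieces agree on their overlap. -/
theorem compat (H : Good D c) {E E' V V' Z : Over S} {a : E ⟶ c.pt} {a' : E' ⟶ c.pt} (ha : Etale a.left)
    (ha' : Etale a'.left) {p : (yon S).obj V ⟶ X} (hp : Representable p) {p' : (yon S).obj V' ⟶ X}
    (u : E ⟶ V) (u' : E' ⟶ V')
    (hu : ∀ i (Z : Over S) (z : Z ⟶ E) (d : Z ⟶ D.obj i), z ≫ a = d ≫ c.ι.app i →
      (yon S).map (z ≫ u) ≫ p = (yon S).map d ≫ σ i)
    (hu' : ∀ i (Z : Over S) (z : Z ⟶ E') (d : Z ⟶ D.obj i), z ≫ a' = d ≫ c.ι.app i →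
      (yon S).map (z ≫ u') ≫ p' = (yon S).map d ≫ σ i)
    (x : Z ⟶ E) (y : Z ⟶ E') (e : x ≫ a = y ≫ a') :
    (yon S).map x ≫ (yon S).map u ≫ p = (yon S).map y ≫ (yon S).map u' ≫ p' := by
  have hQ : Etale (pullback.fst a a' ≫ a).left := by
    have : Etale (pullback.fst a a').left := MorphismProperty.of_isPullback (P := @Etale)
      ((IsPullback.of_hasPullback a a').map (Over.forget S)).flip ha'
    exact inferInstanceAs (Etale ((pullback.fst a a').left ≫ a.left))
  have key := eq_of_lifts σ H (pullback.fst a a' ≫ a) hQ hp (p' := p') (pullback.fst a a' ≫ u)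
    (pullback.snd a a' ≫ u')
    (fun i Z z d h => by
      have h' := hu i Z (z ≫ pullback.fst a a') d ((Category.assoc _ _ _).trans h)
      rwa [Category.assoc] at h')
    (fun i Z z d h => by
      have h' := hu' i Z (z ≫ pullback.snd a a') d (by rw [Category.assoc, ← pullback.condition]; exact h)
      rwa [Category.assoc] at h')
  have k' := congrArg ((yon S).map (pullback.lift x y e) ≫ ·) key
  simp only [← (yon S).map_comp_assoc, pullback.lift_fst_assoc, pullback.lift_snd_assoc] at k'
  rw [← (yon S).map_comp_assoc, ← (yon S).map_comp_assoc]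
  exact k'

set_option maxHeartbeats 800000 in
/-- Existence and uniqueness of the descended map. -/
theorem existsUnique_desc (H : Good D c) (hX : IsAlgSpace X)
    (hσ : ∀ {i j : I} (f : i ⟶ j), (yon S).map (D.map f) ≫ σ j = σ i) :
    ∃! l : (yon S).obj c.pt ⟶ X, ∀ i, (yon S).map (c.ι.app i) ≫ l = σ i := by
  obtain ⟨U₀, p₀, hp₀, hps₀⟩ := hX.atlas
  choose A str g hg hxg using InfSpace.exists_affine_etale U₀
  let V : U₀.left → Over S := fun k => Over.mk (str k)
  let p : ∀ k, (yon S).obj (V k) ⟶ X := fun k => (yon S).map (g k) ≫ p₀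
  have hp : ∀ k, RepWith @Etale (p k) := fun k =>
    (repWith_isMultiplicative _).comp_mem _ _ ((repWith_yon_map_iff _ _).2 (hg k)) hp₀
  -- lifting points
  have hpt : ∀ {T : Over S} (x : (yon S).obj T ⟶ X) (t : T.left), ∃ (k : U₀.left) (w : ((hp k).1.pullback x).left),
      ((hp k).1.snd x).left w = t := fun {T} x t => by
    obtain ⟨u, hu⟩ := (repWith_surjective_iff p₀ hp₀.1).1 hps₀ (Points.ofPt x t)
    obtain ⟨v, hv⟩ := hxg (Points.toScheme _ u)
    have : Points.ofPt (p (Points.toScheme _ u)) v = Points.ofPt x t := by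
      rw [← hu]
      simp only [p]
      rw [AlgSpB.ofPt_map_comp, hv, Points.ofPt_eq_map_ofScheme]
      exact congrArg _ ((Points.schemeHomeo U₀).right_inv u)
    obtain ⟨w, -, hw⟩ := (AlgSpB.ofPt_eq_ofPt_iff' ((hp _).1.isPullback x) v t).1 this
    exact ⟨_, w, hw⟩
  have uniq : ∀ m m' : (yon S).obj c.pt ⟶ X, (∀ i, (yon S).map (c.ι.app i) ≫ m = σ i) →
      (∀ i, (yon S).map (c.ι.app i) ≫ m' = σ i) → m = m' := by
    intro m m' hm hm'
    let T₁ : U₀.left → Over S := fun k => (hp k).1.pullback m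
    let q₁ : ∀ k, T₁ k ⟶ c.pt := fun k => (hp k).1.snd m
    let T₂ : U₀.left × U₀.left → Over S := fun k => (hp k.2).1.pullback ((yon S).map (q₁ k.1) ≫ m')
    let q₂ : ∀ k : U₀.left × U₀.left, T₂ k ⟶ T₁ k.1 := fun k => (hp k.2).1.snd ((yon S).map (q₁ k.1) ≫ m')
    have he : ∀ k, Etale (q₂ k ≫ q₁ k.1).left := fun k => by
      have h1 : Etale (q₁ k.1).left := (hp k.1).2 _ _ _ ((hp k.1).1.isPullback m)
      have h2 : Etale (q₂ k).left := (hp k.2).2 _ _ _ ((hp k.2).1.isPullback ((yon S).map (q₁ k.1) ≫ m'))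
      exact inferInstanceAs (Etale ((q₂ k).left ≫ (q₁ k.1).left))
    refine InfGlue.hom_ext_cover (fun k => q₂ k ≫ q₁ k.1) he (fun x => ?_) _ _ fun k => ?_
    · obtain ⟨k, w, hw⟩ := hpt m x
      obtain ⟨k', w', hw'⟩ := hpt ((yon S).map (q₁ k) ≫ m') w
      exact ⟨(k, k'), w', by rw [← hw, ← hw']; rfl⟩
    · obtain ⟨n, hn⟩ := (yon S).map_surjective ((yon S).map (q₂ k) ≫ (hp k.1).1.fst m)
      obtain ⟨n', hn'⟩ := (yon S).map_surjective ((hp k.2).1.fst ((yon S).map (q₁ k.1) ≫ m'))
      have e : (yon S).map n ≫ p k.1 = (yon S).map (q₂ k ≫ q₁ k.1) ≫ m := by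
        rw [hn, Category.assoc, ((hp k.1).1.isPullback m).w, ← Category.assoc, ← Functor.map_comp]
      have e' : (yon S).map n' ≫ p k.2 = (yon S).map (q₂ k ≫ q₁ k.1) ≫ m' := by
        rw [hn', ((hp k.2).1.isPullback _).w, ← Category.assoc, ← Functor.map_comp]
      rw [← e, ← e']
      refine eq_of_lifts σ H (q₂ k ≫ q₁ k.1) (he k) (hp k.1).1 n n' (fun i Z z d hzd => ?_) fun i Z z d hzd => ?_
      · rw [Functor.map_comp, Category.assoc, e, ← Functor.map_comp_assoc, hzd, Functor.map_comp_assoc, hm]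
      · rw [Functor.map_comp, Category.assoc, e', ← Functor.map_comp_assoc, hzd, Functor.map_comp_assoc, hm']
  -- the etale covers of the colimit
  have build : ∀ k : U₀.left, ∃ (E : Over S) (a : E ⟶ c.pt) (u : E ⟶ V k), Etale a.left ∧
      (∀ i, ∃ (W : Over S) (e : W ⟶ E) (d : W ⟶ D.obj i) (f : (yon S).obj W ⟶ (yon S).obj (V k)),
        IsPullback f ((yon S).map d) (p k) (σ i) ∧ e ≫ a = d ≫ c.ι.app i) ∧
      ∀ i (Z : Over S) (z : Z ⟶ E) (d : Z ⟶ D.obj i), z ≫ a = d ≫ c.ι.app i →
        (yon S).map (z ≫ u) ≫ p k = (yon S).map d ≫ σ i := by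
    intro k
    let W : I → Over S := fun i => (hp k).1.pullback (σ i)
    let d : ∀ i, W i ⟶ D.obj i := fun i => (hp k).1.snd (σ i)
    choose f hf using fun i => (yon S).map_surjective ((hp k).1.fst (σ i))
    have sW : ∀ i, IsPullback ((yon S).map (f i)) ((yon S).map (d i)) (p k) (σ i) := fun i => by
      rw [hf]; exact (hp k).1.isPullback (σ i)
    have htr : ∀ {i j : I} (φ : i ⟶ j), ∃ t : W i ⟶ W j, t ≫ f j = f i ∧ t ≫ d j = d i ≫ D.map φ := fun {i j} φ => by
      obtain ⟨t, h1, h2⟩ := (sW j).exists_lift ((yon S).map (f i)) ((yon S).map (d i ≫ D.map φ))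
        (by rw [(sW i).w, Functor.map_comp, Category.assoc, hσ])
      obtain ⟨t, rfl⟩ := (yon S).map_surjective t
      exact ⟨t, (yon S).map_injective (by rw [Functor.map_comp]; exact h1),
        (yon S).map_injective (by rw [Functor.map_comp]; exact h2)⟩
    choose tr htr₁ htr₂ using @htr
    have hext : ∀ {i : I} {Z : Over S} (a b : Z ⟶ W i), a ≫ f i = b ≫ f i → a ≫ d i = b ≫ d i → a = b :=
      fun {i Z} a b h1 h2 => (yon S).map_injective ((sW i).hom_ext (by rw [← Functor.map_comp, ← Functor.map_comp, h1])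
        (by rw [← Functor.map_comp, ← Functor.map_comp, h2]))
    let D' : I ⥤ Over S :=
      { obj := W
        map := fun φ => tr φ
        map_id := fun i => hext _ _ (by rw [htr₁, Category.id_comp]) (by simp [htr₂])
        map_comp := fun φ ψ => hext _ _ (by rw [htr₁, Category.assoc, htr₁, htr₁])
          (by rw [htr₂, Category.assoc, htr₂, D.map_comp, ← Category.assoc, ← Category.assoc, htr₂]) }
    let α : D' ⟶ D := { app := d, naturality := fun _ _ φ => htr₂ φ }
    have heq : NatTrans.Equifibered α := fun i j φ => by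
      refine IsPullback.of_map (yon S) (htr₂ φ) (IsPullback.of_right ?_ (by
        rw [← Functor.map_comp, ← Functor.map_comp]; exact congrArg _ (htr₂ φ)) (sW j))
      have e1 : (yon S).map (D'.map φ) ≫ (yon S).map (f j) = (yon S).map (f i) := by
        rw [← Functor.map_comp]; exact congrArg _ (htr₁ φ)
      rw [e1, hσ]
      exact sW i
    have hde : ∀ i, Etale (d i).left := fun i => (hp k).2 _ _ _ ((hp k).1.isPullback (σ i))
    have hds : ∀ i, IsSeparated (d i).left := fun i => by
      let l : (W i).left ⟶ pullback (V k).hom (D.obj i).hom :=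
        pullback.lift (f i).left (d i).left ((Over.w (f i)).trans (Over.w (d i)).symm)
      have : Mono l := ⟨fun {Z} a b h => by
        have h1 := congrArg (· ≫ pullback.fst _ _) h
        have h2 := congrArg (· ≫ pullback.snd _ _) h
        simp only [l, Category.assoc, pullback.lift_fst, pullback.lift_snd] at h1 h2
        have hw : b ≫ (W i).hom = a ≫ (W i).hom := by rw [← Over.w (d i), reassoc_of% h2]
        exact congrArg (fun m => m.left) (hext (Over.homMk a : Over.mk (a ≫ (W i).hom) ⟶ W i)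
          (Over.homMk b hw) (Over.OverMorphism.ext h1) (Over.OverMorphism.ext h2))⟩
      have : IsSeparated (V k).hom :=
        have : IsSeparated ((V k).hom ≫ terminal.from S) := by
          rw [Subsingleton.elim ((V k).hom ≫ terminal.from S) (terminal.from _)]
          have : IsAffine (V k).left := inferInstanceAs (IsAffine (Spec (A k)))
          infer_instance
        IsSeparated.of_comp (V k).hom (terminal.from S)
      have e : (d i).left = l ≫ pullback.snd _ _ := (pullback.lift_snd _ _ _).symm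
      rw [e]
      infer_instance
    obtain ⟨c', a, hae, hpb⟩ := H.effective D' α heq hde hds
    obtain ⟨hc'⟩ := H.colim D' α c' a hae hpb
    obtain ⟨u, hu⟩ := exists_desc_pieces (D := D') (c' := c') hc' f (fun φ => htr₁ φ)
    refine ⟨c'.pt, a, u, hae, fun i => ⟨W i, c'.ι.app i, d i, _, sW i, (hpb i).w⟩, fun i Z z d' hzd => ?_⟩
    obtain ⟨w, hw₁, hw₂⟩ := (hpb i).exists_lift z d' hzd
    rw [← hw₁, ← hw₂, Category.assoc, hu]
    change (yon S).map (w ≫ f i) ≫ p k = (yon S).map (w ≫ d i) ≫ σ i
    rw [Functor.map_comp, Category.assoc, (sW i).w, Functor.map_comp, Category.assoc]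
  choose E a u hae hW hu using build
  have hs : ∀ x : Points ((yon S).obj c.pt), ∃ k t, Points.ofPt ((yon S).map (a k)) t = x := fun x => by
    obtain ⟨i, y, hy⟩ := H.surj (Points.toScheme _ x)
    obtain ⟨k, w, hw⟩ := hpt (σ i) y
    obtain ⟨W, e, d, f, sq, hed⟩ := hW k i
    obtain ⟨z, hz⟩ : y ∈ Set.range d.left := by
      have hv : ∃ v, Points.ofPt (p k) v = Points.ofPt (σ i) y := by
        obtain ⟨fk, hfk⟩ := (yon S).map_surjective ((hp k).1.fst (σ i))
        refine ⟨fk.left w, ?_⟩
        rw [← AlgSpB.ofPt_map_comp, hfk, ((hp k).1.isPullback (σ i)).w, AlgSpB.ofPt_map_comp, hw]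
      obtain ⟨v, hv⟩ := hv
      obtain ⟨z, -, hz⟩ := (AlgSpB.ofPt_eq_ofPt_iff' sq v y).1 hv
      exact ⟨z, hz⟩
    refine ⟨k, e.left z, ?_⟩
    have : (a k).left (e.left z) = Points.toScheme _ x := by
      rw [← hy, ← hz]
      exact congrArg (fun m : W ⟶ c.pt => m.left z) hed
    rw [← Category.comp_id ((yon S).map (a k)), AlgSpB.ofPt_map_comp, this, Points.ofPt_eq_map_ofScheme,
      Points.map_id]
    exact (Points.schemeHomeo c.pt).right_inv x
  obtain ⟨l, hl⟩ := ElemDist.exists_desc_fam (p := fun k => (yon S).map (a k))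
    (fun k => (repWith_yon_map_iff _ _).2 (hae k)) hs (fun k => (yon S).map (u k) ≫ p k) fun k k' Z x y e => by
      obtain ⟨x, rfl⟩ := (yon S).map_surjective x
      obtain ⟨y, rfl⟩ := (yon S).map_surjective y
      replace e : x ≫ a k = y ≫ a k' := (yon S).map_injective (by rw [Functor.map_comp, Functor.map_comp]; exact e)
      exact compat σ H (hae k) (hae k') (hp k).1 (u k) (u k') (hu k) (hu k') x y e
  have fac : ∀ i, (yon S).map (c.ι.app i) ≫ l = σ i := fun i => by
    let P : U₀.left → Over S := fun k => pullback (c.ι.app i) (a k)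
    refine InfGlue.hom_ext_cover (U := P) (fun k => pullback.fst (c.ι.app i) (a k)) (fun k =>
      MorphismProperty.of_isPullback (P := @Etale)
        ((IsPullback.of_hasPullback (c.ι.app i) (a k)).map (Over.forget S)).flip (hae k)) (fun y => ?_) _ _ fun k => ?_
    · obtain ⟨k, t, ht⟩ := hs (Points.ofScheme _ ((c.ι.app i).left y))
      have : (a k).left t = (c.ι.app i).left y := by
        apply (Points.schemeHomeo c.pt).injective
        change Points.ofScheme _ _ = Points.ofScheme _ _
        rw [← ht, ← Category.comp_id ((yon S).map (a k)), AlgSpB.ofPt_map_comp, Points.ofPt_eq_map_ofScheme,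
          Points.map_id]
      obtain ⟨r, hr, -⟩ := Scheme.exists_preimage_of_isPullback
        ((IsPullback.of_hasPullback (c.ι.app i) (a k)).map (Over.forget S)) y t this.symm
      exact ⟨k, r, hr⟩
    · rw [← Functor.map_comp_assoc, pullback.condition, Functor.map_comp_assoc, hl k, ← Functor.map_comp_assoc]
      exact hu k i _ _ _ pullback.condition.symm
  exact ⟨l, fac, fun m hm => uniq m l hm fac⟩

end Groth.Agent.AlgSp.SchColim
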