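import Groth.Agent.AlgSp.ClosedSub

/-!
# Scheme theoretic images of morphisms of algebraic spaces
-/

universe u

open CategoryTheory CategoryTheory.Limits AlgebraicGeometry Opposite

set_option backward.isDefEq.respectTransparency.types false
set_option autoImplicit false

namespace Groth.Agent.AlgSp.SchImage

open _root_.AlgSp
open Groth.Agent.AlgSp.CartierDesc (subOver subι exists_ideal comap_eq)

variable {S : Scheme.{u}}

/-- The largest compatible ideal below a given one. -/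
theorem exists_greatest {R U : Scheme.{u}} (t s : R ⟶ U) (K : U.IdealSheafData) :
    ∃ I : U.IdealSheafData, I.comap t = I.comap s ∧ I ≤ K ∧ ∀ J, J.comap t = J.comap s → J ≤ K → J ≤ I := by
  let A : Set U.IdealSheafData := {J | J.comap t = J.comap s ∧ J ≤ K}
  refine ⟨sSup A, ?_, sSup_le fun J hJ => hJ.2, fun J h₁ h₂ => le_sSup ⟨h₁, h₂⟩⟩
  have ht := (Scheme.IdealSheafData.map_gc t).l_sSup (s := A)
  have hs := (Scheme.IdealSheafData.map_gc s).l_sSup (s := A)
  refine ht.trans (Eq.trans ?_ hs.symm)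
  exact iSup_congr fun J => iSup_congr fun hJ => hJ.1

variable {X F Z : Sp S} {f : X ⟶ F} {i : Z ⟶ F} {U R : Over S} {p : (yon S).obj U ⟶ F} {t s : R ⟶ U}
  {W : Over S} {a : (yon S).obj W ⟶ X} {m : W ⟶ U} {I : U.left.IdealSheafData}
  {fst : (yon S).obj (subOver U I) ⟶ Z}

/-- The scheme theoretic image corresponds to the largest compatible ideal in the kernel of a chart lift. -/
theorem isSchImage_iff (hp : RepWith @Etale p) (hps : RepWith @Surjective p)
    (sqR : IsPullback ((yon S).map t) ((yon S).map s) p p) (ha : RepWith @Etale a) (has : RepWith @Surjective a)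
    (w : a ≫ f = (yon S).map m ≫ p) (hi : RepWith @IsClosedImmersion i)
    (sq : IsPullback fst ((yon S).map (subι U I)) i p) :
    IsSchImage f i ↔ I ≤ m.left.ker ∧
      ∀ J : U.left.IdealSheafData, J.comap t.left = J.comap s.left → J ≤ m.left.ker → J ≤ I := by
  constructor
  · rintro ⟨-, hfac, hmin⟩
    refine ⟨(ClosedSub.exists_factor_iff hi sq f a ha has m w).1 hfac, fun J hJ hJm => ?_⟩
    obtain ⟨Z', i', fst', hZ', hi', sq'⟩ := ClosedSub.exists_closed hp hps sqR J hJ
    obtain ⟨k, hk⟩ := hmin i' hZ' hi' ((ClosedSub.exists_factor_iff hi' sq' f a ha has m w).2 hJm)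
    exact (ClosedSub.exists_le_iff hi' hp hps sq sq').1 ⟨k, hk⟩
  · rintro ⟨hle, hmax⟩
    refine ⟨hi, (ClosedSub.exists_factor_iff hi sq f a ha has m w).2 hle, fun Z' i' _ hi' hf' => ?_⟩
    obtain ⟨J, fst', sq'⟩ := exists_ideal hi' p
    exact (ClosedSub.exists_le_iff hi' hp hps sq sq').2
      (hmax J (ClosedSub.comap_eq_comap hi' sqR.w sq') ((ClosedSub.exists_factor_iff hi' sq' f a ha has m w).1 hf'))

/-- Scheme theoretic images exist. -/
theorem exists_isSchImage {X F : Sp S} (hX : IsAlgSpace X) (hF : IsAlgSpace F) (f : X ⟶ F) :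
    ∃ (Z : Sp S) (i : Z ⟶ F), IsAlgSpace Z ∧ IsSchImage f i := by
  obtain ⟨U, p, hp, hps⟩ := hF.atlas
  obtain ⟨R, t, s, sqR⟩ := Groth.Agent.AlgSp.exists_isPullback_yon hF.diag p p
  obtain ⟨W, a, m, ha, has, w⟩ := Groth.Agent.AlgSp.exists_chart_lift hX hF f p hp hps
  obtain ⟨I, hI, hle, hmax⟩ := exists_greatest t.left s.left m.left.ker
  obtain ⟨Z, i, fst, hZ, hi, sq⟩ := ClosedSub.exists_closed hp hps sqR I hI
  exact ⟨Z, i, hZ, (isSchImage_iff hp hps sqR ha has w hi sq).2 ⟨hle, hmax⟩⟩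

/-- Two scheme theoretic images are uniquely isomorphic. -/
theorem exists_iso_of_isSchImage {Z' : Sp S} {i' : Z' ⟶ F} (hZ : IsAlgSpace Z) (hZ' : IsAlgSpace Z')
    (h : IsSchImage f i) (h' : IsSchImage f i') : ∃ e : Z ≅ Z', e.hom ≫ i' = i := by
  obtain ⟨k, hk⟩ := h.2.2 i' hZ' h'.1 h'.2.1
  obtain ⟨k', hk'⟩ := h'.2.2 i hZ h.1 h.2.1
  have := Groth.Agent.AlgSpB.mono_of_isClosedImmersion h.1
  have := Groth.Agent.AlgSpB.mono_of_isClosedImmersion h'.1
  exact ⟨⟨k, k', by rw [← cancel_mono i, Category.assoc, hk', hk, Category.id_comp],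
    by rw [← cancel_mono i', Category.assoc, hk, hk', Category.id_comp]⟩, hk⟩

end Groth.Agent.AlgSp.SchImage
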