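import Groth.Agent.AlgSp.SchImage
import Groth.Agent.AlgSp.KerFlat
import Groth.Agent.AlgSp.CoprodCover
import Groth.Agent.AlgSp.EDPushGlue
import Groth.Agent.AlgSp.QCMor
import Groth.Agent.AlgSp.PointsMor
import Groth.Agent.AlgSpCov.FppfBase

/-!
# Scheme theoretic images of quasi-compact morphisms
-/

universe u

open CategoryTheory CategoryTheory.Limits AlgebraicGeometry Opposite

set_option backward.isDefEq.respectTransparency.types false
set_option autoImplicit false

namespace Groth.Agent.AlgSp.SchImageQC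

open _root_.AlgSp
open Groth.Agent.AlgSp.CartierDesc (subOver subι exists_ideal comap_eq)

variable {S : Scheme.{u}}

/-- A disjoint union of schemes over `S` with the glued map to a sheaf. -/
theorem exists_sigma_glue {κ : Type u} (Wc : κ → Over S) {G : Sp S} (x : ∀ j, (yon S).obj (Wc j) ⟶ G) :
    ∃ (W : Over S) (ε : ∀ j, Wc j ⟶ W) (l : (yon S).obj W ⟶ G),
      (∀ j, IsOpenImmersion (ε j).left) ∧ (∀ z, ∃ j, z ∈ Set.range (ε j).left) ∧
        (∀ i j z, z ∈ Set.range (ε i).left → z ∈ Set.range (ε j).left → i = j) ∧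
          ∀ j, (yon S).map (ε j) ≫ l = x j := by
  let Y : κ → Scheme.{u} := fun i => (Wc i).left
  let W : Over S := Over.mk (Sigma.desc fun i => (Wc i).hom : (∐ Y) ⟶ S)
  let ε : ∀ i, Wc i ⟶ W := fun i => Over.homMk (Sigma.ι Y i) (Sigma.ι_desc _ i)
  have hdis : ∀ i j z, z ∈ Set.range (ε i).left → z ∈ Set.range (ε j).left → i = j := fun i j z hi hj =>
    of_not_not fun hij => Set.disjoint_left.1 (Groth.Agent.AlgSpCov.disjoint_range_sigmaι Y hij) hi hj
  have hε : ∀ i, IsOpenImmersion (ε i).left := fun i => (sigmaOpenCover Y).map_prop i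
  have hcov : ∀ z : W.left, ∃ i, z ∈ Set.range (ε i).left := fun z => ⟨_, (sigmaOpenCover Y).covers z⟩
  obtain ⟨l, hl⟩ := InfGlue.exists_glue ε (fun i => have := hε i; inferInstance) hcov x fun i j Z a b hab => by
    rcases eq_or_ne i j with rfl | hij
    · have : Mono (ε i) := (Over.forget S).mono_of_mono_map (have := hε i; inferInstanceAs (Mono (ε i).left))
      rw [(cancel_mono (ε i)).1 hab]
    · refine EDPushGlue.hom_eq_of_isEmpty ⟨fun z => hij (hdis i j ((ε i).left (a.left z)) ⟨_, rfl⟩ ⟨b.left z, ?_⟩)⟩ _ _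
      exact (congrArg (fun k => k.left z) hab).symm
  exact ⟨W, ε, l, hε, hcov, hdis, hl⟩

/-- An atlas of the target and a chart of the fibre product for which a quasi-compact morphism lifts to a
quasi-compact morphism of schemes. -/
theorem exists_qc_chart {X F : Sp S} (hX : IsAlgSpace X) (hF : IsAlgSpace F) (f : X ⟶ F)
    (hq : IsQuasiCompactMor f) :
    ∃ (U W : Over S) (p : (yon S).obj U ⟶ F) (r : (yon S).obj W ⟶ pullback f p) (m : W ⟶ U),
      RepWith @Etale p ∧ RepWith @Surjective p ∧ RepWith @Etale r ∧ RepWith @Surjective r ∧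
        QuasiCompact m.left ∧ r ≫ pullback.snd f p = (yon S).map m := by
  obtain ⟨V₀, p₀, hp₀, hp₀s⟩ := hF.atlas
  -- the atlas by affines
  let 𝒱 := V₀.left.affineCover
  let Uc : 𝒱.I₀ → Over S := fun j => Over.mk (𝒱.f j ≫ V₀.hom)
  let ιc : ∀ j, Uc j ⟶ V₀ := fun j => Over.homMk (𝒱.f j) rfl
  obtain ⟨U, e, p, he, hecov, hedis, hp'⟩ := exists_sigma_glue Uc fun j => (yon S).map (ιc j) ≫ p₀
  have hcj : ∀ j, RepWith @Etale ((yon S).map (e j) ≫ p) := fun j => by
    rw [hp']
    have : Etale (ιc j).left := inferInstanceAs (Etale (𝒱.f j))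
    exact Groth.Agent.AlgSpB.repWith_etale_map_comp (ιc j) hp₀
  have hp : RepWith @Etale p := Groth.Agent.AlgSp.repWith_of_disjoint_cover e he hecov hedis p hcj
  have hps : RepWith @Surjective p := Groth.Agent.AlgSpB.repWith_surjective_of_surjective_ofPt hp.1 fun x => by
    obtain ⟨v, rfl⟩ := Groth.Agent.AlgSpB.surjective_ofPt hp₀s x
    obtain ⟨u, hu⟩ := 𝒱.covers v
    refine ⟨(e (𝒱.idx v)).left u, ?_⟩
    rw [← Groth.Agent.AlgSpB.ofPt_map_comp, hp', Groth.Agent.AlgSpB.ofPt_map_comp]
    exact congrArg _ hu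
  have hP : IsAlgSpace (pullback f p) := Groth.Agent.AlgSp.isAlgSpace_pullback hF hX (IsAlgSpace.yon_obj U) f p
  -- quasi-compact pieces
  let π : ∀ j, pullback (pullback.snd f p) ((yon S).map (e j)) ⟶ pullback f p := fun j => pullback.fst _ _
  have hqc : ∀ j, IsQuasiCompactSp (pullback (pullback.snd f p) ((yon S).map (e j))) := fun j => by
    have : IsAffine (Uc j).left := inferInstanceAs (IsAffine (𝒱.X j))
    exact hq (IsAlgSpace.yon_obj (Uc j)) (Groth.Agent.AlgSp.isQuasiCompactSp_yon (Uc j)) _ _ _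
      ((IsPullback.of_hasPullback (pullback.snd f p) ((yon S).map (e j))).paste_horiz (IsPullback.of_hasPullback f p))
  choose Wc rc hrc hrcs hWc using hqc
  obtain ⟨W, ε, r, hε, hεcov, hεdis, hr⟩ := exists_sigma_glue Wc fun j => rc j ≫ π j
  have heo : ∀ j, RepWith @Etale ((yon S).map (e j)) := fun j =>
    (repWith_yon_map_iff _ _).2 (have := he j; inferInstance)
  have hre : RepWith @Etale r := Groth.Agent.AlgSp.repWith_of_disjoint_cover ε hε hεcov hεdis r fun j => by
    rw [hr]
    exact MorphismProperty.comp_mem (RepWith @Etale) _ _ (hrc j) (MorphismProperty.pullback_fst _ _ (heo j))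
  have hrs : RepWith @Surjective r := Groth.Agent.AlgSpB.repWith_surjective_of_surjective_ofPt hre.1 fun x => by
    obtain ⟨u, hu⟩ := Groth.Agent.AlgSpB.surjective_ofPt (repWith_id @Surjective U) (Points.map (pullback.snd f p) x)
    obtain ⟨j, v, rfl⟩ := hecov u
    obtain ⟨y, hy, -⟩ := Groth.Agent.AlgSpB.exists_of_isPullback
      (IsPullback.of_hasPullback (pullback.snd f p) ((yon S).map (e j))) x (Points.ofPt (𝟙 _) v)
      (by rw [← hu, Points.map_ofPt, Category.id_comp]
          conv_rhs => rw [← Category.comp_id ((yon S).map (e j)), Groth.Agent.AlgSpB.ofPt_map_comp])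
    obtain ⟨w, rfl⟩ := Groth.Agent.AlgSpB.surjective_ofPt (hrcs j) y
    refine ⟨(ε j).left w, ?_⟩
    rw [← Groth.Agent.AlgSpB.ofPt_map_comp, hr, ← Points.map_ofPt]
    exact hy
  obtain ⟨m, hm⟩ := (yon S).map_surjective (r ≫ pullback.snd f p)
  choose mc hmc using fun j => (yon S).map_surjective (rc j ≫ pullback.snd (pullback.snd f p) ((yon S).map (e j)))
  have hεm : ∀ j, ε j ≫ m = mc j ≫ e j := fun j => (yon S).map_injective (by
    rw [Functor.map_comp, Functor.map_comp, hm, ← Category.assoc, hr, hmc, Category.assoc, Category.assoc,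
      pullback.condition])
  refine ⟨U, W, p, r, m, hp, hps, hre, hrs, ?_, hm.symm⟩
  let 𝒰 : U.left.OpenCover := .mkOfCovers 𝒱.I₀ (fun j => (Uc j).left) (fun j => (e j).left) hecov he
  refine IsZariskiLocalAtTarget.of_openCover (P := @QuasiCompact) 𝒰 fun j => ?_
  have := hε j
  have := he j
  have : IsAffine (Uc j).left := inferInstanceAs (IsAffine (𝒱.X j))
  have hmc' : QuasiCompact (mc j).left :=
    (HasAffineProperty.iff_of_isAffine (P := @QuasiCompact)).2 (hWc j)
  have hw : (ε j).left ≫ m.left = (mc j).left ≫ (e j).left := by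
    rw [← Over.comp_left, hεm, Over.comp_left]
  have hpre : m.left ⁻¹ᵁ (e j).left.opensRange = (ε j).left.opensRange := by
    apply TopologicalSpace.Opens.ext
    refine Set.Subset.antisymm (fun z hz => ?_) ?_
    · obtain ⟨i, w, rfl⟩ := hεcov z
      obtain rfl : i = j := hedis i j (m.left ((ε i).left w)) ⟨(mc i).left w, by
        rw [← Scheme.Hom.comp_apply, ← Over.comp_left, ← hεm]; rfl⟩ hz
      exact ⟨w, rfl⟩
    · rintro _ ⟨w, rfl⟩
      exact ⟨(mc j).left w, ((congrArg (fun k => k w) hw).symm :)⟩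
  have sq := (IsOpenImmersion.isPullback (mc j).left (ε j).left (e j).left m.left hw hpre).flip
  change QuasiCompact (pullback.snd m.left (e j).left)
  rw [← sq.isoPullback_hom_snd] at hmc'
  exact (MorphismProperty.cancel_left_of_respectsIso @QuasiCompact _ _).1 hmc'

/-- The kernel of a chart lift does not depend on the covering. -/
theorem ker_eq_of_epi {G : Sp S} {R A B : Over S} (g : G ⟶ (yon S).obj R) (a : (yon S).obj A ⟶ G) [Epi a]
    (b : (yon S).obj B ⟶ G) (k : A ⟶ R) (l : B ⟶ R) (hk : a ≫ g = (yon S).map k) (hl : b ≫ g = (yon S).map l) :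
    k.left.ker ≤ l.left.ker := by
  let I := k.left.ker
  have sq : IsPullback (𝟙 ((yon S).obj (subOver R I))) ((yon S).map (subι R I)) ((yon S).map (subι R I)) (𝟙 _) := by
    have : Mono (subι R I) := (Over.forget S).mono_of_mono_map (inferInstanceAs (Mono I.subschemeι))
    exact IsPullback.of_vert_isIso_mono ⟨by simp⟩ |>.flip
  have : Mono (subι R I) := (Over.forget S).mono_of_mono_map (inferInstanceAs (Mono I.subschemeι))
  have : Mono ((yon S).map (subι R I)) := inferInstance
  obtain ⟨y, hy⟩ := (ClosedSub.exists_factor_yon_iff sq k).2 le_rfl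
  rw [Category.comp_id, ← hk] at hy
  obtain ⟨d, hd⟩ := ClosedSub.exists_factor_of_epi g a y hy
  refine (ClosedSub.exists_factor_yon_iff sq l).1 ⟨b ≫ d, ?_⟩
  rw [Category.assoc, hd, hl, Category.comp_id]

variable {X F : Sp S} {f : X ⟶ F} {U W : Over S} {p : (yon S).obj U ⟶ F} {r : (yon S).obj W ⟶ pullback f p}
  {m : W ⟶ U}

/-- The kernel of a quasi-compact chart lift commutes with flat maps to the atlas. -/
theorem ker_eq_comap (hre : RepWith @Etale r) (hrs : RepWith @Surjective r) [QuasiCompact m.left]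
    (hm : r ≫ pullback.snd f p = (yon S).map m) {R : Over S} (h : R ⟶ U) [Flat h.left] {G : Sp S}
    {g₁ : G ⟶ X} {g₂ : G ⟶ (yon S).obj R} (sq : IsPullback g₁ g₂ f ((yon S).map h ≫ p)) {A : Over S}
    (e : (yon S).obj A ⟶ G) [Sheaf.IsLocallySurjective e] (k : A ⟶ R) (hk : e ≫ g₂ = (yon S).map k) :
    k.left.ker = m.left.ker.comap h.left := by
  let B := pullback m h
  have hB : IsPullback (pullback.fst m h) (pullback.snd m h) m h := IsPullback.of_hasPullback m h
  have hB' : (pullback.snd m h).left.ker = m.left.ker.comap h.left :=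
    KerFlat.ker_of_isPullback (hB.map (Over.forget S))
  -- the pulled back chart
  let q : G ⟶ pullback f p := pullback.lift g₁ (g₂ ≫ (yon S).map h) (by rw [Category.assoc]; exact sq.w)
  have sqG : IsPullback q g₂ (pullback.snd f p) ((yon S).map h) :=
    IsPullback.of_right (by rw [pullback.lift_fst]; exact sq) (pullback.lift_snd _ _ _)
      (IsPullback.of_hasPullback f p)
  have hB₁ := hB.map (yon S)
  rw [← hm] at hB₁
  let b : (yon S).obj B ⟶ G := sqG.lift ((yon S).map (pullback.fst m h) ≫ r) ((yon S).map (pullback.snd m h))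
    (by rw [Category.assoc]; exact hB₁.w)
  have hb : b ≫ g₂ = (yon S).map (pullback.snd m h) := sqG.lift_snd _ _ _
  have sqb : IsPullback ((yon S).map (pullback.fst m h)) b r q :=
    IsPullback.of_bot (by rw [hb]; exact hB₁) (sqG.lift_fst _ _ _).symm sqG
  have : Sheaf.IsLocallySurjective b :=
    Groth.Agent.AlgSp.isLocallySurjective_of_etale_surjective b (MorphismProperty.of_isPullback sqb hre)
      (MorphismProperty.of_isPullback sqb hrs)
  have : Epi b := (Sheaf.isLocallySurjective_iff_epi _).1 inferInstance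
  have : Epi e := (Sheaf.isLocallySurjective_iff_epi _).1 inferInstance
  rw [← hB']
  exact le_antisymm (ker_eq_of_epi g₂ e b k _ hk hb) (ker_eq_of_epi g₂ b e _ k hb hk)

/-- The kernel of a quasi-compact chart lift is compatible on the atlas. -/
theorem comap_ker_eq (hF : IsAlgSpace F) (hX : IsAlgSpace X) (hre : RepWith @Etale r) (hrs : RepWith @Surjective r)
    [QuasiCompact m.left] (hm : r ≫ pullback.snd f p = (yon S).map m) {R : Over S} {t s : R ⟶ U}
    [Flat t.left] [Flat s.left] (w : (yon S).map t ≫ p = (yon S).map s ≫ p) :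
    m.left.ker.comap t.left = m.left.ker.comap s.left := by
  have hG := Groth.Agent.AlgSp.isAlgSpace_pullback hF hX (IsAlgSpace.yon_obj R) f ((yon S).map t ≫ p)
  obtain ⟨A, e, he, hes⟩ := hG.atlas
  have := Groth.Agent.AlgSp.isLocallySurjective_of_etale_surjective e he hes
  obtain ⟨k, hk⟩ := (yon S).map_surjective (e ≫ pullback.snd f ((yon S).map t ≫ p))
  have sqt := IsPullback.of_hasPullback f ((yon S).map t ≫ p)
  have sqs : IsPullback (pullback.fst f ((yon S).map t ≫ p)) (pullback.snd f ((yon S).map t ≫ p)) f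
      ((yon S).map s ≫ p) := sqt.of_iso (Iso.refl _) (Iso.refl _) (Iso.refl _) (Iso.refl _) (by simp) (by simp)
      (by simp) (by simpa using w)
  rw [← ker_eq_comap hre hrs hm t sqt e k hk.symm]
  exact ker_eq_comap hre hrs hm s sqs e k hk.symm

/-- For a quasi-compact morphism the image is cut out by the kernel of a quasi-compact chart lift. -/
theorem ideal_eq_ker (hX : IsAlgSpace X) (hF : IsAlgSpace F) (hp : RepWith @Etale p) (hps : RepWith @Surjective p)
    (hre : RepWith @Etale r) (hrs : RepWith @Surjective r) [QuasiCompact m.left]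
    (hm : r ≫ pullback.snd f p = (yon S).map m) {Z : Sp S} {i : Z ⟶ F} {I : U.left.IdealSheafData}
    {fst : (yon S).obj (subOver U I) ⟶ Z} (sq : IsPullback fst ((yon S).map (subι U I)) i p)
    (hZ : IsSchImage f i) : I = m.left.ker := by
  obtain ⟨R, t, s, sqR⟩ := Groth.Agent.AlgSp.exists_isPullback_yon hF.diag p p
  have : Etale t.left := hp.2 _ _ _ sqR.flip
  have : Etale s.left := hp.2 _ _ _ sqR
  have ha : RepWith @Etale (r ≫ pullback.fst f p) :=
    MorphismProperty.comp_mem (RepWith @Etale) _ _ hre (MorphismProperty.pullback_fst _ _ hp)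
  have has : RepWith @Surjective (r ≫ pullback.fst f p) :=
    MorphismProperty.comp_mem (RepWith @Surjective) _ _ hrs (MorphismProperty.pullback_fst _ _ hps)
  obtain ⟨h₁, h₂⟩ := (SchImage.isSchImage_iff hp hps sqR ha has
    (by rw [Category.assoc, pullback.condition, ← Category.assoc, hm]) hZ.1 sq).1 hZ
  exact le_antisymm h₁ (h₂ _ (comap_ker_eq hF hX hre hrs hm sqR.w) le_rfl)

/-- The image of a quasi-compact morphism commutes with flat base change. -/
theorem flat_base_change {X' F' Z Z' : Sp S} {i : Z ⟶ F} (hX : IsAlgSpace X) (hF : IsAlgSpace F)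
    (hF' : IsAlgSpace F') (hq : IsQuasiCompactMor f) (hZ : IsSchImage f i) (g : F' ⟶ F) (hg : LocP @Flat g)
    {g₁ : X' ⟶ X} {f' : X' ⟶ F'} (sqX : IsPullback g₁ f' f g) {i₁ : Z' ⟶ Z} {i' : Z' ⟶ F'}
    (sqZ : IsPullback i₁ i' i g) : IsSchImage f' i' := by
  obtain ⟨U, W, p, r, m, hp, hps, hre, hrs, hqc, hm⟩ := exists_qc_chart hX hF f hq
  obtain ⟨I, fst, sq⟩ := exists_ideal hZ.1 p
  have hI : I = m.left.ker := ideal_eq_ker hX hF hp hps hre hrs hm sq hZ
  obtain ⟨U', q, h, hqe, hqs, hqw⟩ := Groth.Agent.AlgSp.exists_chart_lift hF' hF g p hp hps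
  have : Flat h.left := hg q p h hqe hp hqw
  have hX' : IsAlgSpace X' := Groth.Agent.AlgSp.isAlgSpace_of_isPullback' hF hX hF' sqX
  have hi' : RepWith @IsClosedImmersion i' := MorphismProperty.of_isPullback sqZ hZ.1
  obtain ⟨J, fstJ, sqJ⟩ := exists_ideal hi' q
  have sqJ' := sqJ.paste_horiz sqZ
  rw [hqw] at sqJ'
  have hJ : J = I.comap h.left := (comap_eq h sq sqJ').symm
  -- the chart of the base change
  have sqG := (IsPullback.of_hasPullback f' q).paste_horiz sqX
  rw [hqw] at sqG
  have hG : IsAlgSpace (pullback f' q) := Groth.Agent.AlgSp.isAlgSpace_pullback hF' hX' (IsAlgSpace.yon_obj U') f' q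
  obtain ⟨A, e, he, hes⟩ := hG.atlas
  have := Groth.Agent.AlgSp.isLocallySurjective_of_etale_surjective e he hes
  obtain ⟨k, hk⟩ := (yon S).map_surjective (e ≫ pullback.snd f' q)
  have hker := ker_eq_comap hre hrs hm h sqG e k hk.symm
  obtain ⟨R, t, s, sqR⟩ := Groth.Agent.AlgSp.exists_isPullback_yon hF'.diag q q
  refine (SchImage.isSchImage_iff hqe hqs sqR
    (MorphismProperty.comp_mem (RepWith @Etale) _ _ he (MorphismProperty.pullback_fst _ _ hqe))
    (MorphismProperty.comp_mem (RepWith @Surjective) _ _ hes (MorphismProperty.pullback_fst _ _ hqs))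
    (by rw [Category.assoc, pullback.condition, ← Category.assoc, hk]) hi' sqJ).2 ?_
  rw [hJ, hI, ← hker]
  exact ⟨le_rfl, fun _ _ h => h⟩

/-- The image of a quasi-compact morphism is dense in its scheme theoretic image. -/
theorem range_subset_closure {Z : Sp S} {i : Z ⟶ F} (hX : IsAlgSpace X) (hF : IsAlgSpace F)
    (hq : IsQuasiCompactMor f) (hZ : IsSchImage f i) :
    Set.range (Points.map i) ⊆ closure (Set.range (Points.map f)) := by
  obtain ⟨U, W, p, r, m, hp, hps, hre, hrs, hqc, hm⟩ := exists_qc_chart hX hF f hq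
  obtain ⟨I, fst, sq⟩ := exists_ideal hZ.1 p
  have hI : I = m.left.ker := ideal_eq_ker hX hF hp hps hre hrs hm sq hZ
  rintro _ ⟨z, rfl⟩
  obtain ⟨w, rfl⟩ := Groth.Agent.AlgSpB.surjective_ofPt (MorphismProperty.of_isPullback sq.flip hps) z
  have hu : (subι U I).left w ∈ closure (Set.range m.left) := by
    rw [← Scheme.Hom.support_ker, ← hI, ← Scheme.IdealSheafData.range_subschemeι]
    exact ⟨w, rfl⟩
  rw [Points.map_ofPt, sq.w, Groth.Agent.AlgSpB.ofPt_map_comp]
  refine map_mem_closure (Points.continuous_ofPt p) hu ?_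
  rintro _ ⟨v, rfl⟩
  refine ⟨Points.ofPt (r ≫ pullback.fst f p) v, ?_⟩
  rw [Points.map_ofPt, Category.assoc, pullback.condition, ← Category.assoc, hm, Groth.Agent.AlgSpB.ofPt_map_comp]

end Groth.Agent.AlgSp.SchImageQC
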