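import Groth.Agent.AlgSp.SmoothLiftSp
import Groth.Agent.AlgSp.InfScheme
import Groth.Agent.AlgSp.InfCharts
import Mathlib.RingTheory.Etale.Pi
import Mathlib.RingTheory.Smooth.Basic
import Mathlib.AlgebraicGeometry.Limits

/-!
Formal smoothness of morphisms of sheaves read on etale charts.
-/

universe u

open CategoryTheory CategoryTheory.Limits AlgebraicGeometry Opposite AlgSp TopologicalSpace
open Groth.Agent.AlgSp.InfGlue Groth.Agent.AlgSp.InfEtale

set_option backward.isDefEq.respectTransparency.types false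

namespace Groth.Agent.AlgSp.SmoothCharts

variable {S : Scheme.{u}}

theorem formallySmooth_of_formallyEtale {F G : Sp S} {c : F ⟶ G} (hc : IsFormallyEtaleMor c) :
    IsFormallySmoothMor c := fun sq => (hc sq).exists

theorem formallySmooth_comp {F G H : Sp S} {c : F ⟶ G} {d : G ⟶ H} (hc : IsFormallySmoothMor c)
    (hd : IsFormallySmoothMor d) : IsFormallySmoothMor (c ≫ d) := by
  intro sq
  obtain ⟨l, hl₁, hl₂⟩ := hd ⟨sq.A, sq.I, sq.sq_zero, sq.str, sq.top ≫ c, sq.bot,
    (Category.assoc _ _ _).trans sq.comm⟩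
  obtain ⟨m, hm₁, hm₂⟩ := hc ⟨sq.A, sq.I, sq.sq_zero, sq.str, sq.top, l, hl₁.symm⟩
  exact ⟨m, hm₁, by
    refine (Category.assoc _ _ _).symm.trans ?_
    rw [hm₂]
    exact hl₂⟩

theorem formallySmooth_of_comp {F G H : Sp S} {c : F ⟶ G} {d : G ⟶ H}
    (hcd : IsFormallySmoothMor (c ≫ d)) (hd : IsFormallyUnramifiedMor d) : IsFormallySmoothMor c := by
  intro sq
  obtain ⟨l, hl₁, hl₂⟩ := hcd ⟨sq.A, sq.I, sq.sq_zero, sq.str, sq.top, sq.bot ≫ d, by
    rw [reassoc_of% sq.comm]⟩
  refine ⟨l, hl₁, hd ⟨sq.A, sq.I, sq.sq_zero, sq.str, sq.top ≫ c, sq.bot ≫ d, by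
    rw [Category.assoc, reassoc_of% sq.comm]⟩ _ _ ?_ ?_ sq.comm.symm rfl⟩
  · exact (Category.assoc _ _ _).symm.trans (congrArg (· ≫ c) hl₁)
  · exact (Category.assoc _ _ _).trans hl₂

/-- A formally smooth morphism of affine schemes is given by a formally smooth algebra. -/
theorem formallySmooth_algebra {K C : Type u} [CommRing K] [CommRing C] [Algebra K C]
    (h : MoreMor.IsFormallySmoothHom (Spec.map (CommRingCat.ofHom (algebraMap K C)))) :
    Algebra.FormallySmooth K C := by
  rw [Algebra.FormallySmooth.iff_comp_surjective]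
  intro B _ _ I hI g
  obtain ⟨l, hl₁, hl₂⟩ := h B I hI (Spec.map (CommRingCat.ofHom g.toRingHom))
    (Spec.map (CommRingCat.ofHom (algebraMap K B))) (by
      rw [← Spec.map_comp, ← Spec.map_comp]
      congr 1
      ext k
      exact (g.commutes k).symm)
  obtain ⟨q, rfl⟩ := Spec.map_surjective l
  rw [← Spec.map_comp] at hl₁ hl₂
  exact ⟨{ q.hom with commutes' := fun k => congr($(Spec.map_injective hl₂).hom k) },
    AlgHom.ext fun c => congr($(Spec.map_injective hl₁).hom c)⟩

/-- Reduction modulo an extended ideal commutes with finite products. -/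
theorem quotientMap_pi_bijective {A : Type u} [CommRing A] (I : Ideal A) {ι : Type u} [Finite ι]
    (B : ι → Type u) [∀ i, CommRing (B i)] [∀ i, Algebra A (B i)] :
    Function.Bijective (Ideal.Quotient.lift (I.map (algebraMap A (Π i, B i)))
      (RingHom.pi fun i => (Ideal.Quotient.mk (I.map (algebraMap A (B i)))).comp (Pi.evalRingHom B i))
      (fun x hx => by
        have hle : I.map (algebraMap A (Π i, B i)) ≤ RingHom.ker (RingHom.pi fun i =>
            (Ideal.Quotient.mk (I.map (algebraMap A (B i)))).comp (Pi.evalRingHom B i)) :=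
          Ideal.map_le_iff_le_comap.2 fun a ha => by
            rw [Ideal.mem_comap, RingHom.mem_ker]
            funext i
            exact Ideal.Quotient.eq_zero_iff_mem.2 (Ideal.mem_map_of_mem _ ha)
        exact hle hx)) := by
  classical
  cases nonempty_fintype ι
  refine ⟨RingHom.lift_injective_of_ker_le_ideal _ _ fun x hx => ?_, ?_⟩
  · rw [RingHom.mem_ker] at hx
    have h1 : ∀ i, x i ∈ I.map (algebraMap A (B i)) := fun i =>
      Ideal.Quotient.eq_zero_iff_mem.1 (congrFun hx i)
    have h2 : ∀ i, ∀ y ∈ I.map (algebraMap A (B i)), Pi.single i y ∈ I.map (algebraMap A (Π i, B i)) := by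
      intro i y hy
      induction hy using Submodule.span_induction with
      | mem y hy =>
        obtain ⟨a, ha, rfl⟩ := hy
        have : Pi.single i (algebraMap A (B i) a) = Pi.single i (1 : B i) * algebraMap A (Π i, B i) a := by
          funext j
          by_cases hj : j = i
          · subst hj; simp
          · simp [hj]
        rw [this]
        exact Ideal.mul_mem_left _ _ (Ideal.mem_map_of_mem _ ha)
      | zero => simp
      | add y z _ _ hy hz => rw [Pi.single_add]; exact add_mem hy hz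
      | smul c y _ hy =>
        rw [smul_eq_mul, Pi.single_mul]
        exact Ideal.mul_mem_left _ _ hy
    rw [← Finset.univ_sum_single x]
    exact sum_mem fun i _ => h2 i _ (h1 i)
  · intro y
    choose x hx using fun i => Ideal.Quotient.mk_surjective (y i)
    exact ⟨Ideal.Quotient.mk _ x, funext hx⟩

theorem faithfullyFlat_pi {A : Type u} [CommRing A] {ι : Type u} [Finite ι]
    (B : ι → Type u) [∀ i, CommRing (B i)] [∀ i, Algebra A (B i)] [∀ i, Algebra.Etale A (B i)]
    (h : ∀ p : PrimeSpectrum A, ∃ i, p ∈ Set.range (PrimeSpectrum.comap (algebraMap A (B i)))) :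
    Module.FaithfullyFlat A (Π i, B i) := by
  refine Module.FaithfullyFlat.of_comap_surjective fun p => ?_
  obtain ⟨i, q, rfl⟩ := h p
  exact ⟨PrimeSpectrum.comap (Pi.evalRingHom B i) q, rfl⟩

/-- Lifts exist if the square's top arrow lands in the image of a formally smooth chart. -/
theorem hasLift_of_charts_at {X Y : Sp S} {f : X ⟶ Y} (sq : InfSq f) {U V : Over S}
    (a : (yon S).obj U ⟶ X) (b : (yon S).obj V ⟶ Y) (h : U ⟶ V) (ha : RepWith @Etale a)
    (hsurj : Surjective (ha.1.snd sq.top).left) (hb : RepWith @Etale b) (w : a ≫ f = (yon S).map h ≫ b)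
    (hh : MoreMor.IsFormallySmoothHom h.left) : sq.HasLift := by
  classical
  let P := ha.1.pullback sq.top
  let p : P ⟶ sq.ptT := ha.1.snd sq.top
  obtain ⟨pU, hpU⟩ := (yon S).map_surjective (ha.1.fst sq.top)
  have hp : Etale p.left := ha.2 _ _ _ (ha.1.isPullback sq.top)
  have hps : Surjective p.left := hsurj
  -- local data
  have hloc : ∀ x : ↥P.left, ∃ (O : U.left.Opens) (Q : V.left.Opens) (_ : IsAffineOpen O) (_ : IsAffineOpen Q)
      (_ : O ≤ h.left ⁻¹ᵁ Q) (B : Type u) (_ : CommRing B) (φ : sq.A →+* B)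
      (k : Spec (CommRingCat.of (B ⧸ sq.I.map φ)) ⟶ P.left), φ.Etale ∧
      k ≫ p.left = Spec.map (CommRingCat.ofHom (Ideal.quotientMap (sq.I.map φ) φ Ideal.le_comap_map)) ∧
      x ∈ Set.range k ∧ Set.range (k ≫ pU.left) ⊆ O := by
    intro x
    obtain ⟨Q, hQ, hxQ, -⟩ := exists_isAffineOpen_mem_and_subset (X := V.left) (x := h.left (pU.left x))
      (U := ⊤) trivial
    obtain ⟨O, hO, hxO, hOQ⟩ := exists_isAffineOpen_mem_and_subset (X := U.left) (x := pU.left x)
      (U := h.left ⁻¹ᵁ Q) hxQ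
    let W : P.left.Opens := pU.left ⁻¹ᵁ O
    have : Etale (W.ι ≫ p.left) := inferInstance
    obtain ⟨B, _, φ, k, hφ, hk, ⟨s, hs⟩, -⟩ := InfRing.exists_etale_lift' sq.I (W.ι ≫ p.left) ⟨x, hxO⟩
    refine ⟨O, Q, hO, hQ, hOQ, B, inferInstance, φ, k ≫ W.ι, hφ, (Category.assoc _ _ _).trans hk,
      ⟨s, congrArg W.ι hs⟩, ?_⟩
    rintro _ ⟨t, rfl⟩
    exact (k t).2
  choose O Q hO hQ hOQ B iB φ k hφ hk hxk hkO using hloc
  -- finitely many suffice
  have hopen : ∀ x, IsOpen (Set.range (PrimeSpectrum.comap (φ x))) := fun x => by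
    have : Etale (Spec.map (CommRingCat.ofHom (φ x))) := (HasRingHomProperty.Spec_iff (P := @Etale)).2 (hφ x)
    exact (Scheme.Hom.isOpenMap (Spec.map (CommRingCat.ofHom (φ x)))).isOpen_range
  obtain ⟨s, hs⟩ := isCompact_univ.elim_finite_subcover _ hopen (fun t _ => by
    obtain ⟨t₀, ht₀⟩ : t ∈ Set.range (PrimeSpectrum.comap (Ideal.Quotient.mk sq.I)) := by
      rw [range_comap_of_surjective _ _ Ideal.Quotient.mk_surjective, Ideal.mk_ker]
      intro x hx
      refine t.isPrime.mem_of_pow_mem 2 ?_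
      have := Ideal.pow_mem_pow hx 2
      rw [sq.sq_zero, Ideal.mem_bot] at this
      rw [this]
      exact zero_mem _
    obtain ⟨x, hx⟩ := p.left.surjective t₀
    obtain ⟨z, hz⟩ := hxk x
    refine Set.mem_iUnion.2 ⟨x, PrimeSpectrum.comap (Ideal.Quotient.mk _) z, ?_⟩
    have e : p.left x = Spec.map (CommRingCat.ofHom
        (Ideal.quotientMap (sq.I.map (φ x)) (φ x) Ideal.le_comap_map)) z :=
      (congrArg p.left hz).symm.trans congr($(hk x) z)
    rw [← ht₀, ← hx, e]
    rfl)
  let ι : Type u := ↥s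
  let Bi : ι → Type u := fun i => B i.1
  let _ : ∀ i : ι, CommRing (Bi i) := fun i => iB i.1
  let _ : ∀ i : ι, Algebra sq.A (Bi i) := fun i => (φ i.1).toAlgebra
  have : ∀ i : ι, Algebra.Etale sq.A (Bi i) := fun i => RingHom.etale_algebraMap.1 (hφ i.1)
  let A' : Type u := Π i, Bi i
  have : Algebra.Etale sq.A A' := inferInstanceAs (Algebra.Etale sq.A (Π i, Bi i))
  have : Module.FaithfullyFlat sq.A A' := faithfullyFlat_pi Bi fun t => by
    obtain ⟨x, hx, ht⟩ := Set.mem_iUnion₂.1 (hs (Set.mem_univ t))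
    exact ⟨⟨x, hx⟩, ht⟩
  -- the affine charts
  let Ki : ι → CommRingCat.{u} := fun i => Γ(V.left, Q i.1)
  let Ci : ι → CommRingCat.{u} := fun i => Γ(U.left, O i.1)
  let K : Type u := Π i, Ki i
  let C : Type u := Π i, Ci i
  let η : K →+* C := RingHom.pi fun i => (h.left.appLE (Q i.1) (O i.1) (hOQ i.1)).hom.comp (Pi.evalRingHom _ i)
  let _ : Algebra K C := η.toAlgebra
  let oV : Spec (CommRingCat.of K) ⟶ V.left := inv (sigmaSpec Ki) ≫ Sigma.desc fun (i : ι) => (hQ i.1).fromSpec
  let oU : Spec (CommRingCat.of C) ⟶ U.left := inv (sigmaSpec Ci) ≫ Sigma.desc fun (i : ι) => (hO i.1).fromSpec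
  have hoV : ∀ i, Spec.map (CommRingCat.ofHom (Pi.evalRingHom (fun j => Ki j) i)) ≫ oV = (hQ i.1).fromSpec := by
    intro i
    rw [← ι_sigmaSpec Ki i, Category.assoc, IsIso.hom_inv_id_assoc, Sigma.ι_desc]
  have hoU : ∀ i, Spec.map (CommRingCat.ofHom (Pi.evalRingHom (fun j => Ci j) i)) ≫ oU = (hO i.1).fromSpec := by
    intro i
    rw [← ι_sigmaSpec Ci i, Category.assoc, IsIso.hom_inv_id_assoc, Sigma.ι_desc]
  have hoUV : oU ≫ h.left = Spec.map (CommRingCat.ofHom η) ≫ oV := by
    rw [← cancel_epi (sigmaSpec Ci)]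
    refine Sigma.hom_ext _ _ fun i => ?_
    rw [← Category.assoc _ (sigmaSpec Ci), ← Category.assoc _ (sigmaSpec Ci), ι_sigmaSpec, reassoc_of% (hoU i),
      ← IsAffineOpen.SpecMap_appLE_fromSpec h.left (hQ i.1) (hO i.1) (hOQ i.1), ← hoV i, ← Spec.map_comp_assoc,
      ← Spec.map_comp_assoc]
    rfl
  have hoVe : Etale oV := by
    have : Etale (Sigma.desc fun (i : ι) => (hQ i.1).fromSpec) :=
      IsZariskiLocalAtSource.sigmaDesc fun (i : ι) => inferInstance
    infer_instance
  have hoUe : Etale oU := by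
    have : Etale (Sigma.desc fun (i : ι) => (hO i.1).fromSpec) :=
      IsZariskiLocalAtSource.sigmaDesc fun (i : ι) => inferInstance
    infer_instance
  let strK : Spec (CommRingCat.of K) ⟶ S := oV ≫ V.hom
  let ptK : Over S := Over.mk strK
  let ptC : Over S := Over.mk (Spec.map (CommRingCat.ofHom (algebraMap K C)) ≫ strK)
  let mV : ptK ⟶ V := Over.homMk oV rfl
  let mU : ptC ⟶ U := Over.homMk oU (by
    change oU ≫ U.hom = Spec.map (CommRingCat.ofHom η) ≫ oV ≫ V.hom
    rw [← Over.w h, ← Category.assoc oU, hoUV, Category.assoc])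
  let ηm : ptC ⟶ ptK := Over.homMk (Spec.map (CommRingCat.ofHom (algebraMap K C))) rfl
  have hm : mU ≫ h = ηm ≫ mV := by ext1; exact hoUV
  have : Etale mV.left := hoVe
  have : Etale mU.left := hoUe
  have hmV : IsFormallyEtaleMor ((yon S).map mV ≫ b) :=
    InfCharts.formallyEtale_comp (formallyEtale_yon mV) (formallyEtale_of_repWith_etale hb)
  have hmU : IsFormallyEtaleMor ((yon S).map mU ≫ a) :=
    InfCharts.formallyEtale_comp (formallyEtale_yon mU) (formallyEtale_of_repWith_etale ha)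
  have hfu : ∀ {F G : Sp S} {c : F ⟶ G}, IsFormallyEtaleMor c → IsFormallyUnramifiedMor c :=
    fun hc sq' l l' h₁ h₂ h₃ h₄ => (hc sq').unique ⟨h₁, h₂⟩ ⟨h₃, h₄⟩
  have : Algebra.FormallySmooth K C := by
    refine formallySmooth_algebra ((InfScheme.formallySmooth_iff ηm).1 ?_)
    refine formallySmooth_of_comp (d := (yon S).map mV) ?_ (hfu (formallyEtale_yon mV))
    rw [← Functor.map_comp, ← hm, Functor.map_comp]
    exact formallySmooth_comp (formallySmooth_of_formallyEtale (formallyEtale_yon mU))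
      ((InfScheme.formallySmooth_iff h).2 hh)
  -- the map on the reduction
  let IA' : Ideal A' := sq.I.map (algebraMap sq.A A')
  let e : A' ⧸ IA' ≃+* Π i, Bi i ⧸ sq.I.map (φ i.1) :=
    RingEquiv.ofBijective _ (quotientMap_pi_bijective sq.I Bi)
  have hlift : ∀ i : ι, ∃ u : Ci i ⟶ CommRingCat.of (Bi i ⧸ sq.I.map (φ i.1)),
      Spec.map u ≫ (hO i.1).fromSpec = k i.1 ≫ pU.left := by
    intro i
    refine ⟨Spec.preimage (IsOpenImmersion.lift (hO i.1).fromSpec (k i.1 ≫ pU.left)
      (by rw [IsAffineOpen.range_fromSpec]; exact hkO i.1)), ?_⟩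
    rw [Spec.map_preimage, IsOpenImmersion.lift_fac]
  choose ui hui using hlift
  let u₀ : C →+* A' ⧸ IA' := e.symm.toRingHom.comp (RingHom.pi fun i => (ui i).hom.comp (Pi.evalRingHom _ i))
  let proj : ∀ i : ι, CommRingCat.of (A' ⧸ IA') ⟶ CommRingCat.of (Bi i ⧸ sq.I.map (φ i.1)) := fun i =>
    CommRingCat.ofHom ((Pi.evalRingHom (fun j : ι => Bi j ⧸ sq.I.map (φ j.1)) i).comp e.toRingHom)
  have hu₀ : ∀ i, Spec.map (proj i) ≫ Spec.map (CommRingCat.ofHom u₀) ≫ oU = k i.1 ≫ pU.left := by
    intro i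
    rw [← hui i, ← hoU i, ← Spec.map_comp_assoc, ← Spec.map_comp_assoc]
    congr 2
    ext c
    change e (e.symm _) i = _
    rw [RingEquiv.apply_symm_apply]
    rfl
  let r₀ := ptR₀ sq (algebraMap sq.A A')
  have hproj : ∀ i, Spec.map (proj i) ≫ r₀.hom = (ptR₀ sq (φ i.1)).hom := by
    intro i
    change Spec.map _ ≫ Spec.map _ ≫ Spec.map _ ≫ sq.str = Spec.map _ ≫ Spec.map _ ≫ sq.str
    rw [← Spec.map_comp_assoc, ← Spec.map_comp_assoc, ← Spec.map_comp_assoc]
    rfl
  let pr : ∀ i : ι, ptR₀ sq (φ i.1) ⟶ r₀ := fun i => Over.homMk (Spec.map (proj i)) (hproj i)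
  let Di : ι → CommRingCat.{u} := fun i => CommRingCat.of (Bi i ⧸ sq.I.map (φ i.1))
  let eD : CommRingCat.of (A' ⧸ IA') ⟶ CommRingCat.of (Π i, Di i) := CommRingCat.ofHom e.toRingHom
  have : IsIso eD := (ConcreteCategory.isIso_iff_bijective eD).2 e.bijective
  have hprι : ∀ i, Spec.map (proj i) = Sigma.ι (fun j => Spec (Di j)) i ≫ sigmaSpec Di ≫ Spec.map eD := by
    intro i
    rw [← Category.assoc, ι_sigmaSpec, ← Spec.map_comp]
    rfl
  have hpre : ∀ i, Etale (pr i).left := fun i => by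
    change Etale (Spec.map (proj i))
    rw [hprι i]
    infer_instance
  have hprs : ∀ x, ∃ i, x ∈ Set.range (pr i).left := fun x => by
    obtain ⟨y, rfl⟩ := (sigmaSpec Di ≫ Spec.map eD).surjective x
    obtain ⟨i, z, rfl⟩ := (sigmaOpenCover fun j => Spec (Di j)).exists_eq y
    refine ⟨i, z, ?_⟩
    change Spec.map (proj i) z = _
    rw [hprι i]
    rfl
  have hu : Spec.map (CommRingCat.ofHom u₀) ≫ ptC.hom = r₀.hom := by
    rw [← cancel_epi (sigmaSpec Di ≫ Spec.map eD)]
    rw [Category.assoc, Category.assoc]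
    refine Sigma.hom_ext _ _ fun i => ?_
    rw [← Category.assoc (sigmaSpec Di), ← Category.assoc (Sigma.ι _ i), ← hprι i]
    refine Eq.trans ?_ (Eq.trans (hproj i).symm ?_)
    · rw [show ptC.hom = oU ≫ U.hom from (Over.w mU).symm, reassoc_of% (hu₀ i), Over.w pU]
      refine Eq.trans ?_ (Over.w (toT sq (φ i.1)))
      rw [← Over.w p, ← Category.assoc, hk i.1]
      rfl
    · rw [hprι i]; simp
  let um : r₀ ⟶ ptC := Over.homMk (Spec.map (CommRingCat.ofHom u₀)) hu
  have htop : (yon S).map um ≫ (yon S).map mU ≫ a = (yon S).map (toT sq (algebraMap sq.A A')) ≫ sq.top := by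
    refine hom_ext_cover pr hpre hprs _ _ fun i => ?_
    let k' : ptR₀ sq (φ i.1) ⟶ P := Over.homMk (k i.1) (by
      rw [← Over.w p, ← Category.assoc, hk i.1]
      exact Over.w (toT sq (φ i.1)))
    have e₁ : pr i ≫ um ≫ mU = k' ≫ pU := by ext1; exact hu₀ i
    have e₂ : pr i ≫ toT sq (algebraMap sq.A A') = k' ≫ p := by
      ext1
      change Spec.map _ ≫ Spec.map _ = k i.1 ≫ p.left
      rw [hk i.1, ← Spec.map_comp]
      congr 1
      ext x
      rfl
    rw [← Category.assoc ((yon S).map um), ← Functor.map_comp, ← Category.assoc, ← Category.assoc,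
      ← Functor.map_comp, ← Functor.map_comp, e₁, e₂, Functor.map_comp, Functor.map_comp, hpU, Category.assoc,
      Category.assoc, (ha.1.isPullback sq.top).w]
  -- the lift to the chart of the target
  let sqb : InfSq ((yon S).map mV ≫ b) :=
    ⟨A', IA', (restrict sq (algebraMap sq.A A')).sq_zero, (ptR sq (algebraMap sq.A A')).hom,
      (yon S).map (um ≫ ηm), (yon S).map (toT' sq (algebraMap sq.A A')) ≫ sq.bot, by
        rw [← Category.assoc, ← Functor.map_comp, Category.assoc, ← hm, Functor.map_comp, Functor.map_comp,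
          Category.assoc, Category.assoc, ← w]
        refine (Category.assoc _ _ _).symm.trans ((Category.assoc _ _ _).symm.trans ?_)
        refine (congrArg (· ≫ f) ((Category.assoc _ _ _).trans htop)).trans ?_
        exact (Category.assoc _ _ _).symm.trans (restrict sq (algebraMap sq.A A')).comm⟩
  obtain ⟨β, ⟨hβ₁, hβ₂⟩, -⟩ := hmV sqb
  obtain ⟨βm, rfl⟩ := (yon S).map_surjective β
  obtain ⟨β₀, hβ₀⟩ := Spec.map_surjective (βm.left : Spec (CommRingCat.of A') ⟶ Spec (CommRingCat.of K))
  let _ : Algebra K A' := β₀.hom.toAlgebra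
  let uA : C →ₐ[K] A' ⧸ IA' :=
    { u₀ with
      commutes' := fun x => by
        have e1 := congr($((yon S).map_injective ((Functor.map_comp _ _ _).trans hβ₁)).left)
        change Spec.map _ ≫ βm.left = Spec.map _ ≫ Spec.map _ at e1
        rw [← hβ₀, ← Spec.map_comp, ← Spec.map_comp] at e1
        exact congr($(Spec.map_injective e1).hom x).symm }
  have hβw : Spec.map (CommRingCat.ofHom (algebraMap K A')) ≫ strK =
      (SmoothLiftSp.ptD sq A').hom := by
    refine Eq.trans ?_ (Over.w βm)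
    rw [← hβ₀]
    rfl
  have hβm : (Over.homMk (Spec.map (CommRingCat.ofHom (algebraMap K A'))) hβw :
      SmoothLiftSp.ptD sq A' ⟶ ptK) = βm := by
    ext1
    exact hβ₀
  exact SmoothLiftSp.hasLift_of_data (K := K) (C := C) (A' := A') (strK := strK)
    { a := (yon S).map mU ≫ a
      b := (yon S).map mV ≫ b
      ha := hmU
      hb := hfu hmV
      w := by
        refine (Category.assoc _ _ _).trans ((congrArg _ w).trans ?_)
        refine (Category.assoc _ _ _).symm.trans ?_
        refine (congrArg (· ≫ b) ((Functor.map_comp _ _ _).symm.trans ((congrArg _ hm).trans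
          (Functor.map_comp _ _ _)))).trans ?_
        exact Category.assoc _ _ _
      u := uA
      hβ := hβw
      hu := hu
      htop := htop
      hbot := by rw [hβm]; exact hβ₂ }

theorem hasLift_of_charts {X Y : Sp S} {f : X ⟶ Y} (sq : InfSq f) {U V : Over S}
    (a : (yon S).obj U ⟶ X) (b : (yon S).obj V ⟶ Y) (h : U ⟶ V) (ha : RepWith @Etale a)
    (has : RepWith @Surjective a) (hb : RepWith @Etale b) (w : a ≫ f = (yon S).map h ≫ b)
    (hh : MoreMor.IsFormallySmoothHom h.left) : sq.HasLift :=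
  hasLift_of_charts_at sq a b h ha (has.2 _ _ _ (ha.1.isPullback sq.top)) hb w hh

/-- Formal smoothness may be read on one etale chart, surjective onto the source. -/
theorem formallySmooth_of_chart {X Y : Sp S} {f : X ⟶ Y} {U V : Over S}
    (a : (yon S).obj U ⟶ X) (b : (yon S).obj V ⟶ Y) (h : U ⟶ V) (ha : RepWith @Etale a)
    (has : RepWith @Surjective a) (hb : RepWith @Etale b) (w : a ≫ f = (yon S).map h ≫ b)
    (hh : MoreMor.IsFormallySmoothHom h.left) : IsFormallySmoothMor f :=
  fun sq => hasLift_of_charts sq a b h ha has hb w hh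

/-- Formally smooth morphisms are formally smooth on all etale charts. -/
theorem locP_of_formallySmooth {X Y : Sp S} {f : X ⟶ Y} (hf : IsFormallySmoothMor f) :
    LocP @MoreMor.IsFormallySmoothHom f := by
  intro U V a b h ha hb w
  refine (InfScheme.formallySmooth_iff h).1 (formallySmooth_of_comp (d := b) ?_
    (InfCharts.formallyUnramified_of_repWith_etale hb))
  rw [← w]
  exact formallySmooth_comp (formallySmooth_of_formallyEtale (formallyEtale_of_repWith_etale ha)) hf

theorem formallySmooth_iff_locP {X Y : Sp S} (hX : IsAlgSpace X) (hY : IsAlgSpace Y) (f : X ⟶ Y) :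
    IsFormallySmoothMor f ↔ LocP @MoreMor.IsFormallySmoothHom f := by
  refine ⟨locP_of_formallySmooth, fun h => ?_⟩
  obtain ⟨U, V, a, b, g, ha, has, hb, -, w⟩ := InfCharts.exists_chart hX hY f
  exact formallySmooth_of_chart a b g ha has hb w (h a b g ha hb w)

end Groth.Agent.AlgSp.SmoothCharts
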