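import Groth.Agent.AlgSp.SmoothCharts
import Groth.Agent.S1486
import Groth.Prelude.Def_AlgSpCov
import Mathlib.RingTheory.TensorProduct.Pi
import Mathlib.RingTheory.Smooth.Pi
import Mathlib.RingTheory.Extension.Cotangent.BaseChange
import Mathlib.RingTheory.Kaehler.TensorProduct

/-!
Formal smoothness is fpqc local on the base.
-/

universe u

open CategoryTheory CategoryTheory.Limits AlgebraicGeometry Opposite AlgSp TensorProduct

set_option backward.isDefEq.respectTransparency.types false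

namespace Groth.Agent.AlgSp.SmoothFpqc

variable {S : Scheme.{u}}

theorem formallySmooth_baseChange {X Y X' Y' : Sp S} {f : X ⟶ Y} {g : Y' ⟶ Y} {f' : X' ⟶ Y'} {g' : X' ⟶ X}
    (sq : IsPullback g' f' f g) (hf : IsFormallySmoothMor f) : IsFormallySmoothMor f' := by
  intro s
  obtain ⟨l, hl₁, hl₂⟩ := hf ⟨s.A, s.I, s.sq_zero, s.str, s.top ≫ g', s.bot ≫ g, by
    rw [Category.assoc, sq.w, reassoc_of% s.comm]⟩
  refine ⟨sq.lift l s.bot hl₂, sq.hom_ext ?_ ?_, sq.lift_snd _ _ _⟩
  · exact (Category.assoc _ _ _).trans ((congrArg _ (sq.lift_fst _ _ _)).trans hl₁)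
  · exact (Category.assoc _ _ _).trans ((congrArg _ (sq.lift_snd _ _ _)).trans s.comm.symm)

/-- Base changes of charts of a morphism whose base change is formally smooth are formally smooth. -/
theorem formallySmooth_chart_bc {X Y Xi Yi U V W P : Sp S} {f : X ⟶ Y} {g : Yi ⟶ Y} {p : Xi ⟶ Yi} {q : Xi ⟶ X}
    (sq₀ : IsPullback q p f g) (hp : IsFormallySmoothMor p) {a : U ⟶ X} (ha : IsFormallyEtaleMor a)
    {b : V ⟶ Y} (hb : IsFormallyUnramifiedMor b) {h : U ⟶ V} (w : a ≫ f = h ≫ b) {c : W ⟶ V} {l : W ⟶ Yi}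
    (hl : l ≫ g = c ≫ b) {e : P ⟶ U} {h' : P ⟶ W} (sqP : IsPullback e h' h c) : IsFormallySmoothMor h' := by
  intro s
  have w₁ : (s.top ≫ e ≫ a) ≫ f = (s.top ≫ h' ≫ l) ≫ g := by
    simp only [Category.assoc, hl, w]
    rw [sqP.w_assoc]
  obtain ⟨m, hm₁, hm₂⟩ := hp ⟨s.A, s.I, s.sq_zero, s.str, sq₀.lift _ _ w₁, s.bot ≫ l, by
    rw [sq₀.lift_snd, reassoc_of% s.comm]⟩
  obtain ⟨n, ⟨hn₁, hn₂⟩, -⟩ := ha ⟨s.A, s.I, s.sq_zero, s.str, s.top ≫ e, m ≫ q, by
    refine Eq.trans ?_ ((congrArg (· ≫ q) hm₁).symm.trans (Category.assoc _ _ _))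
    rw [sq₀.lift_fst, Category.assoc]⟩
  have key : n ≫ h = s.bot ≫ c := by
    refine hb ⟨s.A, s.I, s.sq_zero, s.str, s.top ≫ e ≫ h, s.bot ≫ c ≫ b, by
      simp only [Category.assoc]
      rw [sqP.w_assoc, reassoc_of% s.comm]⟩ _ _ ?_ ?_ ?_ ?_
    · exact (Category.assoc _ _ _).symm.trans ((congrArg (· ≫ h) hn₁).trans (Category.assoc _ _ _))
    · refine (Category.assoc _ _ _).trans ((congrArg _ w.symm).trans ?_)
      refine (Category.assoc _ _ _).symm.trans ((congrArg (· ≫ f) hn₂).trans ?_)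
      refine (Category.assoc _ _ _).trans ((congrArg _ sq₀.w).trans ?_)
      refine (Category.assoc _ _ _).symm.trans ((congrArg (· ≫ g) hm₂).trans ?_)
      exact (Category.assoc _ _ _).trans (congrArg _ hl)
    · exact ((congrArg (s.top ≫ ·) sqP.w).trans ((Category.assoc _ _ _).symm.trans
        ((congrArg (· ≫ c) s.comm).trans (Category.assoc _ _ _)))).symm
    · exact Category.assoc _ _ _
  refine ⟨sqP.lift n s.bot key, sqP.hom_ext ?_ ?_, sqP.lift_snd _ _ _⟩
  · exact (Category.assoc _ _ _).trans ((congrArg _ (sqP.lift_fst _ _ _)).trans hn₁)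
  · exact (Category.assoc _ _ _).trans ((congrArg _ (sqP.lift_snd _ _ _)).trans s.comm.symm)

attribute [local instance] Algebra.TensorProduct.rightAlgebra in
/-- Formal smoothness descends along faithfully flat base change. -/
theorem formallySmooth_descent {A B : Type u} [CommRing A] [CommRing B] [Algebra A B] (A' : Type u) [CommRing A']
    [Algebra A A'] [Module.FaithfullyFlat A A'] [Algebra.FormallySmooth A' (A' ⊗[A] B)] :
    Algebra.FormallySmooth A B := by
  refine (Algebra.formallySmooth_iff A B).2 ⟨?_, ?_⟩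
  · let e : B ⊗[A] A' ≃ₗ[B] A' ⊗[A] B :=
      { (TensorProduct.comm A B A').toAddEquiv with
        map_smul' := fun b x => by
          induction x with
          | zero => simp
          | tmul y z =>
            change TensorProduct.comm A B A' ((b * y) ⊗ₜ z) = b • (z ⊗ₜ[A] y)
            simp [Algebra.smul_def, RingHom.algebraMap_toAlgebra]
          | add x y hx hy => simp_all [smul_add] }
    have : Module.FaithfullyFlat B (A' ⊗[A] B) := Module.FaithfullyFlat.of_linearEquiv _ _ e.symm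
    have : Algebra.IsPushout A A' B (A' ⊗[A] B) := inferInstance
    have := Module.Projective.of_equiv
      (KaehlerDifferential.tensorKaehlerEquiv A A' B (A' ⊗[A] B)).symm
    exact Groth.Agent.ProjDesc.projective_of_baseChange B (A' ⊗[A] B) _
  · have : Subsingleton (A' ⊗[A] Algebra.H1Cotangent A B) :=
      (Algebra.tensorH1CotangentOfFlat A B A').subsingleton
    exact Module.FaithfullyFlat.lTensor_reflects_triviality A A' _

/-- Formal smoothness of base changes along a finite family gives it along the product. -/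
theorem formallySmooth_pi {A B : Type u} [CommRing A] [CommRing B] [Algebra A B] {ι : Type} [Fintype ι]
    [DecidableEq ι] (Rj : ι → Type u) [∀ j, CommRing (Rj j)] [∀ j, Algebra A (Rj j)]
    (h : ∀ j, Algebra.FormallySmooth (Rj j) (Rj j ⊗[A] B)) :
    Algebra.FormallySmooth (Π j, Rj j) ((Π j, Rj j) ⊗[A] B) := by
  let _ : ∀ j, Algebra (Π j, Rj j) (Rj j) := fun j => (Pi.evalRingHom Rj j).toAlgebra
  have : ∀ j, IsScalarTower A (Π j, Rj j) (Rj j) := fun j => IsScalarTower.of_algebraMap_eq fun _ => rfl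
  have hev : ∀ j, Algebra.FormallySmooth (Π j, Rj j) (Rj j) := by
    intro j
    refine (Algebra.FormallySmooth.iff_of_surjective (Function.surjective_eval j)).2 ?_
    change _ * _ = _
    refine le_antisymm Ideal.mul_le_left fun x hx => ?_
    have hx' : x j = 0 := hx
    have h1 : (1 - Pi.single j 1 : Π j, Rj j) ∈ RingHom.ker (algebraMap (Π j, Rj j) (Rj j)) := by
      rw [RingHom.mem_ker, RingHom.algebraMap_toAlgebra]; simp
    have h2 : x = (1 - Pi.single j 1) * x := by
      funext i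
      by_cases hi : i = j
      · subst hi; simp [hx']
      · simp [hi]
    rw [h2]
    exact Ideal.mul_mem_mul h1 hx
  have : ∀ j, Algebra.FormallySmooth (Π j, Rj j) (Rj j ⊗[A] B) := fun j =>
    Algebra.FormallySmooth.comp (Π j, Rj j) (Rj j) (Rj j ⊗[A] B)
  have hall : Algebra.FormallySmooth (Π j, Rj j) (Π j, Rj j ⊗[A] B) :=
    (Algebra.FormallySmooth.pi_iff _).2 this
  let e : (Π j, Rj j) ⊗[A] B ≃+* Π j, Rj j ⊗[A] B :=
    ((Algebra.TensorProduct.comm A (Π j, Rj j) B).toRingEquiv.trans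
      (Algebra.TensorProduct.piRight A A B Rj).toRingEquiv).trans
      (RingEquiv.piCongrRight fun j => (Algebra.TensorProduct.comm A B (Rj j)).toRingEquiv)
  let e' : (Π j, Rj j) ⊗[A] B ≃ₐ[Π j, Rj j] Π j, Rj j ⊗[A] B :=
    AlgEquiv.ofRingEquiv (f := e) fun x => by
      funext j
      change Algebra.TensorProduct.comm A B (Rj j)
        (Algebra.TensorProduct.piRight A A B Rj (Algebra.TensorProduct.comm A (Π j, Rj j) B (x ⊗ₜ 1)) j) = _
      simp [Pi.algebraMap_apply, Algebra.TensorProduct.algebraMap_apply]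
      rfl
  exact Algebra.FormallySmooth.of_equiv e'.symm

theorem isLocalOnBase : IsLocalOnBase (S := S) IsFpqcCover IsFormallySmoothMor := by
  intro ι Y Yi g hY hYi hg X f hX Xi p q hXi sq
  refine ⟨fun hf i => formallySmooth_baseChange (sq i) hf, fun hp => ?_⟩
  refine (SmoothCharts.formallySmooth_iff_locP hX hY f).2 fun U V a b h ha hb w => ?_
  refine (Groth.Agent.S1486.result h.left).2 fun U₁ V₁ hU₁ hV₁ hUV => ?_
  let _ : Algebra Γ(V.left, V₁) Γ(U.left, U₁) := (h.left.appLE V₁ U₁ hUV).hom.toAlgebra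
  let A : Type u := Γ(V.left, V₁)
  let B : Type u := Γ(U.left, U₁)
  let Z : Over S := Over.mk (hV₁.fromSpec ≫ V.hom)
  let ι₁ : Z ⟶ V := Over.homMk hV₁.fromSpec rfl
  let U' : Over S := Over.mk (Spec.map (CommRingCat.ofHom (algebraMap A B)) ≫ Z.hom)
  let h₁ : U' ⟶ Z := Over.homMk (Spec.map (CommRingCat.ofHom (algebraMap A B))) rfl
  let ι₂ : U' ⟶ U := Over.homMk hU₁.fromSpec (by
    change hU₁.fromSpec ≫ U.hom = Spec.map (h.left.appLE V₁ U₁ hUV) ≫ hV₁.fromSpec ≫ V.hom
    rw [← Over.w h, reassoc_of% (IsAffineOpen.SpecMap_appLE_fromSpec h.left hV₁ hU₁ hUV)])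
  have hι : ι₂ ≫ h = h₁ ≫ ι₁ := by
    ext1
    exact (IsAffineOpen.SpecMap_appLE_fromSpec h.left hV₁ hU₁ hUV).symm
  have : Etale ι₁.left := inferInstanceAs (Etale hV₁.fromSpec)
  have : Etale ι₂.left := inferInstanceAs (Etale hU₁.fromSpec)
  have : IsAffine Z.left := inferInstanceAs (IsAffine (Spec Γ(V.left, V₁)))
  obtain ⟨m, W, c, hWa, hcf, hcs, hcl⟩ := hg.2 Z inferInstance ((yon S).map ι₁ ≫ b)
  have := hWa
  choose i l hl using hcl
  let Rj : Fin m → CommRingCat.{u} := fun j => Γ((W j).left, ⊤)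
  choose ψ hψ using fun j => Spec.map_surjective ((W j).left.isoSpec.inv ≫ (c j).left :
    Spec (Rj j) ⟶ Spec (CommRingCat.of A))
  let _ : ∀ j, Algebra A (Rj j) := fun j => (ψ j).hom.toAlgebra
  have hflat : ∀ j, Module.Flat A (Rj j) := fun j => by
    have : Flat (Spec.map (ψ j)) := by rw [hψ]; have := hcf j; infer_instance
    exact (HasRingHomProperty.Spec_iff (P := @Flat)).1 this
  have hfs : ∀ j, Algebra.FormallySmooth (Rj j) (Rj j ⊗[A] B) := by
    intro j
    let cj : Spec (Rj j) ⟶ Spec (CommRingCat.of A) := Spec.map (CommRingCat.ofHom (algebraMap A (Rj j)))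
    let W' : Over S := Over.mk (cj ≫ Z.hom)
    let iso : W' ⟶ W j := Over.homMk (W j).left.isoSpec.inv (by
      change _ = Spec.map (ψ j) ≫ Z.hom
      rw [hψ, Category.assoc, Over.w (c j)])
    let c' : W' ⟶ Z := Over.homMk cj rfl
    have hc' : iso ≫ c j = c' := by ext1; exact (hψ j).symm
    let P : Over S := Over.mk (Spec.map (CommRingCat.ofHom (algebraMap (Rj j) (Rj j ⊗[A] B))) ≫ W'.hom)
    let h' : P ⟶ W' := Over.homMk (Spec.map (CommRingCat.ofHom (algebraMap (Rj j) (Rj j ⊗[A] B)))) rfl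
    have hsq := (isPullback_SpecMap_of_isPushout _ _ _ _
      (CommRingCat.isPushout_tensorProduct A (Rj j) B)).flip
    let eP : P ⟶ U' := Over.homMk
      (Spec.map (CommRingCat.ofHom (Algebra.TensorProduct.includeRight : B →ₐ[A] Rj j ⊗[A] B).toRingHom)) (by
        change _ ≫ Spec.map _ ≫ Z.hom = Spec.map _ ≫ cj ≫ Z.hom
        rw [← Category.assoc, ← Category.assoc]
        exact congrArg (· ≫ Z.hom) hsq.w)
    have hP : IsPullback eP h' h₁ c' := by
      refine IsPullback.of_map (Over.forget S) ?_ hsq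
      ext1
      exact hsq.w
    have hFS : IsFormallySmoothMor ((yon S).map h') := by
      refine formallySmooth_chart_bc (sq (i j)) (hp (i j)) (a := (yon S).map ι₂ ≫ a)
        (InfCharts.formallyEtale_comp (InfEtale.formallyEtale_yon ι₂) (InfEtale.formallyEtale_of_repWith_etale ha))
        (b := (yon S).map ι₁ ≫ b)
        (InfCharts.formallyUnramified_comp (InfEtale.formallyUnramified_yon ι₁)
          (InfCharts.formallyUnramified_of_repWith_etale hb))
        (h := (yon S).map h₁) ?_ (c := (yon S).map c') (l := (yon S).map iso ≫ l j) ?_ (hP.map (yon S))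
      · rw [Category.assoc, w, ← Category.assoc, ← Functor.map_comp, hι, Functor.map_comp, Category.assoc]
      · rw [Category.assoc, hl, ← Category.assoc, ← Functor.map_comp, hc']
    exact SmoothCharts.formallySmooth_algebra ((InfScheme.formallySmooth_iff h').1 hFS)
  classical
  let A' : Type u := Π j, Rj j
  have : Module.Flat A A' :=
    Module.Flat.of_linearEquiv (DFinsupp.linearEquivFunOnFintype (R := A) (M := fun j => Rj j)).symm
  have : Module.FaithfullyFlat A A' := by
    refine Module.FaithfullyFlat.of_comap_surjective fun t => ?_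
    obtain ⟨j, x, hx⟩ := hcs t
    obtain ⟨y, rfl⟩ := (W j).left.isoSpec.inv.surjective x
    refine ⟨PrimeSpectrum.comap (Pi.evalRingHom (fun j => Rj j) j) y, ?_⟩
    rw [← hx]
    exact congr($(hψ j) y)
  have : Algebra.FormallySmooth A' (A' ⊗[A] B) := formallySmooth_pi (fun j => Rj j) hfs
  exact formallySmooth_descent A'

end Groth.Agent.AlgSp.SmoothFpqc
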