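import Groth.Agent.AlgSp.SmoothRing
import Groth.Agent.AlgSp.InfEtale

/-!
Formally smooth charts give infinitesimal lifts for morphisms of sheaves.
-/

universe u

open CategoryTheory CategoryTheory.Limits AlgebraicGeometry Opposite AlgSp TensorProduct
open Groth.Agent.AlgSp.InfGlue

set_option backward.isDefEq.respectTransparency.types false

namespace Groth.Agent.AlgSp.SmoothLiftSp

variable {S : Scheme.{u}} {X Y : Sp S} {f : X ⟶ Y} (sq : InfSq f)

section Pts

variable (D : Type u) [CommRing D] [Algebra sq.A D]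

/-- `Spec D` over `S` for an `A`-algebra `D`. -/
noncomputable abbrev ptD : Over S := ptR sq (algebraMap sq.A D)

variable {D}

/-- The closed subscheme of an ideal. -/
noncomputable abbrev ptJ (J : Ideal D) : Over S :=
  Over.mk (Spec.map (CommRingCat.ofHom (Ideal.Quotient.mk J)) ≫ (ptD sq D).hom)

/-- Its inclusion. -/
noncomputable abbrev jJ (J : Ideal D) : ptJ sq J ⟶ ptD sq D :=
  Over.homMk (Spec.map (CommRingCat.ofHom (Ideal.Quotient.mk J))) rfl

/-- Its map to `Spec (A ⧸ I)`. -/
noncomputable abbrev toJ (J : Ideal D) (hJ : sq.I.map (algebraMap sq.A D) ≤ J) : ptJ sq J ⟶ sq.ptT :=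
  Over.homMk (Spec.map (CommRingCat.ofHom
    (Ideal.quotientMap J (algebraMap sq.A D) (Ideal.map_le_iff_le_comap.1 hJ)))) (by
    change Spec.map _ ≫ Spec.map _ ≫ sq.str = Spec.map _ ≫ Spec.map _ ≫ sq.str
    rw [← Spec.map_comp_assoc, ← Spec.map_comp_assoc]
    rfl)

variable {E : Type u} [CommRing E] [Algebra sq.A E]

/-- The map of an `A`-algebra homomorphism. -/
noncomputable abbrev sp (h : D →ₐ[sq.A] E) : ptD sq E ⟶ ptD sq D :=
  Over.homMk (Spec.map (CommRingCat.ofHom h.toRingHom)) (by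
    change Spec.map _ ≫ Spec.map _ ≫ sq.str = Spec.map _ ≫ sq.str
    rw [← Spec.map_comp_assoc]
    congr 2
    ext a
    exact h.commutes a)

theorem sp_comp {F : Type u} [CommRing F] [Algebra sq.A F] (h : D →ₐ[sq.A] E) (k : E →ₐ[sq.A] F) :
    sp sq (k.comp h) = sp sq k ≫ sp sq h := by
  ext1
  change Spec.map _ = Spec.map _ ≫ Spec.map _
  rw [← Spec.map_comp]
  rfl

theorem sp_id : sp sq (AlgHom.id sq.A D) = 𝟙 _ := by
  ext1
  exact Spec.map_id _

theorem sp_toT' (h : D →ₐ[sq.A] E) :
    sp sq h ≫ toT' sq (algebraMap sq.A D) = toT' sq (algebraMap sq.A E) := by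
  ext1
  change Spec.map _ ≫ Spec.map _ = Spec.map _
  rw [← Spec.map_comp]
  congr 1
  ext a
  exact h.commutes a

theorem exists_restrict (h : D →ₐ[sq.A] E) {J : Ideal D} {K : Ideal E} (hle : ∀ x ∈ J, h x ∈ K)
    (hJ : sq.I.map (algebraMap sq.A D) ≤ J) (hK : sq.I.map (algebraMap sq.A E) ≤ K) :
    ∃ q : ptJ sq K ⟶ ptJ sq J, jJ sq K ≫ sp sq h = q ≫ jJ sq J ∧ q ≫ toJ sq J hJ = toJ sq K hK ∧
      q.left = Spec.map (CommRingCat.ofHom (Ideal.quotientMap K h.toRingHom hle)) := by
  let q₀ := Spec.map (CommRingCat.ofHom (Ideal.quotientMap K h.toRingHom hle))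
  have w : q₀ ≫ (jJ sq J).left = (jJ sq K ≫ sp sq h).left := by
    change Spec.map _ ≫ Spec.map _ = Spec.map _ ≫ Spec.map _
    rw [← Spec.map_comp, ← Spec.map_comp]
    rfl
  have hw : q₀ ≫ (ptJ sq J).hom = (ptJ sq K).hom := by
    rw [← Over.w (jJ sq J), ← Category.assoc, w, Over.w (jJ sq K ≫ sp sq h)]
  refine ⟨Over.homMk q₀ hw, ?_, ?_, rfl⟩
  · ext1
    exact w.symm
  · ext1
    change Spec.map _ ≫ Spec.map _ = Spec.map _
    rw [← Spec.map_comp]
    congr 1
    ext a
    exact congrArg (Ideal.Quotient.mk K) (h.commutes a)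

/-- A dotted arrow over `Spec D`, relative to an ideal. -/
def IsLift (J : Ideal D) (hJ : sq.I.map (algebraMap sq.A D) ≤ J) (m : (yon S).obj (ptD sq D) ⟶ X) : Prop :=
  m ≫ f = (yon S).map (toT' sq (algebraMap sq.A D)) ≫ sq.bot ∧
    (yon S).map (jJ sq J) ≫ m = (yon S).map (toJ sq J hJ) ≫ sq.top

theorem IsLift.comp (h : D →ₐ[sq.A] E) {J : Ideal D} {K : Ideal E} (hle : ∀ x ∈ J, h x ∈ K)
    {hJ : sq.I.map (algebraMap sq.A D) ≤ J} (hK : sq.I.map (algebraMap sq.A E) ≤ K)
    {m : (yon S).obj (ptD sq D) ⟶ X} (hm : IsLift sq J hJ m) :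
    IsLift sq K hK ((yon S).map (sp sq h) ≫ m) := by
  obtain ⟨q, hq₁, hq₂, -⟩ := exists_restrict sq h hle hJ hK
  refine ⟨?_, ?_⟩
  · rw [Category.assoc, hm.1, ← Category.assoc, ← Functor.map_comp, sp_toT']
  · rw [← Category.assoc, ← Functor.map_comp, hq₁, Functor.map_comp, Category.assoc, hm.2, ← Category.assoc,
      ← Functor.map_comp, hq₂]

end Pts

section Descent

variable {A' R : Type u} [CommRing A'] [Algebra sq.A A'] [CommRing R] [Algebra sq.A R] [Algebra A' R]
  [IsScalarTower sq.A A' R]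

set_option maxHeartbeats 800000 in
/-- A neighbourhood which is universal over an etale faithfully flat extension gives a dotted arrow. -/
theorem hasLift_of_universal [Module.FaithfullyFlat sq.A A'] [Algebra.Etale sq.A A']
    [Algebra.FormallySmooth A' R] (π : R →ₐ[A'] A' ⧸ sq.I.map (algebraMap sq.A A'))
    (hkR : sq.I.map (algebraMap sq.A R) ≤ SmoothRing.kerπ sq.I π)
    (zR : (yon S).obj (ptD sq R) ⟶ X) (hzR : IsLift sq (SmoothRing.kerπ sq.I π) hkR zR)
    (huniv : ∀ {D : Type u} [CommRing D] [Algebra sq.A D] [Algebra A' D] [IsScalarTower sq.A A' D]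
      (J : Ideal D) (hJ : sq.I.map (algebraMap sq.A D) ≤ J) (_ : J ^ 2 = ⊥)
      (m : (yon S).obj (ptD sq D) ⟶ X) (_ : IsLift sq J hJ m),
      ∃ g : R →ₐ[A'] D, (∀ x ∈ SmoothRing.kerπ sq.I π, g x ∈ J) ∧
        (yon S).map (sp sq (g.restrictScalars sq.A)) ≫ zR = m ∧
        ∀ g' : R →ₐ[A'] D, (∀ x ∈ SmoothRing.kerπ sq.I π, g' x ∈ J) →
          (yon S).map (sp sq (g'.restrictScalars sq.A)) ≫ zR = m → g' = g) : sq.HasLift := by
  let IA' := sq.I.map (algebraMap sq.A A')
  let kR : Ideal R := SmoothRing.kerπ sq.I π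
  -- the first order neighbourhood
  let Bp := SmoothRing.Bp sq.I π
  let Kp := SmoothRing.Kp sq.I π
  let Jp := SmoothRing.Jp sq.I π
  let mk : R →ₐ[A'] Bp := Ideal.Quotient.mkₐ A' _
  let mkA : R →ₐ[sq.A] Bp := mk.restrictScalars sq.A
  have hKp := SmoothRing.map_le_Kp sq.I π
  -- maps out of the neighbourhood
  have huniq : ∀ {D : Type u} [CommRing D] [Algebra sq.A D] [Algebra A' D] [IsScalarTower sq.A A' D]
      (J : Ideal D) (_ : sq.I.map (algebraMap sq.A D) ≤ J) (_ : J ^ 2 = ⊥) (g g' : Bp →ₐ[A'] D),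
      (∀ x ∈ Kp, g x ∈ J) → (∀ x ∈ Kp, g' x ∈ J) →
      (yon S).map (sp sq (g.restrictScalars sq.A)) ≫ (yon S).map (sp sq mkA) ≫ zR =
        (yon S).map (sp sq (g'.restrictScalars sq.A)) ≫ (yon S).map (sp sq mkA) ≫ zR → g = g' := by
    intro D _ _ _ _ J hJ hJ2 g g' hg hg' he
    have hm : IsLift sq J hJ ((yon S).map (sp sq ((g.comp mk).restrictScalars sq.A)) ≫ zR) :=
      hzR.comp sq _ (fun x hx => hg _ (Ideal.mem_map_of_mem _ hx)) hJ
    obtain ⟨g₀, -, -, h₀⟩ := huniv J hJ hJ2 _ hm
    have h1 := h₀ (g.comp mk) (fun x hx => hg _ (Ideal.mem_map_of_mem _ hx)) rfl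
    have h2 := h₀ (g'.comp mk) (fun x hx => hg' _ (Ideal.mem_map_of_mem _ hx)) (by
      have e : ∀ k : Bp →ₐ[A'] D, sp sq ((k.comp mk).restrictScalars sq.A) =
          sp sq (k.restrictScalars sq.A) ≫ sp sq mkA := fun k => by
        rw [show (k.comp mk).restrictScalars sq.A = (k.restrictScalars sq.A).comp mkA from
          AlgHom.ext fun _ => rfl, sp_comp]
      simp only [e, Functor.map_comp, Category.assoc]
      exact he.symm)
    exact Ideal.Quotient.algHom_ext A' (h1.trans h2.symm)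
  let zp : (yon S).obj (ptD sq Bp) ⟶ X := (yon S).map (sp sq mkA) ≫ zR
  have hzp : IsLift sq Kp hKp zp := hzR.comp sq mkA (fun x hx => Ideal.mem_map_of_mem _ hx) hKp
  -- the descent datum
  let D := A' ⊗[sq.A] Bp
  let iR : Bp →ₐ[sq.A] D := SmoothRing.incR sq.I π
  have hJp : sq.I.map (algebraMap sq.A D) ≤ Jp := by
    rw [← iR.comp_algebraMap, ← Ideal.map_map]
    exact Ideal.map_mono hKp
  have hJp2 : Jp ^ 2 = ⊥ := by
    change (Kp.map iR.toRingHom) ^ 2 = ⊥
    rw [← Ideal.map_pow, SmoothRing.Kp_sq, Ideal.map_bot]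
  have hmD : IsLift sq Jp hJp ((yon S).map (sp sq iR) ≫ zp) :=
    hzp.comp sq iR (fun x hx => Ideal.mem_map_of_mem _ hx) hJp
  obtain ⟨g, hgJ, hgz, -⟩ := huniv Jp hJp hJp2 _ hmD
  have hg2 : ∀ x ∈ kR ^ 2, g x = 0 := by
    intro x hx
    have h1 : kR ^ 2 ≤ (Jp ^ 2).comap g.toRingHom :=
      (Ideal.pow_right_mono (show kR ≤ Jp.comap g.toRingHom from fun y hy => hgJ y hy) 2).trans
        (Ideal.le_comap_pow _ 2)
    have := h1 hx
    rwa [Ideal.mem_comap, hJp2, Ideal.mem_bot] at this
  let c : Bp →ₐ[A'] D := Ideal.Quotient.liftₐ (kR ^ 2) g hg2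
  have hcm : ∀ x ∈ Kp, c x ∈ Jp := by
    intro x hx
    obtain ⟨r, rfl⟩ := Ideal.Quotient.mk_surjective x
    exact hgJ r ((SmoothRing.mem_Kp sq.I π r).1 hx)
  have hcz : (yon S).map (sp sq (c.restrictScalars sq.A)) ≫ zp = (yon S).map (sp sq iR) ≫ zp := by
    refine Eq.trans ?_ hgz
    change (yon S).map (sp sq (c.restrictScalars sq.A)) ≫ (yon S).map (sp sq mkA) ≫ zR = _
    rw [← Category.assoc, ← Functor.map_comp, ← sp_comp]
    rfl
  let d : SmoothRing.Datum sq.I π :=
    { c := c
      counit := by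
        let μ : D →ₐ[A'] Bp := SmoothRing.mul'
        have hμi : (μ.restrictScalars sq.A).comp iR = AlgHom.id sq.A Bp := by
          refine AlgHom.ext fun x => ?_
          change SmoothRing.mul' (1 ⊗ₜ[sq.A] x) = x
          erw [Algebra.TensorProduct.lift_tmul]
          simp
        have hμJ : ∀ x ∈ Jp, μ x ∈ Kp := by
          have h : Jp ≤ Kp.comap μ.toRingHom := Ideal.map_le_iff_le_comap.2 fun x hx => by
            rw [Ideal.mem_comap, Ideal.mem_comap]
            exact (congr($hμi x)).symm ▸ hx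
          exact fun x hx => h hx
        have e : μ.comp c = AlgHom.id A' Bp := by
          refine huniq Kp hKp (SmoothRing.Kp_sq sq.I π) _ _ (fun x hx => hμJ _ (hcm x hx)) (fun x hx => hx) ?_
          change (yon S).map (sp sq ((μ.restrictScalars sq.A).comp (c.restrictScalars sq.A))) ≫ zp =
            (yon S).map (sp sq (AlgHom.id sq.A Bp)) ≫ zp
          rw [← hμi, sp_comp, sp_comp, Functor.map_comp, Functor.map_comp, Category.assoc, Category.assoc, hcz]
        exact fun x => congr($e x)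
      coassoc := by
        let iR₂ : D →ₐ[sq.A] (A' ⊗[sq.A] (A' ⊗[sq.A] Bp)) := Algebra.TensorProduct.includeRight
        let J₂ : Ideal (A' ⊗[sq.A] (A' ⊗[sq.A] Bp)) := Jp.map iR₂.toRingHom
        let _ : CommRing (A' ⊗[sq.A] (A' ⊗[sq.A] Bp)) := Algebra.TensorProduct.instCommRing
        let _ : Algebra sq.A (A' ⊗[sq.A] (A' ⊗[sq.A] Bp)) := Algebra.TensorProduct.leftAlgebra
        have hJ₂ : sq.I.map (algebraMap sq.A (A' ⊗[sq.A] (A' ⊗[sq.A] Bp))) ≤ J₂ := by
          rw [← iR₂.comp_algebraMap, ← Ideal.map_map]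
          exact Ideal.map_mono hJp
        have hJ₂2 : J₂ ^ 2 = ⊥ := by
          change (Jp.map iR₂.toRingHom) ^ 2 = ⊥
          rw [← Ideal.map_pow, hJp2, Ideal.map_bot]
        have hmap : ∀ h : Bp →ₐ[sq.A] D, (∀ x ∈ Kp, h x ∈ Jp) →
            ∀ x ∈ Jp, Algebra.TensorProduct.map (AlgHom.id A' A') h x ∈ J₂ := by
          intro h hh
          have hle : Jp ≤ J₂.comap (Algebra.TensorProduct.map (AlgHom.id A' A') h).toRingHom :=
            Ideal.map_le_iff_le_comap.2 fun x hx => by
              rw [Ideal.mem_comap, Ideal.mem_comap]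
              exact Ideal.mem_map_of_mem iR₂.toRingHom (hh x hx)
          exact fun x hx => hle hx
        have hsp : ∀ h : Bp →ₐ[sq.A] D, (yon S).map (sp sq
            ((Algebra.TensorProduct.map (AlgHom.id A' A') h).restrictScalars sq.A)) ≫
              (yon S).map (sp sq iR) = (yon S).map (sp sq iR₂) ≫ (yon S).map (sp sq h) := by
          intro h
          rw [← Functor.map_comp, ← Functor.map_comp, ← sp_comp, ← sp_comp]
          congr 2
        let g₁ : Bp →ₐ[A'] (A' ⊗[sq.A] (A' ⊗[sq.A] Bp)) := (Algebra.TensorProduct.map (AlgHom.id A' A') (c.restrictScalars sq.A)).comp c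
        let g₂ : Bp →ₐ[A'] (A' ⊗[sq.A] (A' ⊗[sq.A] Bp)) := (Algebra.TensorProduct.map (AlgHom.id A' A') iR).comp c
        have e : g₁ = g₂ := by
          refine huniq J₂ hJ₂ hJ₂2 _ _ (fun x hx => hmap _ hcm _ (hcm x hx))
            (fun x hx => hmap _ (fun y hy => Ideal.mem_map_of_mem _ hy) _ (hcm x hx)) ?_
          change (yon S).map (sp sq (AlgHom.comp ((Algebra.TensorProduct.map (AlgHom.id A' A')
              (c.restrictScalars sq.A)).restrictScalars sq.A) (c.restrictScalars sq.A))) ≫ zp =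
            (yon S).map (sp sq (AlgHom.comp ((Algebra.TensorProduct.map (AlgHom.id A' A')
              iR).restrictScalars sq.A) (c.restrictScalars sq.A))) ≫ zp
          rw [sp_comp, sp_comp, Functor.map_comp, Functor.map_comp, Category.assoc, Category.assoc, hcz,
            reassoc_of% (hsp (c.restrictScalars sq.A)), reassoc_of% (hsp iR), hcz]
        exact fun x => congr($e x)
      mapsTo := hcm }
  -- descend the map to the neighbourhood
  let B := SmoothRing.B d
  let vB : B →ₐ[sq.A] Bp := B.val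
  let g' : ∀ _ : PUnit.{1}, ptD sq Bp ⟶ ptD sq B := fun _ => sp sq vB
  have hφe : Etale (Spec.map (CommRingCat.ofHom (algebraMap sq.A A'))) :=
    (HasRingHomProperty.Spec_iff (P := @Etale)).2 (RingHom.etale_algebraMap.2 inferInstance)
  have hφs : Surjective (Spec.map (CommRingCat.ofHom (algebraMap sq.A A'))) :=
    ⟨PrimeSpectrum.comap_surjective_of_faithfullyFlat (A := sq.A) (B := A')⟩
  have hP := isPullback_SpecMap_of_isPushout _ _ _ _ (SmoothRing.isPushout_B d)
  have hge : Etale (g' ⟨⟩).left := MorphismProperty.of_isPullback (P := @Etale) hP hφe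
  have hgs : Surjective (g' ⟨⟩).left := MorphismProperty.of_isPullback (P := @Surjective) hP hφs
  have hP2 : IsPullback (sp sq (c.restrictScalars sq.A)) (sp sq iR) (g' ⟨⟩) (g' ⟨⟩) := by
    refine IsPullback.of_map (Over.forget S) ?_ ?_
    · change sp sq _ ≫ sp sq vB = sp sq iR ≫ sp sq vB
      rw [← sp_comp, ← sp_comp]
      congr 1
      exact AlgHom.ext fun b => b.2
    · exact isPullback_SpecMap_of_isPushout _ _ _ _ (SmoothRing.isPushout_c d)
  obtain ⟨z, hz⟩ := exists_glue g' (fun _ => hge) (fun x => ⟨⟨⟩, hgs.surj x⟩) (fun _ => zp) (by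
    intro _ _ Z p₁ p₂ hp
    rw [← hP2.lift_fst p₁ p₂ hp, Functor.map_comp, Category.assoc, hcz, ← Category.assoc, ← Functor.map_comp,
      hP2.lift_snd p₁ p₂ hp])
  have hz' : (yon S).map (sp sq vB) ≫ z = zp := hz ⟨⟩
  have hzf : z ≫ f = (yon S).map (toT' sq (algebraMap sq.A B)) ≫ sq.bot := by
    refine hom_ext_cover g' (fun _ => hge) (fun x => ⟨⟨⟩, hgs.surj x⟩) _ _ fun _ => ?_
    rw [reassoc_of% hz', hzp.1, ← Category.assoc, ← Functor.map_comp, sp_toT']
  -- the retraction
  obtain ⟨r, hr⟩ := SmoothRing.exists_retraction d sq.sq_zero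
  let rm : sq.ptT' ⟶ ptD sq B := Over.homMk (Spec.map (CommRingCat.ofHom r.toRingHom)) (by
    change Spec.map _ ≫ Spec.map _ ≫ sq.str = sq.str
    rw [← Spec.map_comp_assoc]
    have : CommRingCat.ofHom (algebraMap sq.A B) ≫ CommRingCat.ofHom r.toRingHom = 𝟙 _ := by
      ext x; exact r.commutes x
    rw [this, Spec.map_id, Category.id_comp])
  have hrm : rm ≫ toT' sq (algebraMap sq.A B) = 𝟙 _ := by
    ext1
    change Spec.map _ ≫ Spec.map _ = 𝟙 _
    rw [← Spec.map_comp, ← Spec.map_id]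
    congr 1
    ext x; exact r.commutes x
  refine ⟨(yon S).map rm ≫ z, ?_, ?_⟩
  · let toT₁ := toT sq (algebraMap sq.A A')
    have hQ := InfRing.isPullback_quotient sq.I (algebraMap sq.A A')
    refine hom_ext_cover (fun _ : PUnit.{1} => toT₁)
      (fun _ => MorphismProperty.of_isPullback (P := @Etale) hQ hφe)
      (fun x => ⟨⟨⟩, (MorphismProperty.of_isPullback (P := @Surjective) hQ hφs).surj x⟩) _ _ fun _ => ?_
    -- the augmentation on the neighbourhood
    have hπ2 : ∀ x ∈ kR ^ 2, π x = 0 := fun x hx => Ideal.pow_le_self two_ne_zero hx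
    let πb : Bp →ₐ[A'] A' ⧸ IA' := Ideal.Quotient.liftₐ (kR ^ 2) π hπ2
    have hπK : ∀ x ∈ Kp, πb x = 0 := by
      intro x hx
      obtain ⟨y, rfl⟩ := Ideal.Quotient.mk_surjective x
      exact (SmoothRing.mem_Kp sq.I π y).1 hx
    let e₀ := Spec.map (CommRingCat.ofHom (Ideal.Quotient.lift Kp πb.toRingHom hπK))
    have hπA : ∀ x, πb.toRingHom (algebraMap sq.A Bp x) =
        Ideal.Quotient.mk IA' (algebraMap sq.A A' x) := fun x => by
      rw [IsScalarTower.algebraMap_apply sq.A A' Bp]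
      exact πb.commutes _
    let e : ptR₀ sq (algebraMap sq.A A') ⟶ ptJ sq Kp := Over.homMk e₀ (by
      change Spec.map _ ≫ Spec.map _ ≫ Spec.map _ ≫ sq.str = Spec.map _ ≫ Spec.map _ ≫ sq.str
      rw [← Spec.map_comp_assoc, ← Spec.map_comp_assoc, ← Spec.map_comp_assoc]
      congr 2
      ext x
      exact hπA x)
    have he₁ : e ≫ toJ sq Kp hKp = toT₁ := by
      ext1
      change Spec.map _ ≫ Spec.map _ = Spec.map _
      rw [← Spec.map_comp]
      congr 1
      ext x
      exact hπA x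
    have he₂ : toT₁ ≫ sq.j ≫ rm = e ≫ jJ sq Kp ≫ sp sq vB := by
      ext1
      change Spec.map _ ≫ Spec.map _ ≫ Spec.map _ = Spec.map _ ≫ Spec.map _ ≫ Spec.map _
      rw [← Spec.map_comp, ← Spec.map_comp, ← Spec.map_comp, ← Spec.map_comp]
      congr 1
      ext b
      change Ideal.Quotient.mk IA' (algebraMap sq.A A' (r b)) = πb.toRingHom (b : Bp)
      rw [← hπA]
      have h1 := hπK _ (hr b)
      rw [map_sub, sub_eq_zero] at h1
      exact h1.symm
    rw [← Category.assoc ((yon S).map sq.j), ← Category.assoc ((yon S).map toT₁), ← Functor.map_comp,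
      ← Functor.map_comp, he₂, Functor.map_comp, Functor.map_comp, Category.assoc, Category.assoc, hz', hzp.2,
      ← Category.assoc, ← Functor.map_comp, he₁]
  · rw [Category.assoc, hzf, ← Category.assoc, ← Functor.map_comp, hrm]
    simp

end Descent

section Core

variable {K C A' : Type u} [CommRing K] [CommRing C] [CommRing A'] [Algebra K C] [Algebra sq.A A'] [Algebra K A']
  (strK : Spec (CommRingCat.of K) ⟶ S)

local notation "ptK" => Over.mk strK
local notation "ptC" => Over.mk (Spec.map (CommRingCat.ofHom (algebraMap K C)) ≫ strK)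

/-- The data of formally smooth affine charts lifting a square after a faithfully flat etale extension. -/
structure Data where
  a : (yon S).obj ptC ⟶ X
  b : (yon S).obj ptK ⟶ Y
  ha : IsFormallyEtaleMor a
  hb : IsFormallyUnramifiedMor b
  w : a ≫ f = (yon S).map (Over.homMk (Spec.map (CommRingCat.ofHom (algebraMap K C))) rfl : ptC ⟶ ptK) ≫ b
  u : C →ₐ[K] A' ⧸ sq.I.map (algebraMap sq.A A')
  hβ : Spec.map (CommRingCat.ofHom (algebraMap K A')) ≫ strK = (ptD sq A').hom
  hu : Spec.map (CommRingCat.ofHom u.toRingHom) ≫ (ptC).hom = (ptR₀ sq (algebraMap sq.A A')).hom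
  htop : (yon S).map (Over.homMk (Spec.map (CommRingCat.ofHom u.toRingHom)) hu :
      ptR₀ sq (algebraMap sq.A A') ⟶ ptC) ≫ a = (yon S).map (toT sq (algebraMap sq.A A')) ≫ sq.top
  hbot : (yon S).map (Over.homMk (Spec.map (CommRingCat.ofHom (algebraMap K A'))) hβ : ptD sq A' ⟶ ptK) ≫ b =
      (yon S).map (toT' sq (algebraMap sq.A A')) ≫ sq.bot

variable {sq strK}

set_option maxHeartbeats 1600000 in
theorem hasLift_of_data (d : Data sq (K := K) (C := C) (A' := A') strK) [Algebra.FormallySmooth K C]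
    [Module.FaithfullyFlat sq.A A'] [Algebra.Etale sq.A A'] : sq.HasLift := by
  classical
  let IA' := sq.I.map (algebraMap sq.A A')
  let βm : ptD sq A' ⟶ ptK := Over.homMk (Spec.map (CommRingCat.ofHom (algebraMap K A'))) d.hβ
  let ηm : ptC ⟶ ptK := Over.homMk (Spec.map (CommRingCat.ofHom (algebraMap K C))) rfl
  let um : ptR₀ sq (algebraMap sq.A A') ⟶ ptC := Over.homMk (Spec.map (CommRingCat.ofHom d.u.toRingHom)) d.hu
  have : SMulCommClass K sq.A A' := ⟨fun k a x => by simp [Algebra.smul_def]; ring⟩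
  -- the relative neighbourhood
  let R := A' ⊗[K] C
  have : IsScalarTower sq.A A' R := IsScalarTower.of_algebraMap_eq fun _ => rfl
  let π : R →ₐ[A'] A' ⧸ IA' :=
    Algebra.TensorProduct.lift (Algebra.ofId A' _) d.u (fun _ _ => Commute.all _ _)
  have hwC : Spec.map (CommRingCat.ofHom (Algebra.TensorProduct.includeRight (R := K) (A := A') (B := C)).toRingHom) ≫
      (ptC).hom = (ptD sq R).hom := by
    have h1 : CommRingCat.ofHom (algebraMap K C) ≫
        CommRingCat.ofHom (Algebra.TensorProduct.includeRight (R := K) (A := A') (B := C)).toRingHom =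
        CommRingCat.ofHom (algebraMap K A') ≫ CommRingCat.ofHom (algebraMap A' R) := by
      ext k
      exact Algebra.TensorProduct.includeRight.commutes k
    change Spec.map _ ≫ Spec.map _ ≫ strK = Spec.map _ ≫ sq.str
    rw [← Spec.map_comp_assoc, h1, Spec.map_comp, Category.assoc, d.hβ]
    change Spec.map _ ≫ Spec.map _ ≫ sq.str = _
    rw [← Spec.map_comp_assoc]
    rfl
  let zm : ptD sq R ⟶ ptC := Over.homMk _ hwC
  let toA' : ptD sq R ⟶ ptD sq A' := sp sq (IsScalarTower.toAlgHom sq.A A' R)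
  have hzη : zm ≫ ηm = toA' ≫ βm := by
    ext1
    change Spec.map _ ≫ Spec.map _ = Spec.map _ ≫ Spec.map _
    rw [← Spec.map_comp, ← Spec.map_comp]
    congr 1
    ext k
    exact Algebra.TensorProduct.includeRight.commutes k
  let zR : (yon S).obj (ptD sq R) ⟶ X := (yon S).map zm ≫ d.a
  let kR : Ideal R := SmoothRing.kerπ sq.I π
  have hkR : sq.I.map (algebraMap sq.A R) ≤ kR := Ideal.map_le_iff_le_comap.2 fun x hx => by
    rw [Ideal.mem_comap, RingHom.mem_ker, IsScalarTower.algebraMap_apply sq.A A' R, AlgHom.commutes]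
    exact Ideal.Quotient.eq_zero_iff_mem.2 (Ideal.mem_map_of_mem _ hx)
  -- restriction of `zm` to the augmentation ideal
  have hzJ : ∀ {D : Type u} [CommRing D] [Algebra sq.A D] [Algebra A' D] [IsScalarTower sq.A A' D]
      (g : R →ₐ[A'] D) (J : Ideal D) (hJ : sq.I.map (algebraMap sq.A D) ≤ J) (_ : ∀ x ∈ kR, g x ∈ J),
      ∃ t : ptJ sq J ⟶ ptR₀ sq (algebraMap sq.A A'),
        t ≫ toT sq (algebraMap sq.A A') = toJ sq J hJ ∧
        t ≫ jR sq (algebraMap sq.A A') = jJ sq J ≫ sp sq (IsScalarTower.toAlgHom sq.A A' D) ∧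
        jJ sq J ≫ sp sq (g.restrictScalars sq.A) ≫ zm = t ≫ um := by
    intro D _ _ _ _ g J hJ hg
    have hle : IA' ≤ J.comap (algebraMap A' D) := Ideal.map_le_iff_le_comap.2 fun x hx => by
      rw [Ideal.mem_comap, Ideal.mem_comap, ← IsScalarTower.algebraMap_apply]
      exact hJ (Ideal.mem_map_of_mem _ hx)
    let t₀ := Spec.map (CommRingCat.ofHom (Ideal.quotientMap J (algebraMap A' D) hle))
    have w₀ : t₀ ≫ (jR sq (algebraMap sq.A A')).left =
        (jJ sq J ≫ sp sq (IsScalarTower.toAlgHom sq.A A' D)).left := by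
      change Spec.map _ ≫ Spec.map _ = Spec.map _ ≫ Spec.map _
      rw [← Spec.map_comp, ← Spec.map_comp]
      rfl
    have hw : t₀ ≫ (ptR₀ sq (algebraMap sq.A A')).hom = (ptJ sq J).hom := by
      rw [← Over.w (jR sq (algebraMap sq.A A')), ← Category.assoc, w₀,
        Over.w (jJ sq J ≫ sp sq (IsScalarTower.toAlgHom sq.A A' D))]
    refine ⟨Over.homMk t₀ hw, ?_, ?_, ?_⟩
    · ext1
      change Spec.map _ ≫ Spec.map _ = Spec.map _
      rw [← Spec.map_comp]
      congr 1
      ext x
      exact congrArg (Ideal.Quotient.mk J) (IsScalarTower.algebraMap_apply sq.A A' D x).symm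
    · ext1
      exact w₀
    · ext1
      change Spec.map _ ≫ Spec.map _ ≫ Spec.map _ = Spec.map _ ≫ Spec.map _
      rw [← Spec.map_comp, ← Spec.map_comp, ← Spec.map_comp]
      congr 1
      ext c
      change Ideal.Quotient.mk J (g (1 ⊗ₜ c)) = Ideal.quotientMap J (algebraMap A' D) hle (d.u c)
      obtain ⟨x, hx⟩ := Ideal.Quotient.mk_surjective (d.u c)
      rw [← hx, Ideal.quotientMap_mk, Ideal.Quotient.eq]
      have : g ((1 ⊗ₜ c) - algebraMap A' R x) ∈ J := hg _ (by
        rw [RingHom.mem_ker, map_sub, AlgHom.commutes]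
        erw [Algebra.TensorProduct.lift_tmul]
        rw [Ideal.Quotient.algebraMap_eq, ← hx]
        simp
        exact sub_self _)
      rwa [map_sub, AlgHom.commutes] at this
  have hzR : IsLift sq kR hkR zR := by
    obtain ⟨t, ht₁, -, ht₃⟩ := hzJ (AlgHom.id A' R) kR hkR (fun x hx => hx)
    have e : sp sq ((AlgHom.id A' R).restrictScalars sq.A) = 𝟙 _ := sp_id sq
    rw [e, Category.id_comp] at ht₃
    refine ⟨?_, ?_⟩
    · rw [Category.assoc, d.w, ← Category.assoc, ← Functor.map_comp, hzη, Functor.map_comp, Category.assoc,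
        d.hbot, ← Category.assoc, ← Functor.map_comp, sp_toT']
    · rw [← Category.assoc, ← Functor.map_comp, ht₃, Functor.map_comp, Category.assoc, d.htop, ← Category.assoc,
        ← Functor.map_comp, ht₁]
  -- universality
  have huniv : ∀ {D : Type u} [CommRing D] [Algebra sq.A D] [Algebra A' D] [IsScalarTower sq.A A' D]
      (J : Ideal D) (hJ : sq.I.map (algebraMap sq.A D) ≤ J) (_ : J ^ 2 = ⊥)
      (m : (yon S).obj (ptD sq D) ⟶ X) (_ : IsLift sq J hJ m),
      ∃ g : R →ₐ[A'] D, (∀ x ∈ kR, g x ∈ J) ∧ (yon S).map (sp sq (g.restrictScalars sq.A)) ≫ zR = m ∧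
        ∀ g' : R →ₐ[A'] D, (∀ x ∈ kR, g' x ∈ J) →
          (yon S).map (sp sq (g'.restrictScalars sq.A)) ≫ zR = m → g' = g := by
    intro D _ _ _ _ J hJ hJ2 m hm
    have hle : IA' ≤ J.comap (algebraMap A' D) := Ideal.map_le_iff_le_comap.2 fun x hx => by
      rw [Ideal.mem_comap, Ideal.mem_comap, ← IsScalarTower.algebraMap_apply]
      exact hJ (Ideal.mem_map_of_mem _ hx)
    let t₀ := Spec.map (CommRingCat.ofHom (Ideal.quotientMap J (algebraMap A' D) hle))
    let aA' := sp sq (IsScalarTower.toAlgHom sq.A A' D)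
    have w₀ : t₀ ≫ (jR sq (algebraMap sq.A A')).left = (jJ sq J ≫ aA').left := by
      change Spec.map _ ≫ Spec.map _ = Spec.map _ ≫ Spec.map _
      rw [← Spec.map_comp, ← Spec.map_comp]
      rfl
    have hw : t₀ ≫ (ptR₀ sq (algebraMap sq.A A')).hom = (ptJ sq J).hom := by
      rw [← Over.w (jR sq (algebraMap sq.A A')), ← Category.assoc, w₀, Over.w (jJ sq J ≫ aA')]
    let t : ptJ sq J ⟶ ptR₀ sq (algebraMap sq.A A') := Over.homMk t₀ hw
    have ht₁ : t ≫ toT sq (algebraMap sq.A A') = toJ sq J hJ := by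
      ext1
      change Spec.map _ ≫ Spec.map _ = Spec.map _
      rw [← Spec.map_comp]
      congr 1
      ext x
      exact congrArg (Ideal.Quotient.mk J) (IsScalarTower.algebraMap_apply sq.A A' D x).symm
    have ht₂ : t ≫ jR sq (algebraMap sq.A A') = jJ sq J ≫ aA' := by ext1; exact w₀
    let sqa : InfSq d.a :=
      ⟨D, J, hJ2, (ptD sq D).hom, (yon S).map (t ≫ um), m, by
        rw [Functor.map_comp, Category.assoc, d.htop, ← Category.assoc, ← Functor.map_comp, ht₁]
        exact hm.2.symm⟩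
    obtain ⟨l, ⟨hl₁, hl₂⟩, hlu⟩ := d.ha sqa
    obtain ⟨L, hL⟩ := (yon S).map_surjective l
    let L' : ptD sq D ⟶ ptC := L
    have hL' : (yon S).map L' = l := hL
    have hj : jJ sq J ≫ L' = t ≫ um := (yon S).map_injective (by rw [Functor.map_comp, hL']; exact hl₁)
    have hjβ : um ≫ ηm = jR sq (algebraMap sq.A A') ≫ βm := by
      ext1
      change Spec.map _ ≫ Spec.map _ = Spec.map _ ≫ Spec.map _
      rw [← Spec.map_comp, ← Spec.map_comp]
      congr 1
      ext k
      exact d.u.commutes k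
    have hη : L' ≫ ηm = aA' ≫ βm := by
      apply (yon S).map_injective
      let sqb : InfSq d.b :=
        ⟨D, J, hJ2, (ptD sq D).hom, (yon S).map (jJ sq J ≫ L' ≫ ηm), m ≫ f, by
          rw [Functor.map_comp, Functor.map_comp, Category.assoc, Category.assoc, ← d.w, hL',
            ← Category.assoc l, hl₂]⟩
      refine d.hb sqb _ _ ?_ ?_ ?_ ?_
      · exact (Functor.map_comp _ _ _).symm
      · rw [Functor.map_comp, Category.assoc, ← d.w, hL', ← Category.assoc l, hl₂]
      · refine (Functor.map_comp _ _ _).symm.trans (congrArg _ ?_)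
        rw [← Category.assoc, ← ht₂, Category.assoc, ← hjβ, ← Category.assoc, ← hj, Category.assoc]
      · change (yon S).map (aA' ≫ βm) ≫ d.b = m ≫ f
        rw [Functor.map_comp, Category.assoc, d.hbot, ← Category.assoc, ← Functor.map_comp, sp_toT', hm.1]
    obtain ⟨h, hh⟩ := Spec.map_surjective L'.left
    let _ : Algebra K D := ((algebraMap A' D).comp (algebraMap K A')).toAlgebra
    have : IsScalarTower K A' D := IsScalarTower.of_algebraMap_eq fun _ => rfl
    let hA : C →ₐ[K] D :=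
      { h.hom with
        commutes' := fun k => by
          have e := congr($(hη).left)
          change L'.left ≫ Spec.map _ = Spec.map _ ≫ Spec.map _ at e
          rw [← hh, ← Spec.map_comp, ← Spec.map_comp] at e
          exact congr($(Spec.map_injective e).hom k) }
    let g : R →ₐ[A'] D := Algebra.TensorProduct.lift (Algebra.ofId A' D) hA (fun _ _ => Commute.all _ _)
    have hgL : sp sq (g.restrictScalars sq.A) ≫ zm = L' := by
      ext1
      change Spec.map _ ≫ Spec.map _ = L'.left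
      rw [← Spec.map_comp, ← hh]
      congr 1
      ext c
      change g (1 ⊗ₜ c) = h.hom c
      erw [Algebra.TensorProduct.lift_tmul]
      simp [hA]
    refine ⟨g, ?_, ?_, ?_⟩
    · have hcomp : (Ideal.Quotient.mkₐ A' J).comp g =
          AlgHom.comp ({ Ideal.quotientMap J (algebraMap A' D) hle with
            commutes' := fun x => rfl } : A' ⧸ IA' →ₐ[A'] D ⧸ J) π := by
        refine Algebra.TensorProduct.ext' fun x c => ?_
        have e := congr($(hj).left)
        change Spec.map _ ≫ L'.left = Spec.map _ ≫ Spec.map _ at e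
        rw [← hh, ← Spec.map_comp, ← Spec.map_comp] at e
        have ec : Ideal.Quotient.mk J (h.hom c) = Ideal.quotientMap J (algebraMap A' D) hle (d.u c) :=
          congr($(Spec.map_injective e).hom c)
        change Ideal.Quotient.mk J (g (x ⊗ₜ c)) = Ideal.quotientMap J (algebraMap A' D) hle (π (x ⊗ₜ c))
        erw [Algebra.TensorProduct.lift_tmul, Algebra.TensorProduct.lift_tmul]
        simp [hA, ec, Algebra.ofId_apply, Ideal.Quotient.algebraMap_eq]
      intro x hx
      refine Ideal.Quotient.eq_zero_iff_mem.1 ?_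
      have := congr($hcomp x)
      rw [AlgHom.comp_apply, AlgHom.comp_apply, RingHom.mem_ker.1 hx, map_zero] at this
      exact this
    · rw [← Category.assoc, ← Functor.map_comp, hgL, hL', hl₂]
    · intro g' hg' hg'm
      obtain ⟨t', -, ht'₂, ht'₃⟩ := hzJ g' J hJ hg'
      have htt : t' = t := by
        ext1
        have : Mono (jR sq (algebraMap sq.A A')).left := by
          have : IsClosedImmersion (jR sq (algebraMap sq.A A')).left :=
            IsClosedImmersion.spec_of_surjective _ Ideal.Quotient.mk_surjective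
          infer_instance
        rw [← cancel_mono (jR sq (algebraMap sq.A A')).left]
        exact congr($(ht'₂.trans ht₂.symm).left)
      have e : (yon S).map (sp sq (g'.restrictScalars sq.A) ≫ zm) = l := by
        refine hlu _ ⟨?_, ?_⟩
        · refine (Functor.map_comp _ _ _).symm.trans (congrArg _ ?_)
          rw [← htt, ← ht'₃]
        · rw [Functor.map_comp, Category.assoc]
          exact hg'm
      have e' : sp sq (g'.restrictScalars sq.A) ≫ zm = sp sq (g.restrictScalars sq.A) ≫ zm :=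
        (yon S).map_injective (e.trans (by rw [hgL, hL']))
      refine Algebra.TensorProduct.ext' fun x c => ?_
      have e'' := congr($(e').left)
      change Spec.map _ ≫ Spec.map _ = Spec.map _ ≫ Spec.map _ at e''
      rw [← Spec.map_comp, ← Spec.map_comp] at e''
      have ec : g' (1 ⊗ₜ c) = g (1 ⊗ₜ c) := congr($(Spec.map_injective e'').hom c)
      rw [show (x ⊗ₜ[K] c : R) = algebraMap A' R x * (1 ⊗ₜ c) by
        erw [Algebra.TensorProduct.tmul_mul_tmul]; simp, map_mul, map_mul, AlgHom.commutes,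
        AlgHom.commutes, ec]
  exact hasLift_of_universal sq π hkR zR hzR huniv

end Core

end Groth.Agent.AlgSp.SmoothLiftSp
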