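import Groth.Agent.InfLift.RetractAlg
import Groth.Agent.InfLift.ProjKaehler
import Groth.Agent.ProjDesc.Basic
import Mathlib.RingTheory.Smooth.Basic
import Mathlib.RingTheory.Flat.FaithfullyFlat.Algebra
import Mathlib.RingTheory.TensorProduct.Quotient
import Mathlib.Algebra.Category.Ring.Constructions

/-!
Descending retractions of first order neighbourhoods along faithfully flat maps.

`R` is a formally smooth `A'`-algebra with an augmentation to `A' ⧸ I A'`, `Bp` its first order
neighbourhood, and `c` a descent datum on `Bp`.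
-/

universe u
open TensorProduct

namespace Groth.Agent.AlgSp.SmoothRing

variable {A : Type u} [CommRing A] (I : Ideal A) {A' : Type u} [CommRing A'] [Algebra A A']
variable {R : Type u} [CommRing R] [Algebra A R] [Algebra A' R] [IsScalarTower A A' R]
variable (π : R →ₐ[A'] A' ⧸ I.map (algebraMap A A'))

/-- The ideal of the augmentation. -/
abbrev kerπ : Ideal R := RingHom.ker π

/-- The first order neighbourhood of the augmentation. -/
abbrev Bp : Type u := R ⧸ (kerπ I π) ^ 2

/-- The ideal of the augmentation on the first order neighbourhood. -/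
abbrev Kp : Ideal (Bp I π) := (kerπ I π).map (Ideal.Quotient.mk _)

theorem mem_Kp (x : R) : Ideal.Quotient.mk ((kerπ I π) ^ 2) x ∈ Kp I π ↔ π x = 0 := by
  rw [← RingHom.mem_ker]
  constructor
  · intro h
    rw [← Ideal.mem_comap, Ideal.comap_map_of_surjective _ Ideal.Quotient.mk_surjective] at h
    rw [← RingHom.ker_eq_comap_bot, Ideal.mk_ker, sup_eq_left.2 (Ideal.pow_le_self two_ne_zero)] at h
    exact h
  · exact Ideal.mem_map_of_mem _

theorem Kp_sq : Kp I π ^ 2 = ⊥ := by
  rw [← Ideal.map_pow, Ideal.map_quotient_self]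

theorem map_le_Kp : I.map (algebraMap A (Bp I π)) ≤ Kp I π := by
  refine Ideal.map_le_iff_le_comap.2 fun a ha => ?_
  rw [Ideal.mem_comap, IsScalarTower.algebraMap_apply A A' (Bp I π)]
  change Ideal.Quotient.mk _ (algebraMap A' R (algebraMap A A' a)) ∈ _
  rw [mem_Kp, AlgHom.commutes]
  exact Ideal.Quotient.eq_zero_iff_mem.2 (Ideal.mem_map_of_mem _ ha)

theorem exists_sub_mem (x : Bp I π) : ∃ a : A', x - algebraMap A' (Bp I π) a ∈ Kp I π := by
  obtain ⟨r, rfl⟩ := Ideal.Quotient.mk_surjective x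
  obtain ⟨a, ha⟩ := Ideal.Quotient.mk_surjective (π r)
  refine ⟨a, ?_⟩
  change Ideal.Quotient.mk _ r - Ideal.Quotient.mk _ (algebraMap A' R a) ∈ _
  rw [← map_sub, mem_Kp, map_sub, AlgHom.commutes, ← ha]
  exact sub_self _

theorem algebraMap_mem_Kp {a : A'} (h : algebraMap A' (Bp I π) a ∈ Kp I π) :
    a ∈ I.map (algebraMap A A') := by
  change Ideal.Quotient.mk _ (algebraMap A' R a) ∈ _ at h
  rw [mem_Kp, AlgHom.commutes] at h
  exact Ideal.Quotient.eq_zero_iff_mem.1 h

/-- The inclusion `x ↦ 1 ⊗ x`. -/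
noncomputable abbrev incR : Bp I π →ₐ[A] A' ⊗[A] Bp I π := Algebra.TensorProduct.includeRight

/-- The ideal of the augmentation after base change. -/
noncomputable abbrev Jp : Ideal (A' ⊗[A] Bp I π) := (Kp I π).map (incR I π).toRingHom

/-- A descent datum on the first order neighbourhood. -/
structure Datum where
  /-- the coaction -/
  c : Bp I π →ₐ[A'] A' ⊗[A] Bp I π
  counit : ∀ x, Algebra.TensorProduct.lift (Algebra.ofId A' (Bp I π)) (AlgHom.id A (Bp I π))
    (fun _ _ => Commute.all _ _) (c x) = x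
  coassoc : ∀ x, Algebra.TensorProduct.map (AlgHom.id A' A') (c.restrictScalars A) (c x) =
    Algebra.TensorProduct.map (AlgHom.id A' A') (incR I π) (c x)
  mapsTo : ∀ x ∈ Kp I π, c x ∈ Jp I π

variable {I π} (d : Datum I π)

/-- The multiplication `A' ⊗ Bp → Bp`. -/
noncomputable abbrev mul' : A' ⊗[A] Bp I π →ₐ[A'] Bp I π :=
  Algebra.TensorProduct.lift (Algebra.ofId A' (Bp I π)) (AlgHom.id A (Bp I π))
    (fun _ _ => Commute.all _ _)

/-- The descended algebra. -/
noncomputable def B : Subalgebra A (Bp I π) := AlgHom.equalizer (d.c.restrictScalars A) (incR I π)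

theorem c_coe (b : B d) : d.c b = 1 ⊗ₜ[A] (b : Bp I π) := b.2

/-- The inclusion after base change. -/
noncomputable abbrev incB : A' ⊗[A] B d →ₐ[A'] A' ⊗[A] Bp I π :=
  Algebra.TensorProduct.map (AlgHom.id A' A') (B d).val

/-- The comparison map. -/
noncomputable def θ : A' ⊗[A] B d →ₐ[A'] Bp I π := mul'.comp (incB d)

theorem θ_tmul (a : A') (b : B d) : θ d (a ⊗ₜ b) = algebraMap A' (Bp I π) a * b := by
  simp [θ, Algebra.ofId_apply]

theorem c_θ (y : A' ⊗[A] B d) : d.c (θ d y) = incB d y := by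
  have h : d.c.comp (θ d) = incB d := by
    refine Algebra.TensorProduct.ext' fun a b => ?_
    rw [AlgHom.comp_apply, θ_tmul, map_mul, AlgHom.commutes, c_coe]
    simp [Algebra.TensorProduct.algebraMap_apply]
  exact congr($h y)

theorem incB_injective [Module.Flat A A'] : Function.Injective (incB d) := by
  have := Module.Flat.lTensor_preserves_injective_linearMap (M := A') (B d).val.toLinearMap
    Subtype.val_injective
  exact this

theorem θ_injective [Module.Flat A A'] : Function.Injective (θ d) := fun y y' h =>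
  incB_injective d (by rw [← c_θ, ← c_θ, h])

theorem θ_surjective [Module.Flat A A'] : Function.Surjective (θ d) := by
  intro x
  let δ : Bp I π →ₗ[A] A' ⊗[A] Bp I π := (d.c.restrictScalars A).toLinearMap - (incR I π).toLinearMap
  have hex : Function.Exact (B d).val.toLinearMap δ := by
    intro z
    simp only [δ, LinearMap.sub_apply, sub_eq_zero]
    exact ⟨fun h => ⟨⟨z, h⟩, rfl⟩, fun ⟨b, hb⟩ => hb ▸ b.2⟩
  have key := Module.Flat.lTensor_exact A' hex
  have h0 : δ.lTensor A' (d.c x) = 0 := by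
    simp only [δ, LinearMap.lTensor_sub, LinearMap.sub_apply, sub_eq_zero]
    exact d.coassoc x
  obtain ⟨y, hy⟩ := (key _).1 h0
  refine ⟨y, ?_⟩
  change mul' (incB d y) = x
  rw [show incB d y = d.c x from hy]
  exact d.counit x

/-- The comparison isomorphism. -/
noncomputable def θEquiv [Module.Flat A A'] : A' ⊗[A] B d ≃ₐ[A'] Bp I π :=
  AlgEquiv.ofBijective (θ d) ⟨θ_injective d, θ_surjective d⟩

/-- The augmentation ideal of the descended algebra. -/
noncomputable def KB : Ideal (B d) := (Kp I π).comap (B d).val.toRingHom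

theorem mem_KB (b : B d) : b ∈ KB d ↔ (b : Bp I π) ∈ Kp I π := Iff.rfl

theorem surjective_mk_KB [Module.FaithfullyFlat A A'] :
    Function.Surjective (algebraMap A (B d ⧸ KB d)) := by
  refine (Module.FaithfullyFlat.lTensor_surjective_iff_surjective A A' (Algebra.linearMap A (B d ⧸ KB d))).1 ?_
  intro z
  obtain ⟨y, rfl⟩ := LinearMap.lTensor_surjective A' (g := (Ideal.Quotient.mkₐ A (KB d)).toLinearMap)
    Ideal.Quotient.mk_surjective z
  obtain ⟨a, ha⟩ := exists_sub_mem I π (θ d y)
  refine ⟨a ⊗ₜ 1, ?_⟩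
  have hz : θ d (y - a ⊗ₜ 1) ∈ Kp I π := by simpa [map_sub, θ_tmul] using ha
  let g : B d →ₗ[A] Bp I π ⧸ Kp I π := (Ideal.Quotient.mkₐ A (Kp I π)).toLinearMap ∘ₗ (B d).val.toLinearMap
  have hex : Function.Exact ((KB d).subtype.restrictScalars A) g := by
    intro b
    simp only [g, LinearMap.comp_apply]
    exact ⟨fun h => ⟨⟨b, (mem_KB d b).2 ((Ideal.Quotient.eq_zero_iff_mem (I := Kp I π)).1 h)⟩, rfl⟩,
      fun ⟨k, hk⟩ => hk ▸ Ideal.Quotient.eq_zero_iff_mem.2 k.2⟩
  have hc : (Ideal.Quotient.mkₐ A (Kp I π)).toLinearMap.lTensor A' (d.c (θ d (y - a ⊗ₜ 1))) = 0 := by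
    have hle : Jp I π ≤ RingHom.ker
        (Algebra.TensorProduct.map (AlgHom.id A A') (Ideal.Quotient.mkₐ A (Kp I π))).toRingHom := by
      refine Ideal.map_le_iff_le_comap.2 fun k hk => ?_
      simp [Ideal.Quotient.eq_zero_iff_mem.2 hk]
    exact hle (d.mapsTo _ hz)
  rw [c_θ] at hc
  have h0 : g.lTensor A' (y - a ⊗ₜ 1) = 0 := by
    rw [LinearMap.lTensor_comp]
    exact hc
  obtain ⟨k, hk⟩ := (Module.Flat.lTensor_exact A' hex _).1 h0
  have h1 : (Ideal.Quotient.mkₐ A (KB d)).toLinearMap.lTensor A' (y - a ⊗ₜ 1) = 0 := by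
    have hcomp : (Ideal.Quotient.mkₐ A (KB d)).toLinearMap ∘ₗ (KB d).subtype.restrictScalars A = 0 :=
      LinearMap.ext fun k => Ideal.Quotient.eq_zero_iff_mem.2 k.2
    rw [← hk, ← LinearMap.comp_apply, ← LinearMap.lTensor_comp, hcomp, LinearMap.lTensor_zero,
      LinearMap.zero_apply]
  rw [map_sub, sub_eq_zero] at h1
  rw [h1]
  simp

theorem mem_I_of_mem_KB [Module.FaithfullyFlat A A'] {a : A} (h : algebraMap A (B d) a ∈ KB d) : a ∈ I := by
  rw [mem_KB] at h
  have h' : algebraMap A' (Bp I π) (algebraMap A A' a) ∈ Kp I π := by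
    rw [← IsScalarTower.algebraMap_apply]; exact h
  have := algebraMap_mem_Kp I π h'
  rwa [← Ideal.mem_comap, Ideal.comap_map_eq_self_of_faithfullyFlat] at this

theorem faithfullyFlat_quotient [Module.FaithfullyFlat A A'] :
    Module.FaithfullyFlat (A ⧸ I) (A' ⧸ I.map (algebraMap A A')) := by
  let e := Algebra.TensorProduct.quotIdealMapEquivQuotTensor A' I
  exact Module.FaithfullyFlat.of_linearEquiv _ _ e.toLinearEquiv

/-- The retraction. -/
theorem exists_retraction (hI : I ^ 2 = ⊥) [Module.FaithfullyFlat A A'] [Algebra.FormallySmooth A' R] :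
    ∃ r : B d →ₐ[A] A, ∀ b : B d, (b : Bp I π) - algebraMap A (Bp I π) (r b) ∈ Kp I π := by
  -- the augmentation
  have hsur := surjective_mk_KB d
  choose s hs using fun b : B d => hsur (Ideal.Quotient.mk (KB d) b)
  have hmem : ∀ b, b - algebraMap A (B d) (s b) ∈ KB d := fun b => by
    rw [← Ideal.Quotient.eq_zero_iff_mem, map_sub, sub_eq_zero]
    exact (hs b).symm
  have hA : ∀ a, algebraMap A (B d) a ∈ KB d ↔ Ideal.Quotient.mk I a = 0 := by
    intro a
    rw [Ideal.Quotient.eq_zero_iff_mem]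
    refine ⟨mem_I_of_mem_KB d, fun ha => ?_⟩
    exact map_le_Kp I π (Ideal.mem_map_of_mem _ ha)
  have huniq : ∀ b a, b - algebraMap A (B d) a ∈ KB d → Ideal.Quotient.mk I (s b) = Ideal.Quotient.mk I a := by
    intro b a h
    rw [← sub_eq_zero, ← map_sub, ← hA]
    have := sub_mem h (hmem b)
    simpa [map_sub] using this
  let ρ : B d →ₐ[A] A ⧸ I :=
    { toFun := fun b => Ideal.Quotient.mk I (s b)
      map_one' := by rw [huniq 1 1 (by simp), map_one]
      map_mul' := fun x y => by
        rw [← map_mul]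
        refine huniq _ _ ?_
        have h := add_mem ((KB d).mul_mem_left x (hmem y))
          ((KB d).mul_mem_left (algebraMap A (B d) (s y)) (hmem x))
        rw [map_mul]
        convert h using 1
        ring
      map_zero' := by rw [huniq 0 0 (by simp), map_zero]
      map_add' := fun x y => by
        rw [← map_add]
        refine huniq _ _ ?_
        rw [map_add]
        convert add_mem (hmem x) (hmem y) using 1
        ring
      commutes' := fun a => huniq _ a (by simp) }
  have hρ : Function.Surjective ρ := fun x => by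
    obtain ⟨a, rfl⟩ := Ideal.Quotient.mk_surjective x
    exact ⟨algebraMap A (B d) a, ρ.commutes a⟩
  have hker : ∀ b, ρ b = 0 → (b : Bp I π) ∈ Kp I π := fun b hb => by
    have h : algebraMap A (B d) (s b) ∈ KB d := (hA _).2 hb
    have h2 := (KB d).add_mem (hmem b) h
    rw [sub_add_cancel] at h2
    exact h2
  have hC : ∀ x y, ρ x = 0 → ρ y = 0 → x * y = 0 := fun x y hx hy => by
    refine Subtype.ext ?_
    have := Ideal.mul_mem_mul (hker x hx) (hker y hy)
    rw [← pow_two, Kp_sq, Ideal.mem_bot] at this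
    exact this
  -- a local lift
  have hI' : I.map (algebraMap A A') ^ 2 = ⊥ := by rw [← Ideal.map_pow, hI, Ideal.map_bot]
  let l : R →ₐ[A'] A' := Algebra.FormallySmooth.lift (I.map (algebraMap A A')) ⟨2, hI'⟩ π
  have hl : ∀ x, Ideal.Quotient.mk _ (l x) = π x :=
    Algebra.FormallySmooth.mk_lift (I.map (algebraMap A A')) ⟨2, hI'⟩ π
  have hlK : kerπ I π ^ 2 ≤ RingHom.ker l := by
    have h1 : kerπ I π ≤ (I.map (algebraMap A A')).comap l.toRingHom := fun x hx =>
      Ideal.mem_comap.2 (Ideal.Quotient.eq_zero_iff_mem.1 ((hl x).trans hx))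
    exact (Ideal.pow_right_mono h1 2).trans ((Ideal.le_comap_pow _ 2).trans (by rw [hI']; exact le_of_eq rfl))
  have hinj : Function.Injective (algebraMap A (B d)) := by
    intro a a' h
    refine FaithfulSMul.algebraMap_injective A A' ?_
    have h' := congrArg (Subtype.val) h
    rw [Subalgebra.coe_algebraMap, Subalgebra.coe_algebraMap, IsScalarTower.algebraMap_apply A A' (Bp I π),
      IsScalarTower.algebraMap_apply A A' (Bp I π)] at h'
    have h'' := congrArg (Ideal.Quotient.liftₐ _ l fun x hx => RingHom.mem_ker.1 (hlK hx)) h'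
    rwa [AlgHom.commutes, AlgHom.commutes] at h''
  -- projectivity
  let _ : Algebra (B d) (A ⧸ I) := ρ.toRingHom.toAlgebra
  have : IsScalarTower A (B d) (A ⧸ I) := IsScalarTower.of_algebraMap_eq fun a => (ρ.commutes a).symm
  let _ : Algebra (B d) (A' ⧸ I.map (algebraMap A A')) :=
    ((algebraMap (A ⧸ I) (A' ⧸ I.map (algebraMap A A'))).comp ρ.toRingHom).toAlgebra
  have : IsScalarTower (B d) (A ⧸ I) (A' ⧸ I.map (algebraMap A A')) :=
    IsScalarTower.of_algebraMap_eq fun _ => rfl
  have : IsScalarTower A (B d) (A' ⧸ I.map (algebraMap A A')) := IsScalarTower.of_algebraMap_eq fun a => by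
    change _ = algebraMap (A ⧸ I) _ (ρ (algebraMap A (B d) a))
    rw [ρ.commutes]
    rfl
  have hcompat : ∀ b : B d, ∀ r : R, Ideal.Quotient.mk _ r = (b : Bp I π) →
      π r = algebraMap (B d) (A' ⧸ I.map (algebraMap A A')) b := by
    intro b r hr
    change π r = algebraMap (A ⧸ I) _ (Ideal.Quotient.mk I (s b))
    have h : (b : Bp I π) - algebraMap A (Bp I π) (s b) ∈ Kp I π := hmem b
    rw [← hr, IsScalarTower.algebraMap_apply A R (Bp I π)] at h
    change Ideal.Quotient.mk _ r - Ideal.Quotient.mk _ (algebraMap A R (s b)) ∈ _ at h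
    rw [← map_sub, mem_Kp, map_sub, sub_eq_zero] at h
    rw [h, IsScalarTower.algebraMap_apply A A' R, AlgHom.commutes]
    rfl
  have hproj : Module.Projective (A' ⧸ I.map (algebraMap A A'))
      ((A' ⧸ I.map (algebraMap A A')) ⊗[B d] Ω[B d⁄A]) := by
    refine InfLift.ProjKaehler.projective_of_lift fun M N _ _ _ _ _ _ _ _ γ hγ χ hχA hχfst => ?_
    set A₁ := A' ⧸ I.map (algebraMap A A')
    let _ : Module A N := Module.compHom N (algebraMap A A₁)
    let _ : Module A' N := Module.compHom N (algebraMap A' A₁)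
    let _ : Module A M := Module.compHom M (algebraMap A A₁)
    let _ : Module A' M := Module.compHom M (algebraMap A' A₁)
    have : IsScalarTower A A₁ N := IsScalarTower.of_algebraMap_smul fun _ _ => rfl
    have : IsScalarTower A' A₁ N := IsScalarTower.of_algebraMap_smul fun _ _ => rfl
    have : IsScalarTower A A₁ M := IsScalarTower.of_algebraMap_smul fun _ _ => rfl
    have : IsScalarTower A' A₁ M := IsScalarTower.of_algebraMap_smul fun _ _ => rfl
    have : IsScalarTower A A' (TrivSqZeroExt A₁ N) := IsScalarTower.of_algebraMap_eq fun a => by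
      simp only [TrivSqZeroExt.algebraMap_eq_inl']
      rw [← IsScalarTower.algebraMap_apply]
    let χA : B d →ₐ[A] TrivSqZeroExt A₁ N := { χ with commutes' := fun a => hχA a }
    let χ' : Bp I π →ₐ[A'] TrivSqZeroExt A₁ N :=
      (Algebra.TensorProduct.lift (Algebra.ofId A' _) χA (fun _ _ => Commute.all _ _)).comp
        (θEquiv d).symm.toAlgHom
    have hfst : ∀ r : R, (χ' (Ideal.Quotient.mk _ r)).fst = π r := by
      intro r
      obtain ⟨y, hy⟩ := (θEquiv d).surjective (Ideal.Quotient.mk _ r)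
      change (Algebra.TensorProduct.lift (Algebra.ofId A' _) χA (fun _ _ => Commute.all _ _)
        ((θEquiv d).symm _)).fst = _
      rw [← hy, AlgEquiv.symm_apply_apply]
      change θ d y = _ at hy
      clear_value χ'
      induction y generalizing r with
      | zero =>
        have : r ∈ kerπ I π := Ideal.pow_le_self two_ne_zero (Ideal.Quotient.eq_zero_iff_mem.1 (by rw [← hy, map_zero]))
        simp [RingHom.mem_ker.1 this]
      | tmul a b =>
        obtain ⟨r', hr'⟩ := Ideal.Quotient.mk_surjective (b : Bp I π)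
        have : π r = π (algebraMap A' R a * r') := by
          rw [θ_tmul, ← hr'] at hy
          have h2 : r - algebraMap A' R a * r' ∈ kerπ I π := Ideal.pow_le_self two_ne_zero
            (Ideal.Quotient.eq_zero_iff_mem.1 (by rw [map_sub, map_mul, ← hy]; exact sub_self _))
          rwa [RingHom.mem_ker, map_sub, sub_eq_zero] at h2
        rw [this, map_mul, AlgHom.commutes, hcompat b r' hr']
        simp [χA, Algebra.ofId_apply, TrivSqZeroExt.algebraMap_eq_inl']
        erw [hχfst b]
        rfl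
      | add y y' h h' =>
        obtain ⟨r₁, hr₁⟩ := Ideal.Quotient.mk_surjective (θ d y)
        obtain ⟨r₂, hr₂⟩ := Ideal.Quotient.mk_surjective (θ d y')
        have : π r = π (r₁ + r₂) := by
          have h2 : r - (r₁ + r₂) ∈ kerπ I π := Ideal.pow_le_self two_ne_zero
            (Ideal.Quotient.eq_zero_iff_mem.1 (by rw [map_sub, map_add, hr₁, hr₂, ← map_add, hy, sub_self]))
          rwa [RingHom.mem_ker, map_sub, sub_eq_zero] at h2
        rw [this, map_add, TrivSqZeroExt.fst_add, map_add, h r₁ hr₁.symm, h' r₂ hr₂.symm]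
    let q : TrivSqZeroExt A₁ M →ₐ[A'] TrivSqZeroExt A₁ N := (TrivSqZeroExt.map γ).restrictScalars A'
    have hqs : Function.Surjective q := fun y => by
      obtain ⟨m, hm⟩ := hγ y.snd
      exact ⟨TrivSqZeroExt.inl y.fst + TrivSqZeroExt.inr m,
        TrivSqZeroExt.ext (by simp [q]) (by simp [q, hm])⟩
    have hqn : IsNilpotent (RingHom.ker (q : TrivSqZeroExt A₁ M →+* TrivSqZeroExt A₁ N)) := by
      refine ⟨2, eq_bot_iff.2 ?_⟩
      rw [pow_two, Ideal.mul_le]
      intro x hx y hy
      have hx' : x.fst = 0 := by simpa [q] using congrArg TrivSqZeroExt.fst (RingHom.mem_ker.1 hx)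
      have hy' : y.fst = 0 := by simpa [q] using congrArg TrivSqZeroExt.fst (RingHom.mem_ker.1 hy)
      exact TrivSqZeroExt.ext (by simp [hx']) (by simp [hx', hy'])
    let ψ : R →ₐ[A'] TrivSqZeroExt A₁ M := Algebra.FormallySmooth.liftOfSurjective
      (χ'.comp (Ideal.Quotient.mkₐ A' _)) q hqs hqn
    have hψ : ∀ r, q (ψ r) = χ' (Ideal.Quotient.mk _ r) := fun r =>
      Algebra.FormallySmooth.liftOfSurjective_apply _ q hqs hqn r
    have hψfst : ∀ r, (ψ r).fst = π r := fun r => by
      rw [← hfst, ← hψ]; simp [q]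
    have hψK : kerπ I π ^ 2 ≤ RingHom.ker ψ := by
      rw [pow_two, Ideal.mul_le]
      intro x hx y hy
      rw [RingHom.mem_ker, map_mul]
      have hx' : (ψ x).fst = 0 := (hψfst x).trans hx
      have hy' : (ψ y).fst = 0 := (hψfst y).trans hy
      exact TrivSqZeroExt.ext (by simp [hx']) (by simp [hx', hy'])
    let ψ' : B d →+* TrivSqZeroExt A₁ M :=
      ((Ideal.Quotient.liftₐ _ ψ fun x hx => RingHom.mem_ker.1 (hψK hx)).toRingHom).comp (B d).val.toRingHom
    refine ⟨ψ', fun a => ?_, fun b => ?_⟩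
    · change Ideal.Quotient.liftₐ (kerπ I π ^ 2) ψ (fun x hx => RingHom.mem_ker.1 (hψK hx)) (algebraMap A (Bp I π) a) = _
      rw [IsScalarTower.algebraMap_apply A A' (Bp I π), AlgHom.commutes,
        IsScalarTower.algebraMap_apply A A' A₁]
      rfl
    · obtain ⟨r, hr⟩ := Ideal.Quotient.mk_surjective (b : Bp I π)
      change q (Ideal.Quotient.liftₐ (kerπ I π ^ 2) ψ (fun x hx => RingHom.mem_ker.1 (hψK hx)) (b : Bp I π)) = _
      rw [← hr]
      refine (hψ r).trans ?_
      rw [hr]
      change Algebra.TensorProduct.lift (Algebra.ofId A' _) χA (fun _ _ => Commute.all _ _) ((θEquiv d).symm (b : Bp I π)) = χ b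
      have : (θEquiv d).symm (b : Bp I π) = 1 ⊗ₜ b := by
        rw [AlgEquiv.symm_apply_eq]
        refine Eq.trans ?_ (AlgEquiv.ofBijective_apply (θ d) ⟨θ_injective d, θ_surjective d⟩ _).symm
        simp [θ_tmul]
      rw [this]
      simp [χA]
  have : Module.Projective (A' ⧸ I.map (algebraMap A A'))
      ((A' ⧸ I.map (algebraMap A A')) ⊗[A ⧸ I] ((A ⧸ I) ⊗[B d] Ω[B d⁄A])) :=
    .of_equiv (TensorProduct.AlgebraTensorModule.cancelBaseChange (B d) (A ⧸ I) _ _ Ω[B d⁄A]).symm
  have := faithfullyFlat_quotient (A' := A') (I := I)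
  obtain ⟨r, hr⟩ := InfLift.RetractAlg.exists_retraction (A := A) (A₀ := A ⧸ I)
    Ideal.Quotient.mk_surjective ρ hρ hC hinj
    (ProjDesc.projective_of_baseChange (A ⧸ I) (A' ⧸ I.map (algebraMap A A')) _)
  refine ⟨r, fun b => ?_⟩
  have h1 : ρ (b - algebraMap A (B d) (r b)) = 0 := by
    rw [map_sub, ρ.commutes, Ideal.Quotient.algebraMap_eq]
    exact sub_eq_zero.2 (hr b).symm
  simpa using hker _ h1

end Groth.Agent.AlgSp.SmoothRing

namespace Groth.Agent.AlgSp.SmoothRing

open CategoryTheory

variable {A : Type u} [CommRing A] {I : Ideal A} {A' : Type u} [CommRing A'] [Algebra A A']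
variable {R : Type u} [CommRing R] [Algebra A R] [Algebra A' R] [IsScalarTower A A' R]
variable {π : R →ₐ[A'] A' ⧸ I.map (algebraMap A A')} (d : Datum I π) [Module.Flat A A']

/-- The neighbourhood is the base change of the descended algebra. -/
theorem isPushout_B : IsPushout (CommRingCat.ofHom (algebraMap A A')) (CommRingCat.ofHom (algebraMap A (B d)))
    (CommRingCat.ofHom (algebraMap A' (Bp I π))) (CommRingCat.ofHom (B d).val.toRingHom) := by
  refine IsPushout.of_iso (CommRingCat.isPushout_tensorProduct A A' (B d)) (Iso.refl _) (Iso.refl _)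
    (Iso.refl _) (θEquiv d).toRingEquiv.toCommRingCatIso ?_ ?_ ?_ ?_
  · simp
  · simp
  · ext a
    exact ((θEquiv d).commutes a)
  · ext b
    change θ d (1 ⊗ₜ b) = (b : Bp I π)
    simp [θ_tmul]

/-- The kernel pair of `B → Bp`. -/
theorem isPushout_c : IsPushout (CommRingCat.ofHom (B d).val.toRingHom) (CommRingCat.ofHom (B d).val.toRingHom)
    (CommRingCat.ofHom d.c.toRingHom) (CommRingCat.ofHom (incR I π).toRingHom) := by
  refine IsPushout.of_top (v₁₁ := CommRingCat.ofHom (algebraMap A (B d)))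
    (v₁₂ := CommRingCat.ofHom (algebraMap A' (Bp I π)))
    (h₁₁ := CommRingCat.ofHom (algebraMap A A')) ?_ ?_ (isPushout_B d)
  · have h : CommRingCat.ofHom (algebraMap A (B d)) ≫ CommRingCat.ofHom (B d).val.toRingHom =
        CommRingCat.ofHom (algebraMap A (Bp I π)) := rfl
    have h' : CommRingCat.ofHom (algebraMap A' (Bp I π)) ≫ CommRingCat.ofHom d.c.toRingHom =
        CommRingCat.ofHom (Algebra.TensorProduct.includeLeftRingHom (R := A) (A := A') (B := Bp I π)) := by
      ext a; exact d.c.commutes a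
    rw [h, h']
    exact CommRingCat.isPushout_tensorProduct A A' (Bp I π)
  · ext b
    exact b.2

end Groth.Agent.AlgSp.SmoothRing
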