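import Mathlib.RingTheory.QuasiFinite.Basic
import Mathlib.RingTheory.Spectrum.Prime.Chevalley
import Mathlib.RingTheory.Valuation.LocalSubring
import Mathlib.LinearAlgebra.Dimension.Localization
import Mathlib.RingTheory.Flat.Basic
import Mathlib.RingTheory.FinitePresentation

/-!
# Finite fibres of flat algebras specialize; infinite fibres over minimal primes spread out
-/

universe u

open TensorProduct

namespace Groth.Agent.AlgSp

variable {A B : Type u} [CommRing A] [CommRing B] [Algebra A B]

/-- For a flat algebra, a finite fibre over a prime stays finite at every specialization. -/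
theorem finite_fibre_of_le [Module.Flat A B] {η p : Ideal A} [η.IsPrime] [p.IsPrime] (hle : η ≤ p)
    (h : Module.Finite η.ResidueField (η.Fiber B)) : Module.Finite p.ResidueField (p.Fiber B) := by
  have hu : ∀ s : p.primeCompl, IsUnit (algebraMap A η.ResidueField s) := fun s => by
    rw [isUnit_iff_ne_zero, Ne, Ideal.algebraMap_residueField_eq_zero]
    exact fun hs => s.2 (hle hs)
  let φ : Localization.AtPrime p →+* η.ResidueField := IsLocalization.lift hu
  obtain ⟨R, hR⟩ := LocalSubring.exists_le_valuationSubring (LocalSubring.range φ)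
  obtain ⟨hR1, hR2⟩ := hR
  have hmem : ∀ a : A, algebraMap A η.ResidueField a ∈ R := fun a =>
    hR1 ⟨algebraMap A (Localization.AtPrime p) a, IsLocalization.lift_eq hu a⟩
  let ψ : A →+* R := (algebraMap A η.ResidueField).codRestrict R.toSubring hmem
  let _ : Algebra A R := ψ.toAlgebra
  have hker : ∀ a ∈ p, ψ a ∈ IsLocalRing.maximalIdeal R := fun a ha => by
    by_contra hu'
    have hu'' : IsUnit (ψ a) := not_not.1 hu'
    have h2 := hR2.map_nonunit (⟨φ (algebraMap A _ a), ⟨_, rfl⟩⟩ : (LocalSubring.range φ).toSubring) (by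
      have e : Subring.inclusion hR1 ⟨φ (algebraMap A _ a), ⟨_, rfl⟩⟩ = ψ a :=
        Subtype.ext (IsLocalization.lift_eq hu a)
      rw [e]; exact hu'')
    obtain ⟨⟨_, c, rfl⟩, hc⟩ := h2.exists_right_inv
    have : φ (algebraMap A _ a * c) = 1 := by rw [map_mul]; exact congrArg Subtype.val hc
    have hm : algebraMap A (Localization.AtPrime p) a * c ∈ IsLocalRing.maximalIdeal (Localization.AtPrime p) :=
      Ideal.mul_mem_right _ _ ((IsLocalization.AtPrime.to_map_mem_maximal_iff _ p a).2 ha)
    have hloc : IsUnit (φ (1 - algebraMap A _ a * c)) := (IsLocalRing.isUnit_one_sub_self_of_mem_nonunits _ hm).map φ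
    rw [map_sub, map_one, this, sub_self] at hloc
    exact not_isUnit_zero hloc
  let k := IsLocalRing.ResidueField R
  let res : R →+* k := IsLocalRing.residue R
  have hkk : ∀ a : A, a ∈ p ↔ algebraMap A k a = 0 := fun a => by
    refine ⟨fun ha => (IsLocalRing.residue_eq_zero_iff _).2 (hker a ha), fun ha => by_contra fun hap => ?_⟩
    refine (IsLocalRing.mem_maximalIdeal _).1 ((IsLocalRing.residue_eq_zero_iff (ψ a)).1 ha) ?_
    refine IsUnit.of_mul_eq_one (⟨φ (IsLocalization.mk' _ 1 (⟨a, hap⟩ : p.primeCompl)), hR1 ⟨_, rfl⟩⟩ : R) ?_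
    refine Subtype.ext ?_
    change algebraMap A η.ResidueField a * φ (IsLocalization.mk' _ 1 (⟨a, hap⟩ : p.primeCompl)) = 1
    rw [← IsLocalization.lift_eq (S := Localization.AtPrime p) hu a, ← map_mul,
      show algebraMap A (Localization.AtPrime p) a * IsLocalization.mk' (Localization.AtPrime p) 1 (⟨a, hap⟩ : p.primeCompl) =
        algebraMap A (Localization.AtPrime p) 1 from IsLocalization.mk'_spec' (Localization.AtPrime p) 1 (⟨a, hap⟩ : p.primeCompl),
      map_one, map_one]
  have hp0 : p ≤ RingHom.ker (algebraMap A k) := fun a ha => (hkk a).1 ha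
  have hu' : ∀ s : p.primeCompl, IsUnit (algebraMap A k s) := fun s =>
    isUnit_iff_ne_zero.2 fun hs => s.2 ((hkk _).2 hs)
  let ρ : p.ResidueField →+* k := Ideal.ResidueField.lift p (algebraMap A k) hp0 (fun s hs => hu' ⟨s, hs⟩)
  let _ : Algebra p.ResidueField k := ρ.toAlgebra
  have : IsScalarTower A p.ResidueField k := IsScalarTower.of_algebraMap_eq fun a =>
    (Ideal.ResidueField.lift_algebraMap ..).symm
  -- linearly independent families over the closed point are bounded by the generic degree
  have hbound : Module.rank k (k ⊗[A] B) ≤ Module.finrank η.ResidueField (η.Fiber B) := by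
    refine rank_le fun s hs => ?_
    by_contra hcard
    let ι := ↥s
    let resA : R →ₐ[A] k := ⟨res, fun _ => rfl⟩
    let incA : R →ₐ[A] η.ResidueField := ⟨R.subtype, fun _ => rfl⟩
    let πk := Algebra.TensorProduct.map resA (AlgHom.id A B)
    let πη := Algebra.TensorProduct.map incA (AlgHom.id A B)
    have hπ : Function.Surjective πk :=
      LinearMap.rTensor_surjective B (g := resA.toLinearMap) IsLocalRing.residue_surjective
    have hinj : Function.Injective πη :=
      Module.Flat.rTensor_preserves_injective_linearMap incA.toLinearMap Subtype.val_injective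
    choose x hx using fun i : ι => hπ i.1
    have : Module.Finite η.ResidueField (η.ResidueField ⊗[A] B) := h
    have hdep : ¬ LinearIndependent η.ResidueField fun i => πη (x i) := fun hli => by
      have := hli.fintype_card_le_finrank
      exact hcard (by simpa [ι] using this)
    obtain ⟨g, hg, i₁, hi₁⟩ := Fintype.not_linearIndependent_iff.1 hdep
    obtain ⟨i₀, -, hi₀⟩ := Finset.univ.exists_max_image (fun i => R.valuation (g i)) ⟨i₁, Finset.mem_univ _⟩
    have hg0 : g i₀ ≠ 0 := fun e => by
      have := hi₀ i₁ (Finset.mem_univ _)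
      rw [e, map_zero, le_zero_iff, map_eq_zero] at this
      exact hi₁ this
    have hr : ∀ i, (g i₀)⁻¹ * g i ∈ R := fun i => by
      rw [← R.valuation_le_one_iff, map_mul, map_inv₀]
      exact inv_mul_le_one_of_le₀ (hi₀ i (Finset.mem_univ _)) zero_le'
    let r : ι → R := fun i => ⟨_, hr i⟩
    have hsmul : ∀ (a : R) (z : R ⊗[A] B), πη (a • z) = (a : η.ResidueField) • πη z := fun a z => by
      induction z using TensorProduct.induction_on with
      | zero => simp
      | tmul b c => simp [πη, incA, smul_tmul'] <;> rfl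
      | add z w hz hw => simp [smul_add, hz, hw]
    have hsmul' : ∀ (a : R) (z : R ⊗[A] B), πk (a • z) = res a • πk z := fun a z => by
      induction z using TensorProduct.induction_on with
      | zero => simp
      | tmul b c => simp [πk, resA, smul_tmul'] <;> rfl
      | add z w hz hw => simp [smul_add, hz, hw]
    have hz : ∑ i, r i • x i = 0 := hinj (by
      rw [map_sum, map_zero]
      simp only [hsmul, r, mul_smul]
      rw [← Finset.smul_sum, hg, smul_zero])
    have h1 : res (r i₀) = 1 := by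
      rw [show r i₀ = 1 from Subtype.ext (inv_mul_cancel₀ hg0), map_one]
    have hz' := congrArg πk hz
    rw [map_sum, map_zero] at hz'
    simp only [hsmul', hx] at hz'
    exact one_ne_zero (h1.symm.trans (Fintype.linearIndependent_iff.1 hs (fun i => res (r i)) hz' i₀))
  have e := Algebra.TensorProduct.cancelBaseChange A p.ResidueField k k B
  rw [← e.toLinearEquiv.rank_eq] at hbound
  have hle' := hbound.trans_lt (Cardinal.natCast_lt_aleph0)
  rw [Module.rank_baseChange, Cardinal.lift_id] at hle'
  exact Module.rank_lt_aleph0_iff.1 hle'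

/-- A constructible set containing a minimal point is a neighbourhood of it. -/
theorem mem_interior_of_minimal {R : Type u} [CommRing R] {E : Set (PrimeSpectrum R)} (hE : Topology.IsConstructible E)
    {q₀ : PrimeSpectrum R} (hmin₀ : ∀ q : PrimeSpectrum R, q ≤ q₀ → q = q₀) (hq₀ : q₀ ∈ E) : q₀ ∈ interior E := by
  rw [interior_eq_compl_closure_compl]
  intro hcl
  obtain ⟨T, _, g, hg⟩ := PrimeSpectrum.exists_range_eq_of_isConstructible hE.compl
  rw [← hg, PrimeSpectrum.closure_range_comap] at hcl
  have hk : RingHom.ker g ≤ q₀.asIdeal := hcl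
  obtain ⟨Q, hQp, hQ⟩ := Ideal.exists_comap_eq_of_mem_minimalPrimes g (I := ⊥) q₀.asIdeal
    ⟨⟨q₀.isPrime, by rwa [← RingHom.ker_eq_comap_bot]⟩, fun r ⟨hr, _⟩ hrq =>
      (congrArg PrimeSpectrum.asIdeal (hmin₀ ⟨r, hr⟩ hrq)).ge⟩
  exact (hg.le ⟨⟨Q, hQp⟩, PrimeSpectrum.ext hQ.2⟩) hq₀

/-- Clearing denominators of a polynomial over a residue field. -/
theorem exists_clear_denominators (v : Ideal A) [v.IsPrime] (H : Polynomial v.ResidueField) :
    ∃ (G : Polynomial A) (s : A), s ∉ v ∧
      G.map (algebraMap A v.ResidueField) = Polynomial.C (algebraMap A v.ResidueField s) * H := by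
  induction H using Polynomial.induction_on' with
  | add p q hp hq =>
    obtain ⟨G₁, s₁, hs₁, hG₁⟩ := hp
    obtain ⟨G₂, s₂, hs₂, hG₂⟩ := hq
    refine ⟨Polynomial.C s₂ * G₁ + Polynomial.C s₁ * G₂, s₁ * s₂,
      fun h => (Ideal.IsPrime.mem_or_mem ‹_› h).elim hs₁ hs₂, ?_⟩
    simp only [Polynomial.map_add, Polynomial.map_mul, Polynomial.map_C, hG₁, hG₂, map_mul]
    ring
  | monomial n m =>
    obtain ⟨a, s, hs, rfl⟩ := IsFractionRing.div_surjective (A ⧸ v) m
    obtain ⟨a, rfl⟩ := Ideal.Quotient.mk_surjective a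
    obtain ⟨s, rfl⟩ := Ideal.Quotient.mk_surjective s
    have hs' : s ∉ v := fun h => nonZeroDivisors.ne_zero hs (Ideal.Quotient.eq_zero_iff_mem.2 h)
    refine ⟨Polynomial.monomial n a, s, hs', ?_⟩
    rw [Polynomial.map_monomial, Polynomial.C_mul_monomial]
    congr 1
    exact (mul_div_cancel₀ _ (mt Ideal.algebraMap_residueField_eq_zero.1 hs')).symm

/-- For an algebra of finite presentation, an infinite fibre over a minimal prime spreads to a neighbourhood. -/
theorem exists_nbhd_infinite_fibre [Algebra.FinitePresentation A B] {η : PrimeSpectrum A}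
    (hmin : ∀ q : PrimeSpectrum A, q ≤ η → q = η)
    (h : ¬ Module.Finite η.asIdeal.ResidueField (η.asIdeal.Fiber B)) :
    ∃ U : Set (PrimeSpectrum A), IsOpen U ∧ η ∈ U ∧
      ∀ v ∈ U, ¬ Module.Finite v.asIdeal.ResidueField (v.asIdeal.Fiber B) := by
  let L := η.asIdeal.ResidueField
  obtain ⟨b, hb⟩ : ∃ b : B, ¬ IsIntegral L ((1 : L) ⊗ₜ[A] b : L ⊗[A] B) := by
    by_contra H
    push_neg at H
    have : Algebra.IsIntegral L (L ⊗[A] B) := ⟨fun z => by
      induction z using TensorProduct.induction_on with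
      | zero => exact isIntegral_zero
      | tmul l b => rw [show (l ⊗ₜ[A] b : L ⊗[A] B) = l • ((1 : L) ⊗ₜ b) by simp [smul_tmul']]; exact (H b).smul l
      | add z w hz hw => exact hz.add hw⟩
    exact h (Algebra.IsIntegral.finite (R := L) (A := L ⊗[A] B))
  let _ : Algebra (Polynomial A) B := (Polynomial.aeval b).toRingHom.toAlgebra
  have : IsScalarTower A (Polynomial A) B := IsScalarTower.of_algebraMap_eq fun a =>
    ((Polynomial.aeval b).commutes a).symm
  have hfp : (algebraMap (Polynomial A) B).FinitePresentation := by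
    have : Algebra.FinitePresentation (Polynomial A) B :=
      Algebra.FinitePresentation.of_restrict_scalars_finitePresentation A _ _
    exact RingHom.finitePresentation_algebraMap.2 this
  let E := Set.range (PrimeSpectrum.comap (algebraMap (Polynomial A) B))
  have hE := PrimeSpectrum.isConstructible_range_comap hfp
  let μ : Polynomial A →+* Polynomial L := Polynomial.mapRingHom (algebraMap A L)
  let q₀ : PrimeSpectrum (Polynomial A) := ⟨RingHom.ker μ, RingHom.ker_isPrime _⟩
  have hres : ∀ a : A, algebraMap A L a = 0 ↔ a ∈ η.asIdeal := fun a => Ideal.algebraMap_residueField_eq_zero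
  have hq₀c : ∀ a : A, Polynomial.C a ∈ q₀.asIdeal ↔ a ∈ η.asIdeal := fun a => by
    simp [q₀, μ, RingHom.mem_ker, hres]
  have hq₀ : q₀ ∈ E := by
    let α : Polynomial L →+* L ⊗[A] B := (Polynomial.aeval ((1 : L) ⊗ₜ[A] b : L ⊗[A] B)).toRingHom
    have hα : Function.Injective α := by
      refine (injective_iff_map_eq_zero α).2 fun P hP => by_contra fun hP0 => hb ?_
      exact (isAlgebraic_iff_isIntegral.1 ⟨P, hP0, hP⟩)
    obtain ⟨Q, hQp, hQ⟩ := Ideal.exists_comap_eq_of_mem_minimalPrimes_of_injective hα ⊥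
      (by rw [IsDomain.minimalPrimes_eq_singleton_bot]; exact Set.mem_singleton _)
    refine ⟨⟨Q.comap (Algebra.TensorProduct.includeRight : B →ₐ[A] L ⊗[A] B).toRingHom, hQp.comap _⟩, ?_⟩
    refine PrimeSpectrum.ext ?_
    change Ideal.comap _ (Ideal.comap _ Q) = RingHom.ker μ
    rw [Ideal.comap_comap, RingHom.ker_eq_comap_bot, ← hQ, Ideal.comap_comap]
    congr 1
    refine Polynomial.ringHom_ext (fun a => ?_) ?_
    · simp [α, μ, RingHom.algebraMap_toAlgebra, Algebra.TensorProduct.includeRight_apply,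
        Algebra.TensorProduct.algebraMap_apply]
    · simp [α, μ, RingHom.algebraMap_toAlgebra]
  have hmin₀ : ∀ q : PrimeSpectrum (Polynomial A), q ≤ q₀ → q = q₀ := by
    intro q hq
    refine le_antisymm hq ?_
    let qA : PrimeSpectrum A := ⟨q.asIdeal.comap Polynomial.C, q.isPrime.comap _⟩
    have hqA : qA = η := hmin qA (fun a ha => (hq₀c a).1 (hq ha))
    intro P hP
    have hP' : μ P = 0 := hP
    rw [Polynomial.as_sum_support_C_mul_X_pow P]
    refine sum_mem fun i _ => Ideal.mul_mem_right _ _ ?_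
    have : P.coeff i ∈ η.asIdeal := by
      rw [← hres]
      simpa [μ] using congrArg (fun Q => Q.coeff i) hP'
    exact (hqA ▸ this : P.coeff i ∈ qA.asIdeal)
  -- a neighbourhood in the range
  have hq₀E : q₀ ∈ interior E := mem_interior_of_minimal hE hmin₀ hq₀
  obtain ⟨_, ⟨P, rfl⟩, hP0, hPE⟩ :=
    PrimeSpectrum.isTopologicalBasis_basic_opens.exists_subset_of_mem_open hq₀E isOpen_interior
  obtain ⟨i, hi⟩ : ∃ i, P.coeff i ∉ η.asIdeal := by
    by_contra H
    push_neg at H
    refine hP0 ?_
    change μ P = 0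
    ext i
    simp [μ, (hres _).2 (H i)]
  refine ⟨PrimeSpectrum.basicOpen (P.coeff i), PrimeSpectrum.isOpen_basicOpen, hi, fun v hv hfin => ?_⟩
  -- the fibre over `v` would meet a nonempty open of the affine line in a proper closed subset
  let M := v.asIdeal.ResidueField
  have : Algebra.IsIntegral M (M ⊗[A] B) := Algebra.IsIntegral.of_finite _ _
  obtain ⟨Q₁, hQ₁m, hQ₁⟩ := (Algebra.IsIntegral.isIntegral (R := M) ((1 : M) ⊗ₜ[A] b : M ⊗[A] B))
  let μv : Polynomial A →+* Polynomial M := Polynomial.mapRingHom (algebraMap A M)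
  obtain ⟨G, s, hs, hG⟩ := exists_clear_denominators v.asIdeal Q₁
  have hG0 : μv G ≠ 0 := by
    change Polynomial.map _ G ≠ 0
    rw [hG]
    exact mul_ne_zero (Polynomial.C_ne_zero.2 (mt Ideal.algebraMap_residueField_eq_zero.1 hs)) hQ₁m.ne_zero
  have hGb : (1 : M) ⊗ₜ[A] (Polynomial.aeval b G) = (0 : M ⊗[A] B) := by
    have e1 : (Polynomial.aeval ((1 : M) ⊗ₜ[A] b : M ⊗[A] B)) (Polynomial.map (algebraMap A M) G) =
        (1 : M) ⊗ₜ[A] (Polynomial.aeval b G) := by
      rw [Polynomial.aeval_map_algebraMap]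
      exact Polynomial.aeval_algHom_apply (Algebra.TensorProduct.includeRight : B →ₐ[A] M ⊗[A] B) b G
    rw [← e1, hG, map_mul, show Polynomial.aeval ((1 : M) ⊗ₜ[A] b : M ⊗[A] B) Q₁ = 0 from hQ₁, mul_zero]
  have hPv : μv P ≠ 0 := fun e => hv
    (Ideal.algebraMap_residueField_eq_zero.1
      (show algebraMap A M (P.coeff i) = 0 by simpa [μv] using congrArg (fun Q => Q.coeff i) e))
  obtain ⟨N, hNmax, hN⟩ : ∃ N : Ideal (Polynomial M), N.IsMaximal ∧ μv P ∉ N ∧ μv G ∉ N := by
    by_contra H
    push_neg at H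
    have hjac : μv P * μv G ∈ Ideal.jacobson (⊥ : Ideal (Polynomial M)) := Ideal.mem_sInf.2 fun N hN => by
      by_cases hPN : μv P ∈ N
      · exact N.mul_mem_right _ hPN
      · exact N.mul_mem_left _ (H N hN.2 hPN)
    rw [IsJacobsonRing.out inferInstance (Ideal.bot_prime.isRadical)] at hjac
    exact mul_ne_zero hPv hG0 (Ideal.mem_bot.1 hjac)
  obtain ⟨⟨Qb, hQb⟩, hQbe⟩ : (⟨N.comap μv, hNmax.isPrime.comap _⟩ : PrimeSpectrum (Polynomial A)) ∈ E :=
    interior_subset (hPE (show P ∉ N.comap μv from hN.1))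
  have hQbe' : Qb.comap (algebraMap (Polynomial A) B) = N.comap μv := congrArg PrimeSpectrum.asIdeal hQbe
  have hcomap : Qb.comap (algebraMap A B) = v.asIdeal := by
    ext a
    rw [Ideal.mem_comap, IsScalarTower.algebraMap_apply A (Polynomial A) B, ← Ideal.mem_comap, hQbe', Ideal.mem_comap]
    rw [show μv (algebraMap A (Polynomial A) a) = Polynomial.C (algebraMap A M a) by simp [μv]]
    constructor
    · intro ha
      by_contra hav
      exact hNmax.ne_top (Ideal.eq_top_of_isUnit_mem _ ha (Polynomial.isUnit_C.2 (isUnit_iff_ne_zero.2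
        (mt Ideal.algebraMap_residueField_eq_zero.1 hav))))
    · intro ha
      rw [Ideal.algebraMap_residueField_eq_zero.2 ha, map_zero]
      exact zero_mem _
  obtain ⟨Q', hQ'⟩ := (PrimeSpectrum.preimageEquivFiber A B v).symm.surjective
    ⟨⟨Qb, hQb⟩, PrimeSpectrum.ext hcomap⟩
  have hmem : Polynomial.aeval b G ∈ Qb := by
    have e : Q'.asIdeal.comap (Algebra.TensorProduct.includeRight : B →ₐ[A] M ⊗[A] B).toRingHom = Qb :=
      congrArg (fun z => z.1.asIdeal) hQ'
    rw [← e, Ideal.mem_comap]
    change (1 : M) ⊗ₜ[A] (Polynomial.aeval b G) ∈ Q'.asIdeal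
    rw [hGb]
    exact zero_mem _
  exact hN.2 (hQbe'.le hmem)

end Groth.Agent.AlgSp
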