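import Groth.Agent.AlgSp.SpecializeQf
import Mathlib.AlgebraicGeometry.Morphisms.QuasiFinite
import Mathlib.AlgebraicGeometry.Morphisms.FinitePresentation
import Mathlib.AlgebraicGeometry.Morphisms.Flat

/-!
# Flat morphisms with finite fibres over a dense open
-/

universe u

open CategoryTheory AlgebraicGeometry Topology

namespace Groth.Agent.AlgSp

theorem finite_fiber_iff {A B : Type u} [CommRing A] [CommRing B] [Algebra A B] [Algebra.FiniteType A B]
    (v : PrimeSpectrum A) : Module.Finite v.asIdeal.ResidueField (v.asIdeal.Fiber B) ↔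
      (PrimeSpectrum.comap (algebraMap A B) ⁻¹' {v}).Finite := by
  refine ⟨fun h => ?_, fun h => ?_⟩
  · have : IsArtinianRing (v.asIdeal.Fiber B) := .of_finite v.asIdeal.ResidueField _
    exact (PrimeSpectrum.preimageEquivFiber A B v).finite_iff.mpr finite_of_compact_of_discrete
  · rw [Module.finite_iff_isArtinianRing, isArtinianRing_iff_isNoetherianRing_krullDimLE_zero]
    have : IsJacobsonRing (v.asIdeal.Fiber B) := isJacobsonRing_of_finiteType (A := v.asIdeal.ResidueField)
    have : Finite (PrimeSpectrum (v.asIdeal.Fiber B)) :=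
      (PrimeSpectrum.preimageEquivFiber A B v).finite_iff.mp h
    exact ⟨Algebra.FiniteType.isNoetherianRing v.asIdeal.ResidueField _,
      (PrimeSpectrum.discreteTopology_iff_finite_and_krullDimLE_zero.mp inferInstance).right⟩

/-- A flat algebra with finite fibres over a dense open is quasi-finite. -/
theorem quasiFinite_of_flat_of_dense {A B : Type u} [CommRing A] [CommRing B] [Algebra A B]
    [Algebra.FiniteType A B] [Module.Flat A B] (O : Set (PrimeSpectrum A)) (hO : IsOpen O) (hd : Dense O)
    (hfin : ∀ v ∈ O, (PrimeSpectrum.comap (algebraMap A B) ⁻¹' {v}).Finite)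
    (hor : IsCompact O ∨ Algebra.FinitePresentation A B) : Algebra.QuasiFinite A B := by
  rw [Algebra.QuasiFinite.iff_finite_comap_preimage_singleton]
  intro v
  rw [← finite_fiber_iff]
  obtain ⟨η, hη, hle⟩ := Ideal.exists_minimalPrimes_le (bot_le : (⊥ : Ideal A) ≤ v.asIdeal)
  have := hη.1.1
  refine finite_fibre_of_le hle ?_
  let η' : PrimeSpectrum A := ⟨η, hη.1.1⟩
  have hmin : ∀ q : PrimeSpectrum A, q ≤ η' → q = η' := fun q hq =>
    PrimeSpectrum.ext (le_antisymm hq (hη.2 ⟨q.isPrime, bot_le⟩ hq))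
  by_contra hinf
  rcases hor with hc | hfp
  · have hcons : IsConstructible Oᶜ :=
      (((QuasiSeparatedSpace.isRetrocompact_iff_isCompact hO).2 hc).isConstructible hO).compl
    have hη' : η' ∉ O := fun hmem => hinf ((finite_fiber_iff η').2 (hfin η' hmem))
    obtain ⟨x, hxi, hxO⟩ := hd.inter_open_nonempty _ isOpen_interior ⟨η', mem_interior_of_minimal hcons hmin hη'⟩
    exact interior_subset hxi hxO
  · obtain ⟨U, hU, hηU, hUinf⟩ := exists_nbhd_infinite_fibre (B := B) hmin hinf
    obtain ⟨x, hxU, hxO⟩ := hd.inter_open_nonempty U hU ⟨η', hηU⟩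
    exact hUinf x hxU ((finite_fiber_iff x).2 (hfin x hxO))

/-- A flat morphism of affine schemes with finite fibres over a dense open is locally quasi-finite. -/
theorem locallyQuasiFinite_of_flat_of_dense {U V : Scheme.{u}} [IsAffine U] [IsAffine V] (h : U ⟶ V)
    [LocallyOfFiniteType h] [Flat h] (O : V.Opens) (hd : Dense (O : Set V))
    (hfin : ∀ v ∈ O, (h ⁻¹' {v}).Finite) (hor : IsCompact (O : Set V) ∨ LocallyOfFinitePresentation h) :
    LocallyQuasiFinite h := by
  have e : h = U.isoSpec.hom ≫ Spec.map h.appTop ≫ V.isoSpec.inv := by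
    rw [← Category.assoc, Iso.eq_comp_inv, Scheme.isoSpec_hom_naturality]
  suffices LocallyQuasiFinite (Spec.map h.appTop) by rw [e]; infer_instance
  let φ := h.appTop
  algebraize [φ.hom]
  have : Algebra.FiniteType Γ(V, ⊤) Γ(U, ⊤) := HasRingHomProperty.appTop @LocallyOfFiniteType h inferInstance
  have : Module.Flat Γ(V, ⊤) Γ(U, ⊤) := HasRingHomProperty.appTop @Flat h inferInstance
  refine (HasRingHomProperty.Spec_iff (P := @LocallyQuasiFinite)).2 ?_
  refine quasiFinite_of_flat_of_dense (A := Γ(V, ⊤)) (B := Γ(U, ⊤)) (V.isoSpec.inv ⁻¹' (O : Set V))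
    (O.2.preimage V.isoSpec.inv.continuous) (hd.preimage V.isoSpec.inv.homeomorph.isOpenMap) (fun v hv => ?_) ?_
  · have h2 := ((hfin _ hv).preimage U.isoSpec.inv.homeomorph.injective.injOn)
    refine h2.subset fun t ht => ?_
    change h (U.isoSpec.inv t) = V.isoSpec.inv v
    rw [← show Spec.map h.appTop t = v from ht, ← Scheme.Hom.comp_apply, ← Scheme.Hom.comp_apply,
      Scheme.isoSpec_inv_naturality]
  · rcases hor with hc | hfp
    · exact Or.inl (V.isoSpec.inv.homeomorph.isCompact_preimage.2 hc)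
    · exact Or.inr (HasRingHomProperty.appTop @LocallyOfFinitePresentation h hfp)

end Groth.Agent.AlgSp
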