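import Groth.Agent.AlgSp.QCMor
import Groth.Agent.AlgSp.PointsMor
import Groth.Agent.AlgSp.Space
import Groth.Agent.AlgSpCov.Listed
import Groth.Agent.AlgSpB.Charts

/-!
# Flat quasi-compact surjective morphisms of algebraic spaces are submersive
-/

universe u

open CategoryTheory CategoryTheory.Limits AlgebraicGeometry

set_option backward.isDefEq.respectTransparency.types false

namespace Groth.Agent.AlgSp.Submersive

open _root_.AlgSp

variable {S : Scheme.{u}}

/-- The map on points of a flat quasi-compact surjective morphism is a quotient map. -/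
theorem isQuotientMap_points {X Y : Sp S} (hX : IsAlgSpace X) (hY : IsAlgSpace Y) (f : X ⟶ Y)
    (hfl : LocP @Flat f) (hqc : IsQuasiCompactMor f) (hs : Function.Surjective (Points.map f)) :
    Topology.IsQuotientMap (Points.map f) := by
  rw [Topology.isQuotientMap_iff]
  refine ⟨.of_isOpen_preimage_iff_isOpen fun T => ⟨fun hT => ?_, fun hT => hT.preimage (Points.continuous_map f)⟩, hs⟩
  -- over every affine scheme
  have haff : ∀ (A : Over S) [IsAffine A.left] (g : (yon S).obj A ⟶ Y), IsOpen (Points.ofPt g ⁻¹' T) := by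
    intro A _ g
    have sq := IsPullback.of_hasPullback f g
    obtain ⟨W, w, hw, hws, hWc⟩ := hqc (IsAlgSpace.yon_obj A) (Groth.Agent.AlgSp.isQuasiCompactSp_yon A) g _ _ sq
    obtain ⟨h, hh⟩ := (yon S).map_surjective (w ≫ pullback.snd f g)
    have : Flat h.left := Groth.Agent.AlgSpCov.chart_of_locP Groth.Agent.AlgSpCov.etaleLocal_flat hX hY hfl g sq hw h hh.symm
    have : QuasiCompact h.left := (HasAffineProperty.iff_of_isAffine (P := @QuasiCompact)).2 hWc
    have : Surjective h.left := ⟨fun a => by
      obtain ⟨x, hx⟩ := hs (Points.ofPt g a)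
      obtain ⟨q, -, hq⟩ := Groth.Agent.AlgSpB.exists_of_isPullback sq x (Points.ofScheme A a)
        (hx.trans (Points.ofPt_eq_map_ofScheme g a))
      obtain ⟨v, rfl⟩ := Groth.Agent.AlgSpB.surjective_ofPt hws q
      refine ⟨v, ?_⟩
      have e1 : Points.ofScheme A (h.left v) = Points.ofScheme A a := by
        rw [← hq, Points.map_ofPt, ← hh]
        exact ((Groth.Agent.AlgSpB.ofPt_map_comp h (𝟙 _) v).symm.trans (by rw [Category.comp_id]))
      simpa [Points.toScheme_ofScheme] using congrArg (Points.toScheme A) e1⟩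
    refine (Flat.isQuotientMap_of_surjective h.left).isOpen_preimage.1 ?_
    have e : h.left ⁻¹' (Points.ofPt g ⁻¹' T) = Points.ofPt (w ≫ pullback.fst f g) ⁻¹' (Points.map f ⁻¹' T) := by
      ext v
      change Points.ofPt g (h.left v) ∈ T ↔ Points.map f (Points.ofPt (w ≫ pullback.fst f g) v) ∈ T
      rw [Points.map_ofPt, Category.assoc, pullback.condition, ← Category.assoc, ← hh,
        Groth.Agent.AlgSpB.ofPt_map_comp]
    rw [e]
    exact hT.preimage (Points.continuous_ofPt _)
  obtain ⟨V, p, hp, hps⟩ := hY.atlas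
  rw [← (Groth.Agent.AlgSpB.isOpenQuotientMap_ofPt hp hps).isQuotientMap.isOpen_preimage]
  rw [V.left.affineCover.isOpenCover_opensRange.isOpen_iff_inter]
  intro i
  rw [Scheme.Hom.coe_opensRange, ← Set.image_preimage_eq_inter_range]
  apply (V.left.affineCover.f i).isOpenEmbedding.isOpenMap
  let A : Over S := Over.mk (V.left.affineCover.f i ≫ V.hom)
  let ι : A ⟶ V := Over.homMk (V.left.affineCover.f i) rfl
  have : IsAffine A.left := inferInstanceAs (IsAffine (V.left.affineCover.X i))
  have e : Points.ofPt ((yon S).map ι ≫ p) ⁻¹' T = (V.left.affineCover.f i) ⁻¹' (Points.ofPt p ⁻¹' T) := by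
    ext a
    change Points.ofPt _ a ∈ T ↔ Points.ofPt p (ι.left a) ∈ T
    rw [Groth.Agent.AlgSpB.ofPt_map_comp]
  rw [← e]
  exact haff A _

end Groth.Agent.AlgSp.Submersive
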